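import Cfsg.Agent.Chars.Orth

/-!
Transport of inner products and irreducible characters along group isomorphisms; the action of a
subgroup normalising another one.
-/

set_option autoImplicit false
set_option linter.style.haveILetI false

namespace Cfsg.Agent.Chars

open scoped ComplexConjugate

universe u v

variable {G : Type u} [Group G] {H : Type v} [Group H]

theorem classInner_comp_equiv [Fintype G] [Fintype H] (e : H ≃* G) (f h : G → ℂ) :
    classInner (fun x => f (e x)) (fun x => h (e x)) = classInner f h := by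
  rw [classInner_def, classInner_def, Nat.card_congr e.toEquiv]
  congr 1
  exact Fintype.sum_equiv e.toEquiv _ _ fun x => rfl

/-- Irreducible characters along an isomorphism. -/
def irrEquiv (e : H ≃* G) : IrrCharacter G ≃ IrrCharacter H where
  toFun χ := ⟨fun x => (χ : G → ℂ) (e x), isIrrCharacter_comp_equiv χ.2 e⟩
  invFun χ := ⟨fun x => (χ : H → ℂ) (e.symm x), isIrrCharacter_comp_equiv χ.2 e.symm⟩
  left_inv χ := Subtype.ext (funext fun x => by simp)
  right_inv χ := Subtype.ext (funext fun x => by simp)

@[simp] theorem irrEquiv_apply (e : H ≃* G) (χ : IrrCharacter G) (x : H) :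
    (irrEquiv e χ : H → ℂ) x = (χ : G → ℂ) (e x) := rfl

/-- The action by conjugation of a subgroup normalising `G`. -/
def conjHom {Γ : Type u} [Group Γ] (G S : Subgroup Γ)
    (hnorm : ∀ s ∈ S, ∀ g ∈ G, s * g * s⁻¹ ∈ G) : S →* MulAut G where
  toFun s :=
    { toFun := fun g => ⟨(s : Γ) * g * (s : Γ)⁻¹, hnorm s s.2 g g.2⟩
      invFun := fun g => ⟨(s : Γ)⁻¹ * g * (s : Γ), by
        simpa using hnorm (s : Γ)⁻¹ (S.inv_mem s.2) g g.2⟩
      left_inv := fun g => by ext; simp [mul_assoc]
      right_inv := fun g => by ext; simp [mul_assoc]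
      map_mul' := fun a b => by ext; simp [mul_assoc] }
  map_one' := by ext; simp
  map_mul' a b := by ext; simp [mul_assoc]

@[simp] theorem conjHom_apply_coe {Γ : Type u} [Group Γ] (G S : Subgroup Γ)
    (hnorm : ∀ s ∈ S, ∀ g ∈ G, s * g * s⁻¹ ∈ G) (s : S) (g : G) :
    ((conjHom G S hnorm s g : G) : Γ) = (s : Γ) * g * (s : Γ)⁻¹ := rfl

end Cfsg.Agent.Chars
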