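import Cfsg.Prelude.Def_Blocks
import Cfsg.Agent.Chars.Linear
import Cfsg.Agent.Chars.Transport
import Cfsg.Agent.Chars.Eigen
import Cfsg.Agent.Chars2.LinearExtend
import Cfsg.Agent.Chars2.Correspondence

/-!
Extension of invariant characters from a coprime normal subgroup, and the count of characters of
degree prime to the order of a complement.
-/

set_option autoImplicit false
set_option linter.style.haveILetI false

namespace Cfsg.Agent.Chars

open Cfsg.Agent

universe u

variable {G : Type u} [Group G]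

theorem inv_of_inertia_top {K : Subgroup G} [hK : K.Normal] {θ : K → ℂ}
    (h : Chars2.inertiaSub θ = ⊤) (g : G) (k : K) :
    θ ⟨g * k * g⁻¹, hK.conj_mem (k : G) k.2 g⟩ = θ k := by
  have hx := congrFun (show Chars2.conjFun θ g⁻¹ = θ from
    Chars2.mem_inertiaSub.1 (h ▸ Subgroup.mem_top g⁻¹)) k
  rw [Chars2.conjFun_apply] at hx
  simpa using hx

/-- An invariant irreducible character of a normal subgroup with order prime to its index
extends. -/
theorem extends_of_coprime [Finite G] (K : Subgroup G) [hK : K.Normal]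
    (hcop : (Nat.card K).Coprime K.index) {θ : K → ℂ} (hθ : IsIrrCharacter K θ)
    (hinv : Chars2.inertiaSub θ = ⊤) :
    ∃ χ : G → ℂ, IsIrrCharacter G χ ∧ ∀ k : K, χ k = θ k := by
  have hθ' := hθ
  obtain ⟨d, hd0, hd, hdvd⟩ := irr_degree_dvd_card hθ
  obtain ⟨m, ρ, hirr, rfl⟩ := hθ'
  haveI := hirr
  have hinv' := inv_of_inertia_top hinv
  refine (Chars2.extends_iff_det ρ.character hθ hinv' d hd
    (hcop.coprime_dvd_left hdvd).symm).2 ?_
  have hlam : ∀ (g : G) (n : K), Chars2.detHom ρ (MulAut.conjNormal g n) = Chars2.detHom ρ n := by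
    intro g n
    obtain ⟨e⟩ := Chars2.equiv_of_character_eq ρ (ρ.comp (MulAut.conjNormal g).toMonoidHom)
      (funext fun k => (Chars2.inv_conjNormal ρ.character hinv' g k).symm)
    refine Units.ext ?_
    rw [Chars2.detHom_apply, Chars2.detHom_apply]
    have h := e.conj_apply_self n
    simp only [MonoidHom.coe_comp, MulEquiv.coe_toMonoidHom, Function.comp_apply] at h
    rw [← h]
    exact LinearMap.det_conj _ _
  obtain ⟨μ, hμ, -⟩ := Chars2.exists_ext_same_order (Chars2.detHom ρ) hlam
    (hcop.symm.coprime_dvd_right (orderOf_dvd_of_pow_eq_one (MonoidHom.ext fun n => by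
      rw [MonoidHom.pow_apply, ← map_pow, pow_card_eq_one', map_one]; rfl)))
  refine ⟨Chars2.linFun μ, (Chars2.linFun_isCharacter μ).1, (Chars2.linFun_isCharacter μ).2,
    fun n => ?_⟩
  rw [Chars2.detChar_eq ρ _ rfl, Chars2.linFun_apply, Chars2.linFun_apply, hμ]

/-- The irreducible characters of degree prime to a complement of a coprime normal subgroup. -/
theorem card_coprime_degree [Finite G] (K H : Subgroup G) [hK : K.Normal]
    (hc : Subgroup.IsComplement' H K) (hcop : (Nat.card K).Coprime (Nat.card H)) :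
    Nat.card {χ : IrrCharacter G // (charDegree (χ : G → ℂ)).Coprime (Nat.card H)} =
      Nat.card {θ : IrrCharacter K // Chars2.inertiaSub (θ : K → ℂ) = ⊤} *
        Nat.card (H →* ℂˣ) := by
  classical
  haveI := Fintype.ofFinite G
  have hidx : K.index = Nat.card H := hc.index_eq_card
  choose ext hext hres using fun θ : {θ : IrrCharacter K // Chars2.inertiaSub (θ : K → ℂ) = ⊤} =>
    extends_of_coprime K (hidx ▸ hcop) θ.1.2 θ.2
  let e := hc.QuotientMulEquiv
  let lift : (H →* ℂˣ) → (G →* ℂˣ) := fun l => l.comp (e.toMonoidHom.comp (QuotientGroup.mk' K))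
  have hliftK : ∀ (l : H →* ℂˣ) (k : K), lift l (k : G) = 1 := fun l k => by
    simp [lift, (QuotientGroup.eq_one_iff (N := K) (k : G)).2 k.2]
  have hliftH : ∀ (l : H →* ℂˣ) (h : H), lift l (h : G) = l h := fun l h => by
    show l (e (QuotientGroup.mk' K (h : G))) = l h
    congr 1
    exact (MulEquiv.eq_symm_apply e).1 rfl
  rw [← Nat.card_prod]
  symm
  refine Nat.card_eq_of_bijective (fun p => (⟨⟨fun g => (lift p.2 g : ℂ) * ext p.1 g,
      isIrrCharacter_mul_hom (hext p.1) (lift p.2)⟩, ?_⟩ :
      {χ : IrrCharacter G // (charDegree (χ : G → ℂ)).Coprime (Nat.card H)})) ⟨?_, ?_⟩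
  · obtain ⟨d, hd0, hd, hdvd⟩ := irr_degree_dvd_card p.1.1.2
    have h1 := hres p.1 1
    simp only [Subgroup.coe_one] at h1
    have : charDegree (fun g => (lift p.2 g : ℂ) * ext p.1 g) = d := by
      simp [charDegree, h1, hd]
    rw [this]
    exact hcop.coprime_dvd_left hdvd
  · rintro ⟨θ, l⟩ ⟨θ', l'⟩ h
    have hf : (fun g => (lift l g : ℂ) * ext θ g) = fun g => (lift l' g : ℂ) * ext θ' g :=
      congrArg (fun χ : {χ : IrrCharacter G // (charDegree (χ : G → ℂ)).Coprime (Nat.card H)} =>
        (χ.1 : G → ℂ)) h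
    obtain rfl : θ = θ' := Subtype.ext (Subtype.ext (funext fun k => by
      have := congrFun hf k
      simpa [hliftK, hres] using this))
    have hg := Chars2.gallagher (N := K) (φ := 1) (ϑ := (θ.1 : K → ℂ))
      isIrrCharacter_one (Chars2.inertiaSub_eq_top fun g n => rfl) θ.2
      (by rw [one_mul]; exact θ.1.2) (hext θ) (hres θ)
    have hmem : ∀ l : H →* ℂˣ, (fun g => (lift l g : ℂ)) ∈
        {β : G → ℂ | IsIrrCharacter G β ∧ classInner (indFun K 1) β ≠ 0} := by
      intro l
      refine ⟨isIrrCharacter_hom _, ?_⟩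
      rw [classInner_indFun K 1 (isClassFunction_of_isCharacter (isCharacter_hom (lift l)))]
      rw [show (fun k : K => (lift l (k : G) : ℂ)) = 1 from funext fun k => by simp [hliftK]]
      have h11 := classInner_irr (isIrrCharacter_one (G := K)) isIrrCharacter_one
      rw [if_pos rfl] at h11
      intro h0
      exact one_ne_zero (h11.symm.trans h0)
    have := hg.injOn (hmem l) (hmem l') hf
    refine Prod.ext rfl (MonoidHom.ext fun h => Units.ext ?_)
    simpa [hliftH] using congrFun this h
  · rintro ⟨⟨χ, hχ⟩, hχd⟩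
    obtain ⟨θ, hθ⟩ : ∃ θ : IrrCharacter K, classInner (fun k : K => χ k) (θ : K → ℂ) ≠ 0 := by
      by_contra hc0
      push Not at hc0
      have h0 : (fun k : K => χ k) = 0 := by
        rw [eq_sum_classInner (isClassFunction_of_isCharacter
          (isCharacter_restrict (isCharacter_of_isIrr hχ) K))]
        simp [hc0]
      exact irr_apply_one_ne_zero hχ (by simpa using congrFun h0 1)
    have hcd := Chars2.clifford_degree hχ θ.2 hθ
    obtain ⟨n, hn0, hn, -⟩ := irr_degree_dvd_card hχ
    obtain ⟨d, hd0, hd, hdvd⟩ := irr_degree_dvd_card θ.2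
    obtain ⟨c, hcn⟩ := exists_classInner_eq_nat
      (isCharacter_restrict (isCharacter_of_isIrr hχ) K) (isCharacter_of_isIrr θ.2)
    rw [hn, hcn, hd] at hcd
    have hcd' : n = (Chars2.inertiaSub (θ : K → ℂ)).index * c * d := by exact_mod_cast hcd
    have hnd : charDegree χ = n := by simp [charDegree, hn]
    simp only [hnd] at hχd
    have hinv : Chars2.inertiaSub (θ : K → ℂ) = ⊤ := by
      rw [← Subgroup.index_eq_one]
      refine Nat.eq_one_of_dvd_coprimes hχd (hcd' ▸ (dvd_mul_right _ c).trans (dvd_mul_right _ d)) ?_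
      rw [← hidx]
      exact Subgroup.index_dvd_of_le (Chars2.le_inertiaSub
        (isClassFunction_of_isCharacter (isCharacter_of_isIrr θ.2)))
    let θ' : {θ : IrrCharacter K // Chars2.inertiaSub (θ : K → ℂ) = ⊤} := ⟨θ, hinv⟩
    have hg := Chars2.gallagher (N := K) (φ := 1) (ϑ := (θ : K → ℂ))
      isIrrCharacter_one (Chars2.inertiaSub_eq_top fun g n => rfl) hinv
      (by rw [one_mul]; exact θ.2) (hext θ') (hres θ')
    obtain ⟨β, ⟨hβ, hβ1⟩, hβχ⟩ := hg.surjOn (show χ ∈ {ψ : G → ℂ | IsIrrCharacter G ψ ∧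
        classInner (indFun K (1 * (θ : K → ℂ))) ψ ≠ 0} from ⟨hχ, by
      rw [one_mul, classInner_indFun K _ (isClassFunction_of_isCharacter (isCharacter_of_isIrr hχ))]
      intro h0
      refine hθ ?_
      rw [← classInner_conj_symm, h0, map_zero]⟩)
    rw [classInner_indFun K 1 (isClassFunction_of_isCharacter (isCharacter_of_isIrr hβ))] at hβ1
    have hβ1' : classInner (fun k : K => β k) 1 ≠ 0 := fun h0 => hβ1 (by
      rw [← classInner_conj_symm, h0, map_zero])
    have hβK : ∀ (g : G) (k : K), β (g * k) = β g := by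
      intro g k
      have hk : ∀ k : K, β k = β 1 := fun k => by
        have h1 := Chars2.clifford_invariant hβ isIrrCharacter_one
          (Chars2.inertiaSub_eq_top fun g n => rfl) hβ1' k
        have h2 := Chars2.clifford_invariant hβ isIrrCharacter_one
          (Chars2.inertiaSub_eq_top fun g n => rfl) hβ1' 1
        simpa using h1.trans h2.symm
      obtain ⟨m, ρ, hi, rfl⟩ := hβ
      have hrk : ρ (k : G) = 1 := (rep_char_eq_finrank_iff ρ (k : G)).1 (by
        rw [hk k, Representation.char_one])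
      show LinearMap.trace ℂ _ (ρ (g * k)) = LinearMap.trace ℂ _ (ρ g)
      rw [map_mul, hrk, mul_one]
    have hβH : IsIrrCharacter H (fun h : H => β h) := by
      refine isIrrCharacter_of_norm_one (isCharacter_restrict (isCharacter_of_isIrr hβ) H) ?_
      have h1 := classInner_irr hβ hβ
      rw [if_pos rfl, classInner_def] at h1
      rw [classInner_def, ← h1, ← hc.card_mul_card]
      have hs : ∑ g : G, β g * (starRingEnd ℂ) (β g) =
          (Nat.card K : ℂ) * ∑ h : H, β h * (starRingEnd ℂ) (β h) := by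
        rw [← Equiv.sum_comp (Equiv.ofBijective _ hc) (fun g : G => β g * (starRingEnd ℂ) (β g)),
          Fintype.sum_prod_type, Finset.mul_sum]
        refine Finset.sum_congr rfl fun h _ => ?_
        rw [Nat.card_eq_fintype_card, ← Finset.card_univ, ← nsmul_eq_mul, ← Finset.sum_const]
        refine Finset.sum_congr rfl fun k _ => ?_
        simp [hβK]
      rw [hs, Nat.cast_mul]
      have : (Nat.card K : ℂ) ≠ 0 := Nat.cast_ne_zero.2 Nat.card_pos.ne'
      field_simp
    obtain ⟨b, hb0, hb, hbdvd⟩ := irr_degree_dvd_card hβH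
    simp only [Subgroup.coe_one] at hb
    have hb1 : b = 1 := by
      have h1 := congrFun hβχ 1
      have h2 := hres θ' 1
      simp only [Subgroup.coe_one] at h2
      simp only [Pi.mul_apply, h2, hb, hn, θ', hd] at h1
      have h3 : b * d = n := by exact_mod_cast h1
      exact Nat.eq_one_of_dvd_coprimes hχd (h3 ▸ dvd_mul_right b d) hbdvd
    obtain ⟨l, hl⟩ := exists_hom_of_degree_one (isCharacter_of_isIrr hβH) (by simp [hb, hb1])
    refine ⟨(θ', l), Subtype.ext (Subtype.ext (funext fun g => ?_))⟩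
    obtain ⟨⟨h, k⟩, rfl⟩ := hc.2 g
    show (lift l ((h : G) * k) : ℂ) * ext θ' ((h : G) * k) = χ ((h : G) * k)
    rw [← hβχ]
    show _ = β ((h : G) * k) * ext θ' ((h : G) * k)
    rw [hβK, map_mul, hliftK, mul_one, hliftH]
    exact congrArg (· * ext θ' ((h : G) * k)) (congrFun hl h).symm

end Cfsg.Agent.Chars
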