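import Cfsg.Agent.Chars.FixedPoints
import Cfsg.Agent.Chars.Induced

/-!
The Glauberman correspondence for a `p`-group acting on a group of order prime to `p`.
-/

set_option autoImplicit false
set_option linter.style.haveILetI false

namespace Cfsg.Agent.Chars

open scoped ComplexConjugate

universe u v

variable {G : Type u} [Group G] {A : Type v} [Group A]

/-- The subgroup of fixed points of an action by automorphisms. -/
def fixSub (φ : A →* MulAut G) : Subgroup G where
  carrier := {g | ∀ a, φ a g = g}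
  one_mem' a := map_one _
  mul_mem' {x y} hx hy a := by rw [map_mul, hx a, hy a]
  inv_mem' {x} hx a := by rw [map_inv, hx a]

@[simp] theorem mem_fixSub (φ : A →* MulAut G) {g : G} : g ∈ fixSub φ ↔ ∀ a, φ a g = g := Iff.rfl

/-- A function invariant under the action. -/
def InvFun (φ : A →* MulAut G) (f : G → ℂ) : Prop := ∀ a g, f (φ a g) = f g

/-- The convolution of two irreducible characters. -/
theorem irr_conv [Fintype G] {χ ψ : G → ℂ} (hχ : IsIrrCharacter G χ) (hψ : IsIrrCharacter G ψ)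
    (c : G) :
    ∑ x, χ x * ψ (x⁻¹ * c) =
      (Nat.card G : ℂ) / ψ 1 * classInner χ ψ * ψ c := by
  classical
  obtain ⟨n, σ, hi, rfl⟩ := hψ
  obtain ⟨s, hs⟩ := scalar_of_commute σ (∑ x, χ x • σ x⁻¹)
    (weightedSum_commute σ (isClassFunction_of_isCharacter (isCharacter_of_isIrr hχ)))
  have htr : ∀ d : G, ∑ x, χ x * σ.character (x⁻¹ * d) = s * σ.character d := by
    intro d
    have h1 := congrArg (fun T => LinearMap.trace ℂ _ (T * σ d)) hs
    simp only [Finset.sum_mul, map_sum, smul_mul_assoc, map_smul, smul_eq_mul, one_mul,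
      ← map_mul] at h1
    exact h1
  have hn : σ.character 1 ≠ 0 := irr_apply_one_ne_zero ⟨n, σ, hi, rfl⟩
  have hsum : classInner χ σ.character * (Nat.card G : ℂ) = ∑ x, χ x * σ.character (x⁻¹ * 1) := by
    rw [classInner_def, mul_comm, ← mul_assoc, mul_inv_cancel₀ card_ne_zero, one_mul]
    refine Finset.sum_congr rfl fun x _ => ?_
    rw [mul_one, char_inv_eq_conj ⟨n, σ, rfl⟩]
  rw [htr c]
  have h1 := htr 1
  rw [← hsum] at h1
  field_simp
  linear_combination -(σ.character c) * h1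

theorem isCharacter_comp_aut {χ : G → ℂ} (h : IsCharacter G χ) (e : MulAut G) :
    IsCharacter G (fun g => χ (e g)) :=
  isCharacter_comp h e.toMonoidHom

/-- The action on irreducible characters. -/
@[reducible] def irrAction (φ : A →* MulAut G) : MulAction A (IrrCharacter G) where
  smul a χ := ⟨fun g => (χ : G → ℂ) (φ a⁻¹ g), isIrrCharacter_comp_equiv χ.2 (φ a⁻¹)⟩
  mul_smul a b χ := Subtype.ext (funext fun g => by
    show (χ : G → ℂ) (φ (a * b)⁻¹ g) = (χ : G → ℂ) (φ b⁻¹ (φ a⁻¹ g))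
    rw [mul_inv_rev, map_mul]; rfl)
  one_smul χ := Subtype.ext (funext fun g => by
    show (χ : G → ℂ) (φ 1⁻¹ g) = (χ : G → ℂ) g
    rw [inv_one, map_one]; rfl)

theorem irrAction_fixed_iff (φ : A →* MulAut G) (χ : IrrCharacter G) :
    (∀ a : A, (irrAction φ).toSMul.smul a χ = χ) ↔ InvFun φ (χ : G → ℂ) := by
  constructor
  · intro h a g
    have h1 := congrFun (congrArg Subtype.val (h a⁻¹)) g
    change (χ : G → ℂ) (φ a⁻¹⁻¹ g) = _ at h1
    rwa [inv_inv] at h1
  · intro h a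
    exact Subtype.ext (funext fun g => h a⁻¹ g)

/-- The action on the elements. -/
@[reducible] def autAction (φ : A →* MulAut G) : MulAction A G :=
  MulAction.compHom G φ

/-- The multiplicity of `β` in the restriction of `χ`. -/
noncomputable def restrMult (C : Subgroup G) [Fintype C] (χ : G → ℂ) (β : C → ℂ) : ℂ :=
  classInner (fun c : C => χ c) β

variable [Fintype G] [Finite A] {p : ℕ}

theorem congrP_sum_fixSub (hp : p.Prime) (hA : IsPGroup p A) (φ : A →* MulAut G)
    [Fintype (fixSub φ)] (f : G → ℂ) (hint : ∀ x, IsIntegral ℤ (f x))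
    (hinv : ∀ a x, f (φ a x) = f x) :
    CongrP p (∑ x, f x) (∑ x : fixSub φ, f x) := by
  classical
  letI := autAction φ
  rw [← Finset.sum_subtype (Finset.univ.filter fun x => x ∈ fixSub φ) (by simp) f]
  exact congrP_sum_fixed hp hA _ (fun x => by simp; exact Iff.rfl) f hint hinv

theorem card_fixSub_congr (hp : p.Prime) (hA : IsPGroup p A) (φ : A →* MulAut G) :
    (Nat.card G : ℤ) ≡ Nat.card (fixSub φ) [ZMOD p] := by
  haveI := Fintype.ofFinite (fixSub φ)
  have h := congrP_sum_fixSub hp hA φ (fun _ => 1) (fun _ => isIntegral_one) (fun _ _ => rfl)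
  simp only [Finset.sum_const, Finset.card_univ, nsmul_eq_mul, mul_one] at h
  rw [← Nat.card_eq_fintype_card, ← Nat.card_eq_fintype_card] at h
  exact (congrP_nat hp).1 h

/-- The product relation modulo `p` for multiplicities of a fixed character of the fixed points. -/
theorem mult_mul_congr (hp : p.Prime) (hA : IsPGroup p A) (φ : A →* MulAut G)
    [Fintype (fixSub φ)] {χ ψ : G → ℂ} (hχ : IsIrrCharacter G χ) (hψ : IsIrrCharacter G ψ)
    (hiχ : InvFun φ χ) (hiψ : InvFun φ ψ) {β : fixSub φ → ℂ} (hβ : IsIrrCharacter (fixSub φ) β)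
    (hne : χ ≠ ψ) {m m' : ℕ} (hm : restrMult (fixSub φ) χ β = m)
    (hm' : restrMult (fixSub φ) ψ β = m') (hpG : ¬ p ∣ Nat.card G) : p ∣ m * m' := by
  classical
  have hχc := isCharacter_of_isIrr hχ
  have hψc := isCharacter_of_isIrr hψ
  have hL : ∀ c : (fixSub φ), CongrP p 0 (∑ x : (fixSub φ), χ x * ψ ((x : G)⁻¹ * c)) := by
    intro c
    have h := congrP_sum_fixSub hp hA φ (fun x => χ x * ψ (x⁻¹ * c))
      (fun x => (isIntegral_of_isCharacter hχc x).mul (isIntegral_of_isCharacter hψc _))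
      (fun a x => by
        rw [hiχ a x, ← hiψ a (x⁻¹ * c), map_mul, map_inv, c.2 a])
    rwa [irr_conv hχ hψ, classInner_irr_of_ne hχ hψ hne, mul_zero, zero_mul] at h
  obtain ⟨k, hk0, hk, hkd⟩ := irr_degree_dvd_card hβ
  obtain ⟨q, hq⟩ := hkd
  have hexp : ∀ c : (fixSub φ), ∑ x : (fixSub φ), χ x * ψ ((x : G)⁻¹ * c) =
      ∑ β' : IrrCharacter (fixSub φ), restrMult (fixSub φ) χ (β' : (fixSub φ) → ℂ) * restrMult (fixSub φ) ψ (β' : (fixSub φ) → ℂ) *
        ((Nat.card (fixSub φ) : ℂ) / (β' : (fixSub φ) → ℂ) 1) * (β' : (fixSub φ) → ℂ) c := by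
    intro c
    have e1 := eq_sum_classInner (isClassFunction_of_isCharacter (isCharacter_restrict hχc (fixSub φ)))
    have e2 := eq_sum_classInner (isClassFunction_of_isCharacter (isCharacter_restrict hψc (fixSub φ)))
    calc ∑ x : (fixSub φ), χ x * ψ ((x : G)⁻¹ * c)
        = ∑ x : (fixSub φ), (∑ β₁ : IrrCharacter (fixSub φ), restrMult (fixSub φ) χ (β₁ : (fixSub φ) → ℂ) * (β₁ : (fixSub φ) → ℂ) x) *
            (∑ β₂ : IrrCharacter (fixSub φ), restrMult (fixSub φ) ψ (β₂ : (fixSub φ) → ℂ) * (β₂ : (fixSub φ) → ℂ) (x⁻¹ * c)) := by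
          refine Finset.sum_congr rfl fun x _ => ?_
          have h1 := congrFun e1 x
          have h2 := congrFun e2 (x⁻¹ * c)
          simp only [Finset.sum_apply, Pi.smul_apply, smul_eq_mul, Subgroup.coe_mul,
            InvMemClass.coe_inv] at h1 h2
          rw [h1, h2]; rfl
      _ = ∑ β₁ : IrrCharacter (fixSub φ), ∑ β₂ : IrrCharacter (fixSub φ),
            restrMult (fixSub φ) χ (β₁ : (fixSub φ) → ℂ) * restrMult (fixSub φ) ψ (β₂ : (fixSub φ) → ℂ) *
              ∑ x : (fixSub φ), (β₁ : (fixSub φ) → ℂ) x * (β₂ : (fixSub φ) → ℂ) (x⁻¹ * c) := by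
          simp only [Finset.sum_mul, Finset.mul_sum]
          rw [Finset.sum_comm]
          conv_rhs => rw [Finset.sum_comm]
          refine Finset.sum_congr rfl fun β₁ _ => ?_
          rw [Finset.sum_comm]
          exact Finset.sum_congr rfl fun β₂ _ => Finset.sum_congr rfl fun x _ => by ring
      _ = _ := by
          refine Finset.sum_congr rfl fun β₁ _ => ?_
          rw [Finset.sum_eq_single β₁]
          · rw [irr_conv β₁.2 β₁.2, classInner_self_irr β₁.2]; ring
          · intro β₂ _ hβ₂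
            rw [irr_conv β₁.2 β₂.2, classInner_irr_of_ne β₁.2 β₂.2
              (fun h => hβ₂ (Subtype.ext h.symm))]
            ring
          · simp
  have hsum : ∑ c : (fixSub φ), (∑ x : (fixSub φ), χ x * ψ ((x : G)⁻¹ * c)) * conj (β c) =
      ((m * m' * q * Nat.card (fixSub φ) : ℕ) : ℂ) := by
    calc ∑ c : (fixSub φ), (∑ x : (fixSub φ), χ x * ψ ((x : G)⁻¹ * c)) * conj (β c)
        = ∑ β' : IrrCharacter (fixSub φ), restrMult (fixSub φ) χ (β' : (fixSub φ) → ℂ) * restrMult (fixSub φ) ψ (β' : (fixSub φ) → ℂ) *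
            ((Nat.card (fixSub φ) : ℂ) / (β' : (fixSub φ) → ℂ) 1) *
              ((Nat.card (fixSub φ) : ℂ) * classInner (β' : (fixSub φ) → ℂ) β) := by
          simp only [hexp, Finset.sum_mul]
          rw [Finset.sum_comm]
          refine Finset.sum_congr rfl fun β' _ => ?_
          rw [classInner_def, ← mul_assoc (Nat.card (fixSub φ) : ℂ), mul_inv_cancel₀ card_ne_zero, one_mul,
            Finset.mul_sum]
          exact Finset.sum_congr rfl fun x _ => by ring
      _ = _ := by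
          rw [Finset.sum_eq_single (⟨β, hβ⟩ : IrrCharacter (fixSub φ))]
          · simp only [hm, hm', classInner_self_irr hβ, mul_one, hk]
            have : (Nat.card (fixSub φ) : ℂ) = (k : ℂ) * q := by exact_mod_cast hq
            have hk' : (k : ℂ) ≠ 0 := by exact_mod_cast hk0.ne'
            push_cast
            rw [this]
            field_simp
          · intro β' _ hβ'
            rw [classInner_irr_of_ne β'.2 hβ (fun h => hβ' (Subtype.ext h))]
            ring
          · simp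
  have hc0 : CongrP p ((0 : ℕ) : ℂ) ((m * m' * q * Nat.card (fixSub φ) : ℕ) : ℂ) := by
    rw [← hsum]
    have := congrP_sum (p := p) Finset.univ (f := fun _ : (fixSub φ) => (0 : ℂ))
      (g := fun c : (fixSub φ) => (∑ x : (fixSub φ), χ x * ψ ((x : G)⁻¹ * c)) * conj (β c)) fun c _ => by
      have := congrP_mul_left (p := p) (c := conj (β c))
        (by rw [← char_inv_eq_conj (isCharacter_of_isIrr hβ)]
            exact isIntegral_of_isCharacter (isCharacter_of_isIrr hβ) _) (hL c)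
      rwa [mul_zero, mul_comm (conj (β c))] at this
    simpa using this
  have h1 := (congrP_nat hp).1 hc0
  have hcC : ¬ p ∣ Nat.card (fixSub φ) := fun h => hpG (h.trans (Subgroup.card_subgroup_dvd_card (fixSub φ)))
  have hqn : ¬ p ∣ q := fun h => hcC (hq ▸ Dvd.dvd.mul_left h k)
  have h2 : p ∣ m * m' * q * Nat.card (fixSub φ) := by
    rw [Int.modEq_iff_dvd] at h1
    simpa [← Int.natCast_dvd_natCast] using h1
  rcases hp.dvd_mul.1 h2 with h3 | h3
  · exact (hp.dvd_mul.1 h3).resolve_right hqn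
  · exact absurd h3 hcC

/-- The transposed orthogonality relation modulo `p`. -/
theorem mult_transpose_congr (hp : p.Prime) (hA : IsPGroup p A) (φ : A →* MulAut G)
    [Fintype (fixSub φ)] (hpG : ¬ p ∣ Nat.card G) (β β' : IrrCharacter (fixSub φ)) :
    ∃ (S : Finset (IrrCharacter G)) (n n' : IrrCharacter G → ℕ),
      (∀ χ, χ ∈ S ↔ InvFun φ (χ : G → ℂ)) ∧
      (∀ χ : IrrCharacter G, restrMult (fixSub φ) (χ : G → ℂ) (β : fixSub φ → ℂ) = n χ) ∧
      (∀ χ : IrrCharacter G, restrMult (fixSub φ) (χ : G → ℂ) (β' : fixSub φ → ℂ) = n' χ) ∧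
      (β = β' → (((∑ χ ∈ S, n χ * n' χ : ℕ) : ℤ)) ≡ 1 [ZMOD p]) ∧
      (β ≠ β' → p ∣ ∑ χ ∈ S, n χ * n' χ) := by
  classical
  have hr : ∀ χ : IrrCharacter G, IsCharacter (fixSub φ) (fun c : (fixSub φ) => (χ : G → ℂ) c) :=
    fun χ => isCharacter_restrict (irr_isCharacter χ) (fixSub φ)
  choose n hn using fun χ : IrrCharacter G => exists_classInner_eq_nat (hr χ) (irr_isCharacter β)
  choose n' hn' using fun χ : IrrCharacter G => exists_classInner_eq_nat (hr χ) (irr_isCharacter β')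
  have hβc := irr_isCharacter β
  have hβ'c := irr_isCharacter β'
  have hconj : ∀ c, IsIntegral ℤ (conj ((β' : (fixSub φ) → ℂ) c)) := fun c => by
    rw [← char_inv_eq_conj hβ'c]; exact isIntegral_of_isCharacter hβ'c _
  let R : (fixSub φ) → ℂ := fun c => indFun (fixSub φ) (β : (fixSub φ) → ℂ) (c : G)
  have hTot : classInner R (β' : (fixSub φ) → ℂ) = ∑ χ : IrrCharacter G, ((n χ * n' χ : ℕ) : ℂ) := by
    have he : R = ∑ χ : IrrCharacter G,
        (n χ : ℂ) • fun c : (fixSub φ) => (χ : G → ℂ) c := by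
      funext c
      have := congrFun (eq_sum_classInner (isClassFunction_indFun (fixSub φ) (β : (fixSub φ) → ℂ))) (c : G)
      simp only [Finset.sum_apply, Pi.smul_apply, smul_eq_mul] at this ⊢
      refine this.trans (Finset.sum_congr rfl fun χ _ => ?_)
      rw [classInner_indFun (fixSub φ) _ (isClassFunction_irr χ), ← classInner_conj_symm, hn]
      simp
    rw [he, classInner_sum_left]
    refine Finset.sum_congr rfl fun χ _ => ?_
    rw [classInner_smul_left, hn', Nat.cast_mul]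
  have hmain : CongrP p ((Nat.card (fixSub φ) : ℂ) * (Nat.card (fixSub φ) : ℂ) * classInner R (β' : (fixSub φ) → ℂ))
      ((Nat.card (fixSub φ) : ℂ) * (Nat.card (fixSub φ) : ℂ) * if β = β' then 1 else 0) := by
    have hRe : ∀ c : (fixSub φ), (Nat.card (fixSub φ) : ℂ) * R c = ∑ x : G, extendByZero (fixSub φ) (β : (fixSub φ) → ℂ) (x⁻¹ * c * x) :=
      fun c => by
        show _ * indFun (fixSub φ) _ _ = _
        rw [indFun_apply, ← mul_assoc, mul_inv_cancel₀ (subgroup_card_ne_zero (fixSub φ)), one_mul]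
    have hpt : ∀ c : (fixSub φ), CongrP p ((Nat.card (fixSub φ) : ℂ) * R c) ((Nat.card (fixSub φ) : ℂ) * (β : (fixSub φ) → ℂ) c) := by
      intro c
      rw [hRe c]
      refine congrP_trans (congrP_sum_fixSub hp hA φ _ (fun x => ?_) fun a x => ?_) ?_
      · by_cases h : x⁻¹ * c * x ∈ (fixSub φ)
        · rw [extendByZero_of_mem (fixSub φ) _ h]; exact isIntegral_of_isCharacter hβc _
        · rw [extendByZero_of_not_mem (fixSub φ) _ h]; exact isIntegral_zero
      · have he : (φ a x)⁻¹ * c * φ a x = φ a (x⁻¹ * c * x) := by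
          rw [map_mul, map_mul, map_inv, c.2 a]
        rw [he]
        by_cases h : x⁻¹ * c * x ∈ (fixSub φ)
        · rw [h a]
        · rw [extendByZero_of_not_mem (fixSub φ) _ h, extendByZero_of_not_mem (fixSub φ) _ fun h' => h ?_]
          have e : φ a (x⁻¹ * c * x) = x⁻¹ * c * x := by
            have h1 := h' a⁻¹
            rw [← MulAut.mul_apply, ← map_mul, inv_mul_cancel, map_one, MulAut.one_apply] at h1
            exact h1.symm
          rwa [e] at h'
      · rw [Finset.sum_congr rfl (g := fun _ => (β : (fixSub φ) → ℂ) c) fun x _ => ?_, Finset.sum_const,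
          Finset.card_univ, nsmul_eq_mul, ← Nat.card_eq_fintype_card]
        · exact congrP_refl _
        · rw [extendByZero_of_mem (fixSub φ) _ ((fixSub φ).mul_mem ((fixSub φ).mul_mem ((fixSub φ).inv_mem x.2) c.2) x.2)]
          have := isCharacter_conj_apply hβc c (x⁻¹ : (fixSub φ))
          rw [inv_inv] at this
          exact this
    have hsum : ∀ f : (fixSub φ) → ℂ, (Nat.card (fixSub φ) : ℂ) * (Nat.card (fixSub φ) : ℂ) * classInner f (β' : (fixSub φ) → ℂ) =
        ∑ c : (fixSub φ), ((Nat.card (fixSub φ) : ℂ) * f c) * conj ((β' : (fixSub φ) → ℂ) c) := by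
      intro f
      rw [classInner_def, mul_assoc, ← mul_assoc (Nat.card (fixSub φ) : ℂ) ((Nat.card (fixSub φ) : ℂ))⁻¹,
        mul_inv_cancel₀ card_ne_zero, one_mul, Finset.mul_sum]
      exact Finset.sum_congr rfl fun x _ => (mul_assoc _ _ _).symm
    rw [← classInner_irrCharacter, hsum, hsum]
    refine congrP_sum _ fun c _ => ?_
    rw [mul_comm _ (conj _), mul_comm _ (conj _)]
    exact congrP_mul_left (hconj c) (hpt c)
  letI := irrAction φ
  let S : Finset (IrrCharacter G) := Finset.univ.filter fun χ => InvFun φ (χ : G → ℂ)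
  have hSmem : ∀ χ : IrrCharacter G, χ ∈ S ↔ ∀ a : A, a • χ = χ := fun χ => by
    simp only [S, Finset.mem_filter, Finset.mem_univ, true_and]
    exact (irrAction_fixed_iff φ χ).symm
  have hsum := congrP_sum_fixed hp hA S hSmem (fun χ => ((n χ * n' χ : ℕ) : ℂ))
    (fun χ => by exact_mod_cast isIntegral_algebraMap (x := ((n χ * n' χ : ℕ) : ℤ))) (fun a χ => by
      have he : (fun c : (fixSub φ) => ((a • χ : IrrCharacter G) : G → ℂ) c) =
          fun c : (fixSub φ) => (χ : G → ℂ) c := funext fun c => by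
        show (χ : G → ℂ) (φ a⁻¹ c) = _
        rw [c.2 a⁻¹]
      have h1 : n (a • χ) = n χ := by
        have := hn (a • χ); rw [he, hn] at this; exact_mod_cast this.symm
      have h2 : n' (a • χ) = n' χ := by
        have := hn' (a • χ); rw [he, hn'] at this; exact_mod_cast this.symm
      rw [h1, h2])
  refine ⟨S, n, n', fun χ => by simp [S], hn, hn', ?_⟩
  have hcC : ¬ p ∣ Nat.card (fixSub φ) := fun h => hpG (h.trans (Subgroup.card_subgroup_dvd_card (fixSub φ)))
  rw [hTot] at hmain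
  have h2 : CongrP p ((Nat.card (fixSub φ) : ℂ) * (Nat.card (fixSub φ) : ℂ) * ∑ χ ∈ S, ((n χ * n' χ : ℕ) : ℂ))
      ((Nat.card (fixSub φ) : ℂ) * (Nat.card (fixSub φ) : ℂ) * if β = β' then 1 else 0) := by
    refine congrP_trans (congrP_symm (congrP_mul_left ?_ hsum)) hmain
    exact (isIntegral_algebraMap (x := ((Nat.card (fixSub φ) : ℕ) : ℤ))).mul
      (isIntegral_algebraMap (x := ((Nat.card (fixSub φ) : ℕ) : ℤ)))
  have hcop : IsCoprime ((p : ℤ)) ((Nat.card (fixSub φ) : ℤ) * (Nat.card (fixSub φ) : ℤ)) :=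
    (Nat.isCoprime_iff_coprime.2 (hp.coprime_iff_not_dvd.2 hcC)).mul_right
      (Nat.isCoprime_iff_coprime.2 (hp.coprime_iff_not_dvd.2 hcC))
  constructor
  · intro h
    rw [if_pos h] at h2
    have h3 : CongrP p (((Nat.card (fixSub φ) : ℤ) * (Nat.card (fixSub φ) : ℤ) * ((∑ χ ∈ S, n χ * n' χ : ℕ) : ℤ) : ℤ) : ℂ)
        (((Nat.card (fixSub φ) : ℤ) * (Nat.card (fixSub φ) : ℤ) : ℤ) : ℂ) := by
      push_cast at h2 ⊢
      simpa using h2
    have h4 := (congrP_int hp).1 h3
    rw [← mul_sub_one] at h4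
    exact (Int.modEq_iff_dvd.2 (dvd_neg.1 (by rw [neg_sub]; exact hcop.dvd_of_dvd_mul_left h4)))
  · intro h
    rw [if_neg h, mul_zero] at h2
    have h3 : CongrP p (((Nat.card (fixSub φ) : ℤ) * (Nat.card (fixSub φ) : ℤ) * ((∑ χ ∈ S, n χ * n' χ : ℕ) : ℤ) : ℤ) : ℂ)
        ((0 : ℤ) : ℂ) := by
      push_cast at h2 ⊢
      exact h2
    have h4 := (congrP_int hp).1 h3
    rw [sub_zero] at h4
    exact Int.natCast_dvd_natCast.1 (hcop.dvd_of_dvd_mul_left h4)

/-- The Glauberman correspondence for a `p`-group action. -/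
theorem glauberman_pgroup (hp : p.Prime) (hA : IsPGroup p A) (φ : A →* MulAut G)
    [Fintype (fixSub φ)] (hpG : ¬ p ∣ Nat.card G) :
    ∃ (Φ : {χ : IrrCharacter G // InvFun φ (χ : G → ℂ)} ≃ IrrCharacter (fixSub φ))
      (m : {χ : IrrCharacter G // InvFun φ (χ : G → ℂ)} → ℕ),
      ∀ χ, restrMult (fixSub φ) (χ.1 : G → ℂ) (Φ χ : fixSub φ → ℂ) = m χ ∧
        ((m χ : ℤ) ≡ 1 [ZMOD p] ∨ (m χ : ℤ) ≡ -1 [ZMOD p]) ∧
        ∀ (β : IrrCharacter (fixSub φ)) (k : ℕ),
          restrMult (fixSub φ) (χ.1 : G → ℂ) (β : fixSub φ → ℂ) = k → ¬ p ∣ k → β = Φ χ := by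
  classical
  have hex : ∀ β : IrrCharacter (fixSub φ), ∃ (χ : {χ : IrrCharacter G // InvFun φ (χ : G → ℂ)}) (k : ℕ),
      restrMult (fixSub φ) (χ.1 : G → ℂ) (β : (fixSub φ) → ℂ) = k ∧ ¬ p ∣ k := by
    intro β
    obtain ⟨S, n, n', hS, hn, hn', h1, -⟩ := mult_transpose_congr hp hA φ hpG β β
    by_contra hne
    push Not at hne
    have h2 : ∀ χ ∈ S, p ∣ n χ * n' χ := fun χ hχ =>
      Dvd.dvd.mul_right (hne ⟨χ, (hS χ).1 hχ⟩ (n χ) (hn χ)) _
    have h3 : ((∑ χ ∈ S, n χ * n' χ : ℕ) : ℤ) ≡ 0 [ZMOD p] :=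
      Int.modEq_zero_iff_dvd.2 (Int.natCast_dvd_natCast.2 (Finset.dvd_sum h2))
    have h4 := (h3.symm.trans (h1 rfl))
    rw [Int.modEq_iff_dvd] at h4
    have h5 : p ∣ 1 := Int.natCast_dvd_natCast.1 (by simpa using h4)
    exact hp.not_dvd_one h5
  have huniq : ∀ (β : IrrCharacter (fixSub φ)) (χ χ' : {χ : IrrCharacter G // InvFun φ (χ : G → ℂ)})
      (k k' : ℕ), restrMult (fixSub φ) (χ.1 : G → ℂ) (β : (fixSub φ) → ℂ) = k → ¬ p ∣ k →
      restrMult (fixSub φ) (χ'.1 : G → ℂ) (β : (fixSub φ) → ℂ) = k' → ¬ p ∣ k' → χ = χ' := by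
    intro β χ χ' k k' hk hkp hk' hkp'
    by_contra hne
    exact hp.not_dvd_mul hkp hkp' (mult_mul_congr hp hA φ χ.1.2 χ'.1.2 χ.2 χ'.2 β.2
      (fun h => hne (Subtype.ext (Subtype.ext h))) hk hk' hpG)
  choose F kF hF using hex
  have hinj : Function.Injective F := by
    intro β β' h
    by_contra hne
    obtain ⟨S, n, n', hS, hn, hn', -, h2⟩ := mult_transpose_congr hp hA φ hpG β β'
    have hn1 : n (F β).1 = kF β := by exact_mod_cast (hn _).symm.trans (hF β).1
    have hn2 : n' (F β').1 = kF β' := by exact_mod_cast (hn' _).symm.trans (hF β').1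
    have hd := h2 hne
    rw [← Finset.add_sum_erase _ _ ((hS (F β).1).2 (F β).2)] at hd
    have hrest : p ∣ ∑ χ ∈ S.erase (F β).1, n χ * n' χ := Finset.dvd_sum fun χ hχ => by
      refine Dvd.dvd.mul_right ?_ _
      by_contra hc
      obtain ⟨hne', hχS⟩ := Finset.mem_erase.1 hχ
      exact hne' (congrArg Subtype.val
        (huniq β ⟨χ, (hS χ).1 hχS⟩ (F β) (n χ) (kF β) (hn χ) hc (hF β).1 (hF β).2))
    have := (Nat.dvd_add_left hrest).1 hd
    rw [hn1, h, hn2] at this
    exact hp.not_dvd_mul (hF β).2 (hF β').2 this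
  have hsurj : Function.Surjective F := by
    intro χ
    by_contra hne
    push Not at hne
    have hnone : ∀ (β : IrrCharacter (fixSub φ)) (k : ℕ),
        restrMult (fixSub φ) (χ.1 : G → ℂ) (β : (fixSub φ) → ℂ) = k → p ∣ k := fun β k hk => by
      by_contra hkp
      exact hne β (huniq β (F β) χ (kF β) k (hF β).1 (hF β).2 hk hkp)
    have h1 := congrP_sum_fixSub hp hA φ (fun g => (χ.1 : G → ℂ) g * conj ((χ.1 : G → ℂ) g))
      (fun g => (isIntegral_of_isCharacter (irr_isCharacter χ.1) g).mul (by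
        rw [← char_inv_eq_conj (irr_isCharacter χ.1)]
        exact isIntegral_of_isCharacter (irr_isCharacter χ.1) _))
      (fun a g => by rw [χ.2 a g])
    have hG : ∑ g : G, (χ.1 : G → ℂ) g * conj ((χ.1 : G → ℂ) g) = (Nat.card G : ℂ) := by
      have := classInner_self_irr χ.1.2
      rw [classInner_def, inv_mul_eq_one₀ card_ne_zero] at this
      exact this.symm
    obtain ⟨m, hm, hs⟩ := exists_eq_sum_nsmul (isCharacter_restrict (irr_isCharacter χ.1) (fixSub φ))
    have hC : ∑ c : (fixSub φ), (χ.1 : G → ℂ) c * conj ((χ.1 : G → ℂ) c) =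
        (Nat.card (fixSub φ) : ℂ) * ((∑ β, m β * m β : ℕ) : ℂ) := by
      have := classInner_eq_sum (isClassFunction_of_isCharacter
        (isCharacter_restrict (irr_isCharacter χ.1) (fixSub φ))) (fun c : (fixSub φ) => (χ.1 : G → ℂ) c)
      rw [classInner_def, inv_mul_eq_iff_eq_mul₀ card_ne_zero] at this
      rw [this]
      push_cast
      congr 1
      refine Finset.sum_congr rfl fun β _ => ?_
      rw [← classInner_conj_symm (fun c : (fixSub φ) => (χ.1 : G → ℂ) c) (β : (fixSub φ) → ℂ), hm]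
      simp
    rw [hG, hC, ← Nat.cast_mul] at h1
    have h2 := (congrP_nat hp).1 h1
    have h3 : p ∣ Nat.card (fixSub φ) * ∑ β, m β * m β :=
      Dvd.dvd.mul_left (Finset.dvd_sum fun β _ => Dvd.dvd.mul_right (hnone β (m β) (hm β)) _) _
    have h4 : (Nat.card G : ℤ) ≡ 0 [ZMOD p] :=
      h2.trans (Int.modEq_zero_iff_dvd.2 (Int.natCast_dvd_natCast.2 h3))
    exact hpG (Int.natCast_dvd_natCast.1 (Int.modEq_zero_iff_dvd.1 h4))
  let Φ := (Equiv.ofBijective F ⟨hinj, hsurj⟩).symm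
  have hΦ : ∀ χ, F (Φ χ) = χ := fun χ => (Equiv.ofBijective F ⟨hinj, hsurj⟩).apply_symm_apply χ
  refine ⟨Φ, fun χ => kF (Φ χ), fun χ => ?_⟩
  have hmχ : restrMult (fixSub φ) (χ.1 : G → ℂ) (Φ χ : (fixSub φ) → ℂ) = kF (Φ χ) := by
    have := (hF (Φ χ)).1
    rwa [hΦ] at this
  refine ⟨hmχ, ?_, fun β k hk hkp => ?_⟩
  · obtain ⟨S, n, n', hS, hn, hn', h1, -⟩ := mult_transpose_congr hp hA φ hpG (Φ χ) (Φ χ)
    have hsq := h1 rfl
    rw [← Finset.add_sum_erase _ _ ((hS χ.1).2 χ.2)] at hsq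
    have hrest : p ∣ ∑ ψ ∈ S.erase χ.1, n ψ * n' ψ := Finset.dvd_sum fun ψ hψ => by
      refine Dvd.dvd.mul_right ?_ _
      by_contra hc
      obtain ⟨hne', hψS⟩ := Finset.mem_erase.1 hψ
      exact hne' (congrArg Subtype.val
        (huniq (Φ χ) ⟨ψ, (hS ψ).1 hψS⟩ χ (n ψ) (kF (Φ χ)) (hn ψ) hc hmχ (hF _).2))
    have e1 : n χ.1 = kF (Φ χ) := by exact_mod_cast (hn _).symm.trans hmχ
    have e2 : n' χ.1 = kF (Φ χ) := by exact_mod_cast (hn' _).symm.trans hmχ
    rw [e1, e2, Nat.cast_add, Nat.cast_mul] at hsq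
    have hsq' : (kF (Φ χ) : ℤ) * kF (Φ χ) ≡ 1 [ZMOD p] := by
      refine Int.ModEq.trans ?_ hsq
      rw [Int.modEq_iff_dvd, add_sub_cancel_left]
      exact Int.natCast_dvd_natCast.2 hrest
    rw [Int.modEq_iff_dvd] at hsq'
    have hd : (p : ℤ) ∣ (1 - (kF (Φ χ) : ℤ)) * (1 + kF (Φ χ)) := by
      convert hsq' using 1; ring
    rcases (Nat.prime_iff_prime_int.1 hp).dvd_mul.1 hd with h | h
    · exact Or.inl (Int.modEq_iff_dvd.2 h)
    · refine Or.inr (Int.modEq_iff_dvd.2 ?_)
      rw [show (-1 : ℤ) - kF (Φ χ) = -(1 + kF (Φ χ)) by ring, dvd_neg]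
      exact h
  · refine hinj ?_
    rw [hΦ]
    exact huniq β (F β) χ (kF β) k (hF β).1 (hF β).2 hk hkp

end Cfsg.Agent.Chars
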