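import Cfsg.Agent.Chars.Linear
import Cfsg.Agent.Chars.Eigen
import Cfsg.Agent.Chars2.Linear
import Cfsg.Agent.OddChar.GaloisAut
import Mathlib.GroupTheory.Sylow
import Mathlib.GroupTheory.NoncommCoprod
import Mathlib.RingTheory.ZMod.UnitsCyclic
import Mathlib.Algebra.GroupWithZero.Action.Basic

/-!
Blichfeldt's theorem: abelian Hall subgroups of linear groups for the large primes.
-/

set_option autoImplicit false
set_option linter.style.haveILetI false

namespace Cfsg.Agent.Chars

open Cfsg.Agent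

universe u

variable {G : Type u} [Group G]

theorem pow_eq_pow_of_modEq {M : Type*} [Monoid M] {x : M} {N a b : ℕ} (hx : x ^ N = 1)
    (h : a ≡ b [MOD N]) : x ^ a = x ^ b := by
  rw [pow_eq_pow_mod a hx, pow_eq_pow_mod b hx, h]

/-- A geometric sum over a root of unity. -/
theorem sum_pow_root {N : ℕ} {t : ℂ} (ht : t ^ N = 1) :
    ∑ j ∈ Finset.range N, t ^ j = if t = 1 then (N : ℂ) else 0 := by
  split_ifs with h
  · simp [h]
  · rw [geom_sum_eq h, ht, sub_self, zero_div]

/-- Equal power sums of roots of unity force equal multiplicities. -/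
theorem count_eq_of_power_sums {ι : Type*} [Fintype ι] {N : ℕ} (hN : N ≠ 0) (z z' : ι → ℂ)
    (hz : ∀ i, z i ^ N = 1) (hz' : ∀ i, z' i ^ N = 1)
    (h : ∀ j : ℕ, ∑ i, z i ^ j = ∑ i, z' i ^ j) (s : ℂ) (hs : s ^ N = 1) :
    (Finset.univ.filter fun i => z i = s).card = (Finset.univ.filter fun i => z' i = s).card := by
  classical
  have hs0 : s ≠ 0 := fun h0 => by
    rw [h0, zero_pow hN] at hs
    exact zero_ne_one hs
  have key : ∀ w : ι → ℂ, (∀ i, w i ^ N = 1) → ∑ j ∈ Finset.range N, (∑ i, w i ^ j) / s ^ j =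
      (N : ℂ) * ((Finset.univ.filter fun i => w i = s).card : ℂ) := by
    intro w hw
    simp only [Finset.sum_div, ← div_pow]
    rw [Finset.sum_comm]
    rw [Finset.sum_congr rfl fun i _ => sum_pow_root (N := N) (t := w i / s)
      (by rw [div_pow, hw, hs, div_one]), Finset.sum_ite, Finset.sum_const_zero, add_zero,
      Finset.sum_const, nsmul_eq_mul, mul_comm]
    congr 3
    ext i
    simp [div_eq_one_iff_eq hs0]
  have h1 := key z hz
  rw [Finset.sum_congr rfl fun j _ => by rw [h j], key z' hz'] at h1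
  exact_mod_cast (mul_left_cancel₀ (Nat.cast_ne_zero.2 hN) h1).symm

/-- A set of roots of unity of `p`-power order stable under a generator of the units modulo `p`
is trivial when small. -/
theorem eq_one_of_stable {p a k : ℕ} [hp : Fact p.Prime]
    (hk : orderOf (k : ZMod p) = p - 1) {s : Finset ℂ} (hcard : s.card + 1 < p)
    (hroot : ∀ t ∈ s, t ^ p ^ a = 1) (hstab : ∀ t ∈ s, t ^ k ∈ s) : ∀ t ∈ s, t = 1 := by
  classical
  intro t ht
  by_contra h1
  have hmem : ∀ i : ℕ, t ^ k ^ i ∈ s := by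
    intro i
    induction i with
    | zero => simpa using ht
    | succ i ih => rw [pow_succ, pow_mul]; exact hstab _ ih
  obtain ⟨j, -, hj⟩ := (Nat.dvd_prime_pow hp.out).1 (orderOf_dvd_of_pow_eq_one (hroot t ht))
  have hj0 : j ≠ 0 := fun h0 => h1 (orderOf_eq_one_iff.1 (by rw [hj, h0, pow_zero]))
  have hpdvd : p ∣ orderOf t := hj ▸ dvd_pow_self p hj0
  have hinj : Set.InjOn (fun i : ℕ => t ^ k ^ i) (Finset.range (p - 1) : Finset ℕ) := by
    intro i hi i' hi' hii
    simp only [Finset.coe_range, Set.mem_Iio] at hi hi'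
    have hfin : IsOfFinOrder t :=
      isOfFinOrder_iff_pow_eq_one.2 ⟨p ^ a, pow_pos hp.out.pos a, hroot t ht⟩
    have h2 : k ^ i ≡ k ^ i' [MOD p] := (hfin.pow_eq_pow_iff_modEq.1 hii).of_dvd hpdvd
    rw [← ZMod.natCast_eq_natCast_iff, Nat.cast_pow, Nat.cast_pow] at h2
    exact pow_injOn_Iio_orderOf (x := (k : ZMod p)) (by rw [hk]; exact hi) (by rw [hk]; exact hi') h2
  have := Finset.card_le_card (s := (Finset.range (p - 1)).image fun i => t ^ k ^ i) (t := s)
    (Finset.image_subset_iff.2 fun i _ => hmem i)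
  rw [Finset.card_image_of_injOn hinj, Finset.card_range] at this
  omega

/-- The exponent used for the Galois twist. -/
theorem exists_twist_exponent {p m : ℕ} (a : ℕ) [hp : Fact p.Prime] (hm : m.Coprime p) :
    ∃ k : ℕ, k.Coprime (p ^ a * m) ∧ k ≡ 1 [MOD m] ∧ orderOf (k : ZMod p) = p - 1 := by
  obtain ⟨u, hu⟩ := IsCyclic.exists_ofOrder_eq_natCard (α := (ZMod p)ˣ)
  rw [Nat.card_eq_fintype_card, ZMod.card_units] at hu
  obtain ⟨k, hk1, hk2⟩ := Nat.chineseRemainder hm.symm ((u : ZMod p).val) 1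
  have hkp : (k : ZMod p) = (u : ZMod p) := by
    rw [← ZMod.natCast_zmod_val (u : ZMod p), ZMod.natCast_eq_natCast_iff]
    exact hk1
  have hkn : ¬ p ∣ k := fun h => u.ne_zero (by rw [← hkp, (ZMod.natCast_eq_zero_iff k p).2 h])
  refine ⟨k, Nat.Coprime.mul_right ((hp.out.coprime_iff_not_dvd.2 hkn).symm.pow_right a) ?_, hk2, ?_⟩
  · rw [Nat.coprime_iff_gcd_eq_one, Nat.gcd_comm, Nat.gcd_rec, hk2, ← Nat.gcd_rec]
    exact Nat.gcd_one_right _
  · rw [hkp, orderOf_units, hu]

variable [Fintype G]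

/-- The twisted conjugate of a faithful irreducible character which agrees with it off the
elements with non-central `p`-part. -/
theorem exists_twist {χ : G → ℂ} (hχ : IsIrrCharacter G χ)
    (hf : ∀ g : G, χ g = χ 1 → g = 1) {n : ℕ} (hn : χ 1 = n) {p : ℕ} [hp : Fact p.Prime]
    (hpn : n + 1 < p) (hnc : ∃ x : G, (∃ j, x ^ p ^ j = 1) ∧ x ∉ Subgroup.center G) :
    ∃ ψ : G → ℂ, IsIrrCharacter G ψ ∧ ψ ≠ χ ∧ ∀ g : G, ψ g ≠ χ g →
      ∃ α : ℕ, (∃ j, (g ^ α) ^ p ^ j = 1) ∧ g ^ α ∉ Subgroup.center G := by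
  classical
  have hχ0 := hχ
  obtain ⟨d, ρ, hirr, rfl⟩ := hχ0
  haveI := hirr
  rw [Representation.char_one, Module.finrank_fin_fun, Nat.cast_inj] at hn
  obtain rfl := hn.symm
  have hn0 : 0 < n := by
    have h := finrank_pos_of_isIrreducible ρ
    rwa [Module.finrank_fin_fun] at h
  obtain ⟨a, ha⟩ : ∃ a, a = (Nat.card G).factorization p := ⟨_, rfl⟩
  obtain ⟨m, hmdef⟩ : ∃ m, m = Nat.card G / p ^ a := ⟨_, rfl⟩
  have hN : p ^ a * m = Nat.card G := by
    rw [hmdef, ha, Nat.ordProj_mul_ordCompl_eq_self]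
  have hm : m.Coprime p := by
    rw [hmdef, ha]; exact (Nat.coprime_ordCompl hp.out Nat.card_pos.ne').symm
  obtain ⟨k, hkN, hkm, hko⟩ := exists_twist_exponent a hm
  rw [hN] at hkN
  obtain ⟨σ, hσ⟩ := OddChar.exists_aut_pow (Nat.card_pos (α := G)).ne' hkN
  have hsig : ∀ g : G, σ (ρ.character g) = ρ.character (g ^ k) := by
    intro g
    obtain ⟨z, hz, hc, -, -⟩ := exists_eigenvalues ρ g
    rw [hc k, show ρ.character g = ∑ i, z i by simpa using hc 1, map_sum]
    exact Finset.sum_congr rfl fun i _ => hσ _ (by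
      obtain ⟨c, hc'⟩ := orderOf_dvd_natCard g
      rw [hc', pow_mul, hz, one_pow])
  -- the exponent of the determinant
  have hpn' : n.Coprime p := by
    refine ((hp.out.coprime_iff_not_dvd).2 fun h => ?_).symm
    have := Nat.le_of_dvd hn0 h
    omega
  have hnm : (n * m).Coprime (p ^ a) := (Nat.Coprime.mul_left hpn' hm).pow_right a
  obtain ⟨e₁, he₁⟩ : ∃ e₁, n * m * e₁ + k ≡ 1 [MOD p ^ a] := by
    obtain ⟨i, hi⟩ : ∃ i, n * m * i ≡ 1 [MOD p ^ a] := by
      by_cases h1 : p ^ a = 1
      · exact ⟨0, by rw [h1]; exact Nat.modEq_one⟩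
      · obtain ⟨i, hi⟩ := Nat.exists_mul_mod_eq_one_of_coprime hnm (by
          have := pow_pos hp.out.pos a
          omega)
        exact ⟨i, by rw [Nat.ModEq, hi.2, Nat.mod_eq_of_lt (by
          have := pow_pos hp.out.pos a
          omega)]⟩
    refine ⟨i * (k * (p ^ a - 1) + 1), ?_⟩
    rw [← ZMod.natCast_eq_natCast_iff] at hi ⊢
    push_cast [Nat.cast_sub (Nat.one_le_pow a p hp.out.pos)] at hi ⊢
    have h0 : (p : ZMod (p ^ a)) ^ a = 0 := by
      rw [← Nat.cast_pow, ZMod.natCast_self]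
    linear_combination ((k : ZMod (p ^ a)) * ((p : ZMod (p ^ a)) ^ a - 1) + 1) * hi +
      (k : ZMod (p ^ a)) * h0
  let μ : G →* ℂˣ := (Chars2.detHom ρ) ^ (m * e₁)
  let ψ : G → ℂ := fun g => (μ g : ℂ) * σ (ρ.character g)
  have hψ : IsIrrCharacter G ψ := isIrrCharacter_mul_hom (OddChar.isIrrCharacter_map σ hχ) μ
  have hψval : ∀ g, ψ g = (μ g : ℂ) * ρ.character (g ^ k) := fun g => by rw [← hsig]
  refine ⟨ψ, hψ, ?_, ?_⟩
  · -- a non-central `p`-element
    intro heq
    obtain ⟨x, ⟨j, hj⟩, hxc⟩ := hnc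
    obtain ⟨z, hz, hzc, hzs, -⟩ := exists_eigenvalues ρ x
    have hxord : x ^ p ^ a = 1 := by
      obtain ⟨i, -, hi⟩ := (Nat.dvd_prime_pow hp.out).1 (orderOf_dvd_of_pow_eq_one hj)
      have h2 : i ≤ a := ha ▸
        (hp.out.pow_dvd_iff_le_factorization Nat.card_pos.ne').1 (hi ▸ orderOf_dvd_natCard x)
      rw [← orderOf_dvd_iff_pow_eq_one, hi]
      exact pow_dvd_pow p h2
    have hzp : ∀ i, z i ^ p ^ a = 1 := fun i => by
      obtain ⟨c, hc⟩ := orderOf_dvd_of_pow_eq_one hxord
      rw [hc, pow_mul, hz, one_pow]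
    set w : ℂ := (μ x : ℂ) with hw
    have hwp : w ^ p ^ a = 1 := by
      rw [hw, ← Units.val_pow_eq_pow_val, ← map_pow, hxord, map_one, Units.val_one]
    have hsum : ∀ j : ℕ, ∑ i, z i ^ j = ∑ i, (w * z i ^ k) ^ j := by
      intro j
      rw [← hzc, ← congrFun heq (x ^ j), hψval, ← pow_mul, hzc, map_pow, Units.val_pow_eq_pow_val,
        ← hw, Finset.mul_sum]
      refine Finset.sum_congr rfl fun i _ => ?_
      rw [mul_pow, ← pow_mul, mul_comm j k]
    have hk1 : ¬ ((k : ZMod p) = 1) := fun h => by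
      rw [h, orderOf_one] at hko
      omega
    obtain ⟨f, hf'⟩ : ∃ f : ℕ, 1 + f * k ≡ f [MOD p ^ a] := by
      have hu : IsUnit (1 - (k : ZMod (p ^ a))) := by
        rcases Nat.eq_zero_or_pos a with h0 | h0
        · haveI : Subsingleton (ZMod (p ^ a)) := by
            rw [h0, pow_zero]; infer_instance
          exact isUnit_of_subsingleton _
        · haveI : NeZero (p ^ a) := ⟨(pow_pos hp.out.pos a).ne'⟩
          have hz1 : (1 - (k : ZMod (p ^ a))) = (((1 - (k : ZMod (p ^ a))).val : ℕ) : ZMod (p ^ a)) :=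
            (ZMod.natCast_zmod_val _).symm
          rw [hz1, ZMod.isUnit_iff_coprime]
          refine ((hp.out.coprime_iff_not_dvd).2 fun h => hk1 ?_).symm.pow_right a
          have h2 := congrArg (ZMod.castHom (dvd_pow_self p h0.ne') (ZMod p)) hz1
          rw [map_sub, map_one, map_natCast, map_natCast,
            (ZMod.natCast_eq_zero_iff _ _).2 h] at h2
          exact (sub_eq_zero.1 h2).symm
      haveI : NeZero (p ^ a) := ⟨(pow_pos hp.out.pos a).ne'⟩
      obtain ⟨u, hu⟩ := hu
      refine ⟨((u⁻¹ : (ZMod (p ^ a))ˣ) : ZMod (p ^ a)).val, ?_⟩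
      rw [← ZMod.natCast_eq_natCast_iff]
      push_cast
      rw [ZMod.natCast_zmod_val]
      have h1 := Units.inv_mul u
      rw [hu] at h1
      linear_combination -h1
    set c := w ^ f with hc
    have hcp : c ^ p ^ a = 1 := by rw [hc, ← pow_mul, mul_comm, pow_mul, hwp, one_pow]
    have hc0 : c ≠ 0 := fun h0 => by
      rw [h0, zero_pow (pow_pos hp.out.pos a).ne'] at hcp
      exact zero_ne_one hcp
    have hck : w * c ^ k = c := by
      rw [hc, ← pow_mul, ← pow_succ', show f * k + 1 = 1 + f * k by ring]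
      exact pow_eq_pow_of_modEq hwp hf'
    let s : Finset ℂ := Finset.univ.image fun i => z i / c
    have hall : ∀ t ∈ s, t = 1 := by
      refine eq_one_of_stable (a := a) hko ?_ ?_ ?_
      · have h1 : s.card ≤ n := Finset.card_image_le.trans (by simp)
        omega
      · intro t ht
        obtain ⟨i, -, rfl⟩ := Finset.mem_image.1 ht
        rw [div_pow, hzp, hcp, div_one]
      · intro t ht
        obtain ⟨i, -, rfl⟩ := Finset.mem_image.1 ht
        have hroot : (w * z i ^ k) ^ p ^ a = 1 := by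
          rw [mul_pow, hwp, ← pow_mul, mul_comm k, pow_mul, hzp, one_pow, one_mul]
        have hcount := count_eq_of_power_sums (pow_pos hp.out.pos a).ne' z
          (fun i => w * z i ^ k) hzp (fun i => by
            rw [mul_pow, hwp, ← pow_mul, mul_comm k, pow_mul, hzp, one_pow, one_mul])
          hsum _ hroot
        have hpos : 0 < (Finset.univ.filter fun j => w * z j ^ k = w * z i ^ k).card :=
          Finset.card_pos.2 ⟨i, by simp⟩
        rw [← hcount] at hpos
        obtain ⟨i', hi'⟩ := Finset.card_pos.1 hpos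
        refine Finset.mem_image.2 ⟨i', Finset.mem_univ _, ?_⟩
        rw [(Finset.mem_filter.1 hi').2]
        conv_lhs => rw [← hck]
        have hw0 : w ≠ 0 := (μ x).ne_zero
        rw [div_pow, mul_div_mul_left _ _ hw0]
    obtain ⟨c', hc'⟩ := hzs fun i j => by
      have h1 := hall _ (Finset.mem_image.2 ⟨i, Finset.mem_univ _, rfl⟩)
      have h2 := hall _ (Finset.mem_image.2 ⟨j, Finset.mem_univ _, rfl⟩)
      rw [div_eq_one_iff_eq hc0] at h1 h2
      rw [h1, h2]
    refine hxc (Subgroup.mem_center_iff.2 fun g => ?_)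
    have hcomm : ρ (g * x) = ρ (x * g) := by
      rw [map_mul, map_mul, hc', mul_smul_one, smul_mul_assoc, one_mul]
    have h1 := hf ((x * g)⁻¹ * (g * x)) (by
      rw [Representation.character, Representation.character, map_mul, hcomm, ← map_mul,
        inv_mul_cancel])
    exact (inv_mul_eq_one.1 h1).symm
  · -- the support
    intro g hg
    obtain ⟨α', hα⟩ : ∃ α', m * α' ≡ 1 [MOD p ^ a] := by
      by_cases h1 : p ^ a = 1
      · exact ⟨0, by rw [h1]; exact Nat.modEq_one⟩
      · obtain ⟨i, hi⟩ := Nat.exists_mul_mod_eq_one_of_coprime (hm.pow_right a) (by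
          have := pow_pos hp.out.pos a
          omega)
        exact ⟨i, by rw [Nat.ModEq, hi.2, Nat.mod_eq_of_lt (by
          have := pow_pos hp.out.pos a
          omega)]⟩
    have hgN : g ^ Nat.card G = 1 := pow_card_eq_one'
    refine ⟨m * α', ⟨a, ?_⟩, fun hcen => hg ?_⟩
    · rw [← pow_mul, show m * α' * p ^ a = p ^ a * m * α' by ring, hN, pow_mul, hgN, one_pow]
    · set x := g ^ (m * α')
      obtain ⟨y, hy, hym⟩ : ∃ y : G, g = x * y ∧ y ^ m = 1 := by
        refine ⟨x⁻¹ * g, by simp, ?_⟩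
        have hcm : Commute x⁻¹ g := ((Commute.refl g).pow_left _).inv_left
        rw [hcm.mul_pow, inv_pow, inv_mul_eq_one, ← pow_mul, show m * α' * m = m * (m * α') by ring]
        refine (pow_eq_pow_iff_modEq.2 (Nat.ModEq.of_dvd (orderOf_dvd_natCard g) ?_))
        rw [← hN, mul_comm (p ^ a) m]
        simpa using (hα.mul_left' m)
      obtain ⟨l, hl⟩ := scalar_of_commute ρ (ρ x) fun g' => by
        rw [← map_mul, ← map_mul, Subgroup.mem_center_iff.1 hcen g']
      rw [hψval, hy]
      have hcxy : Commute x y := (Subgroup.mem_center_iff.1 hcen y).symm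
      have hyk : y ^ k = y := by
        rw [pow_eq_pow_of_modEq hym hkm, pow_one]
      have hμy : μ y = 1 := by
        show (Chars2.detHom ρ ^ (m * e₁)) y = 1
        rw [MonoidHom.pow_apply, ← map_pow, pow_mul, hym, one_pow, map_one]
      have hμx : (μ x : ℂ) = l ^ (n * (m * e₁)) := by
        show ((Chars2.detHom ρ ^ (m * e₁)) x : ℂ) = _
        rw [MonoidHom.pow_apply, Units.val_pow_eq_pow_val, Chars2.detHom_apply, hl,
          LinearMap.det_smul, Module.finrank_fin_fun, map_one, mul_one, ← pow_mul]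
      rw [hcxy.mul_pow, hyk, map_mul, hμy, mul_one, hμx]
      simp only [Representation.character, map_mul, map_pow, hl, smul_pow, one_pow,
        smul_mul_assoc, one_mul, map_smul, smul_eq_mul]
      rw [← mul_assoc, ← pow_add]
      congr 1
      have hlp : l ^ p ^ a = 1 := by
        have h1 : ρ x ^ p ^ a = 1 := by
          rw [← map_pow, show x ^ p ^ a = 1 by
            rw [← pow_mul, show m * α' * p ^ a = p ^ a * m * α' by ring, hN, pow_mul, hgN,
              one_pow], map_one]
        rw [hl, smul_pow, one_pow] at h1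
        have h2 := congrArg (LinearMap.trace ℂ (Fin n → ℂ)) h1
        rw [map_smul, LinearMap.trace_one, Module.finrank_fin_fun, smul_eq_mul] at h2
        exact (mul_eq_right₀ (Nat.cast_ne_zero.2 hn0.ne')).1 h2
      rw [show n * (m * e₁) + k = n * m * e₁ + k by ring, pow_eq_pow_of_modEq hlp he₁, pow_one]

/-- Two large primes with non-central Sylow subgroups have commuting non-central elements. -/
theorem exists_commuting_noncentral {χ : G → ℂ} (hχ : IsIrrCharacter G χ)
    (hf : ∀ g : G, χ g = χ 1 → g = 1) {n : ℕ} (hn : χ 1 = n) {p q : ℕ} [Fact p.Prime]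
    [Fact q.Prime] (hpn : n + 1 < p) (hqn : n + 1 < q)
    (hp : ∃ x : G, (∃ j, x ^ p ^ j = 1) ∧ x ∉ Subgroup.center G)
    (hq : ∃ x : G, (∃ j, x ^ q ^ j = 1) ∧ x ∉ Subgroup.center G) :
    ∃ x y : G, ((∃ j, x ^ p ^ j = 1) ∧ x ∉ Subgroup.center G) ∧
      ((∃ j, y ^ q ^ j = 1) ∧ y ∉ Subgroup.center G) ∧ Commute x y := by
  classical
  obtain ⟨ψ, hψ, hψne, hψs⟩ := exists_twist hχ hf hn hpn hp
  obtain ⟨φ, hφ, hφne, hφs⟩ := exists_twist hχ hf hn hqn hq
  by_cases hex : ∃ g, ψ g ≠ χ g ∧ φ g ≠ χ g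
  · obtain ⟨g, h1, h2⟩ := hex
    obtain ⟨α, hα⟩ := hψs g h1
    obtain ⟨β, hβ⟩ := hφs g h2
    exact ⟨g ^ α, g ^ β, hα, hβ, (Commute.refl g).pow_pow α β⟩
  · push Not at hex
    exfalso
    have h0 : classInner (χ - ψ) (χ - φ) = 0 := by
      rw [classInner_def, Finset.sum_eq_zero, mul_zero]
      intro g _
      by_cases h : ψ g = χ g
      · simp [h]
      · simp [hex g h]
    rw [classInner_sub_left, classInner_sub_right, classInner_sub_right,
      classInner_irr hχ hχ, classInner_irr hχ hφ, classInner_irr hψ hχ, classInner_irr hψ hφ,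
      if_pos rfl, if_neg hφne.symm, if_neg hψne] at h0
    split_ifs at h0 <;> norm_num at h0

omit [Fintype G] in
/-- A finite group generated by commuting elements in two subgroups: sup of abelian subgroups. -/
theorem sup_comm_of_comm {A B : Subgroup G} (hA : ∀ a ∈ A, ∀ a' ∈ A, a * a' = a' * a)
    (hB : ∀ b ∈ B, ∀ b' ∈ B, b * b' = b' * b) (hAB : ∀ a ∈ A, ∀ b ∈ B, a * b = b * a) :
    ∀ x ∈ A ⊔ B, ∀ y ∈ A ⊔ B, x * y = y * x := by
  have h1 : A ⊔ B ≤ Subgroup.centralizer ((A : Set G) ∪ B) := by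
    refine sup_le (fun a ha => Subgroup.mem_centralizer_iff.2 ?_)
      (fun b hb => Subgroup.mem_centralizer_iff.2 ?_)
    · rintro g (hg | hg)
      · exact hA g hg a ha
      · exact (hAB a ha g hg).symm
    · rintro g (hg | hg)
      · exact hAB g hg b hb
      · exact hB g hg b hb
  have h2 : A ⊔ B ≤ Subgroup.centralizer ((A ⊔ B : Subgroup G) : Set G) := by
    rw [Subgroup.sup_eq_closure, Subgroup.centralizer_closure, ← Subgroup.sup_eq_closure]
    exact h1
  exact fun x hx y hy => Subgroup.mem_centralizer_iff.1 (h2 hy) x hx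

/-- A group with a faithful character of degree less than `p` has abelian `p`-subgroups. -/
theorem comm_of_pgroup_of_degree_lt {χ : G → ℂ} (hχ : IsCharacter G χ)
    (hf : ∀ g : G, χ g = χ 1 → g = 1) {n : ℕ} (hn : χ 1 = n) {p : ℕ} [hp : Fact p.Prime]
    (hpn : n < p) (P : Subgroup G) (hP : IsPGroup p P) :
    ∀ x ∈ P, ∀ y ∈ P, x * y = y * x := by
  classical
  intro x hx y hy
  obtain ⟨c, hc, hcs⟩ := exists_eq_sum_nsmul (isCharacter_restrict hχ P)
  obtain ⟨s, hs⟩ := IsPGroup.iff_card.1 hP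
  have hlin : ∀ η : IrrCharacter P, c η ≠ 0 → (η : P → ℂ) 1 = 1 := by
    intro η hη
    obtain ⟨e, he0, he1, hed⟩ := irr_degree_dvd_card η.2
    have hle : e ≤ n := by
      choose d _ hd using fun η : IrrCharacter P => exists_irr_apply_one_eq η.2
      have h1 := congrFun hcs 1
      simp only [Finset.sum_apply, Pi.smul_apply] at h1
      simp only [Subgroup.coe_one, hn, hd, nsmul_eq_mul] at h1
      have h2 : n = ∑ η, c η * d η := by exact_mod_cast h1
      have h3 : d η = e := by
        have := (hd η).symm.trans he1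
        exact_mod_cast this
      rw [h2, ← h3]
      exact (Nat.le_mul_of_pos_left _ (Nat.pos_of_ne_zero hη)).trans
        (Finset.single_le_sum (f := fun η => c η * d η) (fun _ _ => Nat.zero_le _) (Finset.mem_univ η))
    obtain ⟨j, -, rfl⟩ := (Nat.dvd_prime_pow hp.out).1 (hs ▸ hed)
    rcases j with _ | j
    · simpa using he1
    · have : p ≤ p ^ (j + 1) := Nat.le_self_pow (by omega) p
      omega
  let X : P := ⟨x, hx⟩
  let Y : P := ⟨y, hy⟩
  have h := hf (((Y * X)⁻¹ * (X * Y) : P) : G) (by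
    have e1 := congrFun hcs ((Y * X)⁻¹ * (X * Y))
    have e2 := congrFun hcs 1
    simp only [Finset.sum_apply, Pi.smul_apply, Subgroup.coe_one] at e1 e2
    rw [e1, e2]
    refine Finset.sum_congr rfl fun η _ => ?_
    by_cases hη : c η = 0
    · simp [hη]
    · obtain ⟨l, hl⟩ := exists_hom_of_degree_one (irr_isCharacter η) (hlin η hη)
      rw [hl]
      simp [map_mul, map_inv, mul_comm (l X) (l Y)])
  simp only [Subgroup.coe_mul, Subgroup.coe_inv, X, Y] at h
  exact (inv_mul_eq_one.1 h).symm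

omit [Fintype G] in
/-- The characters of the image of a representation. -/
theorem exists_faithful_quotient [Finite G] {d : ℕ} (ρ : Representation ℂ G (Fin d → ℂ)) :
    ∃ (K : Subgroup G) (_ : K.Normal), (∀ g, g ∈ K ↔ ρ g = 1) ∧
      ∃ χ' : G ⧸ K → ℂ, IsCharacter (G ⧸ K) χ' ∧ (∀ y, χ' y = χ' 1 → y = 1) ∧ χ' 1 = d := by
  refine ⟨(Representation.asGroupHom ρ).ker, inferInstance, fun g => ?_, ?_⟩
  · rw [MonoidHom.mem_ker, ← Units.val_eq_one, Representation.asGroupHom_apply]
  · let ρ' : Representation ℂ (G ⧸ (Representation.asGroupHom ρ).ker) (Fin d → ℂ) :=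
      (Units.coeHom _).comp (QuotientGroup.kerLift (Representation.asGroupHom ρ))
    refine ⟨ρ'.character, isCharacter_of_rep ρ', fun y hy => ?_, ?_⟩
    · have h1 : ρ' y = 1 := (rep_char_eq_finrank_iff ρ' y).1 (by rw [hy, Representation.char_one])
      refine QuotientGroup.kerLift_injective (Representation.asGroupHom ρ) ?_
      rw [map_one]
      exact Units.ext h1
    · rw [Representation.char_one, Module.finrank_fin_fun]

omit [Fintype G] in
/-- Blichfeldt: the primes above `N + 1` have an abelian Hall subgroup. -/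
theorem blichfeldt [Finite G] (N : ℕ) {χ : G → ℂ} (hχ : IsCharacter G χ)
    (hf : ∀ g : G, χ g = χ 1 → g = 1) {n : ℕ} (hn : χ 1 = n) (hnN : n ≤ N) :
    ∃ A : Subgroup G, (∀ x ∈ A, ∀ y ∈ A, x * y = y * x) ∧
      (∀ q : ℕ, q.Prime → q ∣ Nat.card A → N + 1 < q) ∧
      ∀ q : ℕ, q.Prime → q ∣ A.index → q ≤ N + 1 := by
  classical
  induction hc : Nat.card G + n using Nat.strong_induction_on generalizing G n with
  | _ k ih =>
  subst hc
  haveI := Fintype.ofFinite G
  have hsub : ∀ M : Subgroup G, M ≠ ⊤ → ∃ A : Subgroup G, A ≤ M ∧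
      (∀ x ∈ A, ∀ y ∈ A, x * y = y * x) ∧ (∀ q : ℕ, q.Prime → q ∣ Nat.card A → N + 1 < q) ∧
      ∀ q : ℕ, q.Prime → q ∣ A.relIndex M → q ≤ N + 1 := by
    intro M hM
    have hlt : Nat.card M < Nat.card G :=
      lt_of_le_of_ne (Subgroup.card_le_card_group M) fun h => hM (Subgroup.eq_top_of_card_eq M h)
    obtain ⟨A, hA1, hA2, hA3⟩ := ih _ (Nat.add_lt_add_right hlt n) (isCharacter_restrict hχ M)
      (fun g hg => Subtype.ext (hf g (by simpa using hg))) (n := n) (by simpa using hn) hnN rfl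
    refine ⟨A.map M.subtype, Subgroup.map_subtype_le A, ?_, ?_, ?_⟩
    · rintro _ ⟨x, hx, rfl⟩ _ ⟨y, hy, rfl⟩
      rw [← map_mul, ← map_mul, hA1 x hx y hy]
    · intro q hq h
      rw [Subgroup.card_map_of_injective M.subtype_injective] at h
      exact hA2 q hq h
    · intro q hq h
      refine hA3 q hq ?_
      rw [Subgroup.relIndex, Subgroup.subgroupOf, Subgroup.comap_map_eq_self_of_injective
        M.subtype_injective] at h
      exact h
  by_cases hirr : IsIrrCharacter G χ
  · -- the irreducible case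
    let 𝒮 : Set (Subgroup G) := {A | (∀ x ∈ A, ∀ y ∈ A, x * y = y * x) ∧
      ∀ q : ℕ, q.Prime → q ∣ Nat.card A → N + 1 < q}
    have hne : 𝒮.Nonempty := ⟨⊥, fun x hx y hy => by
      rw [Subgroup.mem_bot.1 hx, Subgroup.mem_bot.1 hy], fun q hq h => by
      rw [Subgroup.card_bot, Nat.dvd_one] at h; exact absurd h hq.ne_one⟩
    obtain ⟨H, ⟨hH1, hH2⟩, hmax⟩ :=
      Set.exists_max_image 𝒮 (fun A => Nat.card A) (Set.toFinite _) hne
    refine ⟨H, hH1, hH2, ?_⟩
    intro q hq hqidx
    by_contra hqN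
    rw [not_le] at hqN
    haveI := Fact.mk hq
    have hbig : ∀ (A : Subgroup G), (∀ x ∈ A, ∀ y ∈ A, x * y = y * x) →
        (∀ r : ℕ, r.Prime → r ∣ Nat.card A → N + 1 < r) → H ≤ A → A = H := fun A h1 h2 hle =>
      (Subgroup.eq_of_le_of_card_ge hle (hmax A ⟨h1, h2⟩)).symm
    -- adjoining an element
    have hadd : ∀ y : G, (∀ h ∈ H, y * h = h * y) → (∃ r : ℕ, r.Prime ∧ N + 1 < r ∧
        ∃ j, y ^ r ^ j = 1) → y ∈ H := by
      intro y hy ⟨r, hr, hrN, j, hj⟩
      have hcomm := sup_comm_of_comm hH1 (B := Subgroup.zpowers y) (by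
          rintro _ ⟨a, rfl⟩ _ ⟨b, rfl⟩
          exact (Commute.refl y).zpow_zpow a b)
        (by
          rintro h hh _ ⟨b, rfl⟩
          exact ((show Commute y h from hy h hh).zpow_left b).symm)
      have hle : (Subgroup.zpowers y) ≤ Subgroup.centralizer (H : Set G) := by
        rw [Subgroup.zpowers_le]
        exact Subgroup.mem_centralizer_iff.2 fun h hh => (hy h hh).symm
      have hnorm : Subgroup.zpowers y ≤ Subgroup.normalizer (H : Set G) :=
        hle.trans (Subgroup.centralizer_le_normalizer _)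
      have hcard : Nat.card (H ⊔ Subgroup.zpowers y : Subgroup G) ∣
          Nat.card H * Nat.card (Subgroup.zpowers y) := by
        let f : H × Subgroup.zpowers y →* (H ⊔ Subgroup.zpowers y : Subgroup G) :=
          MonoidHom.noncommCoprod (Subgroup.inclusion le_sup_left) (Subgroup.inclusion le_sup_right)
            (fun a b => Subtype.ext ((Subgroup.mem_centralizer_iff.1 (hle b.2) a a.2)))
        rw [← Nat.card_prod]
        refine Subgroup.card_dvd_of_surjective f fun x => ?_
        obtain ⟨a, ha, b, hb, hab⟩ : ∃ a ∈ H, ∃ b ∈ Subgroup.zpowers y, (x : G) = a * b := by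
          have hx := x.2
          rw [← SetLike.mem_coe, Subgroup.coe_mul_of_right_le_normalizer_left H _ hnorm] at hx
          obtain ⟨a, ha, b, hb, h⟩ := hx
          exact ⟨a, ha, b, hb, h.symm⟩
        exact ⟨(⟨a, ha⟩, ⟨b, hb⟩), Subtype.ext hab.symm⟩
      have := hbig _ hcomm (fun s hs h => by
        rcases hs.dvd_mul.1 (h.trans hcard) with h' | h'
        · exact hH2 s hs h'
        · rw [Nat.card_zpowers] at h'
          have := hs.dvd_of_dvd_pow (h'.trans (orderOf_dvd_of_pow_eq_one hj))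
          rw [(Nat.prime_dvd_prime_iff_eq hs hr).1 this]
          exact hrN) le_sup_left
      rw [← this]
      exact Subgroup.mem_sup_right (Subgroup.mem_zpowers y)
    -- centralisers of non-central elements of `H`
    have hcent : ∀ y ∈ H, y ∉ Subgroup.center G →
        ∀ r : ℕ, r.Prime → N + 1 < r → (Nat.card (Subgroup.centralizer ({y} : Set G))).factorization r
          = (Nat.card H).factorization r := by
      intro y hy hyZ r hr hrN
      have hne : Subgroup.centralizer ({y} : Set G) ≠ ⊤ := fun h => hyZ (by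
        refine Subgroup.mem_center_iff.2 fun g => ?_
        have hg : g ∈ Subgroup.centralizer ({y} : Set G) := by rw [h]; trivial
        exact (Subgroup.mem_centralizer_iff.1 hg y rfl).symm)
      obtain ⟨A, hAC, hA1, hA2, hA3⟩ := hsub _ hne
      have hHC : H ≤ Subgroup.centralizer ({y} : Set G) := fun h hh =>
        Subgroup.mem_centralizer_iff.2 (by rintro _ rfl; exact hH1 _ hy h hh)
      have hdvd : Nat.card H ∣ Nat.card A := by
        refine Nat.Coprime.dvd_of_dvd_mul_left (m := A.relIndex (Subgroup.centralizer ({y} : Set G)))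
          (Nat.coprime_of_dvd fun s hs h1 h2 => ?_)
          ((Subgroup.card_dvd_of_le hHC).trans (dvd_of_eq ?_))
        · exact absurd (hA3 s hs h2) (not_le.2 (hH2 s hs h1))
        · rw [← (A.subgroupOf (Subgroup.centralizer ({y} : Set G))).card_mul_index,
            Nat.card_congr (Subgroup.subgroupOfEquivOfLe hAC).toEquiv, mul_comm]
          rfl
      have heq : Nat.card A = Nat.card H :=
        le_antisymm (hmax A ⟨hA1, hA2⟩) (Nat.le_of_dvd Nat.card_pos hdvd)
      rw [← (A.subgroupOf (Subgroup.centralizer ({y} : Set G))).card_mul_index,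
        Nat.card_congr (Subgroup.subgroupOfEquivOfLe hAC).toEquiv, Nat.factorization_mul
          Nat.card_pos.ne' Subgroup.index_ne_zero_of_finite, heq, Finsupp.add_apply,
        Nat.factorization_eq_zero_of_not_dvd (n :=
          (A.subgroupOf (Subgroup.centralizer ({y} : Set G))).index) fun h =>
            absurd (hA3 r hr h) (not_le.2 hrN), add_zero]
    -- primes with non-central elements in `H`
    have hfull : ∀ (r : ℕ) [Fact r.Prime], N + 1 < r → ∀ y ∈ H, (∃ j, y ^ r ^ j = 1) →
        y ∉ Subgroup.center G → ¬ r ∣ H.index := by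
      intro r _ hrN y hy ⟨j, hj⟩ hyZ
      have hr : r.Prime := Fact.out
      have hyp : IsPGroup r (Subgroup.zpowers y) := by
        obtain ⟨i, -, hi⟩ := (Nat.dvd_prime_pow hr).1 (orderOf_dvd_of_pow_eq_one hj)
        exact IsPGroup.of_card (by rw [Nat.card_zpowers, hi])
      obtain ⟨R, hR⟩ := hyp.exists_le_sylow
      have hRC : (R : Subgroup G) ≤ Subgroup.centralizer ({y} : Set G) := fun z hz =>
        Subgroup.mem_centralizer_iff.2 (by
          rintro _ rfl
          exact comm_of_pgroup_of_degree_lt hχ hf hn (by omega) (R : Subgroup G) R.isPGroup'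
            _ (hR (Subgroup.mem_zpowers _)) z hz)
      intro hdvd
      have h1 := hcent y hy hyZ r hr hrN
      have h2 : (Nat.card G).factorization r ≤
          (Nat.card (Subgroup.centralizer ({y} : Set G))).factorization r := by
        rw [← hr.pow_dvd_iff_le_factorization Nat.card_pos.ne', ← R.card_eq_multiplicity]
        exact Subgroup.card_dvd_of_le hRC
      rw [h1, ← H.card_mul_index, Nat.factorization_mul Nat.card_pos.ne'
        Subgroup.index_ne_zero_of_finite, Finsupp.add_apply] at h2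
      have h3 := hr.factorization_pos_of_dvd Subgroup.index_ne_zero_of_finite hdvd
      omega
    -- a non-central element of order a power of `q`
    obtain ⟨Q⟩ : Nonempty (Sylow q G) := inferInstance
    have hQnc : ∃ x : G, (∃ j, x ^ q ^ j = 1) ∧ x ∉ Subgroup.center G := by
      by_contra hcon
      push Not at hcon
      have hQH : (Q : Subgroup G) ≤ H := fun x hx => by
        obtain ⟨j, hj⟩ := Q.isPGroup' ⟨x, hx⟩
        have hj' : x ^ q ^ j = 1 := congrArg Subtype.val hj
        exact hadd x (fun h _ => (Subgroup.mem_center_iff.1 (hcon x ⟨j, hj'⟩) h).symm)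
          ⟨q, hq, hqN, j, hj'⟩
      exact Q.not_dvd_index (hqidx.trans (Subgroup.index_dvd_of_le hQH))
    -- `H` has a non-central element of prime power order
    obtain ⟨r, hr, y, hy, hyp, hyZ⟩ : ∃ r, r.Prime ∧ ∃ y ∈ H,
        (∃ j, y ^ r ^ j = 1) ∧ y ∉ Subgroup.center G := by
      by_contra hcon
      push Not at hcon
      have hHZ : H ≤ Subgroup.center G := by
        have h : H.subgroupOf H ≤ (Subgroup.center G).subgroupOf H := by
          rw [Subgroup.subgroupOf_self]
          by_contra hne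
          obtain ⟨r, hr, hrd⟩ := Nat.exists_prime_and_dvd
            (n := ((Subgroup.center G).subgroupOf H).index) (fun h => hne (by
              rw [Subgroup.index_eq_one.1 h]))
          haveI := Fact.mk hr
          obtain ⟨R⟩ : Nonempty (Sylow r H) := inferInstance
          refine R.not_dvd_index (hrd.trans (Subgroup.index_dvd_of_le fun x hx => ?_))
          obtain ⟨j, hj⟩ := R.isPGroup' ⟨x, hx⟩
          exact hcon r hr x x.2 ⟨j, congrArg (fun z : R => ((z : H) : G)) hj⟩
        intro x hx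
        exact h (show (⟨x, hx⟩ : H) ∈ H.subgroupOf H from hx)
      obtain ⟨x, ⟨j, hj⟩, hxZ⟩ := hQnc
      exact hxZ (hHZ (hadd x (fun h hh => Subgroup.mem_center_iff.1 (hHZ hh) x)
        ⟨q, hq, hqN, j, hj⟩))
    haveI := Fact.mk hr
    have hrN : N + 1 < r := by
      obtain ⟨j, hj⟩ := hyp
      refine hH2 r hr ?_
      have h1 : orderOf y ∣ Nat.card H := Subgroup.orderOf_dvd_natCard H hy
      obtain ⟨i, -, hi⟩ := (Nat.dvd_prime_pow hr).1 (orderOf_dvd_of_pow_eq_one hj)
      rcases i with _ | i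
      · exact absurd (orderOf_eq_one_iff.1 (by simpa using hi)) fun h1 => hyZ (by rw [h1]; exact one_mem _)
      · exact (dvd_pow_self r (Nat.succ_ne_zero i)).trans (hi ▸ h1)
    have hridx := hfull r hrN y hy hyp hyZ
    -- commuting non-central elements
    obtain ⟨a, b, ⟨⟨ja, hja⟩, haZ⟩, ⟨⟨jb, hjb⟩, hbZ⟩, hab⟩ :=
      exists_commuting_noncentral hirr hf hn (p := r) (q := q) (by omega) (by omega)
        ⟨y, hyp, hyZ⟩ hQnc
    -- a Sylow subgroup inside `H`
    obtain ⟨R₀⟩ : Nonempty (Sylow r H) := inferInstance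
    have hR₀ : IsPGroup r ((R₀ : Subgroup H).map H.subtype) :=
      R₀.isPGroup'.map H.subtype
    have hR₀i : ¬ r ∣ ((R₀ : Subgroup H).map H.subtype).index := by
      rw [Subgroup.index_map_of_injective _ H.subtype_injective, Subgroup.range_subtype]
      exact fun h => (hr.dvd_mul.1 h).elim R₀.not_dvd_index hridx
    let R : Sylow r G := hR₀.toSylow hR₀i
    have hap : IsPGroup r (Subgroup.zpowers a) := by
      obtain ⟨i, -, hi⟩ := (Nat.dvd_prime_pow hr).1 (orderOf_dvd_of_pow_eq_one hja)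
      exact IsPGroup.of_card (by rw [Nat.card_zpowers, hi])
    obtain ⟨Ra, hRa⟩ := hap.exists_le_sylow
    obtain ⟨g, hg⟩ := MulAction.exists_smul_eq G Ra R
    have haH : g * a * g⁻¹ ∈ H := by
      have h1 : g * a * g⁻¹ ∈ (R : Subgroup G) := by
        rw [← hg]
        exact ⟨a, hRa (Subgroup.mem_zpowers a), rfl⟩
      obtain ⟨x, -, hx⟩ := h1
      rw [← hx]; exact x.2
    set a' := g * a * g⁻¹ with ha'
    set b' := g * b * g⁻¹ with hb'
    have hab' : Commute a' b' := (Commute.conj_iff g).2 hab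
    have hconjZ : ∀ z, z ∉ Subgroup.center G → g * z * g⁻¹ ∉ Subgroup.center G := fun z hz h => hz (by
      have := Subgroup.Normal.conj_mem' (inferInstance : (Subgroup.center G).Normal) _ h g
      simpa [mul_assoc] using this)
    have hfac := hcent a' haH (hconjZ a haZ) q hq hqN
    -- a Sylow subgroup of `H` for `q` is not central
    obtain ⟨Q₀⟩ : Nonempty (Sylow q H) := inferInstance
    by_cases hQ₀ : ∀ x ∈ (Q₀ : Subgroup H), (x : G) ∈ Subgroup.center G
    · let L : Subgroup G := (Q₀ : Subgroup H).map H.subtype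
      have hbC : b' ∈ Subgroup.centralizer ({a'} : Set G) :=
        Subgroup.mem_centralizer_iff.2 (by rintro _ rfl; exact hab')
      have hLZ : L ≤ Subgroup.center G := by rintro _ ⟨x, hx, rfl⟩; exact hQ₀ x hx
      have hbq : ∃ j, b' ^ q ^ j = 1 := ⟨jb, by rw [hb', conj_pow, hjb]; simp⟩
      have hPL : IsPGroup q (L ⊔ Subgroup.zpowers b' : Subgroup G) := by
        refine IsPGroup.to_sup_of_normal_left' (Q₀.isPGroup'.map H.subtype) ?_
          (fun x _ => Subgroup.mem_normalizer_iff.2 fun z => ?_)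
        · obtain ⟨j, hj⟩ := hbq
          obtain ⟨i, -, hi⟩ := (Nat.dvd_prime_pow hq).1 (orderOf_dvd_of_pow_eq_one hj)
          exact IsPGroup.of_card (by rw [Nat.card_zpowers, hi])
        · constructor
          · intro hz
            have : x * z * x⁻¹ = z := by
              rw [Subgroup.mem_center_iff.1 (hLZ hz) x, mul_inv_cancel_right]
            rwa [this]
          · intro hz
            have := Subgroup.mem_center_iff.1 (hLZ hz) x⁻¹
            have e : z = x * z * x⁻¹ := by
              calc z = x⁻¹ * (x * z * x⁻¹) * x := by group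
                _ = x * z * x⁻¹ * x⁻¹ * x := by rw [this]
                _ = x * z * x⁻¹ := by group
            rwa [e]
      have hLC : L ⊔ Subgroup.zpowers b' ≤ Subgroup.centralizer ({a'} : Set G) := by
        refine sup_le ?_ ((Subgroup.zpowers_le).2 hbC)
        exact hLZ.trans (Subgroup.center_le_centralizer _)
      obtain ⟨i, hi⟩ := IsPGroup.iff_card.1 hPL
      have h1 : i ≤ (Nat.card (Subgroup.centralizer ({a'} : Set G))).factorization q :=
        (hq.pow_dvd_iff_le_factorization Nat.card_pos.ne').1 (hi ▸ Subgroup.card_dvd_of_le hLC)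
      rw [hfac] at h1
      have h2 : Nat.card (L ⊔ Subgroup.zpowers b' : Subgroup G) ≤ Nat.card L := by
        rw [hi, Subgroup.card_map_of_injective H.subtype_injective, Q₀.card_eq_multiplicity]
        exact Nat.pow_le_pow_right hq.pos h1
      have h3 := Subgroup.eq_of_le_of_card_ge (le_sup_left : L ≤ L ⊔ Subgroup.zpowers b') h2
      exact hconjZ b hbZ (hLZ (by
        rw [h3]; exact Subgroup.mem_sup_right (Subgroup.mem_zpowers b')))
    · push Not at hQ₀
      obtain ⟨x, hx, hxZ⟩ := hQ₀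
      obtain ⟨j, hj⟩ := Q₀.isPGroup' ⟨x, hx⟩
      exact hfull q hqN (x : G) x.2 ⟨j, congrArg (fun z : Q₀ => ((z : H) : G)) hj⟩ hxZ hqidx
  · -- the reducible case
    obtain ⟨c, hc, hcs⟩ := exists_eq_sum_nsmul hχ
    by_cases hn0 : n = 0
    · refine ⟨⊥, fun x hx y hy => by rw [Subgroup.mem_bot.1 hx, Subgroup.mem_bot.1 hy],
        fun q hq h => absurd (Nat.dvd_one.1 (Subgroup.card_bot (G := G) ▸ h)) hq.ne_one,
        fun q hq h => ?_⟩
      have hz : ∀ η, c η = 0 := by
        intro η
        choose d hd0 hd using fun η : IrrCharacter G => exists_irr_apply_one_eq η.2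
        have h1 := congrFun hcs 1
        simp only [Finset.sum_apply, Pi.smul_apply] at h1
        simp only [hn, hd, nsmul_eq_mul, hn0] at h1
        have h2 : 0 = ∑ η, c η * d η := by exact_mod_cast h1
        rcases Nat.mul_eq_zero.1 (Finset.sum_eq_zero_iff.1 h2.symm η (Finset.mem_univ η)) with h | h
        · exact h
        · exact absurd h (hd0 η).ne'
      have htriv : Subsingleton G := ⟨fun x y => by
        rw [hf x (by rw [hcs]; simp [hz]), hf y (by rw [hcs]; simp [hz])]⟩
      rw [Subgroup.index_bot, Nat.card_unique, Nat.dvd_one] at h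
      exact absurd h hq.ne_one
    obtain ⟨η, hη⟩ : ∃ η, c η ≠ 0 := by
      by_contra hcon
      push Not at hcon
      have : χ 1 = 0 := by rw [hcs]; simp [hcon]
      rw [hn] at this
      exact hn0 (by exact_mod_cast this)
    let c' : IrrCharacter G → ℕ := fun θ => if θ = η then c θ - 1 else c θ
    have hsplit : χ = (η : G → ℂ) + ∑ θ, c' θ • (θ : G → ℂ) := by
      rw [hcs, ← Finset.add_sum_erase _ _ (Finset.mem_univ η),
        ← Finset.add_sum_erase _ (fun θ => c' θ • (θ : G → ℂ)) (Finset.mem_univ η), ← add_assoc]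
      congr 1
      · simp only [c', if_pos rfl]
        conv_lhs => rw [show c η = c η - 1 + 1 by omega, add_nsmul, one_nsmul, add_comm]
      · exact Finset.sum_congr rfl fun θ hθ => by simp [c', (Finset.mem_erase.1 hθ).1]
    obtain ⟨d₁, ρ₁, hi₁, hρ₁⟩ := η.2
    obtain ⟨d₂, ρ₂, hρ₂⟩ : IsCharacter G (∑ θ, c' θ • (θ : G → ℂ)) :=
      isCharacter_sum _ _ fun θ _ => isCharacter_nsmul (irr_isCharacter θ) _
    have hd : n = d₁ + d₂ := by
      have h1 := congrFun hsplit 1
      rw [Pi.add_apply, hn, ← hρ₁, ← hρ₂, Representation.char_one, Representation.char_one,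
        Module.finrank_fin_fun, Module.finrank_fin_fun] at h1
      exact_mod_cast h1
    have hd₁ : 0 < d₁ := by
      haveI := hi₁
      have h := finrank_pos_of_isIrreducible ρ₁
      rwa [Module.finrank_fin_fun] at h
    have hd₂ : 0 < d₂ := by
      by_contra h0
      refine hirr ?_
      have hz : (∑ θ, c' θ • (θ : G → ℂ)) = 0 := by
        funext g
        rw [← hρ₂]
        have : d₂ = 0 := by omega
        subst this
        show LinearMap.trace ℂ (Fin 0 → ℂ) (ρ₂ g) = 0
        rw [Subsingleton.elim (ρ₂ g) 0, map_zero]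
      rw [hsplit, hz, add_zero]
      exact η.2
    have key : ∀ (d : ℕ) (ρ : Representation ℂ G (Fin d → ℂ)), d < n →
        ∃ (K : Subgroup G) (_ : K.Normal), (∀ g, g ∈ K ↔ ρ g = 1) ∧ ∃ A : Subgroup (G ⧸ K),
          (∀ x ∈ A, ∀ y ∈ A, x * y = y * x) ∧
          (∀ q : ℕ, q.Prime → q ∣ Nat.card A → N + 1 < q) ∧
          ∀ q : ℕ, q.Prime → q ∣ A.index → q ≤ N + 1 := by
      intro d ρ hdn
      obtain ⟨K, hKn, hK, χ', hχ', hf', hn'⟩ := exists_faithful_quotient ρ
      haveI := hKn
      refine ⟨K, hKn, hK, ?_⟩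
      have hle : Nat.card (G ⧸ K) ≤ Nat.card G :=
        Nat.le_of_dvd Nat.card_pos (Subgroup.card_quotient_dvd_card K)
      exact ih _ (by omega) hχ' hf' hn' (hdn.le.trans hnN) rfl
    obtain ⟨K₁, hK₁n, hK₁, A₁, hA₁, hA₁p, hA₁i⟩ := key d₁ ρ₁ (by omega)
    obtain ⟨K₂, hK₂n, hK₂, A₂, hA₂, hA₂p, hA₂i⟩ := key d₂ ρ₂ (by omega)
    haveI := hK₁n
    haveI := hK₂n
    have hkk : ∀ g, g ∈ K₁ → g ∈ K₂ → g = 1 := fun g h1 h2 => hf g (by
      rw [hsplit, ← hρ₁, ← hρ₂]
      simp only [Pi.add_apply, Representation.character, (hK₁ g).1 h1, (hK₂ g).1 h2, map_one])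
    have hstep : ∀ (K : Subgroup G) [K.Normal] (A : Subgroup (G ⧸ K)),
        (∀ q : ℕ, q.Prime → q ∣ A.index → q ≤ N + 1) →
        A.comap (QuotientGroup.mk' K) ≠ ⊤ → ∃ B : Subgroup G,
          (∀ x ∈ B, ∀ y ∈ B, x * y = y * x) ∧ (∀ q : ℕ, q.Prime → q ∣ Nat.card B → N + 1 < q) ∧
          ∀ q : ℕ, q.Prime → q ∣ B.index → q ≤ N + 1 := by
      intro K _ A hA hne
      obtain ⟨B, hB, hB1, hB2, hB3⟩ := hsub _ hne
      refine ⟨B, hB1, hB2, fun q hq h => ?_⟩
      rw [← Subgroup.relIndex_mul_index hB] at h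
      rcases hq.dvd_mul.1 h with h' | h'
      · exact hB3 q hq h'
      · rw [Subgroup.index_comap_of_surjective _ (QuotientGroup.mk'_surjective K)] at h'
        exact hA q hq h'
    by_cases h1 : A₁.comap (QuotientGroup.mk' K₁) = ⊤
    swap
    · exact hstep K₁ A₁ hA₁i h1
    by_cases h2 : A₂.comap (QuotientGroup.mk' K₂) = ⊤
    swap
    · exact hstep K₂ A₂ hA₂i h2
    have hall₁ : ∀ g, QuotientGroup.mk' K₁ g ∈ A₁ := fun g => by
      have : g ∈ A₁.comap (QuotientGroup.mk' K₁) := h1 ▸ Subgroup.mem_top g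
      exact this
    have hall₂ : ∀ g, QuotientGroup.mk' K₂ g ∈ A₂ := fun g => by
      have : g ∈ A₂.comap (QuotientGroup.mk' K₂) := h2 ▸ Subgroup.mem_top g
      exact this
    refine ⟨⊤, fun x _ y _ => ?_, fun q hq h => ?_, fun q hq h => ?_⟩
    · refine (inv_mul_eq_one.1 (hkk ((y * x)⁻¹ * (x * y)) ?_ ?_)).symm
      · rw [← QuotientGroup.eq]
        exact hA₁ _ (hall₁ y) _ (hall₁ x)
      · rw [← QuotientGroup.eq]
        exact hA₂ _ (hall₂ y) _ (hall₂ x)
    · let f : (⊤ : Subgroup G) →* A₁ × A₂ :=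
        ((((QuotientGroup.mk' K₁).comp (⊤ : Subgroup G).subtype).codRestrict A₁ fun g => hall₁ g).prod
          (((QuotientGroup.mk' K₂).comp (⊤ : Subgroup G).subtype).codRestrict A₂ fun g => hall₂ g))
      have hinj : Function.Injective f := by
        refine (MonoidHom.ker_eq_bot_iff _).1 (eq_bot_iff.2 fun g hg => ?_)
        rw [Subgroup.mem_bot]
        refine Subtype.ext (hkk g ?_ ?_)
        · exact (QuotientGroup.eq_one_iff _).1 (congrArg (fun z : A₁ × A₂ => (z.1 : G ⧸ K₁))
            (MonoidHom.mem_ker.1 hg))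
        · exact (QuotientGroup.eq_one_iff _).1 (congrArg (fun z : A₁ × A₂ => (z.2 : G ⧸ K₂))
            (MonoidHom.mem_ker.1 hg))
      have h3 := h.trans ((Subgroup.card_dvd_of_injective f hinj).trans (dvd_of_eq (Nat.card_prod A₁ A₂)))
      rcases hq.dvd_mul.1 h3 with h' | h'
      · exact hA₁p q hq h'
      · exact hA₂p q hq h'
    · rw [Subgroup.index_top, Nat.dvd_one] at h
      exact absurd h hq.ne_one

end Cfsg.Agent.Chars
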