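import Cfsg.Agent.Chars.TwoDegrees
import Cfsg.Agent.Chars.Blichfeldt

/-! Groups whose character degrees are `1` and a prime `p`. -/

set_option autoImplicit false
set_option linter.style.haveILetI false
set_option linter.unusedSectionVars false

open Cfsg Cfsg.Agent
open scoped ComplexConjugate commutatorElement

namespace Cfsg.Agent.Chars.TwoDeg

universe u

variable {G : Type u} [Group G]

attribute [local instance high] fintypeSub

/-- Three elements are independent. -/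
def Indep3 (x y z : G) : Prop :=
  ∀ a b c : ℤ, x ^ a * y ^ b * z ^ c = 1 → x ^ a = 1 ∧ y ^ b = 1 ∧ z ^ c = 1

/-- Products of powers of two elements. -/
def InPair (x y w : G) : Prop := ∃ i j : ℤ, w = x ^ i * y ^ j

theorem mem_of_zpow_mem {p : ℕ} (hp : p.Prime) (H : Subgroup G) {z : G} (hz : z ^ p = 1) {c : ℤ}
    (hc : z ^ c ∈ H) (hne : z ^ c ≠ 1) : z ∈ H := by
  have hcop : Int.gcd c p = 1 := by
    rcases Nat.coprime_or_dvd_of_prime hp c.natAbs with h | h
    · simpa [Int.gcd, Nat.Coprime, Nat.gcd_comm] using h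
    · exfalso
      obtain ⟨k, hk⟩ := Int.natCast_dvd.2 h
      exact hne (by rw [hk, zpow_mul, zpow_natCast, hz, one_zpow])
  have h1 := Int.gcd_eq_gcd_ab c p
  rw [hcop] at h1
  have : z ^ ((1 : ℕ) : ℤ) ∈ H := by
    rw [h1, zpow_add, zpow_mul, zpow_mul, zpow_natCast, hz, one_zpow, mul_one]
    exact H.zpow_mem hc _
  simpa using this

theorem indep3_of_notMem {p : ℕ} (hp : p.Prime) {x y z : G} (hxy : x * y = y * x)
    (hy : y ^ p = 1) (hz : z ^ p = 1) (hyx : y ∉ Subgroup.zpowers x) (hzxy : ¬ InPair x y z) :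
    Indep3 x y z := by
  intro a b c habc
  have hz1 : z ^ c = 1 := by
    by_contra hne
    let H : Subgroup G :=
      { carrier := {w | InPair x y w}
        one_mem' := ⟨0, 0, by simp⟩
        mul_mem' := by
          rintro u v ⟨i, j, rfl⟩ ⟨k, l, rfl⟩
          refine ⟨i + k, j + l, ?_⟩
          have e : y ^ j * x ^ k = x ^ k * y ^ j :=
            ((Commute.zpow_zpow (show Commute x y from hxy) k j).eq).symm
          rw [zpow_add, zpow_add, mul_assoc, ← mul_assoc (y ^ j), e]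
          simp only [mul_assoc]
        inv_mem' := by
          rintro u ⟨i, j, rfl⟩
          refine ⟨-i, -j, ?_⟩
          rw [mul_inv_rev, zpow_neg, zpow_neg]
          exact (((Commute.zpow_zpow (show Commute x y from hxy) i j).inv_inv).eq).symm }
    have hmem : z ^ c ∈ H := by
      rw [eq_inv_of_mul_eq_one_right habc]
      exact H.inv_mem ⟨a, b, rfl⟩
    exact hzxy (mem_of_zpow_mem hp H hz hmem hne)
  rw [hz1, mul_one] at habc
  have hy1 : y ^ b = 1 := by
    by_contra hne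
    refine hyx (mem_of_zpow_mem hp _ hy ?_ hne)
    rw [eq_inv_of_mul_eq_one_right habc]
    exact Subgroup.inv_mem _ (Subgroup.zpow_mem_zpowers x a)
  rw [hy1, mul_one] at habc
  exact ⟨habc, hy1, hz1⟩

/-- Intersecting the lines through `x, z` and through `x, y z`. -/
theorem indep3_inter {p : ℕ} (hp : p.Prime) {x y z : G} (hy : y ^ p = 1) (hy1 : y ≠ 1)
    (hz : z ^ p = 1) (h : Indep3 x y z) (hxy : x * y = y * x) (hxz : x * z = z * x)
    (hyz : y * z = z * y) {w : G} (h1 : InPair x z w) (h2 : InPair x (y * z) w) :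
    w ∈ Subgroup.zpowers x := by
  obtain ⟨a, b, rfl⟩ := h1
  obtain ⟨c, d, hcd⟩ := h2
  rw [Commute.mul_zpow hyz, ← mul_assoc] at hcd
  have e : x ^ (c - a) * y ^ d * z ^ (d - b) = 1 := by
    have hc1 : Commute (x ^ (-a)) (x ^ c * y ^ d * z ^ d) :=
      (((Commute.refl x).zpow_zpow _ _).mul_right ((show Commute x y from hxy).zpow_zpow _ _)).mul_right
        ((show Commute x z from hxz).zpow_zpow _ _)
    calc x ^ (c - a) * y ^ d * z ^ (d - b) = x ^ (-a) * (x ^ c * y ^ d * z ^ d) * z ^ (-b) := by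
          rw [show c - a = -a + c by ring, zpow_add, show d - b = d + -b by ring, zpow_add]
          simp only [mul_assoc]
      _ = x ^ (-a) * (x ^ a * z ^ b) * z ^ (-b) := by rw [← hcd]
      _ = 1 := by group
  obtain ⟨hxe, hye, hze⟩ := h _ _ _ e
  haveI := Fact.mk hp
  have hord : orderOf y = p := orderOf_eq_prime hy hy1
  have hpd : (p : ℤ) ∣ d := hord ▸ orderOf_dvd_iff_zpow_eq_one.2 hye
  have hzd : z ^ d = 1 := by
    obtain ⟨k, rfl⟩ := hpd
    rw [zpow_mul, zpow_natCast, hz, one_zpow]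
  rw [hye, hzd, mul_one, mul_one] at hcd
  exact ⟨c, hcd.symm⟩

/-- The purely group theoretical part. -/
theorem exists_index_prime [Finite G] {p : ℕ} (hp : p.Prime) (A : Subgroup G) [A.Normal]
    (hab : ∀ a ∈ A, ∀ b ∈ A, a * b = b * a) (a₀ : G) (ha₀ : a₀ ∈ A)
    (hder : ∀ g h : G, ⁅g, h⁆ ∈ A) (hC : ∀ g : G, g * a₀ = a₀ * g → g ∈ A)
    (hgen : ∀ a ∈ A, ∃ i : ℤ, a₀ ^ (-i) * a ∈ Subgroup.center G)
    (hδ : ∀ g : G, ⁅g, a₀⁆ ∈ Subgroup.center G)
    (hexp : ∀ g : G, ⁅g, a₀⁆ ^ p = 1)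
    (hbig : ∀ u t : G, ∃ t' : G, ¬ InPair ⁅u, a₀⁆ ⁅t, a₀⁆ ⁅t', a₀⁆)
    (hspan : ∀ s t : G, InPair ⁅s, a₀⁆ ⁅t, a₀⁆ ⁅s, t⁆) :
    ∃ W : Subgroup G, W.Normal ∧ (∀ a ∈ W, ∀ b ∈ W, a * b = b * a) ∧ W.index = p := by
  classical
  haveI := Fact.mk hp
  have hzc : ∀ z ∈ Subgroup.center G, ∀ g : G, Commute z g := fun z hz g =>
    ((Subgroup.mem_center_iff.1 hz g).symm : z * g = g * z)
  have hpair : ∀ x y w : G, x ∈ Subgroup.center G → y ∈ Subgroup.center G → InPair x y w →
      w ∈ Subgroup.center G := by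
    rintro x y w hx hy ⟨i, j, rfl⟩
    exact mul_mem (zpow_mem hx i) (zpow_mem hy j)
  have hcc : ∀ s t : G, ⁅s, t⁆ ∈ Subgroup.center G := fun s t =>
    hpair _ _ _ (hδ s) (hδ t) (hspan s t)
  -- all commutators are central, so they are bilinear
  have hbil : ∀ r s t : G, ⁅r * s, t⁆ = ⁅r, t⁆ * ⁅s, t⁆ := by
    intro r s t
    have : ⁅r * s, t⁆ = r * ⁅s, t⁆ * r⁻¹ * ⁅r, t⁆ := by simp only [commutatorElement_def]; group
    rw [this, ← (hzc _ (hcc s t) r).eq, mul_inv_cancel_right, (hzc _ (hcc s t) _).eq]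
  have hbir : ∀ r s t : G, ⁅r, s * t⁆ = ⁅r, s⁆ * ⁅r, t⁆ := by
    intro r s t
    have : ⁅r, s * t⁆ = ⁅r, s⁆ * (s * ⁅r, t⁆ * s⁻¹) := by simp only [commutatorElement_def]; group
    rw [this, ← (hzc _ (hcc r t) s).eq, mul_inv_cancel_right]
  let f : G → G →* G := fun r =>
    { toFun := fun s => ⁅r, s⁆
      map_one' := commutatorElement_one_right r
      map_mul' := hbir r }
  let δ : G →* G :=
    { toFun := fun s => ⁅s, a₀⁆
      map_one' := commutatorElement_one_left a₀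
      map_mul' := fun r s => hbil r s a₀ }
  have hA1 : ∀ a ∈ A, δ a = 1 := fun a ha =>
    commutatorElement_eq_one_iff_mul_comm.2 (hab a ha a₀ ha₀)
  have hcom : ∀ g h : G, δ g * δ h = δ h * δ g := fun g h => (hzc _ (hδ g) _).eq
  have hδe : ∀ g, δ g = ⁅g, a₀⁆ := fun g => rfl
  have hcz : ∀ (g : G) (n : ℤ) (x : G), Commute (δ g ^ n) x := fun g n x =>
    hzc _ (zpow_mem (hδ g) n) x
  -- choose an element whose image is not trivial, and an independent one
  obtain ⟨u, hu⟩ : ∃ u : G, δ u ≠ 1 := by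
    by_contra hall
    push Not at hall
    obtain ⟨t', ht'⟩ := hbig 1 1
    exact ht' ⟨0, 0, by simp only [zpow_zero, one_mul]; exact hall t'⟩
  obtain ⟨t, ht⟩ : ∃ t : G, δ t ∉ Subgroup.zpowers (δ u) := by
    by_contra hall
    push Not at hall
    obtain ⟨t', ht'⟩ := hbig u 1
    obtain ⟨i, hi⟩ := hall t'
    exact ht' ⟨i, 0, by rw [zpow_zero, mul_one]; exact hi.symm⟩
  obtain ⟨i, j, hij⟩ := hspan u t
  -- normalise `u`
  have hj' : ∃ k : ℤ, ⁅u * a₀ ^ k, t⁆ ∈ Subgroup.zpowers (δ u) := by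
    refine ⟨j, i, ?_⟩
    show δ u ^ i = _
    rw [hbil]
    have : ⁅a₀ ^ j, t⁆ = δ t ^ (-j) := by
      rw [← commutatorElement_inv, show ⁅t, a₀ ^ j⁆ = f t (a₀ ^ j) from rfl, map_zpow, zpow_neg]
      rfl
    rw [show ⁅u, t⁆ = δ u ^ i * δ t ^ j from hij, this, mul_assoc, ← zpow_add, add_neg_cancel, zpow_zero, mul_one]
  obtain ⟨k, hk⟩ := hj'
  set u' := u * a₀ ^ k with hu'
  have hδu' : δ u' = δ u := by rw [hu', map_mul, hA1 _ (A.zpow_mem ha₀ k), mul_one]
  let W' : Subgroup G := (Subgroup.zpowers (δ u)).comap (f u')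
  have hW' : ∀ s : G, s ∈ W' := by
    have hA : ∀ a ∈ A, a ∈ W' := by
      intro a ha
      obtain ⟨l, hl⟩ := hgen a ha
      show ⁅u', a⁆ ∈ Subgroup.zpowers (δ u)
      rw [show a = a₀ ^ l * (a₀ ^ (-l) * a) by rw [zpow_neg, mul_inv_cancel_left], hbir,
        (commutatorElement_eq_one_iff_mul_comm.2 ((hzc _ hl u').eq.symm)), mul_one,
        show ⁅u', a₀ ^ l⁆ = f u' (a₀ ^ l) from rfl, map_zpow]
      exact zpow_mem ((show δ u' ∈ Subgroup.zpowers (δ u) by
        rw [hδu']; exact Subgroup.mem_zpowers _)) l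
    have hu'W : u' ∈ W' := by
      show ⁅u', u'⁆ ∈ Subgroup.zpowers (δ u)
      rw [commutatorElement_self]; exact one_mem _
    have htW : t ∈ W' := hk
    intro s
    by_cases hs : InPair (δ u) (δ t) (δ s)
    · obtain ⟨a, b, hab'⟩ := hs
      have hmem : (u' ^ a * t ^ b)⁻¹ * s ∈ A := by
        refine hC _ (commutatorElement_eq_one_iff_mul_comm.1 ?_)
        show δ _ = 1
        rw [map_mul, map_inv, map_mul, map_zpow, map_zpow, hδu', ← hab', inv_mul_cancel]
      have := W'.mul_mem (W'.mul_mem (W'.zpow_mem hu'W a) (W'.zpow_mem htW b)) (hA _ hmem)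
      rwa [mul_inv_cancel_left] at this
    · show ⁅u', s⁆ ∈ Subgroup.zpowers (δ u)
      refine indep3_inter hp (hexp t) (fun h => ht (by
          rw [show δ t = 1 from h]; exact one_mem _)) (hexp s)
        (indep3_of_notMem hp (hcom u t) (hexp t) (hexp s) ht hs) (hcom u t) (hcom u s) (hcom t s)
        ?_ ?_
      · have := hspan u' s
        rwa [show ⁅u', a₀⁆ = δ u from hδu'] at this
      · have h1 := hspan u' (t * s)
        rw [show ⁅u', a₀⁆ = δ u from hδu', show ⁅t * s, a₀⁆ = δ t * δ s from hbil t s a₀,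
          hbir] at h1
        obtain ⟨a, b, hab'⟩ := h1
        obtain ⟨c, hc⟩ := (hk : ⁅u', t⁆ ∈ Subgroup.zpowers (δ u))
        refine ⟨-c + a, b, ?_⟩
        rw [zpow_add, mul_assoc, zpow_neg, show δ u ^ c = ⁅u', t⁆ from hc]
        show _ = ⁅u', t⁆⁻¹ * (δ u ^ a * (δ t * δ s) ^ b)
        rw [← hab', inv_mul_cancel_left]
  let W : Subgroup G := (f u').ker
  have hker : ∀ s, s ∈ W ↔ ⁅u', s⁆ = 1 := fun s => Iff.rfl
  refine ⟨W, inferInstance, ?_, ?_⟩
  · have hu'W : u' ∈ W := (hker u').2 (commutatorElement_self u')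
    have hK : ∀ a ∈ A, a ∈ W → a ∈ Subgroup.center G := by
      intro a ha haW
      obtain ⟨l, hl⟩ := hgen a ha
      have ea : a = a₀ ^ l * (a₀ ^ (-l) * a) := by rw [zpow_neg, mul_inv_cancel_left]
      have h1 : δ u ^ l = 1 := by
        have h0 := (hker a).1 haW
        rw [ea, hbir, (commutatorElement_eq_one_iff_mul_comm.2 ((hzc _ hl u').eq.symm)), mul_one,
          show ⁅u', a₀ ^ l⁆ = f u' (a₀ ^ l) from rfl, map_zpow] at h0
        rw [← hδu']
        exact h0
      have hord : orderOf (δ u) = p := orderOf_eq_prime (hexp u) hu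
      obtain ⟨q, rfl⟩ : (p : ℤ) ∣ l := hord ▸ orderOf_dvd_iff_zpow_eq_one.2 h1
      have hp0 : a₀ ^ (p : ℤ) ∈ Subgroup.center G := by
        refine Subgroup.mem_center_iff.2 fun g => commutatorElement_eq_one_iff_mul_comm.1 ?_
        rw [show ⁅g, a₀ ^ (p : ℤ)⁆ = f g (a₀ ^ (p : ℤ)) from rfl, map_zpow, zpow_natCast]
        exact hexp g
      rw [ea]
      exact mul_mem (by rw [zpow_mul]; exact zpow_mem hp0 q) hl
    have hline : ∀ s ∈ W, ∀ r ∈ W, δ s ∈ Subgroup.zpowers (δ r) →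
        ∀ r' : G, ⁅r, r'⁆ = 1 → ⁅s, r'⁆ = 1 := by
      intro s hs r hr hsr r' hrr'
      obtain ⟨l, hl⟩ := hsr
      have hmem : (r ^ l)⁻¹ * s ∈ A := hC _ (commutatorElement_eq_one_iff_mul_comm.1 (by
        show δ _ = 1
        rw [map_mul, map_inv, map_zpow, show δ r ^ l = δ s from hl, inv_mul_cancel]))
      have hz := hK _ hmem (W.mul_mem (W.inv_mem (W.zpow_mem hr l)) hs)
      rw [show s = r ^ l * ((r ^ l)⁻¹ * s) by rw [mul_inv_cancel_left], hbil,
        (commutatorElement_eq_one_iff_mul_comm.2 ((hzc _ hz r').eq)), mul_one]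
      have : ⁅r', r ^ l⁆ = 1 := by
        rw [show ⁅r', r ^ l⁆ = f r' (r ^ l) from rfl, map_zpow,
          show f r' r = 1 from by
            show ⁅r', r⁆ = 1
            rw [← commutatorElement_inv, hrr', inv_one], one_zpow]
      rw [← commutatorElement_inv, this, inv_one]
    intro s hs r hr
    rw [← commutatorElement_eq_one_iff_mul_comm]
    by_cases hs0 : δ s ∈ Subgroup.zpowers (δ u')
    · exact hline s hs u' hu'W hs0 r ((hker r).1 hr)
    by_cases hr0 : δ r ∈ Subgroup.zpowers (δ s)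
    · rw [← commutatorElement_inv, hline r hr s hs hr0 s (commutatorElement_self s), inv_one]
    by_cases hr1 : InPair (δ u') (δ s) (δ r)
    · obtain ⟨a, b, hab'⟩ := hr1
      have hmem : (u' ^ a * s ^ b)⁻¹ * r ∈ A := hC _ (commutatorElement_eq_one_iff_mul_comm.1 (by
        show δ _ = 1
        rw [map_mul, map_inv, map_mul, map_zpow, map_zpow, ← hab', inv_mul_cancel]))
      have hz := hK _ hmem (W.mul_mem (W.inv_mem (W.mul_mem (W.zpow_mem hu'W a) (W.zpow_mem hs b))) hr)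
      have h1 : f s u' = 1 := by
        show ⁅s, u'⁆ = 1
        rw [← commutatorElement_inv, (hker s).1 hs, inv_one]
      have h2 : f s s = 1 := commutatorElement_self s
      show f s r = 1
      rw [show r = u' ^ a * s ^ b * ((u' ^ a * s ^ b)⁻¹ * r) by rw [mul_inv_cancel_left], map_mul,
        map_mul, map_zpow, map_zpow, h1, h2, one_zpow, one_zpow, one_mul, one_mul]
      exact commutatorElement_eq_one_iff_mul_comm.2 (hzc _ hz s).eq.symm
    -- independent images: the commutator lies on the lines of both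
    have hi := indep3_of_notMem hp (hcom u' s) (hexp s) (hexp r) hs0 hr1
    have hu'1 : δ u' ≠ 1 := hδu' ▸ hu
    have hline2 : ⁅s, r⁆ ∈ Subgroup.zpowers (δ r) := by
      refine indep3_inter hp (hexp u') hu'1 (hexp s) (fun a b c h => ?_) (hcom r u') (hcom r s)
        (hcom u' s) ?_ ?_
      · have := hi b c a (by
          rw [← h]
          show δ u' ^ b * δ s ^ c * δ r ^ a = δ r ^ a * δ u' ^ b * δ s ^ c
          rw [mul_assoc (δ r ^ a), (hcz r a _).eq])
        exact ⟨this.2.2, this.1, this.2.1⟩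
      · obtain ⟨a, b, h⟩ := hspan s r
        exact ⟨b, a, h.trans (((hzc _ (zpow_mem (hδ s) a)) _).eq)⟩
      · obtain ⟨a, b, h⟩ := hspan (u' * s) r
        refine ⟨b, a, ?_⟩
        rw [hbil, (hker r).1 hr, one_mul] at h
        rw [h, ← hbil u' s a₀]
        exact (hcz (u' * s) a _).eq
    have hline3 : ⁅s, r⁆ ∈ Subgroup.zpowers (δ s) := by
      refine indep3_inter hp (hexp u') hu'1 (hexp r) (fun a b c h => ?_) (hcom s u') (hcom s r)
        (hcom u' r) ?_ ?_
      · have := hi b a c (by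
          rw [← h]
          show δ u' ^ b * δ s ^ a * δ r ^ c = δ s ^ a * δ u' ^ b * δ r ^ c
          rw [(hcz s a _).eq])
        exact ⟨this.2.1, this.1, this.2.2⟩
      · exact hspan s r
      · obtain ⟨a, b, h⟩ := hspan s (u' * r)
        refine ⟨a, b, ?_⟩
        rw [hbir, (show ⁅s, u'⁆ = 1 by rw [← commutatorElement_inv, (hker s).1 hs, inv_one]),
          one_mul] at h
        rw [h, ← hbil u' r a₀]
        rfl
    obtain ⟨a, ha⟩ := hline3
    obtain ⟨b, hb⟩ := hline2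
    have := hi 0 a (-b) (by
      rw [zpow_zero, one_mul, zpow_neg, mul_inv_eq_one]; exact ha.trans hb.symm)
    exact ha.symm.trans this.2.1
  · have hrange : (f u').range = Subgroup.zpowers (δ u) := by
      refine le_antisymm ?_ (Subgroup.zpowers_le.2 ⟨a₀, hδu'⟩)
      rintro x ⟨s, rfl⟩
      exact hW' s
    show (f u').ker.index = p
    rw [Subgroup.index_ker, hrange, Nat.card_zpowers]
    exact orderOf_eq_prime (hexp u) hu

/-- Linear characters separate a subgroup of an abelian group from the other elements. -/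
theorem mem_of_forall_hom {A : Type u} [CommGroup A] [Finite A] (S : Subgroup A) {x : A}
    (h : ∀ φ : A →* ℂˣ, (∀ s ∈ S, φ s = 1) → φ x = 1) : x ∈ S := by
  rw [← QuotientGroup.eq_one_iff]
  refine eq_one_of_forall_hom (fun a b => mul_comm a b) fun ψ => ?_
  exact h (ψ.comp (QuotientGroup.mk' S)) fun s hs => by
    rw [MonoidHom.comp_apply, QuotientGroup.mk'_apply, (QuotientGroup.eq_one_iff s).2 hs, map_one]

section degprime

variable [Fintype G] {p : ℕ} (N : Subgroup G) [hN : N.Normal]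

/-- The conjugate of a linear character divided by it. -/
noncomputable def tw (φ : N →* ℂˣ) (g : G) : N →* ℂˣ :=
  φ.comp (MulAut.conjNormal g : MulAut N).toMonoidHom / φ

variable {N}

theorem tw_apply (φ : N →* ℂˣ) (g : G) (n : N) :
    tw N φ g n = φ ⟨g * n * g⁻¹, hN.conj_mem n n.2 g⟩ / φ n := by
  show φ _ / φ n = _
  congr 2

theorem tw_eq_one_iff {φ : N →* ℂˣ} {g : G} : tw N φ g = 1 ↔ g ∈ stab N φ := by
  rw [mem_stab]
  constructor
  · intro h n
    have := DFunLike.congr_fun h n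
    rwa [tw_apply, MonoidHom.one_apply, div_eq_one] at this
  · intro h
    ext n
    rw [tw_apply, MonoidHom.one_apply, h n, div_self']

theorem conj_eq_of_forall (hab : ∀ a ∈ N, ∀ b ∈ N, a * b = b * a) {g : G} {n : N}
    (h : ∀ φ : N →* ℂˣ, φ ⟨g * n * g⁻¹, hN.conj_mem n n.2 g⟩ = φ n) : g * n = n * g := by
  have hx : (⟨g * n * g⁻¹, hN.conj_mem n n.2 g⟩ : N) * n⁻¹ = 1 :=
    eq_one_of_forall_hom (fun a b => Subtype.ext (hab _ a.2 _ b.2)) fun φ => by
      rw [map_mul, map_inv, h φ, mul_inv_cancel]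
  exact mul_inv_eq_iff_eq_mul.1 (congrArg Subtype.val (mul_inv_eq_one.1 hx))

theorem stab_normal {m : ℕ} (hcd : Cd G m) {φ : N →* ℂˣ} (h : (stab N φ).index = m) :
    (stab N φ).Normal :=
  Subgroup.Normal.of_commutator_le G (commutator_le_of_index hcd h)

theorem stab_index (hp : p.Prime) (hcd : Cd G p) {φ : N →* ℂˣ} (h : stab N φ ≠ ⊤) :
    (stab N φ).index = p :=
  ((Nat.dvd_prime hp).1 (stab_data hcd φ h).1).resolve_left
    fun h1 => h (Subgroup.index_eq_one.1 h1)

/-- A moving linear character is trivial on the commutators of its inertia group. -/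
theorem moving_apply_commutator (hp : p.Prime) (hcd : Cd G p) {φ : N →* ℂˣ}
    (h : stab N φ ≠ ⊤) {s t : G} (hs : s ∈ stab N φ) (ht : t ∈ stab N φ) (hst : ⁅s, t⁆ ∈ N) :
    φ ⟨⁅s, t⁆, hst⟩ = 1 := by
  classical
  obtain ⟨-, main⟩ := stab_data hcd φ h
  have hTi := stab_index hp hcd h
  obtain ⟨χ, hχ⟩ : ∃ χ : IrrCharacter G,
      classInner (fun n : N => (χ : G → ℂ) n) (fun n : N => (φ n : ℂ)) ≠ 0 := by
    by_contra hall
    push Not at hall
    have h0 := congrFun (eq_sum_classInner (isClassFunction_indFun N fun n : N => (φ n : ℂ))) 1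
    rw [Finset.sum_apply, Finset.sum_eq_zero fun χ _ => ?_, indFun_apply_one] at h0
    · rw [map_one, Units.val_one, mul_one] at h0
      exact Nat.cast_ne_zero.2 Subgroup.index_ne_zero_of_finite h0
    · rw [classInner_indFun N _ (isClassFunction_irr χ), ← classInner_conj_symm, hall χ,
        map_zero, Pi.smul_apply, zero_smul]
  obtain ⟨ψ, hψ, -, hres⟩ :=
    Chars2.exists_correspondent (le_stab φ) (isIrrCharacter_hom φ) rfl χ.2 hχ
  have hres' : classInner (Chars2.resSub N (stab N φ) (le_stab φ) ψ) (fun n : N => (φ n : ℂ)) ≠ 0 := by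
    rw [hres]; exact hχ
  obtain ⟨d, hd, hdm⟩ := main ψ hψ hres'
  rw [hTi] at hdm
  have hd1 : d = 1 := Nat.eq_of_mul_eq_mul_left hp.pos (hdm.trans (mul_one p).symm)
  rw [hd1, Nat.cast_one] at hd
  obtain ⟨η, hη⟩ := exists_hom_of_degree_one (isCharacter_of_isIrr hψ) hd
  let ηN : N →* ℂˣ := η.comp (Subgroup.inclusion (le_stab φ))
  have hηN : ηN = φ := by
    by_contra hne
    apply hres'
    have e : Chars2.resSub N (stab N φ) (le_stab φ) ψ = fun n : N => (ηN n : ℂ) := by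
      rw [hη]; rfl
    rw [e]
    exact classInner_irr_of_ne (isIrrCharacter_hom ηN) (isIrrCharacter_hom φ) fun he =>
      hne (MonoidHom.ext fun n => Units.ext (congrFun he n))
  rw [← hηN]
  exact hom_apply_commutator η (x := ⁅(⟨s, hs⟩ : stab N φ), ⟨t, ht⟩⁆)
    (Subgroup.commutator_mem_commutator (Subgroup.mem_top _) (Subgroup.mem_top _))

/-- Two moving characters with different inertia groups move in one common direction. -/
theorem exists_direction (hp : p.Prime) (hcd : Cd G p) {ν μ : N →* ℂˣ} (hν : stab N ν ≠ ⊤)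
    (hμ : stab N μ ≠ ⊤) (hne : stab N ν ≠ stab N μ) :
    ∃ δ : N →* ℂˣ, δ ^ p = 1 ∧ stab N δ = ⊤ ∧
      ∀ g : G, tw N ν g ∈ Subgroup.zpowers δ ∧ tw N μ g ∈ Subgroup.zpowers δ := by
  classical
  have hi := stab_index hp hcd hν
  have hj := stab_index hp hcd hμ
  haveI hTn := stab_normal hcd hi
  haveI hSn := stab_normal hcd hj
  have heq : ∀ {A B : Subgroup G}, A ≤ B → A.index = p → B.index = p → A = B := by
    intro A B hAB hA hB
    have h1 := Subgroup.relIndex_mul_index hAB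
    rw [hA, hB] at h1
    have h2 : A.relIndex B = 1 := Nat.eq_of_mul_eq_mul_right hp.pos (h1.trans (one_mul p).symm)
    exact le_antisymm hAB (Subgroup.relIndex_eq_one.1 h2)
  have h3 : ¬ stab N (ν * μ) ≤ stab N ν := by
    intro hle
    by_cases htop : stab N (ν * μ) = ⊤
    · exact hν (top_le_iff.1 (htop ▸ hle))
    have he := heq hle (stab_index hp hcd htop) hi
    refine hne (heq (fun g hg => mem_stab.2 fun n => ?_) hi hj)
    have h1 := mem_stab.1 hg n
    have h2 := mem_stab.1 (he ▸ hg : g ∈ stab N (ν * μ)) n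
    rw [MonoidHom.mul_apply, MonoidHom.mul_apply, h1] at h2
    exact mul_left_cancel h2
  obtain ⟨s, hs, hsν⟩ := SetLike.not_le_iff_exists.1 h3
  have hsμ : s ∉ stab N μ := fun h => hsν (mem_stab.2 fun n => by
    have h2 := mem_stab.1 hs n
    rw [MonoidHom.mul_apply, MonoidHom.mul_apply, mem_stab.1 h n] at h2
    exact mul_right_cancel h2)
  set δ := tw N ν s with hδd
  have hcomb : ∀ n, δ n = (tw N μ s)⁻¹ n := fun n => by
    rw [MonoidHom.inv_apply, hδd, tw_apply, tw_apply, inv_div, div_eq_div_iff_mul_eq_mul]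
    have h2 := mem_stab.1 hs n
    rw [MonoidHom.mul_apply, MonoidHom.mul_apply] at h2
    rw [h2, mul_comm]
  have hfix : stab N δ = ⊤ := by
    by_contra hne'
    have hk := stab_index hp hcd hne'
    have h1 : stab N ν ≤ stab N δ := fun t ht => mem_stab.2 fun n => by
      rw [hδd, tw_apply, tw_apply, mem_stab.1 ht n]
      congr 1
      rw [← mem_stab.1 (hTn.conj_mem t ht s) ⟨s * n * s⁻¹, hN.conj_mem n n.2 s⟩]
      congr 1
      apply Subtype.ext
      simp [mul_assoc]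
    have h2 : stab N μ ≤ stab N δ := fun t ht => mem_stab.2 fun n => by
      rw [hcomb, hcomb, MonoidHom.inv_apply, MonoidHom.inv_apply, tw_apply, tw_apply,
        mem_stab.1 ht n]
      congr 2
      rw [← mem_stab.1 (hSn.conj_mem t ht s) ⟨s * n * s⁻¹, hN.conj_mem n n.2 s⟩]
      congr 1
      apply Subtype.ext
      simp [mul_assoc]
    exact hne ((heq h1 hi hk).trans (heq h2 hj hk).symm)
  have hiter : ∀ (κ : N →* ℂˣ), stab N (tw N κ s) = ⊤ → ∀ (k : ℕ) (n : N),
      κ ⟨s ^ k * n * (s ^ k)⁻¹, hN.conj_mem n n.2 _⟩ = κ n * tw N κ s n ^ k := by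
    intro κ hκ k
    induction k with
    | zero => intro n; simp
    | succ k ih =>
      intro n
      have e : (⟨s ^ (k + 1) * n * (s ^ (k + 1))⁻¹, hN.conj_mem n n.2 _⟩ : N) =
          ⟨s ^ k * (⟨s * n * s⁻¹, hN.conj_mem n n.2 s⟩ : N) * (s ^ k)⁻¹,
            hN.conj_mem _ (hN.conj_mem n n.2 s) _⟩ := by
        apply Subtype.ext
        simp only [pow_succ, mul_inv_rev, mul_assoc]
      rw [e, ih, mem_stab.1 (show s ∈ stab N (tw N κ s) by rw [hκ]; exact Subgroup.mem_top s) n,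
        pow_succ', ← mul_assoc]
      congr 1
      rw [tw_apply, mul_div_cancel]
  have hgo : ∀ κ : N →* ℂˣ, stab N (tw N κ s) = ⊤ → (stab N κ).Normal → (stab N κ).index = p →
      s ∉ stab N κ → tw N κ s ^ p = 1 ∧ ∀ g, tw N κ g ∈ Subgroup.zpowers (tw N κ s) := by
    intro κ hκ hn hk hsκ
    haveI := hn
    constructor
    · ext n
      have hsp : s ^ p ∈ stab N κ := hk ▸ (stab N κ).pow_index_mem s
      have := hiter κ hκ p n
      rw [mem_stab.1 hsp n] at this
      rw [MonoidHom.pow_apply, MonoidHom.one_apply]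
      exact congrArg Units.val (mul_left_cancel (a := κ n) (this.symm.trans (mul_one _).symm))
    intro g
    have hsup : stab N κ ⊔ Subgroup.zpowers s = ⊤ := by
      rw [← Subgroup.index_eq_one]
      have hd := Subgroup.index_dvd_of_le (le_sup_left : stab N κ ≤ stab N κ ⊔ Subgroup.zpowers s)
      rw [hk] at hd
      refine ((Nat.dvd_prime hp).1 hd).resolve_right fun h => hsκ ?_
      rw [heq le_sup_left hk h]
      exact Subgroup.mem_sup_right (Subgroup.mem_zpowers s)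
    obtain ⟨t, ht, z, hz, rfl⟩ :=
      Subgroup.mem_sup_of_normal_left.1 (hsup ▸ Subgroup.mem_top g :
        g ∈ stab N κ ⊔ Subgroup.zpowers s)
    obtain ⟨k, rfl⟩ := mem_powers_iff_mem_zpowers.2 hz
    dsimp only
    refine ⟨(k : ℤ), MonoidHom.ext fun n => ?_⟩
    show (tw N κ s ^ (k : ℤ)) n = _
    rw [MonoidHom.zpow_apply, zpow_natCast, tw_apply κ (t * s ^ k)]
    have e : (⟨t * s ^ k * n * (t * s ^ k)⁻¹, hN.conj_mem n n.2 _⟩ : N) =
        ⟨t * (⟨s ^ k * n * (s ^ k)⁻¹, hN.conj_mem n n.2 _⟩ : N) * t⁻¹,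
          hN.conj_mem _ (hN.conj_mem n n.2 _) _⟩ := by
      apply Subtype.ext
      simp only [mul_inv_rev, mul_assoc]
    rw [e, mem_stab.1 ht ⟨s ^ k * n * (s ^ k)⁻¹, hN.conj_mem n n.2 _⟩, hiter κ hκ k n,
      mul_div_cancel_left]
  obtain ⟨h1, h2⟩ := hgo ν hfix hTn hi hsν
  have hμδ : tw N μ s = δ⁻¹ := by
    refine MonoidHom.ext fun n => ?_
    rw [MonoidHom.inv_apply, hcomb, MonoidHom.inv_apply, inv_inv]
  have hfix' : stab N (tw N μ s) = ⊤ := by
    refine top_le_iff.1 fun g _ => mem_stab.2 fun n => ?_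
    rw [hμδ, MonoidHom.inv_apply, MonoidHom.inv_apply,
      mem_stab.1 (show g ∈ stab N δ by rw [hfix]; exact Subgroup.mem_top g) n]
  obtain ⟨-, h2'⟩ := hgo μ hfix' hSn hj hsμ
  refine ⟨δ, h1, hfix, fun g => ⟨h2 g, ?_⟩⟩
  have := h2' g
  rwa [hμδ, Subgroup.zpowers_inv] at this

/-- Degrees `1` and `p` force an abelian subgroup of index `p` or a centre of index `p ^ 3`. -/
theorem structure_prime_degree (hp : p.Prime) (hcd : Cd G p)
    (hm : ∃ χ : IrrCharacter G, charDegree (χ : G → ℂ) = p) :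
    (∃ A : Subgroup G, A.Normal ∧ (∀ a ∈ A, ∀ b ∈ A, a * b = b * a) ∧ A.index = p) ∨
      (Subgroup.center G).index = p ^ 3 := by
  classical
  haveI := Fact.mk hp
  have hder := commutator_comm hcd hm hp.ne_one
  obtain ⟨A, hA, hmax⟩ := (Set.toFinite {A : Subgroup G | commutator G ≤ A ∧
    ∀ a ∈ A, ∀ b ∈ A, a * b = b * a}).exists_maximal ⟨commutator G, le_rfl, hder⟩
  obtain ⟨hAder, hab⟩ := hA
  haveI hAn : A.Normal := Subgroup.Normal.of_commutator_le G hAder
  have hself : ∀ g : G, (∀ a ∈ A, g * a = a * g) → g ∈ A := by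
    intro g hg
    refine hmax ⟨hAder.trans le_sup_left, Chars.sup_comm_of_comm (B := Subgroup.zpowers g) hab
      (fun a ha b hb => ?_) (fun a ha b hb => ?_)⟩ le_sup_left
      (Subgroup.mem_sup_right (Subgroup.mem_zpowers g))
    · obtain ⟨i, rfl⟩ := ha
      obtain ⟨j, rfl⟩ := hb
      exact (Commute.zpow_zpow_self g i j).eq
    · obtain ⟨j, rfl⟩ := hb
      exact ((show Commute g a from hg a ha).zpow_left j).eq.symm
  have hfixA : ∀ T : Subgroup G, (∀ φ : A →* ℂˣ, T ≤ stab A φ) → T ≤ A := fun T hT g hg =>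
    hself g fun a ha => central_of_stab_top hab (fun φ => hT φ hg) ha
  have hnab : A ≠ ⊤ := by
    rintro rfl
    obtain ⟨χ, hχ⟩ := hm
    have h1 := irr_apply_one_of_comm
      (fun a b => hab a (Subgroup.mem_top a) b (Subgroup.mem_top b)) χ.2
    rw [(Blocks.charDegree_eq χ.2).1, hχ] at h1
    exact hp.ne_one (by exact_mod_cast h1)
  obtain ⟨ν₀, hν₀⟩ : ∃ φ : A →* ℂˣ, stab A φ ≠ ⊤ := by
    by_contra hall
    push Not at hall
    exact hnab (top_le_iff.1 (hfixA ⊤ fun φ => (hall φ).ge))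
  by_cases hone : ∀ φ : A →* ℂˣ, stab A φ ≠ ⊤ → stab A φ = stab A ν₀
  · refine Or.inl ⟨A, hAn, hab, ?_⟩
    have : stab A ν₀ ≤ A := hfixA _ fun φ => by
      by_cases h : stab A φ = ⊤
      · rw [h]; exact le_top
      · rw [hone φ h]
    rw [le_antisymm (le_stab ν₀) this, stab_index hp hcd hν₀]
  push Not at hone
  obtain ⟨μ₀, hμ₀, hne₀⟩ := hone
  obtain ⟨δ, hδp, hδfix, hδ₀⟩ := exists_direction hp hcd hν₀ hμ₀ hne₀.symm
  have hdir : ∀ (κ : A →* ℂˣ) (g : G), tw A κ g ∈ Subgroup.zpowers δ := by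
    intro κ g
    by_cases hκ : stab A κ = ⊤
    · rw [tw_eq_one_iff.2 (by rw [hκ]; exact Subgroup.mem_top g)]
      exact one_mem _
    have key : ∀ ξ : A →* ℂˣ, stab A ξ ≠ ⊤ → stab A ξ ≠ stab A κ →
        (∀ g, tw A ξ g ∈ Subgroup.zpowers δ) → tw A κ g ∈ Subgroup.zpowers δ := by
      intro ξ hξ hne hξδ
      obtain ⟨δ', hδ'p, -, h'⟩ := exists_direction hp hcd hξ hκ hne
      obtain ⟨g₀, hg₀⟩ : ∃ g₀, g₀ ∉ stab A ξ := by
        by_contra hall
        push Not at hall
        exact hξ (top_le_iff.1 fun x _ => hall x)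
      obtain ⟨i, hi⟩ := (h' g₀).1
      have hne1 : δ' ^ i ≠ 1 := fun h => hg₀ (tw_eq_one_iff.1 (hi.symm.trans h))
      refine (Subgroup.zpowers_le.2 (mem_of_zpow_mem hp _ hδ'p ?_ hne1)) (h' g).2
      rw [show δ' ^ i = tw A ξ g₀ from hi]
      exact hξδ g₀
    by_cases h : stab A ν₀ = stab A κ
    · exact key μ₀ hμ₀ (fun h' => hne₀ (h'.trans h.symm)) fun g => (hδ₀ g).2
    · exact key ν₀ hν₀ h fun g => (hδ₀ g).1
  let Z := Subgroup.center G
  have hZA : Z ≤ A := fun z hz => hself z fun a _ => ((Subgroup.mem_center_iff.1 hz) a).symm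
  have hker : ∀ a : A, δ a = 1 → (a : G) ∈ Z := by
    intro a ha
    refine Subgroup.mem_center_iff.2 fun g => conj_eq_of_forall hab ?_
    intro κ
    obtain ⟨i, hi⟩ := hdir κ g
    have h1 := DFunLike.congr_fun hi a
    simp only [MonoidHom.zpow_apply, ha, one_zpow] at h1
    rw [tw_apply] at h1
    exact div_eq_one.1 h1.symm
  obtain ⟨a₀, ha₀⟩ : ∃ a₀ : A, δ a₀ ≠ 1 := by
    by_contra hall
    push Not at hall
    refine hν₀ (top_le_iff.1 fun g _ => mem_stab.2 fun n => ?_)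
    congr 1
    apply Subtype.ext
    show g * (n : G) * g⁻¹ = n
    rw [Subgroup.mem_center_iff.1 (hker n (hall n)) g, mul_inv_cancel_right]
  have hroot : ∀ a : A, δ a ^ p = 1 := fun a => by
    rw [← MonoidHom.pow_apply, hδp, MonoidHom.one_apply]
  have hgen : ∀ a ∈ A, ∃ i : ℤ, (a₀ : G) ^ (-i) * a ∈ Z := by
    intro a ha
    have hprim : IsPrimitiveRoot (δ a₀) p := by
      rw [← orderOf_eq_prime (hroot a₀) ha₀]
      exact IsPrimitiveRoot.orderOf _
    obtain ⟨i, -, hi⟩ := (IsPrimitiveRoot.coe_units_iff.2 hprim).eq_pow_of_pow_eq_one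
      (ξ := (δ ⟨a, ha⟩ : ℂ)) (by rw [← Units.val_pow_eq_pow_val, hroot, Units.val_one])
    refine ⟨i, ?_⟩
    have := hker (a₀ ^ (-(i : ℤ)) * ⟨a, ha⟩) (by
      rw [map_mul, map_zpow, zpow_neg, zpow_natCast, inv_mul_eq_one]
      exact Units.ext (by rw [Units.val_pow_eq_pow_val, hi]))
    simpa using this
  have ha₀p : (a₀ : G) ^ p ∈ Z := by
    have := hker (a₀ ^ p) (by rw [map_pow, hroot])
    simpa using this
  have hC : ∀ g : G, g * a₀ = a₀ * g → g ∈ A := by
    intro g hg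
    refine hself g fun a ha => ?_
    obtain ⟨i, hi⟩ := hgen a ha
    have h1 : Commute g ((a₀ : G) ^ i) := (show Commute g (a₀ : G) from hg).zpow_right i
    have h2 : Commute g ((a₀ : G) ^ (-i) * a) := Subgroup.mem_center_iff.1 hi g
    have := (h1.mul_right h2).eq
    rwa [zpow_neg, mul_inv_cancel_left] at this
  -- the index of the centre
  have hQ : IsPGroup p (G ⧸ A) := fun x => by
    obtain ⟨g, rfl⟩ := QuotientGroup.mk_surjective x
    refine ⟨1, ?_⟩
    rw [pow_one, ← QuotientGroup.mk_pow, QuotientGroup.eq_one_iff]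
    refine hfixA (Subgroup.zpowers (g ^ p)) (fun φ => Subgroup.zpowers_le.2 ?_)
      (Subgroup.mem_zpowers _)
    by_cases h : stab A φ = ⊤
    · rw [h]; exact Subgroup.mem_top _
    · haveI := stab_normal hcd (stab_index hp hcd h)
      rw [← stab_index hp hcd h]
      exact (stab A φ).pow_index_mem g
  obtain ⟨r, hr⟩ := IsPGroup.iff_card.1 hQ
  rw [← Subgroup.index_eq_card] at hr
  have hZidx : Z.index = p * p ^ r := by
    rw [← Subgroup.relIndex_mul_index hZA, hr]
    congr 1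
    have hk : Z.subgroupOf A = δ.ker := by
      refine le_antisymm (fun a ha => ?_) fun a ha => hker a ha
      by_contra hne
      rw [MonoidHom.mem_ker] at hne
      have hf : ∀ g, g ∈ stab A ν₀ := by
        intro g
        rw [← tw_eq_one_iff]
        obtain ⟨i, hi⟩ := hdir ν₀ g
        have h1 := DFunLike.congr_fun hi a
        have hconj : (⟨g * a * g⁻¹, hAn.conj_mem a a.2 g⟩ : A) = a := Subtype.ext (by
          show g * (a : G) * g⁻¹ = a
          rw [Subgroup.mem_center_iff.1 (Subgroup.mem_subgroupOf.1 ha) g, mul_inv_cancel_right])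
        rw [tw_apply, hconj, div_self'] at h1
        have hord : orderOf (δ a) = p := orderOf_eq_prime (hroot a) hne
        have hpi : (p : ℤ) ∣ i := hord ▸ orderOf_dvd_iff_zpow_eq_one.2 h1
        obtain ⟨q, rfl⟩ := hpi
        rw [← (show δ ^ ((p : ℤ) * q) = _ from hi)]
        ext n
        rw [MonoidHom.zpow_apply, zpow_mul, zpow_natCast, hroot, one_zpow, MonoidHom.one_apply]
      exact hν₀ (top_le_iff.1 fun g _ => hf g)
    show (Z.subgroupOf A).index = p
    rw [hk, Subgroup.index_ker]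
    have hrange : δ.range = Subgroup.zpowers (δ a₀) := by
      refine le_antisymm ?_ (Subgroup.zpowers_le.2 ⟨a₀, rfl⟩)
      rintro x ⟨a, rfl⟩
      obtain ⟨i, hi⟩ := hgen a a.2
      refine ⟨i, ?_⟩
      have : a₀ ^ (-i) * a ∈ δ.ker := hk ▸ (show (a₀ ^ (-i) * a) ∈ Z.subgroupOf A by
        rw [Subgroup.mem_subgroupOf]; simpa using hi)
      rw [MonoidHom.mem_ker, map_mul, map_zpow, zpow_neg, inv_mul_eq_one] at this
      exact this
    rw [hrange, Nat.card_zpowers, orderOf_eq_prime (hroot a₀) ha₀]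
  rcases Nat.lt_or_ge r 3 with hr3 | hr3
  · interval_cases r
    · exact absurd (Subgroup.index_eq_one.1 (by rw [hr, pow_zero])) hnab
    · exact Or.inl ⟨A, hAn, hab, by rw [hr, pow_one]⟩
    · exact Or.inr (by show Z.index = p ^ 3; rw [hZidx]; ring)
  left
  -- the commutators with `a₀` are central
  let d : G → G := fun g => ⁅g, (a₀ : G)⁆
  have hdA : ∀ g h : G, ⁅g, h⁆ ∈ A := fun g h =>
    hAder (Subgroup.commutator_mem_commutator (Subgroup.mem_top g) (Subgroup.mem_top h))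
  have hdexp : ∀ g : G, d g ^ p = 1 := by
    intro g
    have e : (g * a₀ * g⁻¹ : G) ^ p = (a₀ : G) ^ p := by
      rw [conj_pow, Subgroup.mem_center_iff.1 ha₀p g, mul_inv_cancel_right]
    have hc : Commute (g * a₀ * g⁻¹ : G) ((a₀ : G))⁻¹ :=
      hab _ (hAn.conj_mem _ a₀.2 g) _ (inv_mem a₀.2)
    show (g * a₀ * g⁻¹ * (a₀ : G)⁻¹) ^ p = 1
    rw [hc.mul_pow, e, inv_pow, mul_inv_cancel]
  have hdinj : ∀ g h : G, d g = d h → (g⁻¹ * h) ∈ A := by
    intro g h hgh
    refine hC _ ?_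
    have : g * a₀ * g⁻¹ = h * a₀ * h⁻¹ := mul_right_cancel hgh
    calc g⁻¹ * h * a₀ = g⁻¹ * (h * a₀ * h⁻¹) * h := by group
      _ = g⁻¹ * (g * a₀ * g⁻¹) * h := by rw [this]
      _ = a₀ * (g⁻¹ * h) := by group
  have hbigcard : ∀ S : Finset G, S.card ≤ p ^ 2 → ∃ g : G, d g ∉ S := by
    intro S hS
    by_contra hall
    push Not at hall
    let f : G ⧸ A → S := fun x => ⟨d x.out, hall _⟩
    have hinj : Function.Injective f := by
      intro x y hxy
      have := hdinj _ _ (congrArg Subtype.val hxy)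
      rw [← QuotientGroup.out_eq' x, ← QuotientGroup.out_eq' y]
      exact QuotientGroup.eq.2 this
    have h1 := Nat.card_le_card_of_injective f hinj
    rw [← Subgroup.index_eq_card, hr, Nat.card_eq_finsetCard] at h1
    have : p ^ 2 < p ^ r := Nat.pow_lt_pow_right hp.one_lt (by omega)
    omega
  have hdc : ∀ g : G, d g ∈ Z := by
    intro g
    by_contra hg
    have hgA : d g ∈ A := hdA _ _
    obtain ⟨i, hi⟩ := hgen _ hgA
    have hpi : ¬ (p : ℤ) ∣ i := by
      rintro ⟨q, rfl⟩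
      apply hg
      have : (a₀ : G) ^ ((p : ℤ) * q) ∈ Z := by
        rw [zpow_mul, zpow_natCast]; exact zpow_mem ha₀p q
      have := mul_mem this hi
      rwa [zpow_neg, mul_inv_cancel_left] at this
    let S := (Finset.range p).image fun k : ℕ => d g ^ k
    obtain ⟨h, hh⟩ := hbigcard S (le_trans Finset.card_image_le (by
      rw [Finset.card_range, sq]; exact Nat.le_mul_self p))
    -- `[g, d h] = [h, d g]`
    have hconjA : ∀ x : G, x ∈ A → ∀ a ∈ A, x * a * x⁻¹ = a := fun x hx a ha => by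
      rw [hab x hx a ha, mul_inv_cancel_right]
    have e : (g * h) * a₀ * (g * h)⁻¹ = (h * g) * a₀ * (h * g)⁻¹ := by
      have h1 : ⁅g, h⁆ * (h * g * a₀ * (h * g)⁻¹) * ⁅g, h⁆⁻¹ = h * g * a₀ * (h * g)⁻¹ :=
        hconjA _ (hdA g h) _ (hAn.conj_mem _ a₀.2 _)
      rw [← h1]
      simp only [commutatorElement_def]
      group
    have hcc : ∀ x : G, ∀ k : ℤ, (x * (a₀ : G) ^ k * x⁻¹) = d x ^ k * (a₀ : G) ^ k := by
      intro x k
      have hc : Commute (d x) (a₀ : G) := hab _ (hdA _ _) _ a₀.2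
      rw [← hc.mul_zpow, ← conj_zpow]
      congr 1
      show _ = x * a₀ * x⁻¹ * (a₀ : G)⁻¹ * a₀
      group
    have hexpand : ∀ x y : G, ∀ k : ℤ, (a₀ : G) ^ (-k) * d y ∈ Z →
        x * y * a₀ * (x * y)⁻¹ = d x ^ k * (d y * (d x * a₀)) := by
      intro x y k hz
      have e1 : x * d y * x⁻¹ = d x ^ k * d y := by
        have hz' := Subgroup.mem_center_iff.1 hz x
        calc x * d y * x⁻¹ = x * (a₀ : G) ^ k * x⁻¹ * (x * ((a₀ : G) ^ (-k) * d y) * x⁻¹) := by
              group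
          _ = d x ^ k * (a₀ : G) ^ k * ((a₀ : G) ^ (-k) * d y) := by
              rw [hz', mul_inv_cancel_right, hcc]
          _ = d x ^ k * d y := by group
      calc x * y * a₀ * (x * y)⁻¹ = (x * d y * x⁻¹) * (x * a₀ * x⁻¹) := by
            show _ = x * (y * a₀ * y⁻¹ * (a₀ : G)⁻¹) * x⁻¹ * _
            group
        _ = d x ^ k * (d y * (d x * a₀)) := by
            rw [e1, mul_assoc]
            congr 2
            show _ = x * a₀ * x⁻¹ * (a₀ : G)⁻¹ * a₀
            group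
    obtain ⟨j, hj⟩ := hgen _ (hdA h (a₀ : G))
    rw [hexpand g h j hj, hexpand h g i hi, ← mul_assoc (d h) (d g),
      hab _ (hdA h a₀) _ (hdA g a₀), ← mul_assoc (d g) (d h)] at e
    have e2 : d g ^ j = d h ^ i := mul_right_cancel e
    apply hh
    have hmem : d h ∈ Subgroup.zpowers (d g) := by
      refine mem_of_zpow_mem hp _ (hdexp h) (c := i) ?_ ?_
      · exact ⟨j, e2⟩
      · intro h1
        apply hh
        have hord : orderOf (d h) ∣ p := orderOf_dvd_of_pow_eq_one (hdexp h)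
        rcases (Nat.dvd_prime hp).1 hord with ho | ho
        · rw [orderOf_eq_one_iff.1 ho]
          exact Finset.mem_image.2 ⟨0, Finset.mem_range.2 hp.pos, pow_zero _⟩
        · exact absurd (ho ▸ orderOf_dvd_iff_zpow_eq_one.2 h1) hpi
    obtain ⟨k, hk⟩ := mem_powers_iff_mem_zpowers.2 hmem
    exact Finset.mem_image.2 ⟨k % p, Finset.mem_range.2 (Nat.mod_lt _ hp.pos), by
      rw [← hk, ← pow_eq_pow_mod k (hdexp g)]⟩
  have hbig : ∀ u t : G, ∃ t' : G, ¬ InPair (d u) (d t) (d t') := by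
    intro u t
    obtain ⟨t', ht'⟩ := hbigcard
      ((Finset.range p ×ˢ Finset.range p).image fun k => d u ^ k.1 * d t ^ k.2)
      (le_trans Finset.card_image_le (by simp [sq]))
    refine ⟨t', fun ⟨i, j, hij⟩ => ht' (Finset.mem_image.2
      ⟨((i % p).toNat, (j % p).toNat), ?_, ?_⟩)⟩
    · have hp0 : (0 : ℤ) < p := by exact_mod_cast hp.pos
      have a1 := Int.emod_nonneg i hp0.ne'
      have a2 := Int.emod_lt_of_pos i hp0
      have b1 := Int.emod_nonneg j hp0.ne'
      have b2 := Int.emod_lt_of_pos j hp0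
      rw [Finset.mem_product, Finset.mem_range, Finset.mem_range]
      omega
    · have hmod : ∀ (x : G) (n : ℤ), d x ^ (n % p).toNat = d x ^ n := by
        intro x n
        rw [← zpow_natCast, Int.toNat_of_nonneg (Int.emod_nonneg n (by exact_mod_cast hp.ne_zero))]
        conv_rhs => rw [← Int.emod_add_mul_ediv n p, zpow_add, zpow_mul, zpow_natCast, hdexp,
          one_zpow, mul_one]
      rw [hmod, hmod, hij]
  refine exists_index_prime hp A hab a₀ a₀.2 hdA hC hgen hdc hdexp hbig fun s t => ?_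
  -- the span condition by duality
  letI : CommGroup A := { (inferInstance : Group A) with
    mul_comm := fun a b => Subtype.ext (hab _ a.2 _ b.2) }
  let ds : A := ⟨d s, hdA _ _⟩
  let dt : A := ⟨d t, hdA _ _⟩
  suffices h : (⟨⁅s, t⁆, hdA s t⟩ : A) ∈ Subgroup.closure ({ds, dt} : Set A) by
    obtain ⟨i, j, hij⟩ := Subgroup.mem_closure_pair.1 h
    exact ⟨i, j, by simpa [ds, dt] using (congrArg Subtype.val hij).symm⟩
  refine mem_of_forall_hom _ fun φ hφ => ?_
  have hd' : ∀ κ : A →* ℂˣ, ∀ g : G, κ ⟨d g, hdA _ _⟩ = 1 → g ∈ stab A κ := by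
    intro κ g hg
    refine mem_stab.2 fun n => ?_
    obtain ⟨i, hi⟩ := hgen _ n.2
    have e : (⟨g * n * g⁻¹, hAn.conj_mem n n.2 g⟩ : A) = (⟨d g, hdA _ _⟩ : A) ^ i * n := by
      apply Subtype.ext
      show g * (n : G) * g⁻¹ = _
      simp only [Subgroup.coe_mul, SubgroupClass.coe_zpow]
      show g * (n : G) * g⁻¹ = (g * a₀ * g⁻¹ * (a₀ : G)⁻¹) ^ i * n
      have hc : Commute (g * a₀ * g⁻¹ : G) ((a₀ : G))⁻¹ :=
        hab _ (hAn.conj_mem _ a₀.2 g) _ (inv_mem a₀.2)
      rw [hc.mul_zpow, conj_zpow, inv_zpow', mul_assoc (g * _ * g⁻¹)]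
      have hz := Subgroup.mem_center_iff.1 hi g
      calc g * (n : G) * g⁻¹ = g * (a₀ : G) ^ i * g⁻¹ * (g * ((a₀ : G) ^ (-i) * n) * g⁻¹) := by
            group
        _ = _ := by rw [hz, mul_inv_cancel_right]
    rw [e, map_mul, map_zpow, hg, one_zpow, one_mul]
  have hkill : ∀ κ : A →* ℂˣ, stab A κ ≠ ⊤ → κ ds = 1 → κ dt = 1 →
      κ ⟨⁅s, t⁆, hdA s t⟩ = 1 := fun κ hκ h1 h2 =>
    moving_apply_commutator hp hcd hκ (hd' κ s h1) (hd' κ t h2) _
  have h1 : φ ds = 1 := hφ _ (Subgroup.subset_closure (by simp))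
  have h2 : φ dt = 1 := hφ _ (Subgroup.subset_closure (by simp))
  by_cases hmov : stab A φ = ⊤
  swap
  · exact hkill φ hmov h1 h2
  obtain ⟨t', ht'⟩ := hbig s t
  obtain ⟨κ, hκS, hκ⟩ : ∃ κ : A →* ℂˣ, (∀ x ∈ Subgroup.closure ({ds, dt} : Set A), κ x = 1) ∧
      κ ⟨d t', hdA _ _⟩ ≠ 1 := by
    by_contra hall
    push Not at hall
    obtain ⟨i, j, hij⟩ := Subgroup.mem_closure_pair.1 (mem_of_forall_hom _ fun κ hκ =>
      hall κ hκ : (⟨d t', hdA _ _⟩ : A) ∈ Subgroup.closure ({ds, dt} : Set A))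
    exact ht' ⟨i, j, by simpa [ds, dt] using (congrArg Subtype.val hij).symm⟩
  have hconj' : ∀ χ : A →* ℂˣ, t' ∈ stab A χ → χ ⟨d t', hdA _ _⟩ = 1 := by
    intro χ h
    have h1 := mem_stab.1 h a₀
    have e : (⟨d t', hdA _ _⟩ : A) = ⟨t' * a₀ * t'⁻¹, hAn.conj_mem _ a₀.2 t'⟩ * a₀⁻¹ := rfl
    rw [e, map_mul, map_inv, h1, mul_inv_cancel]
  have hk1 : stab A κ ≠ ⊤ := fun h => hκ (hconj' κ (by rw [h]; exact Subgroup.mem_top t'))
  have hk2 : stab A (φ * κ) ≠ ⊤ := fun h => hκ (by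
    have h3 := hconj' (φ * κ) (by rw [h]; exact Subgroup.mem_top t')
    rwa [MonoidHom.mul_apply, hconj' φ (by rw [hmov]; exact Subgroup.mem_top t'), one_mul] at h3)
  have e1 := hkill κ hk1 (hκS _ (Subgroup.subset_closure (by simp)))
    (hκS _ (Subgroup.subset_closure (by simp)))
  have e2 := hkill (φ * κ) hk2 (by
      rw [MonoidHom.mul_apply, h1, hκS _ (Subgroup.subset_closure (by simp)), one_mul]) (by
      rw [MonoidHom.mul_apply, h2, hκS _ (Subgroup.subset_closure (by simp)), one_mul])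
  rwa [MonoidHom.mul_apply, e1, mul_one] at e2

end degprime

end Cfsg.Agent.Chars.TwoDeg
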