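import Cfsg.Agent.OddChar.GaloisAut
import Mathlib.FieldTheory.Galois.Infinite

/-!
# Galois action on character values
-/

set_option autoImplicit false
set_option linter.style.haveILetI false

open Cfsg

namespace Cfsg.Agent.Chars

/-- An algebraic integer fixed by every automorphism of `ℂ` is an integer. -/
theorem exists_int_of_fixed {x : ℂ} (hx : IsIntegral ℤ x) (h : ∀ σ : ℂ ≃+* ℂ, σ x = x) :
    ∃ z : ℤ, x = z := by
  let L := algebraicClosure ℚ ℂ
  haveI : IsAlgClosure ℚ L := algebraicClosure.isAlgClosure ℚ ℂ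
  haveI : Normal ℚ L := IsAlgClosure.normal ℚ L
  haveI : IsGalois ℚ L := { }
  let y : L := ⟨x, mem_algebraicClosure_iff.mpr hx.tower_top.isAlgebraic⟩
  have hy : ∀ τ : L ≃ₐ[ℚ] L, τ y = y := by
    intro τ
    obtain ⟨σ, hσ⟩ := OddChar.exists_extend_aut τ.toRingEquiv
    exact Subtype.ext ((hσ y).symm.trans (h σ))
  obtain ⟨q, hq⟩ := (InfiniteGalois.mem_range_algebraMap_iff_fixed y).mpr hy
  have hq' : algebraMap ℚ ℂ q = x := congrArg Subtype.val hq
  obtain ⟨z, hz⟩ := IsIntegrallyClosed.isIntegral_iff.mp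
    ((isIntegral_algebraMap_iff (algebraMap ℚ ℂ).injective).mp (hq' ▸ hx))
  exact ⟨z, by rw [← hq', ← hz]; simp⟩

variable {G : Type*} [Group G] [Finite G]

/-- Any automorphism of `ℂ` acts on all character values as one coprime power map of the group. -/
theorem exists_aut_apply (σ : ℂ ≃+* ℂ) : ∃ k : ℕ, k.Coprime (Nat.card G) ∧
    ∀ χ : G → ℂ, IsCharacter G χ → ∀ g : G, σ (χ g) = χ (g ^ k) := by
  have hN : Nat.card G ≠ 0 := Nat.card_pos.ne'
  haveI : NeZero (Nat.card G) := ⟨hN⟩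
  have hω := Complex.isPrimitiveRoot_exp (Nat.card G) hN
  set ω := Complex.exp (2 * Real.pi * Complex.I / (Nat.card G : ℕ))
  obtain ⟨k, -, hk, hk2⟩ := (hω.isPrimitiveRoot_iff).1
    (hω.map_of_injective (f := σ) σ.injective)
  refine ⟨k, hk, fun χ hχ g => ?_⟩
  obtain ⟨n, ρ, rfl⟩ := hχ
  obtain ⟨z, hz, hc, -, -⟩ := exists_eigenvalues ρ g
  rw [show ρ.character g = ∑ i, z i by simpa using hc 1, hc k, map_sum]
  refine Finset.sum_congr rfl fun i _ => ?_
  have hzN : z i ^ Nat.card G = 1 := by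
    obtain ⟨c, hc⟩ := orderOf_dvd_natCard g
    rw [hc, pow_mul, hz i, one_pow]
  obtain ⟨j, -, hj⟩ := hω.eq_pow_of_pow_eq_one hzN
  rw [← hj, map_pow, ← hk2, ← pow_mul, ← pow_mul, mul_comm]

/-- Coprime power maps are realised by automorphisms of `ℂ`. -/
theorem exists_aut_of_coprime {k : ℕ} (hk : k.Coprime (Nat.card G)) :
    ∃ σ : ℂ ≃+* ℂ, ∀ χ : G → ℂ, IsCharacter G χ → ∀ g : G, σ (χ g) = χ (g ^ k) := by
  obtain ⟨σ, hσ⟩ := OddChar.exists_aut_pow (Nat.card_pos (α := G)).ne' hk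
  refine ⟨σ, fun χ hχ g => ?_⟩
  obtain ⟨n, ρ, rfl⟩ := hχ
  obtain ⟨z, hz, hc, -, -⟩ := exists_eigenvalues ρ g
  rw [show ρ.character g = ∑ i, z i by simpa using hc 1, hc k, map_sum]
  refine Finset.sum_congr rfl fun i _ => hσ _ ?_
  obtain ⟨c, hc⟩ := orderOf_dvd_natCard g
  rw [hc, pow_mul, hz i, one_pow]

end Cfsg.Agent.Chars
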