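import Cfsg.Agent.Chars.Induced
import Mathlib.GroupTheory.Subgroup.Centralizer
import Mathlib.Tactic.Group
import Mathlib.Algebra.Group.Pointwise.Set.Basic

/-!
# A normal subgroup with a fixed point free complement
-/

set_option autoImplicit false
set_option linter.style.haveILetI false

open Cfsg

namespace Cfsg.Agent.Chars

variable {G : Type*} [Group G] [Finite G] {K H : Subgroup G} [hK : K.Normal]

/-- Every element of `K h` is a `K`-conjugate of `h`. -/
theorem fpf_exists_conj (hfpf : ∀ h ∈ H, h ≠ 1 → ∀ k ∈ K, h * k = k * h → k = 1) {h : G}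
    (hh : h ∈ H) (h1 : h ≠ 1) {k : G} (hk : k ∈ K) : ∃ a ∈ K, a * h * a⁻¹ = k * h := by
  have hmem : ∀ a : K, (a : G) * h * (a : G)⁻¹ * h⁻¹ ∈ K := fun a => by
    rw [show (a : G) * h * (a : G)⁻¹ * h⁻¹ = a * (h * (a : G)⁻¹ * h⁻¹) by group]
    exact K.mul_mem a.2 (hK.conj_mem _ (K.inv_mem a.2) h)
  let f : K → K := fun a => ⟨_, hmem a⟩
  have hinj : Function.Injective f := by
    intro a b hab
    have e : (a : G) * h * (a : G)⁻¹ = b * h * (b : G)⁻¹ :=
      mul_right_cancel (congrArg Subtype.val hab)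
    have := hfpf h hh h1 ((b : G)⁻¹ * a) (K.mul_mem (K.inv_mem b.2) a.2) (by
      calc h * ((b : G)⁻¹ * a) = (b : G)⁻¹ * ((b : G) * h * (b : G)⁻¹) * a := by group
        _ = (b : G)⁻¹ * ((a : G) * h * (a : G)⁻¹) * a := by rw [e]
        _ = (b : G)⁻¹ * a * h := by group)
    exact Subtype.ext (inv_mul_eq_one.1 this).symm
  obtain ⟨a, ha⟩ := (Finite.injective_iff_surjective.1 hinj) ⟨k, hk⟩
  refine ⟨a, a.2, ?_⟩
  have e : (a : G) * h * (a : G)⁻¹ * h⁻¹ = k := congrArg Subtype.val ha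
  rw [← e]; group

/-- The centralizer of a nontrivial element of the kernel lies in the kernel. -/
theorem fpf_centralizer_le (hKH' : K ⊔ H = ⊤)
    (hfpf : ∀ h ∈ H, h ≠ 1 → ∀ k ∈ K, h * k = k * h → k = 1) :
    ∀ k ∈ K, k ≠ 1 → Subgroup.centralizer ({k} : Set G) ≤ K := by
  intro k hk hk1 x hx
  rw [Subgroup.mem_centralizer_singleton_iff] at hx
  obtain ⟨k₀, hk₀, h, hh, rfl⟩ := Subgroup.mem_sup_of_normal_left.1
    (show x ∈ K ⊔ H from hKH'.symm ▸ Subgroup.mem_top x)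
  by_contra hne
  have h1 : h ≠ 1 := fun e => hne (by rw [e, mul_one]; exact hk₀)
  obtain ⟨a, ha, he⟩ := fpf_exists_conj hfpf hh h1 hk₀
  have := hfpf h hh h1 (a⁻¹ * k * a) (by simpa using hK.conj_mem k hk a⁻¹) (by
    calc h * (a⁻¹ * k * a) = a⁻¹ * ((a * h * a⁻¹) * k) * a := by group
      _ = a⁻¹ * (k * (a * h * a⁻¹)) * a := by rw [he, hx]
      _ = a⁻¹ * k * a * h := by group)
  exact hk1 (by simpa [mul_assoc] using congrArg (fun t => a * t * a⁻¹) this)

end Cfsg.Agent.Chars
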