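import Cfsg.Agent.S1473
import Cfsg.Agent.S1479
import Cfsg.Agent.S1484
import Cfsg.Agent.Chars.FrobeniusPair

/-!
# Odd order groups with nilpotent centralisers: reduction to the final counting argument
-/

set_option autoImplicit false
set_option linter.style.haveILetI false

open Cfsg

namespace Cfsg.Agent.Chars

universe u

/-- A configuration of trivial intersection Frobenius subgroups covering the group. -/
def CoveringSystem (G : Type u) [Group G] : Prop :=
  ∃ (k : ℕ) (L H : Fin k → Subgroup G), 2 ≤ k ∧ (∀ i, H i < L i) ∧ (∀ i, H i ≠ ⊥) ∧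
    (∀ i, ∀ x ∈ L i, ∀ h ∈ H i, x * h * x⁻¹ ∈ H i) ∧
    (∀ i, ∀ h ∈ H i, h ≠ 1 → L i ⊓ Subgroup.centralizer ({h} : Set G) ≤ H i) ∧
    (∀ i j, i ≠ j → Nat.Coprime (Nat.card (H i)) (Nat.card (H j))) ∧
    (∀ i, IsTISubset (H i : Set G) ∧ Subgroup.normalizer (H i : Set G) = L i) ∧
    ∀ g : G, g ≠ 1 → ∃ i, ∃ x : G, x * g * x⁻¹ ∈ H i

/-- A minimal simple group of odd order with nilpotent centralisers yields a covering system. -/
theorem exists_coveringSystem {G : Type u} [Group G] [Finite G] (hG : IsMinSimpleOddOrder G)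
    (hCN : IsCNGroup G) : CoveringSystem G := by
  classical
  letI s : Setoid {M : Subgroup G // IsCoatom M} :=
    { r := fun A B => ∃ g : G, B.1 = A.1.map (MulAut.conj g).toMonoidHom
      iseqv :=
        { refl := fun A => ⟨1, by ext x; simp⟩
          symm := fun {A B} ⟨g, hg⟩ => ⟨g⁻¹, by
            rw [hg, Subgroup.map_map]
            ext x; simp [mul_assoc]⟩
          trans := fun {A B C} ⟨g, hg⟩ ⟨h, hh⟩ => ⟨h * g, by
            rw [hh, hg, Subgroup.map_map]
            ext x; simp [mul_assoc]⟩ } }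
  haveI : Finite (Quotient s) := Finite.of_surjective _ Quotient.mk_surjective
  let e := (Finite.equivFin (Quotient s)).symm
  let Mrep : Fin (Nat.card (Quotient s)) → Subgroup G := fun i => (e i).out.1
  have hmax : ∀ i, IsCoatom (Mrep i) := fun i => (e i).out.2
  have hnc : ∀ i j, i ≠ j → ∀ g : G, Mrep j ≠ (Mrep i).map (MulAut.conj g).toMonoidHom := by
    intro i j hij g hg
    apply hij
    apply e.injective
    rw [← Quotient.out_eq (e i), ← Quotient.out_eq (e j)]
    exact Quotient.sound ⟨g, hg⟩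
  have hall : ∀ M : Subgroup G, IsCoatom M → ∃ i, ∃ g : G, M = (Mrep i).map (MulAut.conj g).toMonoidHom := by
    intro M hM
    refine ⟨e.symm (Quotient.mk s ⟨M, hM⟩), ?_⟩
    have h : (Quotient.mk s ⟨M, hM⟩).out ≈ (⟨M, hM⟩ : {M : Subgroup G // IsCoatom M}) :=
      Quotient.mk_out _
    obtain ⟨g, hg⟩ := h
    refine ⟨g, ?_⟩
    show M = ((e (e.symm (Quotient.mk s ⟨M, hM⟩))).out).1.map _
    rw [Equiv.apply_symm_apply]
    exact hg
  obtain ⟨hcop, hprod, hmem⟩ := S1484.result hG hCN _ Mrep hmax hnc hall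
  have hrep : ∀ i, OddLocal.CN.IsMaxNilp (fittingHallOf (Mrep i)) ∧
      Subgroup.normalizer (fittingHallOf (Mrep i) : Set G) = Mrep i := by
    intro i
    obtain ⟨p, hp, P, hd, hM⟩ := OddLocal.CN.exists_eq_normalizer_sylow hG hCN (hmax i)
    have h1 : fittingHallOf (Mrep i) = OddLocal.CN.kernel P := by rw [hM]; rfl
    rw [h1, hM]
    exact ⟨OddLocal.CN.kernel_isMaxNilp hG hCN P hd, OddLocal.CN.normalizer_kernel P⟩
  have hdata : ∀ i, fittingHallOf (Mrep i) < Mrep i ∧
      ∀ h ∈ fittingHallOf (Mrep i), h ≠ 1 →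
        Mrep i ⊓ Subgroup.centralizer ({h} : Set G) ≤ fittingHallOf (Mrep i) := by
    intro i
    obtain ⟨hH, hN⟩ := hrep i
    obtain ⟨-, -, -, E, hE, hE1, hfpf⟩ := (S1479.result hG hCN).1 (fittingHallOf (Mrep i)) hH.1
      (fun L hL hle => (hH.2 L hL hle).symm ▸ rfl)
    rw [hN] at hE
    obtain ⟨hle, hEle, hdisj, hmul⟩ := hE
    refine ⟨lt_of_le_of_ne hle fun he => hE1 ?_, fun h hh h1 x ⟨hx, hxc⟩ => ?_⟩
    · rw [← hdisj, he, inf_eq_right.2 hEle]
    haveI : ((fittingHallOf (Mrep i)).subgroupOf (Mrep i)).Normal :=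
      ⟨fun n hn m => by
        rw [Subgroup.mem_subgroupOf] at hn ⊢
        have hm : (m : G) ∈ Subgroup.normalizer (fittingHallOf (Mrep i) : Set G) := hN.symm ▸ m.2
        exact (Subgroup.mem_normalizer_iff.1 hm _).1 hn⟩
    have hkh := fpf_centralizer_le (K := (fittingHallOf (Mrep i)).subgroupOf (Mrep i))
      (H := E.subgroupOf (Mrep i))
      (eq_top_iff.2 fun m _ => by
        obtain ⟨a, ha, b, hb, hab⟩ := hmul m.1 m.2
        exact Subgroup.mem_sup_of_normal_left.2
          ⟨⟨a, hle ha⟩, Subgroup.mem_subgroupOf.2 ha, ⟨b, hEle hb⟩, Subgroup.mem_subgroupOf.2 hb,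
            Subtype.ext hab.symm⟩)
      (fun u hu hu1 k hk hc => Subtype.ext (by
        have := hfpf u.1 (Subgroup.mem_subgroupOf.1 hu) (fun h' => hu1 (Subtype.ext h'))
        show ((k : Mrep i) : G) = 1
        rw [← Subgroup.mem_bot, ← this]
        exact ⟨Subgroup.mem_subgroupOf.1 hk, Subgroup.mem_centralizer_singleton_iff.2
          (congrArg Subtype.val hc).symm⟩))
      ⟨h, hle hh⟩ (Subgroup.mem_subgroupOf.2 hh) (fun e => h1 (congrArg Subtype.val e))
      (show (⟨x, hx⟩ : Mrep i) ∈ _ from Subgroup.mem_centralizer_singleton_iff.2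
        (Subtype.ext (Subgroup.mem_centralizer_singleton_iff.1 hxc)))
    exact Subgroup.mem_subgroupOf.1 hkh
  have hne : ∀ i, fittingHallOf (Mrep i) ≠ ⊥ := fun i h =>
    OddLocal.CN.isMaxNilp_ne_bot hG (hrep i).1 (by rw [h, Subgroup.card_bot])
  refine ⟨_, Mrep, fun i => fittingHallOf (Mrep i), ?_, fun i => (hdata i).1, hne, ?_,
    fun i => (hdata i).2, hcop, fun i => ⟨?_, (hrep i).2⟩, fun g _ => ?_⟩
  · by_contra hk
    have hpos : 0 < Nat.card (Quotient s) := by
      obtain ⟨i, -⟩ := hmem 1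
      exact i.pos
    have h1 : ∀ i j : Fin (Nat.card (Quotient s)), i = j := fun i j => Fin.ext (by omega)
    let i₀ : Fin (Nat.card (Quotient s)) := ⟨0, hpos⟩
    rw [Finset.prod_eq_single i₀ (fun j _ hj => absurd (h1 j i₀) hj) (by simp)] at hprod
    have := Subgroup.eq_top_of_card_eq _ hprod
    exact (hmax i₀).1 (top_le_iff.1 (this ▸ (hdata i₀).1.le))
  · intro i x hx h hh
    have hm : x ∈ Subgroup.normalizer (fittingHallOf (Mrep i) : Set G) := (hrep i).2.symm ▸ hx
    exact (Subgroup.mem_normalizer_iff.1 hm _).1 hh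
  · intro g hg x hx hgx
    have hti := OddLocal.CN.isMaxNilp_ti hG hCN (hrep i).1 g
      (fun e => hg ((Transfer.mem_normalizer_iff_map_conj).2 e))
    have h2 : g * x * g⁻¹ ∈ fittingHallOf (Mrep i) ⊓
          (fittingHallOf (Mrep i)).map (MulAut.conj g).toMonoidHom := ⟨hgx, ⟨x, hx, rfl⟩⟩
    rw [hti, Subgroup.mem_bot] at h2
    simpa using h2
  · obtain ⟨i, x, hx⟩ := hmem g
    exact ⟨i, x, hx⟩

/-- Odd order groups with nilpotent centralisers are solvable, given the counting argument. -/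
theorem cn_odd_solvable
    (hfinal : ∀ (G : Type u) [Group G] [Finite G], Odd (Nat.card G) → CoveringSystem G → False) :
    ∀ (n : ℕ) (G : Type u) [Group G] [Finite G], Nat.card G = n → Odd (Nat.card G) → IsCNGroup G →
      Group.IsSolvable G := by
  intro n
  induction n using Nat.strong_induction_on with
  | _ n ih =>
  intro G _ _ hn hodd hCN
  by_contra hns
  have hcomm : ¬ IsMulCommutative G := fun h => hns (by
    exact Group.isSolvable_of_comm fun a b => h.1.comm a b)
  haveI : Nontrivial G := by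
    by_contra h
    rw [not_nontrivial_iff_subsingleton] at h
    exact hcomm ⟨⟨fun a b => Subsingleton.elim _ _⟩⟩
  have hsub : ∀ H : Subgroup G, H ≠ ⊤ → Group.IsSolvable H := fun H hH =>
    ih _ (hn ▸ lt_of_le_of_ne (Subgroup.card_le_card_group H)
      fun e => hH (Subgroup.eq_top_of_card_eq H e)) H rfl
      (Odd.of_dvd_nat hodd (Subgroup.card_subgroup_dvd_card H))
      (OddLocal.CN.isCNGroup_subgroup hCN H)
  have hsimple : IsSimpleGroup G := ⟨fun N hN => by
    by_contra hc
    rw [not_or] at hc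
    haveI := hN
    haveI hNs : Group.IsSolvable N := hsub N hc.2
    have hlt : Nat.card (G ⧸ N) < n := by
      have h1 := Subgroup.card_eq_card_quotient_mul_card_subgroup N
      have h2 : 1 < Nat.card N := (Subgroup.one_lt_card_iff_ne_bot N).2 hc.1
      have h3 : 0 < Nat.card (G ⧸ N) := Nat.card_pos
      calc Nat.card (G ⧸ N) < Nat.card (G ⧸ N) * Nat.card N := lt_mul_of_one_lt_right h3 h2
        _ = n := by rw [← h1, hn]
    haveI := ih _ hlt (G ⧸ N) rfl (Odd.of_dvd_nat hodd (Subgroup.card_quotient_dvd_card N))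
      (S1473.result hCN N hNs)
    exact hns (Group.isSolvable_of_ker_le_range N.subtype (QuotientGroup.mk' N) (by simp))⟩
  exact hfinal G hodd (exists_coveringSystem ⟨hodd, hsimple, hcomm, hsub⟩ hCN)

end Cfsg.Agent.Chars
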