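import Cfsg.Agent.Chars.Linear
import Cfsg.Agent.Chars.Eigen
import Cfsg.Agent.Chars2.Correspondence

/-!
Characters of a group above a character of a normal subgroup from the characters of a central
extension of the quotient.
-/

set_option autoImplicit false
set_option linter.style.haveILetI false

namespace Cfsg.Agent.Chars

open Cfsg.Agent

universe u w

variable {G : Type u} [Group G] [Fintype G] {N : Subgroup G} [hNn : N.Normal] [Fintype N]
  {H : Type w} [Group H] [Finite H] (q : H →* G) {d : ℕ}
  (R : Representation ℂ H (Fin d → ℂ)) (b : N →* H) [hb : b.range.Normal]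

/-- The projection of the central extension of the quotient. -/
def coverProj (hqb : ∀ n : N, q (b n) = (n : G)) : H ⧸ b.range →* G ⧸ N :=
  QuotientGroup.lift b.range ((QuotientGroup.mk' N).comp q) (by
    rintro _ ⟨n, rfl⟩
    refine (QuotientGroup.eq_one_iff _).2 ?_
    rw [hqb]
    exact n.2)

omit [Fintype G] [Fintype N] [Finite H] in
theorem coverProj_mk (hqb : ∀ n : N, q (b n) = (n : G)) (x : H) :
    coverProj q b hqb (QuotientGroup.mk' b.range x) = QuotientGroup.mk' N (q x) := rfl

omit [Fintype G] [Fintype N] [Finite H] in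
theorem mem_coverKer_iff (hqb : ∀ n : N, q (b n) = (n : G)) (x : H) :
    QuotientGroup.mk' b.range x ∈ (coverProj q b hqb).ker ↔ q x ∈ N := by
  rw [MonoidHom.mem_ker, coverProj_mk]
  exact QuotientGroup.eq_one_iff _

omit [Fintype G] [Fintype N] [Finite H] in
/-- Each element of the kernel comes from the kernel of `q`. -/
theorem exists_mem_ker (hqb : ∀ n : N, q (b n) = (n : G)) (x : H) (hx : q x ∈ N) :
    ∃ z ∈ q.ker, ∃ n : N, x = z * b n := by
  refine ⟨x * (b ⟨q x, hx⟩)⁻¹, ?_, ⟨q x, hx⟩, by group⟩
  rw [MonoidHom.mem_ker, map_mul, map_inv, hqb, mul_inv_cancel]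

/-- The kernel of the projection is the image of the kernel of `q`. -/
def kerImage (hqb : ∀ n : N, q (b n) = (n : G)) : q.ker →* (coverProj q b hqb).ker where
  toFun z := ⟨QuotientGroup.mk' b.range z, (mem_coverKer_iff q b hqb _).2 (by
    rw [MonoidHom.mem_ker.1 z.2]; exact N.one_mem)⟩
  map_one' := Subtype.ext (map_one _)
  map_mul' _ _ := Subtype.ext (map_mul _ _ _)

omit [Fintype G] [Fintype N] [Finite H] in
theorem kerImage_bijective (hqb : ∀ n : N, q (b n) = (n : G)) :
    Function.Bijective (kerImage q b hqb) := by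
  constructor
  · refine (MonoidHom.ker_eq_bot_iff _).1 (eq_bot_iff.2 fun z hz => ?_)
    have h1 : QuotientGroup.mk' b.range (z : H) = 1 := congrArg Subtype.val (MonoidHom.mem_ker.1 hz)
    obtain ⟨n, hn⟩ := (QuotientGroup.eq_one_iff _).1 h1
    have hn1 : n = 1 := Subtype.ext (by
      rw [← hqb, hn, MonoidHom.mem_ker.1 z.2]; rfl)
    rw [Subgroup.mem_bot]
    exact Subtype.ext (by rw [← hn, hn1, map_one]; rfl)
  · rintro ⟨c, hc⟩
    obtain ⟨x, rfl⟩ := QuotientGroup.mk'_surjective b.range c
    obtain ⟨z, hz, n, rfl⟩ := exists_mem_ker q b hqb x ((mem_coverKer_iff q b hqb x).1 hc)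
    refine ⟨⟨z, hz⟩, Subtype.ext ?_⟩
    show QuotientGroup.mk' b.range z = QuotientGroup.mk' b.range (z * b n)
    rw [map_mul]
    have : QuotientGroup.mk' b.range (b n) = 1 := (QuotientGroup.eq_one_iff _).2 ⟨n, rfl⟩
    rw [this, mul_one]

/-- The linear character of the central subgroup. -/
noncomputable def coverChar (hqb : ∀ n : N, q (b n) = (n : G)) (c : q.ker →* ℂˣ) :
    (coverProj q b hqb).ker →* ℂˣ :=
  (c.comp (MulEquiv.ofBijective _ (kerImage_bijective q b hqb)).symm.toMonoidHom)⁻¹

omit [Fintype G] [Fintype N] [Finite H] in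
theorem coverChar_apply (hqb : ∀ n : N, q (b n) = (n : G)) (c : q.ker →* ℂˣ) (z : q.ker) :
    coverChar q b hqb c (kerImage q b hqb z) = (c z)⁻¹ := by
  show (c ((MulEquiv.ofBijective _ (kerImage_bijective q b hqb)).symm
    (MulEquiv.ofBijective _ (kerImage_bijective q b hqb) z)))⁻¹ = _
  rw [MulEquiv.symm_apply_apply]

omit [Fintype G] [Fintype N] [Finite H] in
theorem coverKer_central (hqb : ∀ n : N, q (b n) = (n : G))
    (hcent : ∀ z ∈ q.ker, ∀ x : H, z * x = x * z) (c : (coverProj q b hqb).ker)
    (y : H ⧸ b.range) : (c : H ⧸ b.range) * y = y * c := by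
  obtain ⟨z, rfl⟩ := (kerImage_bijective q b hqb).2 c
  obtain ⟨x, rfl⟩ := QuotientGroup.mk'_surjective b.range y
  show QuotientGroup.mk' b.range (z : H) * _ = _ * QuotientGroup.mk' b.range (z : H)
  rw [← map_mul, ← map_mul, hcent _ z.2]

omit [Finite H] in
/-- The value of an induced invariant class function on the normal subgroup. -/
theorem indFun_invariant_apply {θ : N → ℂ} (h : Chars2.inertiaSub θ = ⊤) (n : N) :
    indFun N θ n = (N.index : ℂ) * θ n := by
  rw [indFun_coe_normal, Finset.sum_congr rfl (g := fun _ => θ n) (fun x _ => ?_),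
    Finset.sum_const, Finset.card_univ, nsmul_eq_mul, ← Nat.card_eq_fintype_card,
    ← N.index_mul_card, Nat.cast_mul, ← mul_assoc, mul_comm (Nat.card N : ℂ)⁻¹,
    mul_assoc (N.index : ℂ), mul_inv_cancel₀, mul_one]
  · exact_mod_cast Nat.card_pos.ne'
  · have hx := congrFun (Chars2.mem_inertiaSub.1 (h ▸ Subgroup.mem_top x)) n
    rw [Chars2.conjFun] at hx
    rw [← hx]
    congr 1
    ext
    simp

set_option maxHeartbeats 800000 in
/-- An irreducible character of the central extension lying over the inverse scalar character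
gives an irreducible character above the invariant character afforded by `R` on `N`. -/
theorem exists_irr_of_cover (hq : Function.Surjective q) (hqb : ∀ n : N, q (b n) = (n : G))
    (c : q.ker →* ℂˣ) (hc : ∀ z : q.ker, R (z : H) = (c z : ℂ) • (1 : Module.End ℂ (Fin d → ℂ)))
    (hcent : ∀ z ∈ q.ker, ∀ x : H, z * x = x * z)
    (hθ : IsIrrCharacter N (fun n => R.character (b n)))
    (hinv : Chars2.inertiaSub (fun n => R.character (b n)) = ⊤)
    [Fintype (coverProj q b hqb).ker] (ψ : IrrCharacter (H ⧸ b.range))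
    (hψ : classInner (fun z : (coverProj q b hqb).ker => (ψ : H ⧸ b.range → ℂ) z)
      (fun z => (coverChar q b hqb c z : ℂ)) ≠ 0) :
    ∃ χ : IrrCharacter G, ∀ x : H, (χ : G → ℂ) (q x) =
      R.character x * (ψ : H ⧸ b.range → ℂ) (QuotientGroup.mk' b.range x) := by
  classical
  haveI : Fintype H := Fintype.ofFinite H
  haveI : Fintype (H ⧸ b.range) := Fintype.ofFinite _
  obtain ⟨C, hC⟩ : ∃ C, C = (coverProj q b hqb).ker := ⟨_, rfl⟩
  have hlam : IsIrrCharacter (coverProj q b hqb).ker (fun z => (coverChar q b hqb c z : ℂ)) :=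
    isIrrCharacter_hom _
  set lamf : (coverProj q b hqb).ker → ℂ := fun z => (coverChar q b hqb c z : ℂ) with hlamf
  have hinvl : Chars2.inertiaSub lamf = ⊤ := Chars2.inertiaSub_eq_top fun g z => by
    refine congrArg lamf (Subtype.ext ?_)
    show g * (z : H ⧸ b.range) * g⁻¹ = z
    rw [← coverKer_central q b hqb hcent, mul_inv_cancel_right]
  have hmult : ∀ η : IrrCharacter (H ⧸ b.range),
      classInner (fun z : (coverProj q b hqb).ker => (η : H ⧸ b.range → ℂ) z) lamf ≠ 0 →
      ∀ (z : (coverProj q b hqb).ker) (y : H ⧸ b.range),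
        (η : H ⧸ b.range → ℂ) (z * y) = lamf z * (η : H ⧸ b.range → ℂ) y := by
    intro η hη z y
    have h1 := Chars2.clifford_invariant η.2 hlam hinvl hη z
    have h2 := Chars2.clifford_invariant η.2 hlam hinvl hη 1
    have h3 : lamf 1 = 1 := by simp [hlamf]
    rw [h3, mul_one] at h2
    simp only [Subgroup.coe_one] at h2
    rw [← h2] at h1
    obtain ⟨w, σ, hi, hσ⟩ := η.2
    haveI := hi
    obtain ⟨s, hs⟩ := Chars2.scalar_of_commute σ (σ (z : H ⧸ b.range)) fun g => by
      rw [← map_mul, ← map_mul, coverKer_central q b hqb hcent]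
    have hw : ∀ g, (η : H ⧸ b.range → ℂ) (z * g) = s * (η : H ⧸ b.range → ℂ) g := fun g => by
      rw [← hσ]
      show LinearMap.trace ℂ _ (σ ((z : H ⧸ b.range) * g)) = s * LinearMap.trace ℂ _ (σ g)
      rw [map_mul, hs, Algebra.algebraMap_eq_smul_one, smul_mul_assoc, one_mul, map_smul,
        smul_eq_mul]
    have h4 : s = lamf z := by
      have h5 := hw 1
      rw [mul_one, h1, mul_comm] at h5
      exact (mul_right_cancel₀ (irr_apply_one_ne_zero η.2) h5).symm
    rw [hw, h4]
  choose sec hsec using hq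
  let F : (H ⧸ b.range → ℂ) → G → ℂ := fun f g =>
    R.character (sec g) * f (QuotientGroup.mk' b.range (sec g))
  have hFval : ∀ η : IrrCharacter (H ⧸ b.range),
      classInner (fun z : (coverProj q b hqb).ker => (η : H ⧸ b.range → ℂ) z) lamf ≠ 0 →
      ∀ x : H, F (η : H ⧸ b.range → ℂ) (q x) =
        R.character x * (η : H ⧸ b.range → ℂ) (QuotientGroup.mk' b.range x) := by
    intro η hη x
    obtain ⟨z, hzx⟩ : ∃ z : q.ker, x = z * sec (q x) :=
      ⟨⟨x * (sec (q x))⁻¹, by rw [MonoidHom.mem_ker, map_mul, map_inv, hsec, mul_inv_cancel]⟩,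
        by simp⟩
    show R.character (sec (q x)) * _ = _
    generalize hy : sec (q x) = y at hzx ⊢
    rw [hzx, map_mul]
    have e1 : R.character ((z : H) * y) = (c z : ℂ) * R.character y := by
      rw [Representation.character, Representation.character, map_mul, hc, smul_mul_assoc, one_mul,
        map_smul, smul_eq_mul]
    have e2 : (η : H ⧸ b.range → ℂ) (QuotientGroup.mk' b.range (z : H) *
        QuotientGroup.mk' b.range y) =
        ((c z)⁻¹ : ℂˣ) * (η : H ⧸ b.range → ℂ) (QuotientGroup.mk' b.range y) := by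
      have := hmult η hη (kerImage q b hqb z) (QuotientGroup.mk' b.range y)
      rw [hlamf] at this
      simp only [coverChar_apply] at this
      exact this
    rw [e1, e2, Units.val_inv_eq_inv_val]
    field_simp [(c z).ne_zero]
  have hFchar : ∀ η : IrrCharacter (H ⧸ b.range),
      classInner (fun z : (coverProj q b hqb).ker => (η : H ⧸ b.range → ℂ) z) lamf ≠ 0 →
      IsCharacter G (F (η : H ⧸ b.range → ℂ)) := by
    intro η hη
    have hR : IsCharacter H (R.character *
        fun x => (η : H ⧸ b.range → ℂ) (QuotientGroup.mk' b.range x)) :=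
      isCharacter_mul (isCharacter_of_rep R)
        (isCharacter_comp (irr_isCharacter η) (QuotientGroup.mk' b.range))
    obtain ⟨w, ξ, hξ⟩ := hR
    have hker : q.ker ≤ (Representation.asGroupHom ξ).ker := by
      intro x hx
      rw [MonoidHom.mem_ker]
      refine Units.ext ?_
      rw [Representation.asGroupHom_apply, Units.val_one]
      refine (rep_char_eq_finrank_iff ξ x).1 ?_
      rw [← Representation.char_one ξ, hξ, Pi.mul_apply, Pi.mul_apply]
      rw [← hFval η hη x, ← hFval η hη 1, MonoidHom.mem_ker.1 hx, map_one]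
    let ξ' : Representation ℂ G (Fin w → ℂ) := (Units.coeHom _).comp
      (q.liftOfSurjective (fun g => ⟨sec g, hsec g⟩) ⟨Representation.asGroupHom ξ, hker⟩)
    refine ⟨w, ξ', funext fun g => ?_⟩
    have h1 : ξ' (q (sec g)) = ξ (sec g) := by
      show ((q.liftOfSurjective _ ⟨Representation.asGroupHom ξ, hker⟩) (q (sec g))).1 = _
      rw [MonoidHom.liftOfRightInverse_comp_apply]
      exact Representation.asGroupHom_apply ξ _
    rw [hsec g] at h1
    show LinearMap.trace ℂ _ (ξ' g) = _
    rw [h1]
    exact congrFun hξ (sec g)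
  choose k hk using fun η : IrrCharacter (H ⧸ b.range) => exists_classInner_eq_nat
    (isCharacter_restrict (irr_isCharacter η) (coverProj q b hqb).ker) (isCharacter_of_isIrr hlam)
  have hcoef : ∀ η : IrrCharacter (H ⧸ b.range),
      classInner (indFun (coverProj q b hqb).ker lamf) (η : H ⧸ b.range → ℂ) = k η := fun η => by
    rw [classInner_indFun _ lamf (isClassFunction_irr η), ← classInner_conj_symm, hk]
    simp
  have hind : indFun (coverProj q b hqb).ker lamf =
      ∑ η : IrrCharacter (H ⧸ b.range), (k η : ℂ) • (η : H ⧸ b.range → ℂ) := by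
    rw [eq_sum_classInner (isClassFunction_indFun _ lamf)]
    exact Finset.sum_congr rfl fun η _ => by rw [hcoef]
  have hindex : (coverProj q b hqb).ker.index = N.index := by
    have hs : Function.Surjective (coverProj q b hqb) := fun y => by
      obtain ⟨g, rfl⟩ := QuotientGroup.mk'_surjective N y
      exact ⟨QuotientGroup.mk' b.range (sec g), by rw [coverProj_mk, hsec]⟩
    rw [Subgroup.index_ker, MonoidHom.range_eq_top.2 hs, Subgroup.card_top,
      ← Subgroup.index_eq_card]
  have hFind : indFun N (fun n => R.character (b n)) =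
      ∑ η : IrrCharacter (H ⧸ b.range), (k η : ℂ) • F (η : H ⧸ b.range → ℂ) := by
    funext g
    have hR : (∑ η : IrrCharacter (H ⧸ b.range), (k η : ℂ) • F (η : H ⧸ b.range → ℂ)) g =
        R.character (sec g) *
          indFun (coverProj q b hqb).ker lamf (QuotientGroup.mk' b.range (sec g)) := by
      rw [hind, Finset.sum_apply, Finset.sum_apply, Finset.mul_sum]
      exact Finset.sum_congr rfl fun η _ => by simp [F, mul_left_comm]
    rw [hR]
    by_cases hg : g ∈ N
    · obtain ⟨z, hz, n, hzn⟩ := exists_mem_ker q b hqb (sec g) (by rw [hsec]; exact hg)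
      have hgn : g = (n : G) := by
        rw [← hsec g, hzn, map_mul, MonoidHom.mem_ker.1 hz, one_mul, hqb]
      have e0 : QuotientGroup.mk' b.range (sec g) = (kerImage q b hqb ⟨z, hz⟩ : H ⧸ b.range) := by
        rw [hzn, map_mul]
        have : QuotientGroup.mk' b.range (b n) = 1 := (QuotientGroup.eq_one_iff _).2 ⟨n, rfl⟩
        rw [this, mul_one]; rfl
      rw [e0, indFun_invariant_apply hinvl, hindex, hgn, indFun_invariant_apply hinv, ← hgn, hzn]
      have e1 : R.character (z * b n) = (c ⟨z, hz⟩ : ℂ) * R.character (b n) := by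
        rw [Representation.character, Representation.character, map_mul, hc ⟨z, hz⟩,
          smul_mul_assoc, one_mul, map_smul, smul_eq_mul]
      rw [hlamf, e1]
      simp only [coverChar_apply, Units.val_inv_eq_inv_val]
      field_simp [(c ⟨z, hz⟩).ne_zero]
    · rw [indFun_of_not_mem_normal N _ hg, indFun_of_not_mem_normal (coverProj q b hqb).ker,
        mul_zero]
      intro h
      exact hg (hsec g ▸ (mem_coverKer_iff q b hqb (sec g)).1 h)
  have hnormG := Chars2.classInner_indFun_invariant hθ hinv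
  have hnormQ := Chars2.classInner_indFun_invariant hlam hinvl
  rw [hindex] at hnormQ
  let S : Finset (IrrCharacter (H ⧸ b.range)) := Finset.univ.filter fun η => k η ≠ 0
  have hS : ∀ η ∈ S, classInner
      (fun z : (coverProj q b hqb).ker => (η : H ⧸ b.range → ℂ) z) lamf ≠ 0 := fun η hη => by
    rw [hk]; exact_mod_cast (Finset.mem_filter.1 hη).2
  choose! j hj using fun η (hη : η ∈ S) η' (hη' : η' ∈ S) =>
    exists_classInner_eq_nat (hFchar η (hS η hη)) (hFchar η' (hS η' hη'))
  have hsumQ : (N.index : ℂ) = ∑ η ∈ S, ((k η : ℂ) * k η) := by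
    rw [← hnormQ, classInner_eq_sum (isClassFunction_indFun _ lamf),
      Finset.sum_filter_of_ne (s := Finset.univ) (p := fun η => k η ≠ 0)
        (f := fun η : IrrCharacter (H ⧸ b.range) => (k η : ℂ) * k η)
        (fun η _ h h0 => h (by simp [h0]))]
    refine Finset.sum_congr rfl fun η _ => ?_
    rw [← classInner_conj_symm (indFun (coverProj q b hqb).ker lamf) (η : H ⧸ b.range → ℂ), hcoef]
    simp
  have hFind' : indFun N (fun n => R.character (b n)) =
      ∑ η ∈ S, (k η : ℂ) • F (η : H ⧸ b.range → ℂ) := by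
    rw [hFind, Finset.sum_filter_of_ne (s := Finset.univ) (p := fun η => k η ≠ 0)
      (fun η _ h h0 => h (by simp [h0]))]
  have hsumG : (N.index : ℂ) = ∑ η ∈ S, ∑ η' ∈ S, ((k η : ℂ) * k η' * j η η') := by
    rw [← hnormG, hFind', classInner_sum_left]
    refine Finset.sum_congr rfl fun η hη => ?_
    rw [classInner_sum_right]
    refine Finset.sum_congr rfl fun η' hη' => ?_
    rw [classInner_smul_left, classInner_smul_right, hj η hη η' hη']
    simp [mul_assoc]
  have hnat : ∑ η ∈ S, ∑ η' ∈ S, k η * k η' * j η η' = ∑ η ∈ S, k η * k η := by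
    exact_mod_cast hsumG.symm.trans hsumQ
  have hd : d ≠ 0 := fun hd0 => irr_apply_one_ne_zero hθ (by
    show R.character (b 1) = 0
    rw [map_one, Representation.char_one, Module.finrank_fin_fun, hd0, Nat.cast_zero])
  have hj1 : ∀ η ∈ S, 1 ≤ j η η := by
    intro η hη
    refine Nat.pos_of_ne_zero fun h0 => ?_
    have h := hj η hη η hη
    rw [h0, Nat.cast_zero] at h
    obtain ⟨e, he, hes⟩ := exists_eq_sum_nsmul (hFchar η (hS η hη))
    have he0 : ∀ χ, e χ = 0 := by
      rw [classInner_eq_sum (isClassFunction_of_isCharacter (hFchar η (hS η hη)))] at h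
      have h' : ((∑ χ : IrrCharacter G, e χ * e χ : ℕ) : ℂ) = 0 := by
        rw [← h, Nat.cast_sum]
        refine Finset.sum_congr rfl fun χ _ => ?_
        rw [← classInner_conj_symm (F (η : H ⧸ b.range → ℂ)) (χ : G → ℂ), he]
        simp
      exact fun χ => mul_self_eq_zero.1
        (Finset.sum_eq_zero_iff.1 (Nat.cast_eq_zero.1 h') χ (Finset.mem_univ _))
    have hz : F (η : H ⧸ b.range → ℂ) (q 1) = 0 := by
      rw [hes]; simp [he0]
    rw [hFval η (hS η hη) 1, map_one, Representation.char_one, Module.finrank_fin_fun] at hz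
    rcases mul_eq_zero.1 hz with h1 | h1
    · exact hd (by exact_mod_cast h1)
    · exact irr_apply_one_ne_zero η.2 h1
  have hψS : ψ ∈ S := Finset.mem_filter.2 ⟨Finset.mem_univ _, fun h0 => hψ (by
    rw [hk, h0, Nat.cast_zero])⟩
  have hle : ∀ η ∈ S, k η * k η ≤ ∑ η' ∈ S, k η * k η' * j η η' := fun η hη =>
    (Nat.le_mul_of_pos_right _ (hj1 η hη)).trans
      (Finset.single_le_sum (f := fun η' => k η * k η' * j η η') (fun _ _ => Nat.zero_le _) hη)
  have hone : j ψ ψ = 1 := by
    have h := (Finset.sum_eq_sum_iff_of_le hle).1 hnat.symm ψ hψS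
    have h2 : k ψ * k ψ * j ψ ψ ≤ k ψ * k ψ := by
      conv_rhs => rw [h]
      exact Finset.single_le_sum (f := fun η' => k ψ * k η' * j ψ η') (fun _ _ => Nat.zero_le _) hψS
    have h3 := hj1 ψ hψS
    have h4 : 0 < k ψ * k ψ := Nat.mul_pos (Nat.pos_of_ne_zero (Finset.mem_filter.1 hψS).2)
      (Nat.pos_of_ne_zero (Finset.mem_filter.1 hψS).2)
    nlinarith
  have hirrχ : IsIrrCharacter G (F (ψ : H ⧸ b.range → ℂ)) := by
    refine isIrrCharacter_of_norm_one (hFchar ψ hψ) ?_
    have := hj ψ hψS ψ hψS
    rwa [hone, Nat.cast_one] at this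
  exact ⟨⟨_, hirrχ⟩, fun x => hFval ψ hψ x⟩

end Cfsg.Agent.Chars
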