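import Cfsg.Agent.Chars.GlaubermanSolvable
import Cfsg.Agent.Chars2.Correspondence
import Cfsg.Agent.Chars2.Extend
import Cfsg.Agent.Chars.Linear
import Cfsg.Agent.Chars.CentralLift

/-!
The finite central extension attached to an invariant irreducible character of a normal subgroup,
and invariant characters above it.
-/

set_option autoImplicit false
set_option linter.style.haveILetI false

namespace Cfsg.Agent.Chars

open Cfsg.Agent Cfsg.Agent.Chars2

universe u v

/-- An action by automorphisms from a family of compatible endomorphisms. -/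
def autOfFun {A : Type v} [Group A] {Q : Type u} [Group Q] (f : A → (Q →* Q))
    (h1 : ∀ x, f 1 x = x) (hmul : ∀ a b x, f (a * b) x = f a (f b x)) : A →* MulAut Q where
  toFun a :=
    { toFun := f a
      invFun := f a⁻¹
      left_inv := fun x => by rw [← hmul, inv_mul_cancel, h1]
      right_inv := fun x => by rw [← hmul, mul_inv_cancel, h1]
      map_mul' := map_mul (f a) }
  map_one' := MulEquiv.ext h1
  map_mul' a b := MulEquiv.ext (hmul a b)

@[simp] theorem autOfFun_apply {A : Type v} [Group A] {Q : Type u} [Group Q] (f : A → (Q →* Q))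
    (h1 : ∀ x, f 1 x = x) (hmul : ∀ a b x, f (a * b) x = f a (f b x)) (a : A) (x : Q) :
    autOfFun f h1 hmul a x = f a x := rfl

variable {G : Type u} [Group G]

/-- Conjugation by intertwiners of an irreducible representation does not depend on the choice. -/
theorem conj_eq_of_intertwine {N : Type*} [Group N] {V : Type*} [AddCommGroup V] [Module ℂ V]
    [FiniteDimensional ℂ V] (ρ : Representation ℂ N V) [ρ.IsIrreducible] (f : N → N)
    (U U' : (Module.End ℂ V)ˣ) (hU : ∀ n, U.1 * ρ n = ρ (f n) * U.1)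
    (hU' : ∀ n, U'.1 * ρ n = ρ (f n) * U'.1) (W : (Module.End ℂ V)ˣ) :
    U * W * U⁻¹ = U' * W * U'⁻¹ := by
  obtain ⟨c, hc⟩ := Chars2.scalar_of_commute ρ ((U'⁻¹ * U : (Module.End ℂ V)ˣ) : Module.End ℂ V)
    (fun n => by
      rw [Units.val_mul, mul_assoc, hU, ← mul_assoc, ← mul_assoc]
      congr 1
      apply U'.isUnit.mul_left_cancel
      rw [← mul_assoc, Units.mul_inv, one_mul, ← mul_assoc, hU', mul_assoc, Units.mul_inv, mul_one])
  have h1 : (U'⁻¹ * U) * W = W * (U'⁻¹ * U) := Units.ext (by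
    rw [Units.val_mul (U'⁻¹ * U) W, Units.val_mul W (U'⁻¹ * U), hc]
    exact Algebra.commutes c W.1)
  calc U * W * U⁻¹ = U' * ((U'⁻¹ * U) * W) * U⁻¹ := by simp [mul_assoc]
    _ = U' * W * U'⁻¹ := by rw [h1]; simp [mul_assoc]

/-- A power of the transfer: the scalars act by a power and `N` is killed. -/
theorem exists_invariant_weight [Finite G] {N : Subgroup G} [N.Normal] {d : ℕ}
    (ρ : Representation ℂ N (Fin d → ℂ)) [ρ.IsIrreducible]
    (hsurj : Function.Surjective (interFst ρ)) :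
    ∃ τ₂ : interSub ρ →* ℂˣ, (∀ a, τ₂ (scalarHom ρ a) = a ^ (N.index * N.index)) ∧
      (∀ n, τ₂ (baseHom ρ n) = 1) ∧
      ∀ Ψ : interSub ρ →* interSub ρ, (∀ a, Ψ (scalarHom ρ a) = scalarHom ρ a) →
        (∀ n, ∃ n', Ψ (baseHom ρ n) = baseHom ρ n') → ∀ x, τ₂ (Ψ x) = τ₂ x := by
  obtain ⟨τ, hτa, hτn⟩ := index_base_mem_weights ρ hsurj
  refine ⟨τ ^ N.index, fun a => ?_, fun n => by simp [hτn], fun Ψ hs hb x => ?_⟩
  · simp [hτa, pow_mul]
  · have hK : ∀ y : interSub ρ, interFst ρ y ∈ N → τ (Ψ y) = τ y := by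
      intro y hy
      obtain ⟨a, ha⟩ := interFst_ker ρ (y * (baseHom ρ ⟨_, hy⟩)⁻¹) (by simp)
      rw [mul_inv_eq_iff_eq_mul.1 ha]
      obtain ⟨n', hn'⟩ := hb ⟨_, hy⟩
      rw [map_mul, map_mul, map_mul, hs, hn', hτn, hτn]
    simp only [MonoidHom.pow_apply]
    rw [← map_pow, ← map_pow, ← map_pow]
    exact hK _ (by rw [map_pow]; exact N.pow_index_mem _)

set_option maxHeartbeats 1000000 in
/-- An invariant character above an invariant character of a normal subgroup, for a solvable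
acting group of order prime to the index. -/
theorem invariant_above_of_solvable_acting [Fintype G] {A : Type v} [Group A] [Finite A]
    (φ : A →* MulAut G) (N : Subgroup G) [hNn : N.Normal] [Fintype N]
    (hN : ∀ a, ∀ n ∈ N, φ a n ∈ N) (T : Subgroup A) [T.Normal]
    (hT : ∀ t ∈ T, ∃ n ∈ N, ∀ g, φ t g = n * g * n⁻¹)
    (hcop : N.index.Coprime T.index) (hA : Group.IsSolvable (A ⧸ T))
    {θ : N → ℂ} (hθ : IsIrrCharacter N θ)
    (hθi : ∀ (a : A) (n : N), θ ⟨φ a n, hN a n n.2⟩ = θ n) (hG : inertiaSub θ = ⊤) :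
    ∃ χ : IrrCharacter G, InvFun φ (χ : G → ℂ) ∧
      classInner (fun n : N => (χ : G → ℂ) n) θ ≠ 0 := by
  classical
  have hθ0 := hθ
  obtain ⟨d, ρ, hirr, rfl⟩ := hθ0
  haveI := hirr
  haveI := Chars2.nontrivial_of_irreducible ρ
  have hsurj : Function.Surjective (interFst ρ) := by
    refine interFst_surjective ρ fun g n => ?_
    have := congrFun (mem_inertiaSub.1 (hG ▸ Subgroup.mem_top g⁻¹)) n
    simpa [Chars2.conjFun] using this
  obtain ⟨m, hm⟩ : ∃ m, m = N.index := ⟨_, rfl⟩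
  have hm0 : m ≠ 0 := hm ▸ Subgroup.index_ne_zero_of_finite
  haveI : NeZero (m * m) := ⟨mul_ne_zero hm0 hm0⟩
  obtain ⟨τ₂, hτ₂a, hτ₂n, hτ₂inv⟩ := exists_invariant_weight ρ hsurj
  simp only [← hm] at hτ₂a
  obtain ⟨H, hH⟩ : ∃ H : Subgroup (interSub ρ), ∀ x, x ∈ H ↔ τ₂ x = 1 :=
    ⟨τ₂.ker, fun x => Iff.rfl⟩
  let q : H →* G := (interFst ρ).comp H.subtype
  let R : Representation ℂ H (Fin d → ℂ) := (Units.coeHom _).comp ((interSnd ρ).comp H.subtype)
  let b : N →* H := (baseHom ρ).codRestrict H fun n => (hH _).2 (hτ₂n n)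
  have hqb : ∀ n : N, q (b n) = (n : G) := fun n => rfl
  haveI : b.range.Normal := ⟨by
    rintro _ ⟨n, rfl⟩ x
    exact ⟨MulAut.conjNormal (x : interSub ρ).1.1 n,
      Subtype.ext (baseHom_conj ρ (x : interSub ρ) n).symm⟩⟩
  have hscal : Function.Injective (scalarHom ρ) := fun a a' h =>
    scalarUnit_injective (V := Fin d → ℂ) (congrArg (fun z : interSub ρ => z.1.2) h)
  have hq : Function.Surjective q := by
    intro g
    obtain ⟨x, hx⟩ := hsurj g
    obtain ⟨c, hc⟩ := IsAlgClosed.exists_pow_nat_eq ((τ₂ x⁻¹ : ℂˣ) : ℂ)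
      (Nat.pos_of_ne_zero (mul_ne_zero hm0 hm0))
    have hc0 : c ≠ 0 := by
      rintro rfl
      rw [zero_pow (mul_ne_zero hm0 hm0)] at hc
      exact (τ₂ x⁻¹).ne_zero hc.symm
    refine ⟨⟨x * scalarHom ρ (Units.mk0 c hc0), (hH _).2 ?_⟩, ?_⟩
    · rw [map_mul, hτ₂a]
      have : (Units.mk0 c hc0) ^ (m * m) = τ₂ x⁻¹ := Units.ext (by simp [hc])
      rw [this, map_inv, mul_inv_cancel]
    · show interFst ρ (x * scalarHom ρ (Units.mk0 c hc0)) = g
      rw [map_mul, hx]
      simp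
  have hkerq : ∀ z : q.ker, ∃ a : ℂˣ,
      ((z : H) : interSub ρ) = scalarHom ρ a ∧ a ^ (m * m) = 1 := by
    intro z
    obtain ⟨a, ha⟩ := interFst_ker ρ ((z : H) : interSub ρ) (MonoidHom.mem_ker.1 z.2)
    exact ⟨a, ha, by rw [← hτ₂a, ← ha]; exact (hH _).1 (z : H).2⟩
  choose ca hca hca1 using hkerq
  let c : q.ker →* ℂˣ := MonoidHom.mk' ca fun z z' => hscal (by
    rw [map_mul, ← hca, ← hca, ← hca]; rfl)
  have hc : ∀ z : q.ker, R (z : H) = (c z : ℂ) • (1 : Module.End ℂ (Fin d → ℂ)) := fun z => by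
    show (((z : H) : interSub ρ).1.2).1 = (ca z : ℂ) • 1
    rw [hca]
    show algebraMap ℂ (Module.End ℂ (Fin d → ℂ)) (ca z : ℂ) = _
    rw [Algebra.algebraMap_eq_smul_one]
  have hcent : ∀ z ∈ q.ker, ∀ x : H, z * x = x * z := fun z hz x => Subtype.ext (by
    show (z : interSub ρ) * x = x * z
    rw [show (z : interSub ρ) = scalarHom ρ (ca ⟨z, hz⟩) from hca ⟨z, hz⟩]
    exact scalarHom_commute ρ _ _)
  choose sec hsec using hq
  haveI : Finite H := by
    refine Finite.of_surjective (fun p : G × rootsOfUnity (m * m) ℂ =>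
      (⟨scalarHom ρ p.2.1, (hH _).2 ((hτ₂a _).trans ((mem_rootsOfUnity _ _).1 p.2.2))⟩ : H)
        * sec p.1) fun x => ?_
    have hz : x * (sec (q x))⁻¹ ∈ q.ker := by
      rw [MonoidHom.mem_ker, map_mul, map_inv, hsec, mul_inv_cancel]
    refine ⟨(q x, ⟨ca ⟨_, hz⟩, (mem_rootsOfUnity _ _).2 (hca1 _)⟩), Subtype.ext ?_⟩
    show scalarHom ρ (ca ⟨_, hz⟩) * (sec (q x) : interSub ρ) = x
    rw [← hca ⟨_, hz⟩]
    simp
  haveI : Fintype H := Fintype.ofFinite H
  -- the action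
  have hU : ∀ a : A, ∃ U : (Module.End ℂ (Fin d → ℂ))ˣ,
      ∀ n : N, U.1 * ρ n = ρ ⟨φ a n, hN a n n.2⟩ * U.1 := by
    intro a
    obtain ⟨e⟩ := equiv_of_character_eq ρ (ρ.comp (subAct φ N hN a).toMonoidHom)
      (funext fun n => (hθi a n).symm)
    exact ⟨LinearMap.GeneralLinearGroup.ofLinearEquiv e.toLinearEquiv,
      fun n => e.toIntertwiningMap.isIntertwining' n⟩
  choose U hU using hU
  have hmem : ∀ (a : A) (x : interSub ρ),
      ((φ a x.1.1, U a * x.1.2 * (U a)⁻¹) : G × (Module.End ℂ (Fin d → ℂ))ˣ) ∈ interSub ρ := by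
    intro a x n
    obtain ⟨n', rfl⟩ : ∃ n' : N, (⟨φ a n', hN a n' n'.2⟩ : N) = n :=
      ⟨⟨φ a⁻¹ n, hN a⁻¹ n n.2⟩, Subtype.ext (by
        show φ a (φ a⁻¹ (n : G)) = n
        rw [← MulAut.mul_apply, ← map_mul, mul_inv_cancel, map_one, MulAut.one_apply])⟩
    have e1 : ((U a)⁻¹ : (Module.End ℂ (Fin d → ℂ))ˣ).1 * ρ ⟨φ a n', hN a n' n'.2⟩ =
        ρ n' * ((U a)⁻¹ : (Module.End ℂ (Fin d → ℂ))ˣ).1 := by
      apply (U a).isUnit.mul_left_cancel
      rw [← mul_assoc, Units.mul_inv, one_mul, ← mul_assoc, hU, mul_assoc, Units.mul_inv, mul_one]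
    simp only [Units.val_mul]
    rw [mul_assoc, e1, ← mul_assoc, mul_assoc (U a).1, x.2 n', ← mul_assoc, hU]
    simp only [mul_assoc]
    congr 2
    ext
    simp
  let Ψ : A → (interSub ρ →* interSub ρ) := fun a =>
    { toFun := fun x => ⟨(φ a x.1.1, U a * x.1.2 * (U a)⁻¹), hmem a x⟩
      map_one' := by ext1; simp
      map_mul' := fun x y => by ext1; simp [mul_assoc] }
  have hΨs : ∀ a (c : ℂˣ), Ψ a (scalarHom ρ c) = scalarHom ρ c := fun a c => by
    apply Subtype.ext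
    refine Prod.ext (map_one _) ?_
    show U a * scalarUnit _ c * (U a)⁻¹ = scalarUnit _ c
    rw [← scalarUnit_commute, mul_inv_cancel_right]
  have hΨb : ∀ a (n : N), Ψ a (baseHom ρ n) = baseHom ρ ⟨φ a n, hN a n n.2⟩ := fun a n => by
    apply Subtype.ext
    refine Prod.ext rfl (Units.ext ?_)
    show (U a).1 * ρ n * ((U a)⁻¹ : (Module.End ℂ (Fin d → ℂ))ˣ).1 = ρ _
    rw [hU, mul_assoc, Units.mul_inv, mul_one]
  let fH : A → (H →* H) := fun a => ((Ψ a).comp H.subtype).codRestrict H fun x => (hH _).2 (by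
    show τ₂ (Ψ a (x : interSub ρ)) = 1
    rw [hτ₂inv (Ψ a) (hΨs a) (fun n => ⟨_, hΨb a n⟩)]
    exact (hH _).1 x.2)
  let fQ : A → (H ⧸ b.range →* H ⧸ b.range) := fun a => QuotientGroup.map _ _ (fH a) (by
    rintro _ ⟨n, rfl⟩
    exact ⟨⟨φ a n, hN a n n.2⟩, Subtype.ext (hΨb a n).symm⟩)
  have hfQ : ∀ a x, fQ a (QuotientGroup.mk' b.range x) = QuotientGroup.mk' b.range (fH a x) :=
    fun a x => rfl
  have hone : ∀ x : H, fH 1 x = x := fun x => by
    refine Subtype.ext (Subtype.ext (Prod.ext ?_ ?_))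
    · show φ 1 _ = _
      rw [map_one]; rfl
    · show U 1 * (x : interSub ρ).1.2 * (U 1)⁻¹ = _
      rw [conj_eq_of_intertwine ρ id (U 1) 1 (fun n => by simpa using hU 1 n) (fun n => by simp)]
      simp
  have hmul : ∀ a a' (x : H), fH (a * a') x = fH a (fH a' x) := fun a a' x => by
    refine Subtype.ext (Subtype.ext (Prod.ext ?_ ?_))
    · show φ (a * a') _ = φ a (φ a' _)
      rw [map_mul]; rfl
    · show U (a * a') * (x : interSub ρ).1.2 * (U (a * a'))⁻¹ =
        U a * (U a' * (x : interSub ρ).1.2 * (U a')⁻¹) * (U a)⁻¹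
      rw [conj_eq_of_intertwine ρ (fun n => ⟨φ (a * a') n, hN (a * a') n n.2⟩) (U (a * a'))
        (U a * U a') (hU (a * a')) (fun n => ?_)]
      · simp [mul_assoc]
      · rw [Units.val_mul, mul_assoc, hU, ← mul_assoc, hU, mul_assoc]
        simp
  let φQ : A →* MulAut (H ⧸ b.range) := autOfFun fQ
    (fun y => by
      obtain ⟨x, rfl⟩ := QuotientGroup.mk'_surjective b.range y
      rw [hfQ, hone])
    (fun a a' y => by
      obtain ⟨x, rfl⟩ := QuotientGroup.mk'_surjective b.range y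
      rw [hfQ, hfQ, hfQ, hmul])
  have hTker : T ≤ φQ.ker := by
    intro t ht
    obtain ⟨n, hn, hφ⟩ := hT t ht
    refine MulEquiv.ext fun y => ?_
    obtain ⟨x, rfl⟩ := QuotientGroup.mk'_surjective b.range y
    show fQ t (QuotientGroup.mk' b.range x) = QuotientGroup.mk' b.range x
    rw [hfQ]
    have hconj : fH t x = b ⟨n, hn⟩ * x * (b ⟨n, hn⟩)⁻¹ := by
      refine Subtype.ext (Subtype.ext (Prod.ext (hφ _) ?_))
      exact conj_eq_of_intertwine ρ (fun k => ⟨φ t k, hN t k k.2⟩) (U t)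
        (baseHom ρ ⟨n, hn⟩).1.2 (hU t) (fun k => by
          rw [baseHom_snd, ← map_mul, ← map_mul]
          congr 1
          ext
          simp [hφ]) _
    have hb : QuotientGroup.mk' b.range (b ⟨n, hn⟩) = 1 :=
      (QuotientGroup.eq_one_iff _).2 ⟨_, rfl⟩
    rw [hconj, map_mul, map_mul, map_inv, hb]
    simp
  have hexp : ∀ y : H ⧸ b.range, y ^ (m * (m * m)) = 1 := by
    intro y
    obtain ⟨x, rfl⟩ := QuotientGroup.mk'_surjective b.range y
    obtain ⟨z, hz, n, hzn⟩ := exists_mem_ker q b hqb (x ^ m) (by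
      rw [map_pow, hm]; exact N.pow_index_mem _)
    rw [pow_mul, ← map_pow, hzn, map_mul,
      show QuotientGroup.mk' b.range (b n) = 1 from (QuotientGroup.eq_one_iff _).2 ⟨n, rfl⟩,
      mul_one, ← map_pow]
    have : z ^ (m * m) = 1 := Subtype.ext (by
      rw [Subgroup.coe_pow, show (z : interSub ρ) = scalarHom ρ (ca ⟨z, hz⟩) from hca ⟨z, hz⟩,
        ← map_pow, hca1, map_one]; rfl)
    rw [this, map_one]
  have hcop' : (Nat.card (H ⧸ b.range)).Coprime (Nat.card (A ⧸ T)) := by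
    refine Nat.coprime_of_dvd fun p hp h1 h2 => ?_
    haveI := Fact.mk hp
    obtain ⟨y, hy⟩ := exists_prime_orderOf_dvd_card' p h1
    have h3 : p ∣ m * (m * m) := hy ▸ orderOf_dvd_of_pow_eq_one (hexp y)
    have h4 : p ∣ m := by
      rcases hp.dvd_mul.1 h3 with h | h
      · exact h
      · exact (hp.dvd_mul.1 h).elim id id
    exact hp.not_dvd_one (hcop ▸ Nat.dvd_gcd (hm ▸ h4) (by rwa [Subgroup.index_eq_card]))
  let φ' : A ⧸ T →* MulAut (H ⧸ b.range) := QuotientGroup.lift T φQ hTker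
  have hfix : ∀ (a : A) (z : (coverProj q b hqb).ker), fQ a (z : H ⧸ b.range) = z := by
    intro a z
    obtain ⟨z', rfl⟩ := (kerImage_bijective q b hqb).2 z
    show fQ a (QuotientGroup.mk' b.range (z' : H)) = _
    rw [hfQ]
    refine congrArg (QuotientGroup.mk' b.range) (Subtype.ext ?_)
    show Ψ a ((z' : H) : interSub ρ) = _
    rw [hca, hΨs]
  haveI : Fintype (H ⧸ b.range) := Fintype.ofFinite _
  haveI : Fintype (coverProj q b hqb).ker := Fintype.ofFinite _
  have hC' : ∀ (a : A ⧸ T), ∀ z ∈ (coverProj q b hqb).ker, φ' a z ∈ (coverProj q b hqb).ker := by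
    intro a z hz
    induction a using QuotientGroup.induction_on with
    | _ a =>
      show fQ a z ∈ _
      rw [hfix a ⟨z, hz⟩]; exact hz
  obtain ⟨ψ, hψinv, hψ⟩ := exists_invariant_above hA φ' hcop' (coverProj q b hqb).ker hC'
    (isIrrCharacter_hom (coverChar q b hqb c)) (fun a z => by
      induction a using QuotientGroup.induction_on with
      | _ a => exact congrArg (fun z => (coverChar q b hqb c z : ℂ)) (Subtype.ext (hfix a z)))
  have hRb : (fun n => R.character (b n)) = ρ.character := rfl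
  obtain ⟨χ, hχ⟩ := exists_irr_of_cover q R b (fun g => ⟨sec g, hsec g⟩) hqb c hc hcent
    (hRb ▸ hθ) (hRb ▸ hG) ψ hψ
  refine ⟨χ, fun a g => ?_, ?_⟩
  · rw [← hsec g, show φ a (q (sec g)) = q (fH a (sec g)) from rfl, hχ, hχ]
    have h2 : (ψ : H ⧸ b.range → ℂ) (QuotientGroup.mk' b.range (fH a (sec g))) =
        (ψ : H ⧸ b.range → ℂ) (QuotientGroup.mk' b.range (sec g)) :=
      hψinv (a : A ⧸ T) (QuotientGroup.mk' b.range (sec g))
    rw [h2]
    congr 1
    show LinearMap.trace ℂ _ ((U a * (sec g).1.1.2 * (U a)⁻¹ : (Module.End ℂ (Fin d → ℂ))ˣ).1) =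
      LinearMap.trace ℂ _ (sec g).1.1.2.1
    rw [Units.val_mul, LinearMap.trace_mul_comm, ← Units.val_mul]
    simp [← mul_assoc]
  · have h1 : (fun n : N => (χ : G → ℂ) n) = (ψ : H ⧸ b.range → ℂ) 1 • ρ.character := by
      funext n
      rw [show (n : G) = q (b n) from rfl, hχ,
        show QuotientGroup.mk' b.range (b n) = 1 from (QuotientGroup.eq_one_iff _).2 ⟨n, rfl⟩]
      rw [Pi.smul_apply, smul_eq_mul, mul_comm]
      rfl
    rw [h1, classInner_smul_left, classInner_self_irr hθ, mul_one]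
    exact irr_apply_one_ne_zero ψ.2

end Cfsg.Agent.Chars
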