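import Cfsg.Agent.Chars.Orth

/-!
# Representations with equal characters are equivalent
-/

set_option autoImplicit false
set_option linter.style.haveILetI false

open Cfsg Representation

namespace Cfsg.Agent.Chars

universe u v w

variable {G : Type u} [Group G] [Finite G]

/-- An irreducible constituent splits off as a direct summand. -/
theorem exists_split {V : Type v} [AddCommGroup V] [Module ℂ V] [FiniteDimensional ℂ V]
    (ρ : Representation ℂ G V) {d : ℕ} (τ : Representation ℂ G (Fin d → ℂ)) [τ.IsIrreducible]
    [Fintype G] (h : classInner ρ.character τ.character ≠ 0) :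
    ∃ (C : Subrepresentation ρ) (e : ((Fin d → ℂ) × C.toSubmodule) ≃ₗ[ℂ] V),
      (∀ g x, e ((τ.prod C.toRepresentation) g x) = ρ g (e x)) ∧
        ρ.character = τ.character + C.toRepresentation.character := by
  classical
  rw [classInner_rep, Nat.cast_ne_zero] at h
  haveI : Nontrivial (τ.IntertwiningMap ρ) :=
    Module.nontrivial_of_finrank_pos (R := ℂ) (Nat.pos_of_ne_zero h)
  obtain ⟨f, hf⟩ := exists_ne (0 : τ.IntertwiningMap ρ)
  have hfc : ∀ g v, f.toLinearMap (τ g v) = ρ g (f.toLinearMap v) := fun g v =>
    LinearMap.congr_fun (f.isIntertwining' g) v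
  have hinj : Function.Injective f.toLinearMap := by
    rw [← LinearMap.ker_eq_bot]
    refine (((isIrreducible_iff τ).1 inferInstance).2 _ fun g v hv => ?_).resolve_right fun htop => ?_
    · rw [LinearMap.mem_ker] at hv ⊢
      rw [hfc, hv, map_zero]
    · refine hf (IntertwiningMap.ext_iff.2 ?_)
      exact LinearMap.ker_eq_top.1 htop
  let S : Subrepresentation ρ := ⟨LinearMap.range f.toLinearMap, fun g v hv => by
    obtain ⟨a, rfl⟩ := hv
    exact ⟨τ g a, hfc g a⟩⟩
  haveI : NeZero (Nat.card G : ℂ) := ⟨by exact_mod_cast Nat.card_pos.ne'⟩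
  haveI : IsSemisimpleRepresentation ρ := inferInstance
  obtain ⟨C, hC⟩ := exists_isCompl S
  have hc : IsCompl S.toSubmodule C.toSubmodule := by
    refine ⟨disjoint_iff.2 ?_, codisjoint_iff.2 ?_⟩
    · rw [← Subrepresentation.toSubmodule_inf, hC.inf_eq_bot]; rfl
    · rw [← Subrepresentation.toSubmodule_sup, hC.sup_eq_top]; rfl
  let e := ((LinearEquiv.ofInjective f.toLinearMap hinj).prodCongr
    (LinearEquiv.refl ℂ C.toSubmodule)).trans (Submodule.prodEquivOfIsCompl _ _ hc)
  have he : ∀ g x, e ((τ.prod C.toRepresentation) g x) = ρ g (e x) := by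
    intro g x
    show f.toLinearMap (τ g x.1) + ((C.toRepresentation g x.2 : C.toSubmodule) : V) =
      ρ g (f.toLinearMap x.1 + (x.2 : V))
    rw [map_add, hfc]
    rfl
  refine ⟨C, e, he, ?_⟩
  rw [← Representation.char_iso (Representation.Equiv.mk e fun g => LinearMap.ext (he g))]
  exact funext fun g => LinearMap.trace_prodMap' _ _

/-- Representations with the same character are equivalent. -/
theorem equiv_of_char_eq {V : Type v} [AddCommGroup V] [Module ℂ V] [FiniteDimensional ℂ V]
    {W : Type w} [AddCommGroup W] [Module ℂ W] [FiniteDimensional ℂ W]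
    (ρ : Representation ℂ G V) (σ : Representation ℂ G W) (h : ρ.character = σ.character) :
    Nonempty (ρ.Equiv σ) := by
  classical
  haveI := Fintype.ofFinite G
  induction hn : Module.finrank ℂ V using Nat.strong_induction_on generalizing V W with
  | _ n ih =>
  have hdim : Module.finrank ℂ V = Module.finrank ℂ W := by
    have := congrFun h 1
    rw [Representation.char_one, Representation.char_one] at this
    exact_mod_cast this
  by_cases h0 : Module.finrank ℂ V = 0
  · haveI : Subsingleton V := Module.finrank_zero_iff.1 h0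
    haveI : Subsingleton W := Module.finrank_zero_iff.1 (hdim ▸ h0)
    exact ⟨Representation.Equiv.mk (LinearEquiv.ofFinrankEq V W hdim)
      fun g => LinearMap.ext fun v => Subsingleton.elim _ _⟩
  have hne : ∃ χ : IrrCharacter G, classInner ρ.character (χ : G → ℂ) ≠ 0 := by
    by_contra hall
    push Not at hall
    have := congrFun (eq_sum_classInner
      (isClassFunction_of_isCharacter (isCharacter_of_rep ρ))) 1
    simp [hall] at this
    exact h0 this
  obtain ⟨⟨χ, d, τ, hτ, rfl⟩, hχ⟩ := hne
  haveI := hτ
  obtain ⟨C, e, he, hρ⟩ := exists_split ρ τ hχ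
  obtain ⟨C', e', he', hσ⟩ := exists_split σ τ (h ▸ hχ)
  have hd : 0 < d := by simpa using finrank_pos_of_isIrreducible τ
  have hlt : Module.finrank ℂ C.toSubmodule < n := by
    have := e.finrank_eq
    rw [Module.finrank_prod, Module.finrank_fin_fun, hn] at this
    omega
  have hCC : C.toRepresentation.character = C'.toRepresentation.character := by
    rw [hρ, hσ] at h
    exact add_left_cancel h
  obtain ⟨k⟩ := ih _ hlt C.toRepresentation C'.toRepresentation hCC rfl
  let L : V ≃ₗ[ℂ] W :=
    e.symm.trans (((LinearEquiv.refl ℂ (Fin d → ℂ)).prodCongr k.toLinearEquiv).trans e')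
  refine ⟨Representation.Equiv.mk L fun g => LinearMap.ext fun v => ?_⟩
  obtain ⟨x, rfl⟩ := e.surjective v
  have hk : k.toLinearEquiv (C.toRepresentation g x.2) =
      C'.toRepresentation g (k.toLinearEquiv x.2) :=
    LinearMap.congr_fun (k.toIntertwiningMap.isIntertwining' g) x.2
  show L (ρ g (e x)) = σ g (L (e x))
  rw [← he]
  simp only [L, LinearEquiv.trans_apply, LinearEquiv.symm_apply_apply]
  rw [← he']
  congr 1
  exact Prod.ext rfl hk

end Cfsg.Agent.Chars
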