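import Mathlib

/-!
For `d ≥ 3`, the trace of `A g B g⁻¹` takes every value as `g` runs over `SL_d`, for non-scalar `A`
and `B`.
-/

set_option autoImplicit false
set_option linter.unusedSectionVars false

namespace Cfsg.Agent.Chars.ClassProduct

open Matrix

variable {F : Type*} [Field F] {d : ℕ}

/-- A functional vanishing on a set and equal to one at a vector outside its span. -/
theorem exists_row (S : Set (Fin d → F)) {z : Fin d → F} (hz : z ∉ Submodule.span F S) :
    ∃ r : Fin d → F, r ⬝ᵥ z = 1 ∧ ∀ s ∈ S, r ⬝ᵥ s = 0 := by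
  classical
  obtain ⟨f, hfz, hf⟩ := Submodule.exists_dual_map_eq_bot_of_notMem hz inferInstance
  set r := (dotProductEquiv F (Fin d)).symm f with hr
  have happ : ∀ x, r ⬝ᵥ x = f x := by
    intro x
    conv_rhs => rw [← (dotProductEquiv F (Fin d)).apply_symm_apply f]
    rfl
  refine ⟨(f z)⁻¹ • r, ?_, fun s hs => ?_⟩
  · rw [smul_dotProduct, happ, smul_eq_mul, inv_mul_cancel₀ hfz]
  · have h0 : f s = 0 := by
      have := Submodule.mem_map_of_mem (f := f) (Submodule.subset_span hs)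
      rwa [hf, Submodule.mem_bot] at this
    rw [smul_dotProduct, happ, h0, smul_zero]

theorem span_pair_ne_top (hd : 3 ≤ d) (v w : Fin d → F) :
    ∃ z : Fin d → F, z ∉ Submodule.span F ({v, w} : Set (Fin d → F)) := by
  classical
  by_contra h
  push Not at h
  have htop : Submodule.span F (({v, w} : Finset (Fin d → F)) : Set (Fin d → F)) = ⊤ := by
    rw [Finset.coe_pair]; exact Submodule.eq_top_iff'.2 h
  have h1 := finrank_span_finset_le_card (R := F) ({v, w} : Finset (Fin d → F))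
  rw [Set.finrank, htop, finrank_top, Module.finrank_fin_fun] at h1
  have h2 : ({v, w} : Finset (Fin d → F)).card ≤ 2 := Finset.card_le_two
  omega

/-- `SL_d` is transitive on independent pairs for `d ≥ 3`. -/
theorem exists_sl_pair (hd : 3 ≤ d) {u u' v w : Fin d → F}
    (hu : LinearIndependent F ![u, u']) (hv : LinearIndependent F ![v, w]) :
    ∃ g : SpecialLinearGroup (Fin d) F,
      (g : Matrix (Fin d) (Fin d) F) *ᵥ u = v ∧ (g : Matrix (Fin d) (Fin d) F) *ᵥ u' = w := by
  classical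
  obtain ⟨C, hC⟩ := Submodule.exists_isCompl (Submodule.span F (Set.range ![u, u']))
  obtain ⟨D, hD⟩ := Submodule.exists_isCompl (Submodule.span F (Set.range ![v, w]))
  let eP := (Module.Basis.span hu).equiv (Module.Basis.span hv) (Equiv.refl _)
  have hCD : Module.finrank F C = Module.finrank F D := by
    have h1 := Submodule.finrank_add_eq_of_isCompl hC
    have h2 := Submodule.finrank_add_eq_of_isCompl hD
    have h3 := finrank_span_eq_card hu
    have h4 := finrank_span_eq_card hv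
    omega
  let eC := LinearEquiv.ofFinrankEq _ _ hCD
  let f : (Fin d → F) ≃ₗ[F] (Fin d → F) := (Submodule.prodEquivOfIsCompl _ _ hC).symm.trans
    ((eP.prodCongr eC).trans (Submodule.prodEquivOfIsCompl _ _ hD))
  have hf : ∀ i : Fin 2, f (![u, u'] i) = ![v, w] i := by
    intro i
    have h1 : (Submodule.prodEquivOfIsCompl _ _ hC).symm (![u, u'] i) =
        (Module.Basis.span hu i, 0) := by
      have : ![u, u'] i = ((Module.Basis.span hu i : Submodule.span F (Set.range ![u, u'])) :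
          Fin d → F) := by rw [Module.Basis.span_apply]
      rw [this, Submodule.prodEquivOfIsCompl_symm_apply_left]
    simp only [f, LinearEquiv.trans_apply, h1, LinearEquiv.prodCongr_apply, map_zero,
      Submodule.coe_prodEquivOfIsCompl', ZeroMemClass.coe_zero, add_zero]
    simp only [eP]
    rw [Module.Basis.equiv_apply, Equiv.refl_apply, Module.Basis.span_apply]
  set N : Matrix (Fin d) (Fin d) F := LinearMap.toMatrix' f.toLinearMap with hN
  have hNv : ∀ x, N *ᵥ x = f x := fun x => by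
    rw [hN, LinearMap.toMatrix'_mulVec]; rfl
  have hN0 : N.det ≠ 0 := by
    rw [hN, LinearMap.det_toMatrix']
    exact (LinearEquiv.isUnit_det' f).ne_zero
  obtain ⟨z, hz⟩ := span_pair_ne_top hd v w
  obtain ⟨r, hrz, hr⟩ := exists_row _ hz
  set c : F := N.det⁻¹ - 1 with hc
  set T : Matrix (Fin d) (Fin d) F := 1 + replicateCol Unit (c • z) * replicateRow Unit r with hT
  have hTdet : T.det = N.det⁻¹ := by
    rw [hT, det_one_add_replicateCol_mul_replicateRow, dotProduct_smul, hrz, smul_eq_mul,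
      mul_one, hc, add_sub_cancel]
  have hTv : ∀ x, r ⬝ᵥ x = 0 → T *ᵥ x = x := by
    intro x hx
    rw [hT, add_mulVec, one_mulVec, ← vecMulVec_eq, vecMulVec_mulVec, hx]
    simp
  refine ⟨⟨T * N, by rw [det_mul, hTdet, inv_mul_cancel₀ hN0]⟩, ?_, ?_⟩
  · show (T * N) *ᵥ u = v
    rw [← mulVec_mulVec, hNv, show f u = v from hf 0, hTv v (hr v (Set.mem_insert _ _))]
  · show (T * N) *ᵥ u' = w
    rw [← mulVec_mulVec, hNv, show f u' = w from hf 1, hTv w (hr w (Set.mem_insert_of_mem _ rfl))]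

/-- A matrix which is not scalar moves some vector out of its line. -/
theorem exists_indep (A : Matrix (Fin d) (Fin d) F) (hA : ∀ c : F, A ≠ scalar (Fin d) c) :
    ∃ u : Fin d → F, LinearIndependent F ![u, A *ᵥ u] := by
  classical
  by_contra h
  push Not at h
  have hl : ∀ u : Fin d → F, u ≠ 0 → ∃ c : F, c • u = A *ᵥ u := by
    intro u hu
    by_contra h2
    push Not at h2
    exact h u ((LinearIndependent.pair_iff' hu).2 h2)
  choose a ha using fun i : Fin d => hl (Pi.single i 1) (by simp)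
  have hcol : ∀ i j, A i j = if i = j then a j else 0 := by
    intro i j
    have := congrFun (ha j) i
    simp only [mulVec_single_one, col_apply, Pi.smul_apply, smul_eq_mul] at this
    rw [← this]
    by_cases hij : i = j
    · subst hij; simp
    · simp [hij, Pi.single_eq_of_ne hij]
  rcases Nat.eq_zero_or_pos d with hd | hd
  · subst hd
    exact hA 0 (Matrix.ext fun i => i.elim0)
  refine hA (a ⟨0, hd⟩) (Matrix.ext fun i j => ?_)
  rw [hcol, scalar_apply, diagonal_apply]
  by_cases hij : i = j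
  · subst hij
    simp only [if_true]
    by_cases h0 : i = ⟨0, hd⟩
    · rw [h0]
    obtain ⟨c, hc⟩ := hl (Pi.single i 1 + Pi.single ⟨0, hd⟩ 1) (by
      intro h'
      have := congrFun h' i
      simp [Pi.single_eq_of_ne h0] at this)
    have e1 := congrFun hc i
    have e2 := congrFun hc ⟨0, hd⟩
    rw [mulVec_add, ← ha, ← ha] at e1 e2
    simp [Pi.single_eq_of_ne h0, Pi.single_eq_of_ne (Ne.symm h0)] at e1 e2
    rw [← e1, ← e2]
  · simp [hij]

/-- The trace of `A g B g⁻¹` takes every value. -/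
theorem exists_trace_eq (hd : 3 ≤ d) (A B : SpecialLinearGroup (Fin d) F)
    (hA : ∀ c : F, (A : Matrix (Fin d) (Fin d) F) ≠ scalar (Fin d) c)
    (hB : ∀ c : F, (B : Matrix (Fin d) (Fin d) F) ≠ scalar (Fin d) c) (s : F) :
    ∃ g : SpecialLinearGroup (Fin d) F,
      trace ((A * (g * B * g⁻¹) : SpecialLinearGroup (Fin d) F) : Matrix (Fin d) (Fin d) F) = s := by
  classical
  obtain ⟨v, hvx⟩ := exists_indep _ hA
  obtain ⟨u, hu⟩ := exists_indep _ hB
  set x := (A : Matrix (Fin d) (Fin d) F) *ᵥ v with hx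
  obtain ⟨w, hw⟩ := span_pair_ne_top hd v x
  have hv0 : v ≠ 0 := by simpa using hvx.ne_zero 0
  have hvw : LinearIndependent F ![v, w] := by
    refine (LinearIndependent.pair_iff' hv0).2 fun a h => hw ?_
    rw [← h]
    exact Submodule.smul_mem _ _ (Submodule.subset_span (Set.mem_insert _ _))
  obtain ⟨g₀, hg₀u, hg₀w⟩ := exists_sl_pair hd hu hvw
  have hmv : ∀ (g h : SpecialLinearGroup (Fin d) F) (y : Fin d → F),
      ((g * h : SpecialLinearGroup (Fin d) F) : Matrix (Fin d) (Fin d) F) *ᵥ y =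
        (g : Matrix (Fin d) (Fin d) F) *ᵥ ((h : Matrix (Fin d) (Fin d) F) *ᵥ y) := fun g h y => by
    exact (mulVec_mulVec _ _ _).symm
  have hinv : ∀ (g : SpecialLinearGroup (Fin d) F) (y y' : Fin d → F),
      (g : Matrix (Fin d) (Fin d) F) *ᵥ y = y' →
      ((g⁻¹ : SpecialLinearGroup (Fin d) F) : Matrix (Fin d) (Fin d) F) *ᵥ y' = y := by
    intro g y y' h
    rw [← h, ← hmv, inv_mul_cancel]
    exact one_mulVec y
  set B₁ : SpecialLinearGroup (Fin d) F := g₀ * B * g₀⁻¹ with hB₁
  have hB₁v : (B₁ : Matrix (Fin d) (Fin d) F) *ᵥ v = w := by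
    rw [hB₁, hmv, hmv, hinv g₀ u v hg₀u, hg₀w]
  -- a conjugate whose commutator with `A` moves `v` out of its line
  obtain ⟨g₁, hg₁v, hg₁C⟩ : ∃ g₁ : SpecialLinearGroup (Fin d) F,
      ((g₁ * B₁ * g₁⁻¹ : SpecialLinearGroup (Fin d) F) : Matrix (Fin d) (Fin d) F) *ᵥ v = w ∧
      ((g₁ * B₁ * g₁⁻¹ : SpecialLinearGroup (Fin d) F) : Matrix (Fin d) (Fin d) F) *ᵥ x
        - (A : Matrix (Fin d) (Fin d) F) *ᵥ w ∉ Submodule.span F ({v} : Set (Fin d → F)) := by
    by_cases h1 : (B₁ : Matrix (Fin d) (Fin d) F) *ᵥ x - (A : Matrix (Fin d) (Fin d) F) *ᵥ w ∈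
        Submodule.span F ({v} : Set (Fin d → F))
    swap
    · exact ⟨1, by simpa using hB₁v, by simpa using h1⟩
    have hxn : x ∉ Submodule.span F ({v, w} : Set (Fin d → F)) := by
      intro hxs
      obtain ⟨a, b, hab⟩ := Submodule.mem_span_pair.1 hxs
      rcases eq_or_ne b 0 with hb | hb
      · rw [hb, zero_smul, add_zero] at hab
        exact (LinearIndependent.pair_iff' hv0).1 hvx a hab
      · refine hw ?_
        have hwe : w = b⁻¹ • x + (-(b⁻¹ * a)) • v := by
          rw [← hab, smul_add, smul_smul, smul_smul, inv_mul_cancel₀ hb, one_smul, neg_smul]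
          abel
        rw [hwe]
        exact Submodule.add_mem _
          (Submodule.smul_mem _ _ (Submodule.subset_span (Set.mem_insert_of_mem _ rfl)))
          (Submodule.smul_mem _ _ (Submodule.subset_span (Set.mem_insert _ _)))
    obtain ⟨r, hrx, hr⟩ := exists_row _ hxn
    set T : Matrix (Fin d) (Fin d) F := 1 + replicateCol Unit v * replicateRow Unit r with hT
    have hTy : ∀ y, T *ᵥ y = y + (r ⬝ᵥ y) • v := by
      intro y
      rw [hT, add_mulVec, one_mulVec, ← vecMulVec_eq, vecMulVec_mulVec, op_smul_eq_smul]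
    let g₁ : SpecialLinearGroup (Fin d) F := ⟨T, by
      rw [hT, det_one_add_replicateCol_mul_replicateRow, hr v (Set.mem_insert _ _), add_zero]⟩
    have hg1 : ∀ y, (g₁ : Matrix (Fin d) (Fin d) F) *ᵥ y = y + (r ⬝ᵥ y) • v := hTy
    have hTv : (g₁ : Matrix (Fin d) (Fin d) F) *ᵥ v = v := by
      rw [hg1, hr v (Set.mem_insert _ _), zero_smul, add_zero]
    have hTw : (g₁ : Matrix (Fin d) (Fin d) F) *ᵥ w = w := by
      rw [hg1, hr w (Set.mem_insert_of_mem _ rfl), zero_smul, add_zero]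
    have hTx : (g₁ : Matrix (Fin d) (Fin d) F) *ᵥ (x - v) = x := by
      rw [hg1, dotProduct_sub, hrx, hr v (Set.mem_insert _ _), sub_zero, one_smul, sub_add_cancel]
    refine ⟨g₁, ?_, fun h2 => ?_⟩
    · rw [hmv, hmv, hinv g₁ v v hTv, hB₁v, hTw]
    rw [hmv, hmv, hinv g₁ _ x hTx, mulVec_sub, hB₁v, hg1] at h2
    obtain ⟨a, ha⟩ := Submodule.mem_span_singleton.1 h1
    obtain ⟨b, hb⟩ := Submodule.mem_span_singleton.1 h2
    generalize r ⬝ᵥ ((B₁ : Matrix (Fin d) (Fin d) F) *ᵥ x - w) = q at hb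
    refine (LinearIndependent.pair_iff' hv0).1 hvw (a + q - b) ?_
    rw [sub_smul, add_smul, ha, hb]
    abel
  set B₂ : SpecialLinearGroup (Fin d) F := g₁ * B₁ * g₁⁻¹ with hB₂
  set Cv := (B₂ : Matrix (Fin d) (Fin d) F) *ᵥ x - (A : Matrix (Fin d) (Fin d) F) *ᵥ w with hCv
  -- a functional
  obtain ⟨φ, hφC, hφv, hφ⟩ : ∃ φ : Fin d → F, φ ⬝ᵥ Cv = 1 ∧ φ ⬝ᵥ v = 0 ∧
      (φ ⬝ᵥ x) * (φ ⬝ᵥ w) = 0 := by
    by_cases h2 : Cv ∈ Submodule.span F ({v, x} : Set (Fin d → F))
    · by_cases h3 : Cv ∈ Submodule.span F ({v, w} : Set (Fin d → F))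
      · exfalso
        obtain ⟨a, b, hab⟩ := Submodule.mem_span_pair.1 h2
        obtain ⟨a', c, hac⟩ := Submodule.mem_span_pair.1 h3
        rcases eq_or_ne c 0 with hc | hc
        · rw [hc, zero_smul, add_zero] at hac
          exact hg₁C (Submodule.mem_span_singleton.2 ⟨a', hac⟩)
        · refine hw (Submodule.mem_span_pair.2 ⟨c⁻¹ * (a - a'), c⁻¹ * b, ?_⟩)
          rw [mul_smul, mul_smul, ← smul_add, sub_smul]
          have : a • v - a' • v + b • x = c • w := by
            rw [sub_add_eq_add_sub, hab, ← hac]; abel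
          rw [this, smul_smul, inv_mul_cancel₀ hc, one_smul]
      · obtain ⟨φ, h1, h2'⟩ := exists_row _ h3
        exact ⟨φ, h1, h2' v (Set.mem_insert _ _), by
          rw [h2' w (Set.mem_insert_of_mem _ rfl), mul_zero]⟩
    · obtain ⟨φ, h1, h2'⟩ := exists_row _ h2
      exact ⟨φ, h1, h2' v (Set.mem_insert _ _), by
        rw [h2' x (Set.mem_insert_of_mem _ rfl), zero_mul]⟩
  set N : Matrix (Fin d) (Fin d) F := vecMulVec v φ with hN
  have hNN : N * N = 0 := by
    rw [hN, vecMulVec_mul_vecMulVec, hφv, zero_smul]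
    ext i j
    simp [vecMulVec_apply]
  have hdet : ∀ c : F, (1 + c • N).det = 1 := fun c => by
    rw [hN, ← smul_vecMulVec, vecMulVec_eq Unit, det_one_add_replicateCol_mul_replicateRow,
      dotProduct_smul, hφv, smul_zero, add_zero]
  set c : F := s - trace ((A : Matrix (Fin d) (Fin d) F) * (B₂ : Matrix (Fin d) (Fin d) F)) with hc
  let U : SpecialLinearGroup (Fin d) F := ⟨1 + c • N, hdet c⟩
  let U' : SpecialLinearGroup (Fin d) F := ⟨1 + (-c) • N, hdet (-c)⟩
  have hU : U⁻¹ = U' := by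
    refine inv_eq_of_mul_eq_one_right (Subtype.ext ?_)
    show (1 + c • N) * (1 + (-c) • N) = 1
    rw [neg_smul, add_mul, mul_add, mul_add, one_mul, one_mul, mul_one, mul_neg, smul_mul_smul_comm,
      hNN, smul_zero, neg_zero, add_zero]
    abel
  refine ⟨U * g₁ * g₀, ?_⟩
  have he : U * g₁ * g₀ * B * (U * g₁ * g₀)⁻¹ = U * B₂ * U⁻¹ := by
    rw [hB₂, hB₁]; group
  rw [he, hU]
  set a' := (A : Matrix (Fin d) (Fin d) F) with ha'
  set b' := (B₂ : Matrix (Fin d) (Fin d) F) with hb'
  show trace (a' * ((1 + c • N) * b' * (1 + (-c) • N))) = s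
  have hexp : a' * ((1 + c • N) * b' * (1 + (-c) • N)) =
      a' * b' + c • (a' * N * b') - c • (a' * b' * N) - (c * c) • (a' * N * b' * N) := by
    simp only [Matrix.mul_add, Matrix.add_mul, Matrix.mul_one, Matrix.one_mul, neg_smul,
      Matrix.mul_neg, Matrix.neg_mul, Matrix.mul_smul, Matrix.smul_mul, Matrix.mul_assoc, smul_add,
      smul_neg, smul_smul]
    abel
  have h1 : trace (a' * N * b') = φ ⬝ᵥ (b' *ᵥ x) := by
    rw [trace_mul_cycle, hN, mul_vecMulVec, trace_vecMulVec, dotProduct_comm, ← mulVec_mulVec, hx]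
  have h2 : trace (a' * b' * N) = φ ⬝ᵥ (a' *ᵥ w) := by
    rw [hN, mul_vecMulVec, trace_vecMulVec, dotProduct_comm, ← mulVec_mulVec, hg₁v]
  have h3 : trace (a' * N * b' * N) = 0 := by
    rw [hN, mul_vecMulVec, trace_vecMulVec, dotProduct_comm, ← mulVec_mulVec, hg₁v,
      ← mulVec_mulVec, vecMulVec_mulVec, op_smul_eq_smul, mulVec_smul, dotProduct_smul,
      smul_eq_mul, mul_comm]
    exact hφ
  rw [hexp, trace_sub, trace_sub, trace_add, trace_smul, trace_smul, trace_smul, h1, h2, h3,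
    smul_zero, sub_zero, add_sub_assoc, ← smul_sub, ← dotProduct_sub, ← hCv, hφC, smul_eq_mul,
    mul_one, hc, add_sub_cancel]

end Cfsg.Agent.Chars.ClassProduct
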