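import Cfsg.Agent.Chars.Glauberman
import Cfsg.Agent.Chars.Transport
import Cfsg.Agent.Chars2.Clifford
import Cfsg.Agent.Core.MinimalNormal

/-!
Coprime actions of solvable groups: invariant irreducible characters and invariant classes are
counted by the fixed point subgroup; an invariant character of an invariant normal subgroup lies
under an invariant character.
-/

set_option autoImplicit false
set_option linter.style.haveILetI false
set_option linter.unusedSectionVars false

namespace Cfsg.Agent.Chars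

open scoped ComplexConjugate

universe u v

variable {G : Type u} [Group G] {A : Type v} [Group A]

theorem exists_normal_pgroup [Finite A] (hA : Group.IsSolvable A) [Nontrivial A] :
    ∃ (T : Subgroup A) (p : ℕ), p.Prime ∧ T.Normal ∧ IsPGroup p T ∧ p ∣ Nat.card T := by
  haveI := hA
  obtain ⟨T, hT, -⟩ := Core.exists_isMinNormal_le (N := (⊤ : Subgroup A)) inferInstance
    (fun h => (bot_ne_top (α := Subgroup A)) h.symm)
  obtain ⟨-, p, hp, -, hpT⟩ := hT.elementaryAbelian_of_isSolvable
  haveI := Fact.mk hp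
  refine ⟨T, p, hp, hT.1, hpT, ?_⟩
  obtain ⟨k, hk⟩ := IsPGroup.iff_card.1 hpT
  rcases Nat.eq_zero_or_pos k with rfl | hk0
  · exact absurd (Subgroup.card_eq_one.1 (by simpa using hk)) hT.2.1
  · exact hk ▸ dvd_pow_self p hk0.ne'

theorem card_quotient_lt [Finite A] (T : Subgroup A) {p : ℕ} (hp : p.Prime)
    (hd : p ∣ Nat.card T) : Nat.card (A ⧸ T) < Nat.card A := by
  rw [T.card_eq_card_quotient_mul_card_subgroup]
  exact lt_mul_of_one_lt_right Nat.card_pos
    (lt_of_lt_of_le hp.one_lt (Nat.le_of_dvd Nat.card_pos hd))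

theorem not_dvd_of_pm_one {p m : ℕ} (hp : p.Prime)
    (h : (m : ℤ) ≡ 1 [ZMOD p] ∨ (m : ℤ) ≡ -1 [ZMOD p]) : ¬ p ∣ m := fun hd => by
  have h0 : (m : ℤ) ≡ 0 [ZMOD p] := Int.modEq_zero_iff_dvd.2 (Int.natCast_dvd_natCast.2 hd)
  have h1 : (p : ℤ) ∣ 1 := by
    rcases h with h | h
    · exact Int.modEq_zero_iff_dvd.1 (h.symm.trans h0)
    · exact dvd_neg.1 (Int.modEq_zero_iff_dvd.1 (h.symm.trans h0))
  exact hp.not_dvd_one (Int.natCast_dvd_natCast.1 (by simpa using h1))

section quot

variable (φ : A →* MulAut G) (T : Subgroup A)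

theorem aut_mem_fixSub [hT : T.Normal] (a : A) {c : G} (hc : c ∈ fixSub (φ.comp T.subtype)) :
    φ a c ∈ fixSub (φ.comp T.subtype) := by
  intro t
  have h1 := hc ⟨a⁻¹ * t * a, by simpa using hT.conj_mem t t.2 a⁻¹⟩
  simp only [MonoidHom.comp_apply, Subgroup.coe_subtype] at h1 ⊢
  conv_rhs => rw [← h1]
  rw [← MulAut.mul_apply, ← MulAut.mul_apply, ← map_mul, ← map_mul]
  congr 2
  group

/-- The action on the fixed points of a normal subgroup. -/
def fixAct [T.Normal] : A →* MulAut (fixSub (φ.comp T.subtype)) where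
  toFun a :=
    { toFun := fun c => ⟨φ a c, aut_mem_fixSub φ T a c.2⟩
      invFun := fun c => ⟨φ a⁻¹ c, aut_mem_fixSub φ T a⁻¹ c.2⟩
      left_inv := fun c => Subtype.ext (show φ a⁻¹ (φ a (c : G)) = c by
        rw [← MulAut.mul_apply, ← map_mul, inv_mul_cancel, map_one, MulAut.one_apply])
      right_inv := fun c => Subtype.ext (show φ a (φ a⁻¹ (c : G)) = c by
        rw [← MulAut.mul_apply, ← map_mul, mul_inv_cancel, map_one, MulAut.one_apply])
      map_mul' := fun c d => Subtype.ext (map_mul (φ a) (c : G) d) }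
  map_one' := by ext c; simp
  map_mul' a b := by ext c; simp

@[simp] theorem fixAct_coe [T.Normal] (a : A) (c : fixSub (φ.comp T.subtype)) :
    ((fixAct φ T a c : fixSub (φ.comp T.subtype)) : G) = φ a c := rfl

/-- The quotient action on the fixed points of a normal subgroup. -/
def fixQuot [T.Normal] : A ⧸ T →* MulAut (fixSub (φ.comp T.subtype)) :=
  QuotientGroup.lift T (fixAct φ T) fun t ht => MonoidHom.mem_ker.2
    (MulEquiv.ext fun c => Subtype.ext (c.2 ⟨t, ht⟩))

@[simp] theorem fixQuot_mk [T.Normal] (a : A) :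
    fixQuot φ T (a : A ⧸ T) = fixAct φ T a := rfl

theorem mem_fixSub_fixQuot [T.Normal] (c : fixSub (φ.comp T.subtype)) :
    c ∈ fixSub (fixQuot φ T) ↔ (c : G) ∈ fixSub φ := by
  constructor
  · intro h a
    exact congrArg Subtype.val (h (a : A ⧸ T))
  · intro h q
    induction q using QuotientGroup.induction_on with
    | _ a => exact Subtype.ext (h a)

/-- The fixed points of the quotient action are the fixed points. -/
def fixQuotEquiv [T.Normal] : fixSub (fixQuot φ T) ≃* fixSub φ where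
  toFun c := ⟨c.1.1, (mem_fixSub_fixQuot φ T c.1).1 c.2⟩
  invFun c := ⟨⟨c.1, fun t => c.2 t⟩, (mem_fixSub_fixQuot φ T ⟨c.1, fun t => c.2 t⟩).2 c.2⟩
  left_inv _ := rfl
  right_inv _ := rfl
  map_mul' _ _ := rfl

theorem invFun_fixQuot_iff [T.Normal] (f : fixSub (φ.comp T.subtype) → ℂ) :
    InvFun (fixQuot φ T) f ↔ ∀ (a : A) c, f (fixAct φ T a c) = f c := by
  constructor
  · intro h a c; exact h (a : A ⧸ T) c
  · intro h q c
    induction q using QuotientGroup.induction_on with
    | _ a => exact h a c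

end quot

variable [Fintype G]

/-- The correspondence of a normal subgroup of operators commutes with the operators. -/
theorem glauberman_step [Finite A] (φ : A →* MulAut G) (T : Subgroup A) [hTn : T.Normal] {p : ℕ}
    (hp : p.Prime) (hT : IsPGroup p T) (hpG : ¬ p ∣ Nat.card G)
    [Fintype (fixSub (φ.comp T.subtype))] :
    ∃ (Φ : {χ : IrrCharacter G // InvFun (φ.comp T.subtype) (χ : G → ℂ)} ≃
        IrrCharacter (fixSub (φ.comp T.subtype))),
      (∀ χ, ∃ m : ℕ, restrMult (fixSub (φ.comp T.subtype)) (χ.1 : G → ℂ)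
        (Φ χ : fixSub (φ.comp T.subtype) → ℂ) = m ∧ ¬ p ∣ m) ∧
      (∀ χ (β : IrrCharacter (fixSub (φ.comp T.subtype))) (k : ℕ),
        restrMult (fixSub (φ.comp T.subtype)) (χ.1 : G → ℂ)
          (β : fixSub (φ.comp T.subtype) → ℂ) = k → ¬ p ∣ k → β = Φ χ) ∧
      ∀ χ, InvFun φ (χ.1 : G → ℂ) ↔
        InvFun (fixQuot φ T) (Φ χ : fixSub (φ.comp T.subtype) → ℂ) := by
  obtain ⟨Φ, m, hΦ⟩ := glauberman_pgroup hp hT (φ.comp T.subtype) hpG
  refine ⟨Φ, fun χ => ⟨m χ, (hΦ χ).1, not_dvd_of_pm_one hp (hΦ χ).2.1⟩,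
    fun χ β k => (hΦ χ).2.2 β k, fun χ => ?_⟩
  have hinv : ∀ a : A, InvFun (φ.comp T.subtype)
      (irrEquiv (φ a) χ.1 : G → ℂ) := fun a t g => by
    show (χ.1 : G → ℂ) (φ a (φ t g)) = (χ.1 : G → ℂ) (φ a g)
    have h1 := χ.2 ⟨a * t * a⁻¹, hTn.conj_mem t t.2 a⟩ (φ a g)
    simp only [MonoidHom.comp_apply, Subgroup.coe_subtype] at h1
    rw [← h1, ← MulAut.mul_apply, ← MulAut.mul_apply, ← map_mul, ← map_mul]
    congr 3
    group
  have heq : ∀ a : A, Φ ⟨irrEquiv (φ a) χ.1, hinv a⟩ = irrEquiv (fixAct φ T a) (Φ χ) := by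
    intro a
    symm
    refine (hΦ _).2.2 _ (m χ) ?_ (not_dvd_of_pm_one hp (hΦ χ).2.1)
    rw [← (hΦ χ).1]
    exact classInner_comp_equiv (fixAct φ T a)
      (fun c : fixSub (φ.comp T.subtype) => (χ.1 : G → ℂ) c) (Φ χ : _ → ℂ)
  rw [invFun_fixQuot_iff]
  constructor
  · intro h a c
    have h1 : (⟨irrEquiv (φ a) χ.1, hinv a⟩ :
        {χ : IrrCharacter G // InvFun (φ.comp T.subtype) (χ : G → ℂ)}) = χ :=
      Subtype.ext (Subtype.ext (funext fun g => h a g))
    have h2 := heq a
    rw [h1] at h2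
    exact (congrFun (congrArg Subtype.val h2) c).symm
  · intro h a g
    have h2 : Φ ⟨irrEquiv (φ a) χ.1, hinv a⟩ = Φ χ :=
      (heq a).trans (Subtype.ext (funext fun c => h a c))
    exact congrFun (congrArg Subtype.val (congrArg Subtype.val (Φ.injective h2))) g

/-- Invariant irreducible characters correspond to irreducible characters of the fixed points. -/
theorem glauberman_solvable_equiv [Finite A] (hA : Group.IsSolvable A) (φ : A →* MulAut G)
    (hcop : (Nat.card G).Coprime (Nat.card A)) :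
    Nonempty ({χ : IrrCharacter G // InvFun φ (χ : G → ℂ)} ≃ IrrCharacter (fixSub φ)) := by
  induction hn : Nat.card A using Nat.strong_induction_on generalizing A G with
  | _ n ih =>
  rcases subsingleton_or_nontrivial A with hs | hs
  · have hφ : ∀ a : A, φ a = 1 := fun a => by rw [Subsingleton.elim a 1, map_one]
    have hall : ∀ g : G, g ∈ fixSub φ := fun g a => by rw [hφ a]; rfl
    let e : fixSub φ ≃* G :=
      { toFun := fun c => c.1
        invFun := fun g => ⟨g, hall g⟩
        left_inv := fun _ => rfl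
        right_inv := fun _ => rfl
        map_mul' := fun _ _ => rfl }
    exact ⟨(Equiv.subtypeUnivEquiv (p := fun χ : IrrCharacter G => InvFun φ (χ : G → ℂ))
      (fun χ a g => by rw [hφ a]; rfl)).trans (irrEquiv e)⟩
  · obtain ⟨T, p, hp, hTn, hT, hpT⟩ := exists_normal_pgroup hA
    haveI := hTn
    haveI := hA
    have hpG : ¬ p ∣ Nat.card G := fun h => hp.not_dvd_one
      (hcop ▸ Nat.dvd_gcd h (hpT.trans (Subgroup.card_subgroup_dvd_card T)))
    haveI := Fintype.ofFinite (fixSub (φ.comp T.subtype))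
    obtain ⟨Φ, -, -, hinv⟩ := glauberman_step φ T hp hT hpG
    obtain ⟨E⟩ := ih _ (hn ▸ card_quotient_lt T hp hpT)
      (inferInstance : Group.IsSolvable (A ⧸ T)) (fixQuot φ T)
      (Nat.Coprime.coprime_dvd_left (Subgroup.card_subgroup_dvd_card _)
        (hcop.coprime_dvd_right (Subgroup.card_quotient_dvd_card T))) rfl
    have hT' : ∀ χ : IrrCharacter G, InvFun φ (χ : G → ℂ) →
        InvFun (φ.comp T.subtype) (χ : G → ℂ) := fun χ h t g => h t g
    refine ⟨(((Equiv.subtypeSubtypeEquivSubtype (p := fun χ : IrrCharacter G =>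
      InvFun (φ.comp T.subtype) (χ : G → ℂ)) (q := fun χ => InvFun φ (χ : G → ℂ))
      (fun {χ} h => hT' χ h)).symm.trans (Φ.subtypeEquiv hinv)).trans E).trans
      (irrEquiv (fixQuotEquiv φ T).symm)⟩

/-- Fixed points of a `p`-group meet every invariant class. -/
theorem exists_fixed_conj_pgroup [Finite A] {p : ℕ} (hp : p.Prime) (hA : IsPGroup p A)
    (φ : A →* MulAut G) (hpG : ¬ p ∣ Nat.card G) {g : G} (hg : ∀ a, IsConj g (φ a g)) :
    ∃ c ∈ fixSub φ, IsConj g c := by
  classical
  haveI := Fact.mk hp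
  letI : MulAction A {x : G // IsConj g x} :=
    { smul := fun a x => ⟨φ a x, (hg a).trans ((φ a).toMonoidHom.map_isConj x.2)⟩
      mul_smul := fun a b x => Subtype.ext (show φ (a * b) (x : G) = _ by rw [map_mul]; rfl)
      one_smul := fun x => Subtype.ext (show φ 1 (x : G) = _ by rw [map_one]; rfl) }
  have hcard : Nat.card {x : G // IsConj g x} = (Subgroup.centralizer ({g} : Set G)).index := by
    rw [← card_filter_isConj, Nat.card_eq_fintype_card, Fintype.card_subtype]
    convert rfl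
  have hnd : ¬ p ∣ Nat.card {x : G // IsConj g x} := by
    rw [hcard]
    exact fun h => hpG (h.trans (Subgroup.index_dvd_card _))
  obtain ⟨x, hx⟩ := hA.nonempty_fixed_point_of_prime_not_dvd_card {x : G // IsConj g x} hnd
  exact ⟨x.1, fun a => congrArg Subtype.val (hx a), x.2⟩

/-- Fixed points of a `p`-group conjugate in the group are conjugate by a fixed point. -/
theorem conj_in_fixSub_pgroup [Finite A] {p : ℕ} (hp : p.Prime) (hA : IsPGroup p A)
    (φ : A →* MulAut G) (hpG : ¬ p ∣ Nat.card G) {c c' : G} (hc : c ∈ fixSub φ)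
    (hc' : c' ∈ fixSub φ) (h : IsConj c c') : ∃ d ∈ fixSub φ, d * c * d⁻¹ = c' := by
  classical
  haveI := Fact.mk hp
  obtain ⟨d₀, hd₀⟩ := isConj_iff.1 h
  letI : MulAction A {x : G // x * c * x⁻¹ = c'} :=
    { smul := fun a x => ⟨φ a x, by
        have h1 := congrArg (φ a) x.2
        rwa [map_mul, map_mul, map_inv, hc a, hc' a] at h1⟩
      mul_smul := fun a b x => Subtype.ext (show φ (a * b) (x : G) = _ by rw [map_mul]; rfl)
      one_smul := fun x => Subtype.ext (show φ 1 (x : G) = _ by rw [map_one]; rfl) }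
  have hcard : Nat.card {x : G // x * c * x⁻¹ = c'} =
      Nat.card (Subgroup.centralizer ({c} : Set G)) := by
    refine Nat.card_congr
      { toFun := fun x => ⟨d₀⁻¹ * x.1, Subgroup.mem_centralizer_iff.2 fun z hz => ?_⟩
        invFun := fun z => ⟨d₀ * z.1, ?_⟩
        left_inv := fun x => Subtype.ext (mul_inv_cancel_left d₀ x.1)
        right_inv := fun z => Subtype.ext (inv_mul_cancel_left d₀ z.1) }
    · rw [Set.mem_singleton_iff.1 hz]
      calc c * (d₀⁻¹ * x.1) = d₀⁻¹ * (d₀ * c * d₀⁻¹) * x.1 := by group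
        _ = d₀⁻¹ * (x.1 * c * x.1⁻¹) * x.1 := by rw [hd₀, x.2]
        _ = d₀⁻¹ * x.1 * c := by group
    · have h1 : c * z.1 = z.1 * c := Subgroup.mem_centralizer_iff.1 z.2 c rfl
      calc d₀ * z.1 * c * (d₀ * z.1)⁻¹ = d₀ * (z.1 * c * z.1⁻¹) * d₀⁻¹ := by group
        _ = d₀ * c * d₀⁻¹ := by rw [← h1, mul_inv_cancel_right]
        _ = c' := hd₀
  have hnd : ¬ p ∣ Nat.card {x : G // x * c * x⁻¹ = c'} := by
    rw [hcard]
    exact fun h => hpG (h.trans (Subgroup.card_subgroup_dvd_card _))
  obtain ⟨x, hx⟩ := hA.nonempty_fixed_point_of_prime_not_dvd_card {x : G // x * c * x⁻¹ = c'} hnd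
  exact ⟨x.1, fun a => congrArg Subtype.val (hx a), x.2⟩

/-- Invariant classes meet the fixed points in exactly one class of the fixed points. -/
theorem glauberman_classes [Finite A] (hA : Group.IsSolvable A) (φ : A →* MulAut G)
    (hcop : (Nat.card G).Coprime (Nat.card A)) :
    (∀ g : G, (∀ a, IsConj g (φ a g)) → ∃ c ∈ fixSub φ, IsConj g c) ∧
    ∀ c ∈ fixSub φ, ∀ c' ∈ fixSub φ, IsConj c c' → ∃ d ∈ fixSub φ, d * c * d⁻¹ = c' := by
  induction hn : Nat.card A using Nat.strong_induction_on generalizing A G with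
  | _ n ih =>
  rcases subsingleton_or_nontrivial A with hs | hs
  · have hall : ∀ g : G, g ∈ fixSub φ := fun g a => by rw [Subsingleton.elim a 1, map_one]; rfl
    refine ⟨fun g _ => ⟨g, hall g, IsConj.refl g⟩, fun c _ c' _ h => ?_⟩
    obtain ⟨d, hd⟩ := isConj_iff.1 h
    exact ⟨d, hall d, hd⟩
  · obtain ⟨T, p, hp, hTn, hT, hpT⟩ := exists_normal_pgroup hA
    haveI := hTn
    haveI := hA
    have hpG : ¬ p ∣ Nat.card G := fun h => hp.not_dvd_one
      (hcop ▸ Nat.dvd_gcd h (hpT.trans (Subgroup.card_subgroup_dvd_card T)))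
    haveI := Fintype.ofFinite (fixSub (φ.comp T.subtype))
    obtain ⟨hE, hU⟩ := ih _ (hn ▸ card_quotient_lt T hp hpT)
      (inferInstance : Group.IsSolvable (A ⧸ T)) (fixQuot φ T)
      (Nat.Coprime.coprime_dvd_left (Subgroup.card_subgroup_dvd_card _)
        (hcop.coprime_dvd_right (Subgroup.card_quotient_dvd_card T))) rfl
    constructor
    · intro g hg
      obtain ⟨c, hc, hgc⟩ := exists_fixed_conj_pgroup hp hT (φ.comp T.subtype) hpG
        (fun t => hg t)
      obtain ⟨d, hd, hcd⟩ := hE ⟨c, hc⟩ (fun q => by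
        induction q using QuotientGroup.induction_on with
        | _ a =>
          have h1 : IsConj c (φ a c) :=
            hgc.symm.trans ((hg a).trans ((φ a).toMonoidHom.map_isConj hgc))
          obtain ⟨e, he, he'⟩ := conj_in_fixSub_pgroup hp hT (φ.comp T.subtype) hpG hc
            (aut_mem_fixSub φ T a hc) h1
          exact isConj_iff.2 ⟨⟨e, he⟩, Subtype.ext he'⟩)
      exact ⟨d.1, (mem_fixSub_fixQuot φ T d).1 hd,
        hgc.trans ((fixSub (φ.comp T.subtype)).subtype.map_isConj hcd)⟩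
    · intro c hc c' hc' hcc
      obtain ⟨e, he, he'⟩ := conj_in_fixSub_pgroup hp hT (φ.comp T.subtype) hpG
        (fun t => hc t) (fun t => hc' t) hcc
      obtain ⟨d, hd, hd'⟩ := hU ⟨c, fun t => hc t⟩ ((mem_fixSub_fixQuot φ T _).2 hc)
        ⟨c', fun t => hc' t⟩ ((mem_fixSub_fixQuot φ T _).2 hc')
        (isConj_iff.2 ⟨⟨e, he⟩, Subtype.ext he'⟩)
      exact ⟨d.1, (mem_fixSub_fixQuot φ T d).1 hd, congrArg Subtype.val hd'⟩

/-- The number of invariant classes is the number of classes of the fixed points. -/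
theorem card_fixed_classes [Finite A] (hA : Group.IsSolvable A) (φ : A →* MulAut G)
    (hcop : (Nat.card G).Coprime (Nat.card A)) :
    Nat.card {K : ConjClasses G // ∀ a, ConjClasses.map (φ a).toMonoidHom K = K} =
      Nat.card (ConjClasses (fixSub φ)) := by
  obtain ⟨hE, hU⟩ := glauberman_classes hA φ hcop
  refine (Nat.card_eq_of_bijective (fun D : ConjClasses (fixSub φ) =>
    (⟨ConjClasses.map (fixSub φ).subtype D, fun a => ?_⟩ :
      {K : ConjClasses G // ∀ a, ConjClasses.map (φ a).toMonoidHom K = K})) ⟨?_, ?_⟩).symm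
  · obtain ⟨c, rfl⟩ := ConjClasses.mk_surjective D
    exact congrArg ConjClasses.mk (c.2 a)
  · intro D D' h
    obtain ⟨c, rfl⟩ := ConjClasses.mk_surjective D
    obtain ⟨c', rfl⟩ := ConjClasses.mk_surjective D'
    obtain ⟨d, hd, hd'⟩ := hU c c.2 c' c'.2
      (ConjClasses.mk_eq_mk_iff_isConj.1 (congrArg Subtype.val h :))
    exact ConjClasses.mk_eq_mk_iff_isConj.2 (isConj_iff.2 ⟨⟨d, hd⟩, Subtype.ext hd'⟩)
  · rintro ⟨K, hK⟩
    obtain ⟨g, rfl⟩ := ConjClasses.mk_surjective K
    obtain ⟨c, hc, hgc⟩ := hE g fun a =>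
      (ConjClasses.mk_eq_mk_iff_isConj.1 (hK a :)).symm
    exact ⟨ConjClasses.mk ⟨c, hc⟩, Subtype.ext (ConjClasses.mk_eq_mk_iff_isConj.2 hgc.symm)⟩

section above

/-- The restriction of an action to an invariant subgroup. -/
def subAct (φ : A →* MulAut G) (N : Subgroup G) (hN : ∀ a, ∀ n ∈ N, φ a n ∈ N) :
    A →* MulAut N where
  toFun a :=
    { toFun := fun n => ⟨φ a n, hN a n n.2⟩
      invFun := fun n => ⟨φ a⁻¹ n, hN a⁻¹ n n.2⟩
      left_inv := fun n => Subtype.ext (show φ a⁻¹ (φ a (n : G)) = n by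
        rw [← MulAut.mul_apply, ← map_mul, inv_mul_cancel, map_one, MulAut.one_apply])
      right_inv := fun n => Subtype.ext (show φ a (φ a⁻¹ (n : G)) = n by
        rw [← MulAut.mul_apply, ← map_mul, mul_inv_cancel, map_one, MulAut.one_apply])
      map_mul' := fun c d => Subtype.ext (map_mul (φ a) (c : G) d) }
  map_one' := by ext n; simp
  map_mul' a b := by ext n; simp

/-- Some irreducible character lies above a given one. -/
theorem exists_irr_above (N : Subgroup G) [Fintype N] {θ : N → ℂ} (hθ : IsIrrCharacter N θ) :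
    ∃ χ : IrrCharacter G, classInner (fun n : N => (χ : G → ℂ) n) θ ≠ 0 := by
  by_contra h
  push Not at h
  have h1 := congrFun (eq_sum_classInner (isClassFunction_indFun N θ)) 1
  rw [indFun_apply_one, Finset.sum_apply, Finset.sum_eq_zero fun χ _ => ?_] at h1
  · exact mul_ne_zero (Nat.cast_ne_zero.2 Subgroup.index_ne_zero_of_finite)
      (irr_apply_one_ne_zero hθ) h1
  · rw [classInner_indFun N θ (isClassFunction_irr χ), ← classInner_conj_symm, h χ]
    simp

/-- One step of the lifting: a fixed point character above the correspondent lifts. -/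
theorem glauberman_above_step [Finite A] {p : ℕ} (hp : p.Prime) (hA : IsPGroup p A)
    (φ : A →* MulAut G) [Fintype (fixSub φ)] (hpG : ¬ p ∣ Nat.card G)
    (Φ : {χ : IrrCharacter G // InvFun φ (χ : G → ℂ)} ≃ IrrCharacter (fixSub φ))
    (hΦ : ∀ χ (β : IrrCharacter (fixSub φ)) (k : ℕ), restrMult (fixSub φ) (χ.1 : G → ℂ)
      ((β : IrrCharacter (fixSub φ)) : fixSub φ → ℂ) = k → ¬ p ∣ k → β = Φ χ)
    (N : Subgroup G) [N.Normal] [Fintype N] [Fintype (N.subgroupOf (fixSub φ))]
    (hN : ∀ a, ∀ n ∈ N, φ a n ∈ N) {θ : N → ℂ} (hθ : IsCharacter N θ)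
    (hθi : ∀ (a : A) (n : N), θ ⟨φ a n, hN a n n.2⟩ = θ n)
    (β : IrrCharacter (fixSub φ)) {k : ℕ}
    (hk : classInner (fun x : N.subgroupOf (fixSub φ) => θ ⟨((x : fixSub φ) : G), x.2⟩)
      (fun x : N.subgroupOf (fixSub φ) => (β : fixSub φ → ℂ) x) = k) (hkp : ¬ p ∣ k) :
    classInner (fun n : N => ((Φ.symm β).1 : G → ℂ) n) θ ≠ 0 := by
  classical
  set χ₀ := (Φ.symm β).1 with hχ₀
  intro hzero
  have hN' := Subgroup.card_subgroup_dvd_card (N.subgroupOf (fixSub φ))
  have hind := eq_sum_classInner (isClassFunction_indFun N θ)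
  have hcθ := isCharacter_indFun N hθ
  choose a ha using fun χ : IrrCharacter G =>
    exists_classInner_eq_nat hcθ (irr_isCharacter χ)
  choose n hn using fun χ : IrrCharacter G => exists_classInner_eq_nat
    (isCharacter_restrict (irr_isCharacter χ) (fixSub φ)) (irr_isCharacter β)
  have hβc := irr_isCharacter β
  -- the left side
  let L : ℂ := ∑ c : fixSub φ, ((Nat.card N : ℂ) * indFun N θ (c : G)) * conj ((β : fixSub φ → ℂ) c)
  have hL1 : L = ((Nat.card N * Nat.card (fixSub φ) * ∑ χ : IrrCharacter G, a χ * n χ : ℕ) : ℂ) := by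
    push_cast
    have h1 : ∀ χ : IrrCharacter G, (Nat.card (fixSub φ) : ℂ) * (n χ : ℂ) =
        ∑ c : fixSub φ, (χ : G → ℂ) c * conj ((β : fixSub φ → ℂ) c) := fun χ => by
      rw [← hn, classInner_def, ← mul_assoc, mul_inv_cancel₀ card_ne_zero, one_mul]
    show ∑ c : fixSub φ, _ = _
    calc ∑ c : fixSub φ, ((Nat.card N : ℂ) * indFun N θ (c : G)) * conj ((β : fixSub φ → ℂ) c)
        = ∑ c : fixSub φ, ∑ χ : IrrCharacter G, (Nat.card N : ℂ) * (a χ : ℂ) *
            ((χ : G → ℂ) c * conj ((β : fixSub φ → ℂ) c)) := by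
          refine Finset.sum_congr rfl fun c _ => ?_
          rw [congrFun hind (c : G), Finset.sum_apply, Finset.mul_sum, Finset.sum_mul]
          refine Finset.sum_congr rfl fun χ _ => ?_
          rw [Pi.smul_apply, smul_eq_mul, ha]; ring
      _ = _ := by
          rw [Finset.sum_comm, Finset.mul_sum]
          refine Finset.sum_congr rfl fun χ _ => ?_
          rw [← Finset.mul_sum, ← h1]; ring
  have hL2 : CongrP p L ((Nat.card (fixSub φ) * (Nat.card (N.subgroupOf (fixSub φ)) * k) : ℕ) : ℂ) := by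
    push_cast
    have hRe : ∀ c : fixSub φ, (Nat.card N : ℂ) * indFun N θ (c : G) =
        ∑ x : G, extendByZero N θ (x⁻¹ * c * x) := fun c => by
      rw [indFun_apply, ← mul_assoc, mul_inv_cancel₀ (subgroup_card_ne_zero N), one_mul]
    have hconj : ∀ c, IsIntegral ℤ (conj ((β : fixSub φ → ℂ) c)) := fun c => by
      rw [← char_inv_eq_conj hβc]; exact isIntegral_of_isCharacter hβc _
    have h1 : CongrP p L (∑ c : fixSub φ, (∑ x : fixSub φ,
        extendByZero N θ ((x : G)⁻¹ * c * x)) * conj ((β : fixSub φ → ℂ) c)) := by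
      refine congrP_sum _ fun c _ => ?_
      rw [hRe c, mul_comm _ (conj _), mul_comm _ (conj _)]
      refine congrP_mul_left (hconj c) (congrP_sum_fixSub hp hA φ _ (fun x => ?_) fun b x => ?_)
      · by_cases h : x⁻¹ * c * x ∈ N
        · rw [extendByZero_of_mem N _ h]; exact isIntegral_of_isCharacter hθ _
        · rw [extendByZero_of_not_mem N _ h]; exact isIntegral_zero
      · have he : (φ b x)⁻¹ * c * φ b x = φ b (x⁻¹ * c * x) := by
          rw [map_mul, map_mul, map_inv, c.2 b]
        rw [he]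
        by_cases h : x⁻¹ * c * x ∈ N
        · rw [extendByZero_of_mem N _ h, extendByZero_of_mem N _ (hN b _ h)]
          exact hθi b ⟨_, h⟩
        · rw [extendByZero_of_not_mem N _ h, extendByZero_of_not_mem N _ fun h' => h ?_]
          have := hN b⁻¹ _ h'
          rwa [← MulAut.mul_apply, ← map_mul, inv_mul_cancel, map_one, MulAut.one_apply] at this
    refine congrP_trans h1 ?_
    have h2 : ∀ x : fixSub φ, ∑ c : fixSub φ, extendByZero N θ ((x : G)⁻¹ * c * x) *
        conj ((β : fixSub φ → ℂ) c) = (Nat.card (N.subgroupOf (fixSub φ)) : ℂ) * k := by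
      intro x
      rw [← hk, classInner_def, ← mul_assoc, mul_inv_cancel₀ card_ne_zero, one_mul]
      have e1 : ∑ c : fixSub φ, extendByZero N θ ((x : G)⁻¹ * c * x) *
          conj ((β : fixSub φ → ℂ) c) =
          ∑ c : fixSub φ, extendByZero N θ (c : G) * conj ((β : fixSub φ → ℂ) c) := by
        refine Fintype.sum_equiv (MulAut.conj x⁻¹).toEquiv _ _ fun c => ?_
        simp only [MulEquiv.toEquiv_eq_coe, EquivLike.coe_coe, MulAut.conj_apply, inv_inv,
          Subgroup.coe_mul, InvMemClass.coe_inv]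
        congr 2
        have := isCharacter_conj_apply hβc c (x⁻¹)
        rw [inv_inv] at this
        exact this.symm
      rw [e1, ← sum_extendByZero_mul (N.subgroupOf (fixSub φ))
        (fun y : N.subgroupOf (fixSub φ) => θ ⟨((y : fixSub φ) : G), y.2⟩)
        (fun c => conj ((β : fixSub φ → ℂ) c))]
      refine Finset.sum_congr rfl fun c _ => ?_
      congr 1
      by_cases h : (c : G) ∈ N
      · rw [extendByZero_of_mem N _ h, extendByZero_of_mem _ _ (Subgroup.mem_subgroupOf.2 h)]
      · rw [extendByZero_of_not_mem N _ h,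
          extendByZero_of_not_mem _ _ (fun h' => h (Subgroup.mem_subgroupOf.1 h'))]
    rw [show (∑ c : fixSub φ, (∑ x : fixSub φ, extendByZero N θ ((x : G)⁻¹ * c * x)) *
        conj ((β : fixSub φ → ℂ) c)) = ∑ x : fixSub φ, ∑ c : fixSub φ,
          extendByZero N θ ((x : G)⁻¹ * c * x) * conj ((β : fixSub φ → ℂ) c) by
      simp only [Finset.sum_mul]; exact Finset.sum_comm,
      Finset.sum_congr rfl fun x _ => h2 x, Finset.sum_const, Finset.card_univ, nsmul_eq_mul,
      ← Nat.card_eq_fintype_card]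
    exact congrP_refl _
  letI := irrAction φ
  let S : Finset (IrrCharacter G) := Finset.univ.filter fun χ => InvFun φ (χ : G → ℂ)
  have hSmem : ∀ χ : IrrCharacter G, χ ∈ S ↔ ∀ b : A, b • χ = χ := fun χ => by
    simp only [S, Finset.mem_filter, Finset.mem_univ, true_and]
    exact (irrAction_fixed_iff φ χ).symm
  have hsum : CongrP p ((∑ χ : IrrCharacter G, a χ * n χ : ℕ) : ℂ)
      ((∑ χ ∈ S, a χ * n χ : ℕ) : ℂ) := by
    push_cast
    refine congrP_sum_fixed hp hA S hSmem (fun χ => (a χ : ℂ) * (n χ : ℂ))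
      (fun χ => (isIntegral_algebraMap (x := (a χ : ℤ))).mul
        (isIntegral_algebraMap (x := (n χ : ℤ)))) (fun b χ => ?_)
    have he : ∀ c : fixSub φ, ((b • χ : IrrCharacter G) : G → ℂ) c = (χ : G → ℂ) c := fun c => by
      show (χ : G → ℂ) (φ b⁻¹ c) = _
      rw [c.2 b⁻¹]
    have h1 : (n (b • χ) : ℂ) = n χ := by
      rw [← hn, ← hn]; congr 1; exact funext he
    have h2 : (a (b • χ) : ℂ) = a χ := by
      rw [← ha, ← ha, classInner_indFun N θ (isClassFunction_irr _),
        classInner_indFun N θ (isClassFunction_irr _)]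
      conv_rhs => rw [← classInner_comp_equiv (subAct φ N hN b⁻¹)]
      congr 1
      exact funext fun x => (hθi b⁻¹ x).symm
    rw [h1, h2]
  have hS : p ∣ ∑ χ ∈ S, a χ * n χ := by
    refine Finset.dvd_sum fun χ hχ => ?_
    by_cases hnd : p ∣ n χ
    · exact Dvd.dvd.mul_left hnd _
    · have h1 := hΦ ⟨χ, (Finset.mem_filter.1 hχ).2⟩ β (n χ) (hn χ) hnd
      have h2 : χ = χ₀ := by rw [hχ₀, h1, Equiv.symm_apply_apply]
      have h3 : a χ = 0 := by
        have := ha χ
        rw [classInner_indFun N θ (isClassFunction_irr χ), ← classInner_conj_symm, h2, hzero,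
          map_zero] at this
        rw [h2]
        exact_mod_cast this.symm
      rw [h3, zero_mul]
      exact dvd_zero _
  have hS' : (((∑ χ ∈ S, a χ * n χ : ℕ) : ℤ)) ≡ 0 [ZMOD p] :=
    Int.modEq_zero_iff_dvd.2 (Int.natCast_dvd_natCast.2 hS)
  have h5 := ((congrP_nat hp).1 hsum).trans hS'
  rw [hL1] at hL2
  have h6 := (congrP_nat hp).1 hL2
  push_cast at h6 h5
  have h7 : ((Nat.card (fixSub φ) : ℤ) * ((Nat.card (N.subgroupOf (fixSub φ)) : ℤ) * (k : ℤ))) ≡ 0
      [ZMOD p] := by
    refine h6.symm.trans ?_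
    simpa using h5.mul_left ((Nat.card N : ℤ) * (Nat.card (fixSub φ) : ℤ))
  have h8 : p ∣ Nat.card (fixSub φ) * (Nat.card (N.subgroupOf (fixSub φ)) * k) :=
    Int.natCast_dvd_natCast.1 (by exact_mod_cast Int.modEq_zero_iff_dvd.1 h7)
  have hC : ¬ p ∣ Nat.card (fixSub φ) :=
    fun h => hpG (h.trans (Subgroup.card_subgroup_dvd_card _))
  rcases hp.dvd_mul.1 h8 with h | h
  · exact hC h
  · rcases hp.dvd_mul.1 h with h | h
    · exact hC (h.trans hN')
    · exact hkp h

/-- An invariant character of an invariant normal subgroup lies under an invariant character. -/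
theorem exists_invariant_above [Finite A] (hA : Group.IsSolvable A) (φ : A →* MulAut G)
    (hcop : (Nat.card G).Coprime (Nat.card A)) (N : Subgroup G) [N.Normal] [Fintype N]
    (hN : ∀ a, ∀ n ∈ N, φ a n ∈ N) {θ : N → ℂ} (hθ : IsIrrCharacter N θ)
    (hθi : ∀ (a : A) (n : N), θ ⟨φ a n, hN a n n.2⟩ = θ n) :
    ∃ χ : IrrCharacter G, InvFun φ (χ : G → ℂ) ∧
      classInner (fun n : N => (χ : G → ℂ) n) θ ≠ 0 := by
  classical
  induction hn : Nat.card A using Nat.strong_induction_on generalizing A G with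
  | _ n ih =>
  rcases subsingleton_or_nontrivial A with hs | hs
  · obtain ⟨χ, hχ⟩ := exists_irr_above N hθ
    exact ⟨χ, fun a g => by rw [Subsingleton.elim a 1, map_one]; rfl, hχ⟩
  · obtain ⟨T, p, hp, hTn, hT, hpT⟩ := exists_normal_pgroup hA
    haveI := hTn
    haveI := hA
    have hpG : ¬ p ∣ Nat.card G := fun h => hp.not_dvd_one
      (hcop ▸ Nat.dvd_gcd h (hpT.trans (Subgroup.card_subgroup_dvd_card T)))
    haveI := Fintype.ofFinite (fixSub (φ.comp T.subtype))
    haveI := Fintype.ofFinite (fixSub ((subAct φ N hN).comp T.subtype))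
    haveI := Fintype.ofFinite (N.subgroupOf (fixSub (φ.comp T.subtype)))
    obtain ⟨Φ, hm, huniq, hinv⟩ := glauberman_step φ T hp hT hpG
    obtain ⟨ΦN, hmN, huniqN, hinvN⟩ := glauberman_step (subAct φ N hN) T hp hT
      (fun h => hpG (h.trans (Subgroup.card_subgroup_dvd_card N)))
    let θT : {χ : IrrCharacter N // InvFun ((subAct φ N hN).comp T.subtype) (χ : N → ℂ)} :=
      ⟨⟨θ, hθ⟩, fun t x => hθi t x⟩
    let e : N.subgroupOf (fixSub (φ.comp T.subtype)) ≃* fixSub ((subAct φ N hN).comp T.subtype) :=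
      { toFun := fun x => ⟨⟨x.1.1, x.2⟩, fun t => Subtype.ext (x.1.2 t)⟩
        invFun := fun y => ⟨⟨y.1.1, fun t => congrArg Subtype.val (y.2 t)⟩, y.1.2⟩
        left_inv := fun _ => rfl
        right_inv := fun _ => rfl
        map_mul' := fun _ _ => rfl }
    let θ' : IrrCharacter (N.subgroupOf (fixSub (φ.comp T.subtype))) := irrEquiv e (ΦN θT)
    have hθ'i : ∀ (q : A ⧸ T), ∀ x ∈ N.subgroupOf (fixSub (φ.comp T.subtype)),
        fixQuot φ T q x ∈ N.subgroupOf (fixSub (φ.comp T.subtype)) := by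
      intro q x hx
      induction q using QuotientGroup.induction_on with
      | _ a => exact hN a _ hx
    have hθinv := (hinvN θT).1 (fun a x => hθi a x)
    obtain ⟨β, hβi, hβ⟩ := ih _ (hn ▸ card_quotient_lt T hp hpT)
      (inferInstance : Group.IsSolvable (A ⧸ T)) (fixQuot φ T)
      (Nat.Coprime.coprime_dvd_left (Subgroup.card_subgroup_dvd_card _)
        (hcop.coprime_dvd_right (Subgroup.card_quotient_dvd_card T)))
      (N.subgroupOf (fixSub (φ.comp T.subtype))) hθ'i θ'.2 (fun q x => by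
        induction q using QuotientGroup.induction_on with
        | _ a => exact hθinv (a : A ⧸ T) (e x)) rfl
    refine ⟨(Φ.symm β).1, (hinv (Φ.symm β)).2 (by rwa [Equiv.apply_symm_apply]), ?_⟩
    have hpC : ¬ p ∣ Nat.card (fixSub (φ.comp T.subtype)) := fun h => hpG (h.trans (Subgroup.card_subgroup_dvd_card _))
    -- the multiplicity of `θ'` below `β` is prime to `p`
    obtain ⟨f, hf⟩ := exists_classInner_eq_nat
      (isCharacter_restrict (irr_isCharacter β) (N.subgroupOf (fixSub (φ.comp T.subtype)))) (irr_isCharacter θ')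
    have hfp : ¬ p ∣ f := by
      obtain ⟨d, -, hd1, hd⟩ := irr_degree_dvd_card β.2
      obtain ⟨d', -, hd', -⟩ := irr_degree_dvd_card θ'.2
      intro hdvd
      have h1 := Chars2.clifford_degree β.2 θ'.2 hβ
      rw [hd1, hf, hd', ← Nat.cast_mul, ← Nat.cast_mul, Nat.cast_inj] at h1
      exact hpC ((hdvd.trans (Dvd.dvd.mul_right (Dvd.dvd.mul_left dvd_rfl _) _)).trans (h1 ▸ hd))
    obtain ⟨k, hk⟩ := exists_classInner_eq_nat
      (χ := fun x : N.subgroupOf (fixSub (φ.comp T.subtype)) => θ ⟨((x : (fixSub (φ.comp T.subtype))) : G), x.2⟩)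
      (ψ := fun x : N.subgroupOf (fixSub (φ.comp T.subtype)) => (β : (fixSub (φ.comp T.subtype)) → ℂ) x)
      (isCharacter_comp (isCharacter_of_isIrr hθ)
        ({ toFun := fun x => ⟨((x : (fixSub (φ.comp T.subtype))) : G), x.2⟩
           map_one' := rfl
           map_mul' := fun _ _ => rfl } : N.subgroupOf (fixSub (φ.comp T.subtype)) →* N))
      (isCharacter_restrict (irr_isCharacter β) (N.subgroupOf (fixSub (φ.comp T.subtype))))
    refine glauberman_above_step hp hT (φ.comp T.subtype) hpG Φ huniq N (fun t => hN t)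
      (isCharacter_of_isIrr hθ) (fun t x => hθi t x) β hk ?_
    -- compare `k` with the product of the two multiplicities
    obtain ⟨m0, hm0, hm0p⟩ := hmN θT
    choose nθ hnθ using fun η : IrrCharacter (N.subgroupOf (fixSub (φ.comp T.subtype))) => exists_classInner_eq_nat
      (χ := fun x : N.subgroupOf (fixSub (φ.comp T.subtype)) => θ ⟨((x : (fixSub (φ.comp T.subtype))) : G), x.2⟩) (ψ := (η : N.subgroupOf (fixSub (φ.comp T.subtype)) → ℂ))
      (isCharacter_comp (isCharacter_of_isIrr hθ)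
        ({ toFun := fun x => ⟨((x : (fixSub (φ.comp T.subtype))) : G), x.2⟩
           map_one' := rfl
           map_mul' := fun _ _ => rfl } : N.subgroupOf (fixSub (φ.comp T.subtype)) →* N)) (irr_isCharacter η)
    choose nβ hnβ using fun η : IrrCharacter (N.subgroupOf (fixSub (φ.comp T.subtype))) => exists_classInner_eq_nat
      (isCharacter_restrict (irr_isCharacter β) (N.subgroupOf (fixSub (φ.comp T.subtype)))) (irr_isCharacter η)
    have hksum : k = ∑ η, nθ η * nβ η := by
      have h1 := classInner_eq_sum (isClassFunction_of_isCharacter (isCharacter_comp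
        (isCharacter_of_isIrr hθ) ({ toFun := fun x => ⟨((x : (fixSub (φ.comp T.subtype))) : G), x.2⟩
                                     map_one' := rfl
                                     map_mul' := fun _ _ => rfl } : N.subgroupOf (fixSub (φ.comp T.subtype)) →* N)))
        (fun x : N.subgroupOf (fixSub (φ.comp T.subtype)) => (β : (fixSub (φ.comp T.subtype)) → ℂ) x)
      have h2 : ((k : ℕ) : ℂ) = ((∑ η, nθ η * nβ η : ℕ) : ℂ) := by
        rw [← hk]
        refine h1.trans ?_
        push_cast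
        refine Finset.sum_congr rfl fun η _ => ?_
        rw [← classInner_conj_symm (fun x : N.subgroupOf (fixSub (φ.comp T.subtype)) => (β : (fixSub (φ.comp T.subtype)) → ℂ) x) (η : _ → ℂ), hnβ]
        simp only [Complex.conj_natCast]
        exact congrArg (· * _) (hnθ η)
      exact_mod_cast h2
    intro hdvd
    rw [hksum, ← Finset.add_sum_erase _ _ (Finset.mem_univ θ')] at hdvd
    have hrest : p ∣ ∑ η ∈ Finset.univ.erase θ', nθ η * nβ η := Finset.dvd_sum fun η hη => by
      refine Dvd.dvd.mul_right ?_ _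
      by_contra hc
      refine (Finset.mem_erase.1 hη).1 ?_
      have h1 := huniqN θT ((irrEquiv e).symm η) (nθ η) ?_ hc
      · rw [Equiv.symm_apply_eq] at h1; exact h1
      · rw [← hnθ η]
        conv_rhs => rw [← (irrEquiv e).apply_symm_apply η]
        exact (classInner_comp_equiv e (fun y => θ y.1)
          (((irrEquiv e).symm η : IrrCharacter _) : _ → ℂ)).symm
    have hmain := (Nat.dvd_add_left hrest).1 hdvd
    have e1 : nθ θ' = m0 := by
      have : ((nθ θ' : ℕ) : ℂ) = m0 := by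
        rw [← hnθ, ← hm0]
        exact classInner_comp_equiv e (fun y => θ y.1) (ΦN θT : _ → ℂ)
      exact_mod_cast this
    have e2 : nβ θ' = f := by exact_mod_cast (hnβ θ').symm.trans hf
    rw [e1, e2] at hmain
    exact hp.not_dvd_mul hm0p hfp hmain

end above

end Cfsg.Agent.Chars
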