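import Cfsg.Agent.Chars.SimpleDegreeTools
import Cfsg.Agent.Chars.GlaubermanSolvable
import Cfsg.Agent.Blocks.Basic
import Cfsg.Agent.Blocks.Local
import Cfsg.Agent.DegreeGraph.AbelianNormal
import Cfsg.Agent.S0173
import Cfsg.Agent.S4441

/-!
If all irreducible character degrees are less than the prime `p` then a Sylow `p`-subgroup is
normal and abelian.
-/

set_option autoImplicit false
set_option linter.style.haveILetI false
set_option linter.unusedSectionVars false

open Cfsg Cfsg.Agent Cfsg.Agent.Blocks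
open scoped ComplexConjugate

namespace Cfsg.Agent.Chars.DegreesBelow

universe u

variable {G : Type u} [Group G] [Finite G] {p : ℕ} [hp : Fact p.Prime]

/-- The degree of the principal character. -/
theorem charDegree_one [Fintype G] : charDegree ((oneChar G : IrrCharacter G) : G → ℂ) = 1 := by
  rw [coe_oneChar]
  simp [charDegree]

/-- Degrees less than `p` are inherited by subgroups. -/
theorem subgroup_lt (h : ∀ χ : IrrCharacter G, charDegree (χ : G → ℂ) < p) (H : Subgroup G)
    (θ : IrrCharacter H) : charDegree (θ : H → ℂ) < p := by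
  classical
  haveI := Fintype.ofFinite G
  haveI : Fintype H := Fintype.ofFinite _
  obtain ⟨χ, hχ⟩ := exists_irr_above H θ.2
  refine lt_of_le_of_lt ?_ (h χ)
  choose c hc using fun η : IrrCharacter H =>
    exists_classInner_eq_nat (isCharacter_restrict (irr_isCharacter χ) H) (irr_isCharacter η)
  have h1 := Chars2.apply_eq_sum
    (isClassFunction_of_isCharacter (isCharacter_restrict (irr_isCharacter χ) H)) 1
  simp only [hc, (Blocks.charDegree_eq _).1, Subgroup.coe_one,
    fun η : IrrCharacter H => (Blocks.charDegree_eq η.2).1, (Blocks.charDegree_eq χ.2).1] at h1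
  have h2 : charDegree (χ : G → ℂ) = ∑ η : IrrCharacter H, c η * charDegree (η : H → ℂ) := by
    exact_mod_cast h1
  have hc0 : 0 < c θ := Nat.pos_of_ne_zero fun h0 => hχ (by rw [hc, h0, Nat.cast_zero])
  rw [h2]
  exact le_trans (Nat.le_mul_of_pos_left _ hc0)
    (Finset.single_le_sum (f := fun η : IrrCharacter H => c η * charDegree (η : H → ℂ))
      (fun η _ => Nat.zero_le _) (Finset.mem_univ θ))

/-- Degrees less than `p` are inherited by quotients. -/
theorem quotient_lt (h : ∀ χ : IrrCharacter G, charDegree (χ : G → ℂ) < p) (N : Subgroup G)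
    [N.Normal] (θ : IrrCharacter (G ⧸ N)) : charDegree (θ : G ⧸ N → ℂ) < p := by
  obtain ⟨χ, hχ⟩ := Chars2.exists_degree_eq_of_surjective (QuotientGroup.mk' N)
    (QuotientGroup.mk'_surjective N) θ
  exact hχ ▸ h χ

/-- For a self-centralising Sylow subgroup of order `p` and degrees prime to `p` all characters
lie in the principal block. -/
theorem mem_principal [Fintype G] {M : Ideal AlgInt} (hM : IsPModular p M) (P : Sylow p G)
    (hP : Nat.card P = p) (hC : Subgroup.centralizer ((P : Subgroup G) : Set G) = P)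
    (χ : IrrCharacter G) (hd : ¬ p ∣ charDegree (χ : G → ℂ)) : χ ∈ principalBlock M G := by
  classical
  haveI := hM.2.1
  have hpM := hM.2.2
  obtain ⟨hd1, -⟩ := Blocks.charDegree_eq χ.2
  have hdI : MemLocalRing M (((χ : G → ℂ) 1)⁻¹) := by
    rw [hd1]; exact Blocks.memR_inv_natCast hpM hd
  intro g
  have hform : centralChar (fun _ : G => (1 : ℂ)) g - centralChar (χ : G → ℂ) g =
      ((Subgroup.centralizer ({g} : Set G)).index : ℂ) *
        (((χ : G → ℂ) 1 - (χ : G → ℂ) g) * ((χ : G → ℂ) 1)⁻¹) := by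
    have := irr_apply_one_ne_zero χ.2
    simp only [centralChar]
    field_simp
  rw [hform]
  have hint : ∀ y : G, MemLocalRing M ((χ : G → ℂ) y) := fun y =>
    Blocks.memR_of_isIntegral (isIntegral_of_isCharacter (irr_isCharacter χ) y)
  by_cases hdvd : p ∣ (Subgroup.centralizer ({g} : Set G)).index
  · exact Blocks.memI_mul_right ((Blocks.memI_natCast_iff hpM _).2 hdvd)
      (Blocks.memR_mul (Blocks.memR_sub (hint 1) (hint g)) hdI)
  -- some conjugate of the Sylow subgroup centralises `g`
  obtain ⟨Q, hQ⟩ : ∃ Q : Sylow p G, (Q : Subgroup G) ≤ Subgroup.centralizer ({g} : Set G) := by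
    obtain ⟨R⟩ : Nonempty (Sylow p (Subgroup.centralizer ({g} : Set G))) := inferInstance
    obtain ⟨Q, hQ⟩ := ((R.isPGroup' : IsPGroup p R.toSubgroup).map (Subgroup.centralizer ({g} : Set G)).subtype).exists_le_sylow
    refine ⟨Q, ?_⟩
    have hcard : Nat.card R = p := by
      rw [R.card_eq_multiplicity]
      have h1 := Subgroup.card_mul_index (Subgroup.centralizer ({g} : Set G))
      have h2 : (Nat.card G).factorization p = 1 := by
        have := P.card_eq_multiplicity
        rw [hP] at this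
        exact (Nat.pow_right_injective (Fact.out : p.Prime).two_le (by simpa using this)).symm
      rw [← h1, Nat.factorization_mul Nat.card_pos.ne' Subgroup.index_ne_zero_of_finite,
        Finsupp.add_apply, Nat.factorization_eq_zero_of_not_dvd hdvd, add_zero] at h2
      rw [h2, pow_one]
    have hQc : Nat.card Q = p := by
      rw [Q.card_eq_multiplicity, ← P.card_eq_multiplicity, hP]
    have heq : R.toSubgroup.map (Subgroup.centralizer ({g} : Set G)).subtype = Q :=
      Subgroup.eq_of_le_of_card_ge hQ (by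
        rw [Subgroup.card_map_of_injective (Subgroup.subtype_injective _), hcard, hQc])
    exact heq ▸ Subgroup.map_subtype_le _
  obtain ⟨a, rfl⟩ := MulAction.exists_smul_eq G P Q
  have hgP : a⁻¹ * g * a ∈ (P : Subgroup G) := by
    rw [← hC, Subgroup.mem_centralizer_iff]
    intro y hy
    have hm : a * y * a⁻¹ ∈ Subgroup.centralizer ({g} : Set G) := by
      refine hQ ?_
      rw [Sylow.coe_subgroup_smul]
      exact Subgroup.smul_mem_pointwise_smul y (MulAut.conj a) _ hy
    rw [Subgroup.mem_centralizer_singleton_iff] at hm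
    have h2 : a⁻¹ * (a * y * a⁻¹ * g) * a = a⁻¹ * (g * (a * y * a⁻¹)) * a := by rw [hm]
    simpa [mul_assoc] using h2
  have hpow : (a⁻¹ * g * a) ^ p = 1 := by
    have := pow_card_eq_one' (x := (⟨_, hgP⟩ : (P : Subgroup G)))
    rw [hP] at this
    exact congrArg Subtype.val this
  have hval : (χ : G → ℂ) (a⁻¹ * g * a) = (χ : G → ℂ) g := by
    have := isCharacter_conj_apply (irr_isCharacter χ) g a⁻¹
    rwa [inv_inv] at this
  refine Blocks.memI_mul_left (Blocks.memR_natCast _) (Blocks.memI_mul_right ?_ hdI)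
  obtain ⟨n, ρ, hi, hχ⟩ := χ.2
  obtain ⟨z, hz, hzc, -, -⟩ := exists_eigenvalues ρ (a⁻¹ * g * a)
  have e1 := hzc 1
  rw [pow_one, hχ, hval] at e1
  have e2 := hzc 0
  rw [pow_zero, hχ] at e2
  rw [e1, e2, ← Finset.sum_sub_distrib]
  refine Blocks.memI_sum _ _ fun i _ => ?_
  have hzp : z i ^ p ^ 1 = 1 := by
    obtain ⟨k, hk⟩ := orderOf_dvd_of_pow_eq_one hpow
    rw [pow_one, hk, pow_mul, hz, one_pow]
  rw [pow_zero, pow_one, show (1 : ℂ) - z i = -(z i - 1) by ring]
  exact Blocks.memI_neg (Blocks.root_congr_one hpM hzp)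

/-- The simple case. -/
theorem not_dvd_of_simple [IsSimpleGroup G] (hna : ¬ ∀ a b : G, a * b = b * a)
    (h : ∀ χ : IrrCharacter G, charDegree (χ : G → ℂ) < p) (hp2 : p ≠ 2) (P : Sylow p G)
    (hsub : ∀ x ∈ (P : Subgroup G), x ≠ 1 →
      Subgroup.centralizer ({x} : Set G) ≤ Subgroup.normalizer ((P : Subgroup G) : Set G)) :
    ¬ p ∣ Nat.card G := by
  classical
  intro hdvd
  haveI := Fintype.ofFinite G
  haveI : Fintype (P : Subgroup G) := Fintype.ofFinite _
  have hPab : ∀ x ∈ (P : Subgroup G), ∀ y ∈ (P : Subgroup G), x * y = y * x :=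
    SimpleDeg.comm_of_degree_lt _ P.isPGroup' (subgroup_lt h _)
  have hpp := (Fact.out : p.Prime)
  have hp3 : 3 ≤ p := by have := hpp.two_le; omega
  have hdeg : ∀ χ : IrrCharacter G, (χ : G → ℂ) 1 = (charDegree (χ : G → ℂ) : ℂ) ∧
      0 < charDegree (χ : G → ℂ) := fun χ => Blocks.charDegree_eq χ.2
  by_cases hsq : Nat.card P = p
  swap
  · -- order at least `p²`
    set N := Subgroup.normalizer ((P : Subgroup G) : Set G) with hN
    obtain ⟨a, ha⟩ := IsPGroup.iff_card.1 P.isPGroup'
    have ha2 : 2 ≤ a := by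
      have h0 : p ∣ Nat.card P := P.dvd_card_of_dvd_card hdvd
      rcases a with _ | _ | a
      · rw [ha, pow_zero] at h0; exact absurd h0 hpp.not_dvd_one
      · exact absurd (ha.trans (pow_one p)) hsq
      · omega
    have hP2 : p ^ 2 ≤ Nat.card P := ha ▸ Nat.pow_le_pow_right hpp.pos ha2
    -- squares of multiplicities
    have hmult : ∀ χ : IrrCharacter G, (Nat.card P : ℝ) * charDegree (χ : G → ℂ) ≤
        ∑ x : (P : Subgroup G), Complex.normSq ((χ : G → ℂ) x) := by
      intro χ
      choose c hc using fun l : IrrCharacter (P : Subgroup G) => exists_classInner_eq_nat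
        (isCharacter_restrict (irr_isCharacter χ) (P : Subgroup G)) (irr_isCharacter l)
      have hl : ∀ l : IrrCharacter (P : Subgroup G), (l : ↥(P : Subgroup G) → ℂ) 1 = 1 := fun l =>
        irr_apply_one_of_comm (fun x y => Subtype.ext (hPab x x.2 y y.2)) l.2
      have h1 := Chars2.apply_eq_sum
        (isClassFunction_of_isCharacter (isCharacter_restrict (irr_isCharacter χ) P.toSubgroup)) 1
      simp only [hc, hl, mul_one, Subgroup.coe_one, (hdeg χ).1] at h1
      have h1' : charDegree (χ : G → ℂ) = ∑ l, c l := by exact_mod_cast h1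
      have h2 : classInner (fun x : (P : Subgroup G) => (χ : G → ℂ) x)
          (fun x : (P : Subgroup G) => (χ : G → ℂ) x) = ((∑ l, c l * c l : ℕ) : ℂ) := by
        rw [classInner_eq_sum
          (isClassFunction_of_isCharacter (isCharacter_restrict (irr_isCharacter χ) _)),
          Nat.cast_sum]
        refine Finset.sum_congr rfl fun l _ => ?_
        rw [← classInner_conj_symm (fun x : (P : Subgroup G) => (χ : G → ℂ) x)
          (l : ↥(P : Subgroup G) → ℂ), hc]
        simp
      rw [classInner_def, inv_mul_eq_iff_eq_mul₀ (Nat.cast_ne_zero.2 Nat.card_pos.ne')] at h2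
      simp only [Complex.mul_conj] at h2
      have h3 : (∑ x : (P : Subgroup G), Complex.normSq ((χ : G → ℂ) x)) =
          ((Nat.card P * ∑ l, c l * c l : ℕ) : ℝ) := by
        apply Complex.ofReal_injective
        rw [Complex.ofReal_sum, h2]
        push_cast
        rfl
      rw [h3, h1', ← Nat.cast_mul, Nat.cast_le]
      exact Nat.mul_le_mul_left _ (Finset.sum_le_sum fun l _ => Nat.le_mul_self _)
    have hcol : ∀ x : G, ∑ χ : IrrCharacter G, Complex.normSq ((χ : G → ℂ) x) =
        (Nat.card (Subgroup.centralizer ({x} : Set G)) : ℝ) := fun x => by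
      have h1 := column_orth x x
      rw [if_pos (IsConj.refl x)] at h1
      simp only [Complex.mul_conj] at h1
      exact_mod_cast h1
    have hsum : (Nat.card P : ℝ) * ∑ χ : IrrCharacter G, (charDegree (χ : G → ℂ) : ℝ) ≤
        (Nat.card G : ℝ) + ((Nat.card P : ℝ) - 1) * Nat.card N := by
      rw [Finset.mul_sum]
      refine (Finset.sum_le_sum fun χ _ => hmult χ).trans ?_
      rw [Finset.sum_comm, Finset.sum_congr (rfl : (Finset.univ : Finset ↥(P : Subgroup G)) = _)
          (fun x _ => hcol (x : G)),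
        ← Finset.add_sum_erase _ _ (Finset.mem_univ (1 : (P : Subgroup G)))]
      refine add_le_add (by exact_mod_cast Subgroup.card_le_card_group _) ?_
      refine (Finset.sum_le_sum (g := fun _ => (Nat.card N : ℝ)) fun x hx => ?_).trans ?_
      · exact_mod_cast Nat.le_of_dvd Nat.card_pos (Subgroup.card_dvd_of_le
          (hsub x x.2 fun h => (Finset.mem_erase.1 hx).1 (Subtype.ext h)))
      · rw [Finset.sum_const, Finset.card_erase_of_mem (Finset.mem_univ _), Finset.card_univ,
          nsmul_eq_mul, ← Nat.card_eq_fintype_card, Nat.cast_sub Nat.card_pos, Nat.cast_one]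
    have hG : (Nat.card G : ℝ) ≤ (p - 1 : ℝ) * ∑ χ : IrrCharacter G, (charDegree (χ : G → ℂ) : ℝ) := by
      have h1 := sum_sq_apply_one (G := G)
      simp only [fun χ => (hdeg χ).1] at h1
      have h2 : (Nat.card G : ℝ) = ∑ χ : IrrCharacter G, (charDegree (χ : G → ℂ) : ℝ) ^ 2 := by
        exact_mod_cast h1.symm
      rw [h2, Finset.mul_sum]
      refine Finset.sum_le_sum fun χ _ => ?_
      rw [pow_two]
      refine mul_le_mul_of_nonneg_right ?_ (Nat.cast_nonneg _)
      have := h χ
      have : (charDegree (χ : G → ℂ) : ℝ) + 1 ≤ p := by exact_mod_cast this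
      linarith
    have hn : p + 1 ≤ N.index := by
      have h1 : N.index ≡ 1 [MOD p] := by
        have h0 := card_sylow_modEq_one p G
        rw [P.card_eq_index_normalizer] at h0
        exact h0
      have h2 : N.index ≠ 1 := fun h1' => by
        rw [Subgroup.index_eq_one] at h1'
        rcases IsSimpleGroup.eq_bot_or_eq_top_of_normal (P : Subgroup G)
          (Subgroup.normalizer_eq_top_iff.1 h1') with h' | h'
        · rw [h', Subgroup.card_bot] at hP2
          nlinarith
        · exact hna fun x y => hPab x (h' ▸ Subgroup.mem_top x) y (h' ▸ Subgroup.mem_top y)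
      have h3 : N.index ≠ 0 := Subgroup.index_ne_zero_of_finite
      obtain ⟨k, hk⟩ := (Nat.modEq_iff_dvd' (Nat.pos_of_ne_zero h3)).1 h1.symm
      rcases Nat.eq_zero_or_pos k with rfl | hk0
      · omega
      · have := Nat.le_mul_of_pos_right p hk0
        omega
    have e1 : (Nat.card G : ℝ) = N.index * Nat.card N := by
      exact_mod_cast N.index_mul_card.symm
    have e2 : (p : ℝ) + 1 ≤ N.index := by exact_mod_cast hn
    have e3 : (p : ℝ) ^ 2 ≤ Nat.card P := by exact_mod_cast hP2
    have e4 : (3 : ℝ) ≤ p := by exact_mod_cast hp3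
    have e5 : (0 : ℝ) < Nat.card N := by exact_mod_cast Nat.card_pos
    have key : (Nat.card P : ℝ) * Nat.card G ≤
        ((p : ℝ) - 1) * (Nat.card G + ((Nat.card P : ℝ) - 1) * Nat.card N) := by
      have f1 := mul_le_mul_of_nonneg_left hG (Nat.cast_nonneg (α := ℝ) (Nat.card P))
      have f2 := mul_le_mul_of_nonneg_left hsum (by linarith : (0 : ℝ) ≤ (p : ℝ) - 1)
      calc (Nat.card P : ℝ) * Nat.card G ≤ _ := f1
        _ = ((p : ℝ) - 1) * ((Nat.card P : ℝ) *
            ∑ χ : IrrCharacter G, (charDegree (χ : G → ℂ) : ℝ)) := by ring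
        _ ≤ _ := f2
    rw [e1] at key
    have key' : (N.index : ℝ) * ((Nat.card P : ℝ) - p + 1) ≤ ((p : ℝ) - 1) * ((Nat.card P : ℝ) - 1) := by
      refine le_of_mul_le_mul_right ?_ e5
      linarith [show (Nat.card P : ℝ) * (N.index * Nat.card N) -
          ((p : ℝ) - 1) * (N.index * Nat.card N + ((Nat.card P : ℝ) - 1) * Nat.card N) =
        (N.index : ℝ) * ((Nat.card P : ℝ) - p + 1) * Nat.card N -
          ((p : ℝ) - 1) * ((Nat.card P : ℝ) - 1) * Nat.card N by ring]
    have f3 : ((p : ℝ) + 1) * ((Nat.card P : ℝ) - p + 1) ≤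
        (N.index : ℝ) * ((Nat.card P : ℝ) - p + 1) :=
      mul_le_mul_of_nonneg_right e2 (by nlinarith)
    nlinarith
  -- order `p`
  obtain ⟨M, hMmax, hpM⟩ := DegreeGraph.exists_isMaximal_mem p
  have hM : IsPModular p M := ⟨hpp, hMmax, hpM⟩
  obtain ⟨X, Y, hB, hdisj, hX, hY, εX, ε, hXp, hε, hYp, hYreg, hrel⟩ :=
    S4441.result p M hM hp2 P hsq _ rfl
  set e := (Subgroup.centralizer ((P : Subgroup G) : Set G)).relIndex
    (Subgroup.normalizer ((P : Subgroup G) : Set G)) with he
  have he2 : 2 ≤ e := SimpleDeg.two_le_relIndex hna P hsq rfl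
  have hX1 : ∀ χ ∈ X, (charDegree (χ : G → ℂ) = 1 ∧ εX χ = 1) ∨
      (charDegree (χ : G → ℂ) = p - 1 ∧ εX χ = -1) := by
    intro χ hχ
    obtain ⟨hs, hc, -⟩ := hXp χ hχ
    have h0 := (hdeg χ).2
    have h1 := h χ
    obtain ⟨k, hk⟩ := Int.modEq_iff_dvd.1 hc.symm
    rcases hs with hs | hs <;> rw [hs] at hk
    · left
      refine ⟨?_, hs⟩
      have : k = 0 := by
        rcases lt_trichotomy k 0 with hk' | hk' | hk'
        · nlinarith
        · exact hk'
        · nlinarith
      subst this; omega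
    · right
      refine ⟨?_, hs⟩
      have : k = 1 := by
        rcases lt_trichotomy k 1 with hk' | hk' | hk'
        · nlinarith
        · exact hk'
        · nlinarith
      subst this; omega
  have hone : ∀ χ : IrrCharacter G, charDegree (χ : G → ℂ) = 1 → χ = oneChar G := fun χ hχ =>
    Subtype.ext (SimpleDeg.eq_one_of_degree_one hna (by rw [(hdeg χ).1, hχ, Nat.cast_one]))
  -- the relation at the identity
  have hrel1 : ∀ θ ∈ Y, (ε : ℤ) * charDegree (θ : G → ℂ) =
      ∑ χ ∈ X.toFinset, εX χ * charDegree (χ : G → ℂ) := by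
    intro θ hθ
    have h1 := hrel θ hθ 1 (by rw [orderOf_one]; exact hpp.not_dvd_one)
    rw [← Set.coe_toFinset X, finsum_mem_coe_finset] at h1
    simp only [fun χ => (hdeg χ).1] at h1
    exact_mod_cast h1
  have hYne : Y.Nonempty := by
    by_contra hne
    rw [Set.not_nonempty_iff_eq_empty] at hne
    rw [hne, Nat.card_coe_set_eq, Set.ncard_empty] at hY
    have : e ≤ p - 1 := by
      haveI : IsCyclic (P : Subgroup G) := isCyclic_of_prime_card hsq
      have h1 : e = Nat.card (Subgroup.normalizerMonoidHom (P : Subgroup G)).range := by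
        rw [← Subgroup.index_ker, Subgroup.normalizerMonoidHom_ker]
        rfl
      have h2 := Subgroup.card_subgroup_dvd_card (Subgroup.normalizerMonoidHom (P : Subgroup G)).range
      rw [← h1, IsCyclic.card_mulAut, hsq, Nat.totient_prime hpp] at h2
      exact Nat.le_of_dvd (by omega) h2
    have := Nat.div_pos this (by omega : 0 < e)
    omega
  obtain ⟨θ, hθ⟩ := hYne
  have htX : oneChar G ∈ X := by
    have h1 : oneChar G ∈ X ∪ Y := hB ▸ Blocks.one_mem_principal
    refine h1.resolve_right fun hY1 => ?_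
    have h2 := hrel1 _ hY1
    have h3 : ∀ χ ∈ X.toFinset, εX χ * charDegree (χ : G → ℂ) = -((p : ℤ) - 1) := fun χ hχ => by
      rw [Set.mem_toFinset] at hχ
      rcases hX1 χ hχ with ⟨hd, -⟩ | ⟨hd, hs⟩
      · exact absurd (hone χ hd ▸ hχ) fun h' => Set.disjoint_left.1 hdisj h' hY1
      · rw [hd, hs, Nat.cast_sub hpp.one_le]; ring
    rw [Finset.sum_congr rfl h3, Finset.sum_const, ← Set.ncard_eq_toFinset_card',
      ← Nat.card_coe_set_eq, hX, nsmul_eq_mul] at h2
    have h4 : (charDegree ((oneChar G : IrrCharacter G) : G → ℂ) : ℤ) = 1 := by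
      rw [charDegree_one]; rfl
    rw [h4] at h2
    have : (2 : ℤ) ≤ e := by exact_mod_cast he2
    have : (3 : ℤ) ≤ p := by exact_mod_cast hp3
    rcases hε with hε | hε <;> rw [hε] at h2 <;> nlinarith
  have hother : ∀ χ ∈ X, χ ≠ oneChar G → charDegree (χ : G → ℂ) = p - 1 ∧ εX χ = -1 :=
    fun χ hχ hne => (hX1 χ hχ).resolve_left fun h' => hne (hone χ h'.1)
  have hone1 : εX (oneChar G) * charDegree ((oneChar G : IrrCharacter G) : G → ℂ) = 1 := by
    rcases hX1 _ htX with ⟨a1, a2⟩ | ⟨a1, -⟩
    · rw [a1, a2]; rfl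
    · rw [charDegree_one] at a1
      omega
  have hθeq : (ε : ℤ) * charDegree (θ : G → ℂ) = 1 - ((e : ℤ) - 1) * ((p : ℤ) - 1) := by
    rw [hrel1 θ hθ, ← Finset.add_sum_erase _ _ (Set.mem_toFinset.2 htX), hone1,
      Finset.sum_congr rfl (fun χ hχ => by
        obtain ⟨a1, a2⟩ := hother χ (Set.mem_toFinset.1 (Finset.mem_of_mem_erase hχ))
          (Finset.ne_of_mem_erase hχ)
        rw [a1, a2]), Finset.sum_const, Finset.card_erase_of_mem (Set.mem_toFinset.2 htX),
      ← Set.ncard_eq_toFinset_card', ← Nat.card_coe_set_eq, hX, nsmul_eq_mul,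
      Nat.cast_sub (by omega : 1 ≤ e), Nat.cast_sub hpp.one_le]
    ring
  have hθlt : (charDegree (θ : G → ℂ) : ℤ) < p := by exact_mod_cast h θ
  have hee : e = 2 := by
    by_contra hne
    have : (3 : ℤ) ≤ e := by exact_mod_cast (by omega : 3 ≤ e)
    have : (3 : ℤ) ≤ p := by exact_mod_cast hp3
    rcases hε with hε | hε <;> rw [hε] at hθeq <;> nlinarith
  rw [hee] at hθeq
  push_cast at hθeq
  have hθd : (charDegree (θ : G → ℂ) : ℤ) = (p : ℤ) - 2 := by
    have : (3 : ℤ) ≤ p := by exact_mod_cast hp3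
    rcases hε with hε | hε <;> rw [hε] at hθeq
    · exfalso; linarith [(Nat.cast_nonneg (charDegree (θ : G → ℂ)) : (0 : ℤ) ≤ _)]
    · linarith
  -- the character of degree `p - 1`
  have hXcard : X.toFinset.card = 2 := by
    rw [← Set.ncard_eq_toFinset_card', ← Nat.card_coe_set_eq, hX, hee]
  obtain ⟨χ, hχm, hχne⟩ := Finset.exists_mem_ne (by omega : 1 < X.toFinset.card) (oneChar G)
  obtain ⟨hχd, hχs⟩ := hother χ (Set.mem_toFinset.1 hχm) hχne
  have hXeq : X.toFinset = {oneChar G, χ} := (Finset.eq_of_subset_of_card_le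
    (Finset.insert_subset (Set.mem_toFinset.2 htX) (Finset.singleton_subset_iff.2 hχm))
    (by rw [hXcard, Finset.card_pair hχne.symm])).symm
  -- self-centralising
  have hC : Subgroup.centralizer ((P : Subgroup G) : Set G) = P := by
    refine le_antisymm (fun y hy => ?_) fun x hx =>
      Subgroup.mem_centralizer_iff.2 fun z hz => hPab z hz x hx
    obtain ⟨n, ρ, hi, hρ⟩ := χ.2
    have hfin : (Module.finrank ℂ (Fin n → ℂ) : ℂ) = ((p : ℂ) - 1) := by
      rw [← Representation.char_one ρ, hρ, (hdeg χ).1, hχd, Nat.cast_sub hpp.one_le, Nat.cast_one]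
    have hone' : ∀ x : (P : Subgroup G), x ≠ 1 → ∀ y : G,
        y ∈ Subgroup.centralizer ((P : Subgroup G) : Set G) → ¬ p ∣ orderOf y →
        ρ.character ((x : G) * y) = -1 := fun x hx y hy hyp => by
      rw [hρ, (hXp χ (Set.mem_toFinset.1 hχm)).2.2 x x.2 (fun h' => hx (Subtype.ext h')) y hy hyp,
        hχs]
      simp
    let E : Module.End ℂ (Fin n → ℂ) := (p : ℂ)⁻¹ • ∑ x : (P : Subgroup G), ρ (x : G)
    have hp0 : (p : ℂ) ≠ 0 := Nat.cast_ne_zero.2 hpp.ne_zero
    have hE : IsIdempotentElem E := by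
      show E * E = E
      simp only [E]
      rw [smul_mul_assoc, mul_smul_comm, Finset.sum_mul]
      rw [show ∑ x : (P : Subgroup G), ρ (x : G) * ∑ y : (P : Subgroup G), ρ (y : G) =
          ∑ _x : (P : Subgroup G), ∑ y : (P : Subgroup G), ρ (y : G) from
        Finset.sum_congr rfl fun x _ => by
          rw [Finset.mul_sum]
          exact Fintype.sum_equiv (Equiv.mulLeft x) _ _ fun y => by simp [map_mul]]
      rw [Finset.sum_const, Finset.card_univ, ← Nat.card_eq_fintype_card, hsq, ← Nat.cast_smul_eq_nsmul ℂ,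
        smul_smul, smul_smul, mul_assoc, inv_mul_cancel₀ hp0, mul_one]
    have hsum : ∀ y : G, y ∈ Subgroup.centralizer ((P : Subgroup G) : Set G) → ¬ p ∣ orderOf y →
        ∑ x : (P : Subgroup G), ρ.character ((x : G) * y) = ρ.character y - ((p : ℂ) - 1) := by
      intro y hy hyp
      rw [← Finset.add_sum_erase _ _ (Finset.mem_univ (1 : (P : Subgroup G))),
        Finset.sum_congr rfl fun x hx => hone' x (Finset.ne_of_mem_erase hx) y hy hyp,
        Finset.sum_const, Finset.card_erase_of_mem (Finset.mem_univ _), Finset.card_univ,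
        ← Nat.card_eq_fintype_card, hsq, nsmul_eq_mul, Nat.cast_sub hpp.one_le]
      simp [sub_eq_add_neg, mul_comm]
    have htr : ∀ y : G, LinearMap.trace ℂ _ (E * ρ y) =
        (p : ℂ)⁻¹ * ∑ x : (P : Subgroup G), ρ.character ((x : G) * y) := fun y => by
      simp only [E, smul_mul_assoc, Finset.sum_mul, map_smul, map_sum, smul_eq_mul]
      exact congrArg _ (Finset.sum_congr rfl fun x _ => by rw [← map_mul]; rfl)
    have hE0 : E = 0 := by
      have h1 : LinearMap.trace ℂ _ E = 0 := by
        have := htr 1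
        rw [map_one, mul_one, hsum 1 (one_mem _) (by rw [orderOf_one]; exact hpp.not_dvd_one),
          Representation.char_one, hfin, sub_self, mul_zero] at this
        exact this
      have h2 := (LinearMap.IsIdempotentElem.isProj_range E hE).trace
      rw [h1] at h2
      have h3 : Module.finrank ℂ (LinearMap.range E) = 0 := by exact_mod_cast h2.symm
      exact LinearMap.range_eq_bot.1 (Submodule.finrank_eq_zero.1 h3)
    -- the `p'`-part of the centralizer acts trivially
    have hp' : ∀ z : G, z ∈ Subgroup.centralizer ((P : Subgroup G) : Set G) → ¬ p ∣ orderOf z →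
        z = 1 := fun z hz hzp => by
      have h1 := htr z
      rw [hE0, zero_mul, map_zero, hsum z hz hzp] at h1
      have h2 : ρ.character z = (p : ℂ) - 1 := by
        rcases mul_eq_zero.1 h1.symm with h' | h'
        · exact absurd (inv_eq_zero.1 h') hp0
        · exact sub_eq_zero.1 h'
      refine SimpleDeg.eq_one_of_apply_eq (χ := χ) ?_ ?_
      · rw [(hdeg χ).1, hχd]; exact_mod_cast (by omega : p - 1 ≠ 1)
      · rw [← hρ, h2, Representation.char_one, hfin]
    have hyp : y ^ p = 1 := hp' _ (pow_mem hy p) fun hd => by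
      have h1 : Nat.card G = p * (P : Subgroup G).index :=
        (P : Subgroup G).card_mul_index.symm.trans (congrArg (· * (P : Subgroup G).index) hsq)
      have h2 : p * p ∣ Nat.card G := by
        refine dvd_trans ?_ (orderOf_dvd_natCard y)
        rw [orderOf_pow] at hd
        have hpd : p ∣ orderOf y := hd.trans (Nat.div_dvd_of_dvd (Nat.gcd_dvd_left _ _))
        rw [Nat.gcd_eq_right hpd] at hd
        obtain ⟨k, hk⟩ := hpd
        rw [hk, Nat.mul_div_cancel_left _ hpp.pos] at hd
        rw [hk]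
        exact mul_dvd_mul_left p hd
      rw [h1] at h2
      exact P.not_dvd_index ((Nat.mul_dvd_mul_iff_left hpp.pos).1 h2)
    let R : Subgroup G := (P : Subgroup G) ⊔ Subgroup.zpowers y
    have hR : IsPGroup p R := P.isPGroup'.to_sup_of_normal_left' (fun ⟨z, hz⟩ => ⟨1, Subtype.ext (by
        obtain ⟨k, rfl⟩ := Subgroup.mem_zpowers_iff.1 hz
        show (y ^ k) ^ p ^ 1 = 1
        rw [pow_one, ← zpow_natCast, ← zpow_mul, mul_comm, zpow_mul, zpow_natCast, hyp, one_zpow])⟩)
      ((Subgroup.zpowers_le.2 hy).trans (Subgroup.centralizer_le_normalizer _))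
    rw [← P.is_maximal' hR le_sup_left]
    exact Subgroup.mem_sup_right (Subgroup.mem_zpowers y)
  -- all characters are in the principal block
  have huniv : (Finset.univ : Finset (IrrCharacter G)) = X.toFinset ∪ Y.toFinset := by
    refine (Finset.eq_univ_iff_forall.2 fun ψ => ?_).symm
    rw [Finset.mem_union, Set.mem_toFinset, Set.mem_toFinset, ← Set.mem_union, ← hB]
    exact mem_principal hM P hsq hC ψ fun hd =>
      absurd (Nat.le_of_dvd (hdeg ψ).2 hd) (not_le.2 (h ψ))
  have hYd : ∀ ψ ∈ Y.toFinset, charDegree (ψ : G → ℂ) ^ 2 = (p - 2) ^ 2 := fun ψ hψ => by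
    have h1 := hYreg ψ (Set.mem_toFinset.1 hψ) θ hθ 1 (by rw [orderOf_one]; exact hpp.not_dvd_one)
    rw [(hdeg ψ).1, (hdeg θ).1] at h1
    have h2 : charDegree (ψ : G → ℂ) = charDegree (θ : G → ℂ) := by exact_mod_cast h1
    rw [h2]
    congr 1
    omega
  have hord : Nat.card G = 1 + (p - 1) ^ 2 + (p - 1) / 2 * (p - 2) ^ 2 := by
    have h1 := sum_sq_apply_one (G := G)
    simp only [fun χ => (hdeg χ).1] at h1
    have h2 : ∑ χ : IrrCharacter G, charDegree (χ : G → ℂ) ^ 2 = Nat.card G := by exact_mod_cast h1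
    rw [← h2, huniv, Finset.sum_union (Set.disjoint_toFinset.2 hdisj), hXeq,
      Finset.sum_pair hχne.symm, Finset.sum_congr rfl hYd, Finset.sum_const,
      ← Set.ncard_eq_toFinset_card', ← Nat.card_coe_set_eq, hY, hee, smul_eq_mul, hχd]
    rw [charDegree_one]
    ring
  obtain ⟨d, -, hd, hdd⟩ := irr_degree_dvd_card χ.2
  rw [(hdeg χ).1, hχd] at hd
  have hd' : d = p - 1 := by exact_mod_cast hd.symm
  rw [hd', hord] at hdd
  obtain ⟨m, hm⟩ : ∃ m, p = 2 * m + 1 := hpp.odd_of_ne_two hp2
  rw [hm, show 2 * m + 1 - 1 = 2 * m by omega, Nat.mul_div_cancel_left _ two_pos] at hdd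
  have hm1 : m = 1 := by
    have h1 : m ∣ 1 + (2 * m) ^ 2 + m * (2 * m + 1 - 2) ^ 2 := (dvd_mul_left m 2).trans hdd
    have h2 : m ∣ (2 * m) ^ 2 + m * (2 * m + 1 - 2) ^ 2 :=
      dvd_add (Dvd.intro (4 * m) (by ring)) (dvd_mul_right _ _)
    exact Nat.dvd_one.1 ((Nat.dvd_add_iff_left h2).2 (by rwa [← add_assoc]))
  refine Set.disjoint_left.1 hdisj htX ?_
  rw [← hone θ (by omega)]
  exact hθ

end Cfsg.Agent.Chars.DegreesBelow
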