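import Mathlib.GroupTheory.PGroup
import Mathlib.Algebra.Group.Action.Basic
import Mathlib.Algebra.BigOperators.Group.Finset.Basic
import Cfsg.Agent.Chars.Eigen

/-!
Congruences modulo a prime from the action of a `p`-group on a finite set.
-/

set_option autoImplicit false
set_option linter.style.haveILetI false

namespace Cfsg.Agent.Chars

/-- Congruence of complex numbers modulo `p` times the algebraic integers. -/
def CongrP (p : ℕ) (a b : ℂ) : Prop := IsIntegral ℤ ((a - b) / (p : ℂ))

variable {p : ℕ}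

theorem congrP_refl (a : ℂ) : CongrP p a a := by simp [CongrP, isIntegral_zero]

theorem congrP_symm {a b : ℂ} (h : CongrP p a b) : CongrP p b a := by
  have := h.neg
  rwa [← neg_div, neg_sub] at this

theorem congrP_trans {a b c : ℂ} (h : CongrP p a b) (h' : CongrP p b c) : CongrP p a c := by
  have := h.add h'
  rwa [← add_div, sub_add_sub_cancel] at this

theorem congrP_add {a b c d : ℂ} (h : CongrP p a b) (h' : CongrP p c d) :
    CongrP p (a + c) (b + d) := by
  have := h.add h'
  rwa [← add_div, sub_add_sub_comm] at this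

theorem congrP_mul_left {a b c : ℂ} (hc : IsIntegral ℤ c) (h : CongrP p a b) :
    CongrP p (c * a) (c * b) := by
  have := hc.mul h
  rwa [← mul_div_assoc, mul_sub] at this

theorem congrP_sum {ι : Type*} (s : Finset ι) {f g : ι → ℂ} (h : ∀ i ∈ s, CongrP p (f i) (g i)) :
    CongrP p (∑ i ∈ s, f i) (∑ i ∈ s, g i) := by
  classical
  induction s using Finset.induction_on with
  | empty => simpa using congrP_refl 0
  | insert a s ha ih =>
    rw [Finset.sum_insert ha, Finset.sum_insert ha]
    exact congrP_add (h a (Finset.mem_insert_self a s))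
      (ih fun i hi => h i (Finset.mem_insert_of_mem hi))

theorem congrP_int (hp : p.Prime) {a b : ℤ} : CongrP p (a : ℂ) (b : ℂ) ↔ (p : ℤ) ∣ a - b := by
  constructor
  · intro h
    have h' : IsIntegral ℤ (((a - b).natAbs : ℂ) / (p : ℂ)) := by
      rcases Int.natAbs_eq (a - b) with e | e
      · rw [show (((a - b).natAbs : ℂ)) = (((a - b).natAbs : ℤ) : ℂ) from (Int.cast_natCast _).symm,
          ← e, Int.cast_sub]
        exact h
      · rw [show (((a - b).natAbs : ℂ)) = (((a - b).natAbs : ℤ) : ℂ) from (Int.cast_natCast _).symm,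
          show ((a - b).natAbs : ℤ) = b - a by omega, Int.cast_sub]
        exact congrP_symm h
    exact Int.natCast_dvd.2 (dvd_of_isIntegral_div hp.pos h')
  · rintro ⟨c, hc⟩
    show IsIntegral ℤ (((a : ℂ) - (b : ℂ)) / (p : ℂ))
    rw [← Int.cast_sub, hc, Int.cast_mul, Int.cast_natCast,
      mul_div_cancel_left₀ _ (by exact_mod_cast hp.ne_zero)]
    exact isIntegral_algebraMap (x := c)

theorem congrP_nat (hp : p.Prime) {a b : ℕ} : CongrP p (a : ℂ) (b : ℂ) ↔ (a : ℤ) ≡ b [ZMOD p] := by
  rw [Int.modEq_iff_dvd, ← dvd_neg, neg_sub]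
  simpa using congrP_int hp (a := (a : ℤ)) (b := (b : ℤ))

/-- For a `p`-group acting on a finite set, an invariant integral function sums modulo `p` to its
sum over the fixed points. -/
theorem congrP_sum_fixed (hp : p.Prime) {A X : Type*} [Group A] [Finite A] [MulAction A X]
    [Fintype X] (hA : IsPGroup p A) (S : Finset X) (hS : ∀ x, x ∈ S ↔ ∀ a : A, a • x = x)
    (f : X → ℂ) (hint : ∀ x, IsIntegral ℤ (f x)) (hinv : ∀ (a : A) x, f (a • x) = f x) :
    CongrP p (∑ x, f x) (∑ x ∈ S, f x) := by
  classical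
  haveI := Fact.mk hp
  set T := (Finset.univ : Finset X) \ S
  have hsplit : ∑ x, f x = (∑ x ∈ T, f x) + ∑ x ∈ S, f x :=
    (Finset.sum_sdiff (Finset.subset_univ S)).symm
  rw [CongrP, hsplit, add_sub_cancel_right]
  let π : X → MulAction.orbitRel.Quotient A X := Quotient.mk''
  haveI : Fintype (MulAction.orbitRel.Quotient A X) := Fintype.ofFinite _
  rw [← Finset.sum_fiberwise T π, Finset.sum_div]
  refine IsIntegral.sum _ fun q _ => ?_
  by_cases hq : (T.filter fun x => π x = q).Nonempty
  · obtain ⟨x₀, hx₀⟩ := hq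
    rw [Finset.mem_filter] at hx₀
    have hfib : ∀ x, x ∈ T.filter (fun x => π x = q) ↔ x ∈ MulAction.orbit A x₀ := by
      intro x
      rw [Finset.mem_filter]
      constructor
      · rintro ⟨-, h⟩
        exact (Quotient.exact' (h.trans hx₀.2.symm) : MulAction.orbitRel A X x x₀)
      · intro h
        refine ⟨Finset.mem_sdiff.2 ⟨Finset.mem_univ _, fun hxS => ?_⟩,
          (Quotient.sound' h : π x = π x₀).trans hx₀.2⟩
        obtain ⟨a, rfl⟩ := h
        change a • x₀ ∈ S at hxS
        have h1 := (hS _).1 hxS a⁻¹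
        simp only [inv_smul_smul] at h1
        rw [← h1] at hxS
        exact (Finset.mem_sdiff.1 hx₀.1).2 hxS
    have hconst : ∀ x ∈ T.filter (fun x => π x = q), f x = f x₀ := by
      intro x hx
      obtain ⟨a, rfl⟩ := (hfib x).1 hx
      exact hinv a x₀
    rw [Finset.sum_congr rfl hconst, Finset.sum_const, nsmul_eq_mul]
    have hcard : (T.filter fun x => π x = q).card = (MulAction.orbit A x₀).ncard := by
      rw [← Set.ncard_coe_finset]
      congr 1
      ext x
      exact hfib x
    obtain ⟨k, hk⟩ := hA.card_orbit x₀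
    rw [Nat.card_coe_set_eq] at hk
    have hk0 : k ≠ 0 := by
      rintro rfl
      rw [pow_zero, Set.ncard_eq_one] at hk
      obtain ⟨y, hy⟩ := hk
      refine (Finset.mem_sdiff.1 hx₀.1).2 ((hS x₀).2 fun a => ?_)
      have h1 : a • x₀ ∈ MulAction.orbit A x₀ := MulAction.mem_orbit _ _
      have h2 : x₀ ∈ MulAction.orbit A x₀ := MulAction.mem_orbit_self _
      rw [hy, Set.mem_singleton_iff] at h1 h2
      rw [h1, ← h2]
    obtain ⟨j, rfl⟩ := Nat.exists_eq_succ_of_ne_zero hk0
    rw [hcard, hk, Nat.cast_pow, pow_succ', mul_assoc,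
      mul_div_cancel_left₀ _ (by exact_mod_cast hp.ne_zero)]
    exact ((isIntegral_algebraMap (x := (p : ℤ))).pow j).mul (hint x₀)
  · rw [Finset.not_nonempty_iff_eq_empty.1 hq]
    simp [isIntegral_zero]

end Cfsg.Agent.Chars
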