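import Cfsg.Agent.Chars2.Clifford

/-!
# Inner products of functions induced from a normal subgroup
-/

set_option autoImplicit false
set_option linter.style.haveILetI false

open Cfsg
open scoped ComplexConjugate

namespace Cfsg.Agent.Chars

variable {G : Type*} [Group G] [Fintype G]

/-- Mackey's formula for a normal subgroup. -/
theorem classInner_indFun_indFun_normal (N : Subgroup G) [hN : N.Normal] [Fintype N]
    (φ θ : N → ℂ) :
    classInner (indFun N φ) (indFun N θ) =
      (Nat.card N : ℂ)⁻¹ * ∑ g : G, classInner φ (Chars2.conjFun θ g) := by
  rw [classInner_indFun N φ (isClassFunction_indFun N θ)]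
  simp only [classInner_def, indFun_coe_normal, map_mul, map_inv₀, map_natCast, map_sum,
    Chars2.conjFun_apply, inv_inv, Finset.mul_sum]
  rw [Finset.sum_comm]
  refine Finset.sum_congr rfl fun x _ => Finset.sum_congr rfl fun n _ => ?_
  ring

end Cfsg.Agent.Chars
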