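import Cfsg.Agent.Chars.CentralExtension
import Mathlib.GroupTheory.FiniteAbelian.Duality
import Mathlib.RingTheory.IntegralDomain

/-!
Invariant characters above an invariant character for coprime actions.
-/

set_option autoImplicit false
set_option linter.style.haveILetI false

namespace Cfsg.Agent.Chars

open Cfsg.Agent Cfsg.Agent.Chars2
open scoped commutatorElement

universe u v w

/-- A compatible action on a torsor of an abelian group of coprime order has a fixed point. -/
theorem exists_fixed_of_abelian {A : Type v} [Group A] [Finite A] {L : Type w} [CommGroup L]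
    [Finite L] {X : Type u} [MulAction A X] [MulAction L X] [MulAction.IsPretransitive L X]
    [Nonempty X] (T : Subgroup A) [T.Normal] (hT : ∀ t ∈ T, ∀ x : X, t • x = x)
    (f : A → (L →* L)) (hc : ∀ (a : A) (l : L) (x : X), a • (l • x) = f a l • (a • x))
    (hcop : T.index.Coprime (Nat.card L)) : ∃ x : X, ∀ a : A, a • x = x := by
  classical
  obtain ⟨x₀⟩ := (inferInstance : Nonempty X)
  have hex : ∀ c : A ⧸ T, ∃ l : L, c.out • x₀ = l • x₀ := fun c => by
    obtain ⟨l, hl⟩ := MulAction.exists_smul_eq L x₀ (c.out • x₀)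
    exact ⟨l, hl.symm⟩
  choose lam hlam using hex
  have hlam' : ∀ a : A, a • x₀ = lam (a : A ⧸ T) • x₀ := by
    intro a
    rw [← hlam]
    obtain ⟨t, ht⟩ := QuotientGroup.mk_out_eq_mul T a
    rw [ht, mul_smul, hT t t.2]
  let B := MulAction.stabilizer L x₀
  let π : L →* L ⧸ B := QuotientGroup.mk' B
  have heq : ∀ l l' : L, l • x₀ = l' • x₀ → π l = π l' := fun l l' h =>
    QuotientGroup.eq.2 (MulAction.mem_stabilizer_iff.2 (by rw [mul_smul, ← h, inv_smul_smul]))
  have hsm : ∀ l l' : L, π l = π l' → l • x₀ = l' • x₀ := fun l l' h => by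
    have := MulAction.mem_stabilizer_iff.1 (QuotientGroup.eq.1 h)
    rw [mul_smul, inv_smul_eq_iff] at this
    exact this.symm
  haveI : Fintype (A ⧸ T) := Fintype.ofFinite _
  have hcocycle : ∀ (a : A) (c : A ⧸ T),
      π (lam ((a : A ⧸ T) * c)) = π (f a (lam c)) * π (lam (a : A ⧸ T)) := by
    intro a c
    obtain ⟨e, rfl⟩ := QuotientGroup.mk_surjective c
    rw [← map_mul]
    refine heq _ _ ?_
    rw [← QuotientGroup.mk_mul, ← hlam' (a * e), mul_smul a e, hlam' e, hc, hlam' a, ← mul_smul]
  set Λ := ∏ c : A ⧸ T, lam c with hΛ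
  have hprod : ∀ a : A, π Λ = π (f a Λ) * π (lam (a : A ⧸ T)) ^ T.index := by
    intro a
    rw [hΛ, map_prod, map_prod, map_prod, ← Equiv.prod_comp (Equiv.mulLeft (a : A ⧸ T))]
    simp only [Equiv.coe_mulLeft]
    rw [Finset.prod_congr rfl (g := fun c => π (f a (lam c)) * π (lam (a : A ⧸ T)))
        (fun c _ => hcocycle a c), Finset.prod_mul_distrib, Finset.prod_const,
      Finset.card_univ, ← Nat.card_eq_fintype_card, Subgroup.index_eq_card]
  obtain ⟨k, hk⟩ : ∃ k : ℕ, ∀ l : L ⧸ B, (l ^ T.index) ^ k = l := by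
    by_cases h1 : Nat.card L = 1
    · haveI : Subsingleton L := (Nat.card_eq_one_iff_unique.1 h1).1
      exact ⟨0, fun l => by
        obtain ⟨l, rfl⟩ := QuotientGroup.mk_surjective l
        rw [Subsingleton.elim l 1]; simp⟩
    · obtain ⟨k, hk⟩ := Nat.exists_mul_mod_eq_one_of_coprime hcop (by
        have : 0 < Nat.card L := Nat.card_pos
        omega)
      refine ⟨k, fun l => ?_⟩
      obtain ⟨l, rfl⟩ := QuotientGroup.mk_surjective l
      rw [← QuotientGroup.mk_pow, ← QuotientGroup.mk_pow, ← pow_mul, ← pow_mod_natCard, hk.2,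
        pow_one]
  refine ⟨Λ ^ k • x₀, fun a => ?_⟩
  rw [hc, hlam', ← mul_smul]
  refine hsm _ _ ?_
  conv_rhs => rw [map_pow, hprod a, mul_pow, hk, ← map_pow, ← map_pow]
  rw [map_mul]

variable {G : Type u} [Group G] [Fintype G]

/-- Constituents compose. -/
theorem classInner_restrict_trans (N M : Subgroup G) [Fintype N] [Fintype M] (hNM : N ≤ M)
    {χ : G → ℂ} (hχ : IsCharacter G χ) (ψ : IrrCharacter M) {θ : N → ℂ} (hθ : IsCharacter N θ)
    (h1 : classInner (fun x : M => χ x) (ψ : M → ℂ) ≠ 0)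
    (h2 : classInner (fun n : N => (ψ : M → ℂ) ⟨n, hNM n.2⟩) θ ≠ 0) :
    classInner (fun n : N => χ n) θ ≠ 0 := by
  classical
  choose c hc using fun η : IrrCharacter M =>
    exists_classInner_eq_nat (isCharacter_restrict hχ M) (irr_isCharacter η)
  choose f hf using fun η : IrrCharacter M =>
    exists_classInner_eq_nat (Chars2.isCharacter_resSub N M hNM (irr_isCharacter η)) hθ
  rw [Chars2.classInner_restrict_expand N M hNM hχ θ]
  simp only [hc, hf, ← Nat.cast_mul, ← Nat.cast_sum]
  intro h0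
  have := Finset.sum_eq_zero_iff.1 (Nat.cast_eq_zero.1 h0) ψ (Finset.mem_univ _)
  rcases Nat.mul_eq_zero.1 this with h | h
  · exact h1 (by rw [hc, h, Nat.cast_zero])
  · exact h2 (by
      show classInner (Chars2.resSub N M hNM (ψ : M → ℂ)) θ = 0
      rw [hf, h, Nat.cast_zero])

variable {A : Type v} [Group A] [Finite A]

/-- Characters over an invariant character of a normal subgroup with abelian quotient. -/
theorem invariant_above_of_abelian (φ : A →* MulAut G) (M : Subgroup G) [hMn : M.Normal]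
    [Fintype M] (hab : commutator G ≤ M)
    (hM : ∀ a, ∀ x ∈ M, φ a x ∈ M) (T : Subgroup A) [T.Normal]
    (hT : ∀ t ∈ T, ∃ n ∈ M, ∀ g, φ t g = n * g * n⁻¹)
    (hcop : M.index.Coprime T.index) {θ : M → ℂ} (hθ : IsIrrCharacter M θ)
    (hθi : ∀ (a : A) (x : M), θ ⟨φ a x, hM a x x.2⟩ = θ x) (hG : Chars2.inertiaSub θ = ⊤) :
    ∃ χ : IrrCharacter G, InvFun φ (χ : G → ℂ) ∧
      classInner (fun x : M => (χ : G → ℂ) x) θ ≠ 0 := by
  classical
  letI : CommGroup (G ⧸ M) :=
    { (inferInstance : Group (G ⧸ M)) with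
      mul_comm := fun x y => by
        obtain ⟨a, rfl⟩ := QuotientGroup.mk_surjective x
        obtain ⟨b, rfl⟩ := QuotientGroup.mk_surjective y
        refine QuotientGroup.eq.2 (hab ?_)
        have : (a * b)⁻¹ * (b * a) = ⁅b⁻¹, a⁻¹⁆ := by
          simp [commutatorElement_def, mul_assoc]
        rw [this]
        exact Subgroup.commutator_mem_commutator trivial trivial }
  haveI : Fintype (G ⧸ M) := Fintype.ofFinite _
  let L := (G ⧸ M) →* ℂˣ
  haveI : Finite L := Finite.of_equiv _
    (CommGroup.monoidHom_mulEquiv_of_hasEnoughRootsOfUnity (G ⧸ M) ℂ).some.symm.toEquiv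
  let X := {χ : IrrCharacter G // classInner (fun x : M => (χ : G → ℂ) x) θ ≠ 0}
  have hlM : ∀ (l : L) (x : M), l (QuotientGroup.mk' M (x : G)) = 1 := fun l x => by
    rw [show QuotientGroup.mk' M (x : G) = 1 from (QuotientGroup.eq_one_iff _).2 x.2, map_one]
  have hres : ∀ (l : L) (χ : G → ℂ),
      (fun x : M => (l (QuotientGroup.mk' M (x : G)) : ℂ) * χ x) = fun x : M => χ x :=
    fun l χ => funext fun x => by rw [hlM, Units.val_one, one_mul]
  letI : MulAction L X :=
    { smul := fun l χ => ⟨⟨fun g => (l (QuotientGroup.mk' M g) : ℂ) * (χ.1 : G → ℂ) g,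
        isIrrCharacter_mul_hom χ.1.2 (l.comp (QuotientGroup.mk' M))⟩, by
          show classInner (fun x : M => (l (QuotientGroup.mk' M (x : G)) : ℂ) *
            (χ.1 : G → ℂ) x) θ ≠ 0
          rw [hres l (χ.1 : G → ℂ)]
          exact χ.2⟩
      one_smul := fun χ => Subtype.ext (Subtype.ext (funext fun g => by
        show ((1 : L) (QuotientGroup.mk' M g) : ℂ) * _ = _
        rw [show (1 : L) (QuotientGroup.mk' M g) = 1 from rfl, Units.val_one, one_mul]))
      mul_smul := fun l l' χ => Subtype.ext (Subtype.ext (funext fun g => by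
        show ((l * l') (QuotientGroup.mk' M g) : ℂ) * _ = _ * (_ * _)
        rw [show (l * l') (QuotientGroup.mk' M g) =
          l (QuotientGroup.mk' M g) * l' (QuotientGroup.mk' M g) from rfl, Units.val_mul, mul_assoc])) }
  have hMa : ∀ (a : A) (x : M), φ a⁻¹ x ∈ M := fun a x => hM a⁻¹ x x.2
  letI : MulAction A X :=
    { smul := fun a χ => ⟨(irrAction φ).toSMul.smul a χ.1, by
        show classInner (fun x : M => (χ.1 : G → ℂ) (φ a⁻¹ x)) θ ≠ 0
        let e : M ≃* M := subAct φ M hM a⁻¹
        have h1 : classInner (fun x : M => (χ.1 : G → ℂ) (φ a⁻¹ x)) θ =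
            classInner (fun x : M => (χ.1 : G → ℂ) x) θ := by
          conv_rhs => rw [← classInner_comp_equiv e]
          congr 1
          funext x
          exact (hθi a⁻¹ x).symm
        rw [h1]
        exact χ.2⟩
      one_smul := fun χ => Subtype.ext ((irrAction φ).one_smul χ.1)
      mul_smul := fun a a' χ => Subtype.ext ((irrAction φ).mul_smul a a' χ.1) }
  haveI : Nonempty X := by
    obtain ⟨χ, hχ⟩ := exists_irr_above M hθ
    exact ⟨⟨χ, hχ⟩⟩
  haveI : MulAction.IsPretransitive L X := ⟨fun χ χ' => by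
    haveI : Fintype L := Fintype.ofFinite L
    by_contra hne
    push Not at hne
    have hzero : ∀ l : L, classInner
        (fun g => (l (QuotientGroup.mk' M g) : ℂ) * (χ.1 : G → ℂ) g) (χ'.1 : G → ℂ) = 0 := by
      intro l
      refine (classInner_irr (isIrrCharacter_mul_hom χ.1.2 (l.comp (QuotientGroup.mk' M))) χ'.1.2).trans
        (if_neg ?_)
      exact fun h => hne l (Subtype.ext (Subtype.ext h))
    have hsum : classInner (fun g => (∑ l : L, (l (QuotientGroup.mk' M g) : ℂ)) *
        (χ.1 : G → ℂ) g) (χ'.1 : G → ℂ) = 0 := by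
      have : (fun g => (∑ l : L, (l (QuotientGroup.mk' M g) : ℂ)) * (χ.1 : G → ℂ) g) =
          ∑ l : L, fun g => (l (QuotientGroup.mk' M g) : ℂ) * (χ.1 : G → ℂ) g := by
        funext g; rw [Finset.sum_apply, Finset.sum_mul]
      rw [this, classInner_sum_left]
      exact Finset.sum_eq_zero fun l _ => hzero l
    have hdual : ∀ g : G, (∑ l : L, (l (QuotientGroup.mk' M g) : ℂ)) =
        if g ∈ M then (Nat.card L : ℂ) else 0 := by
      intro g
      let ev : L →* ℂ := (Units.coeHom ℂ).comp (MonoidHom.eval (QuotientGroup.mk' M g))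
      split_ifs with hg
      · rw [Finset.sum_congr rfl (g := fun _ => (1 : ℂ)) (fun l _ => by rw [hlM l ⟨g, hg⟩]; rfl),
          Finset.sum_const, Finset.card_univ, ← Nat.card_eq_fintype_card, nsmul_eq_mul, mul_one]
      · refine sum_hom_units_eq_zero ev fun h => ?_
        obtain ⟨l, hl⟩ := CommGroup.exists_apply_ne_one_of_hasEnoughRootsOfUnity (G ⧸ M) ℂ
          (a := QuotientGroup.mk' M g) (fun h1 => hg ((QuotientGroup.eq_one_iff _).1 h1))
        exact hl (Units.ext (congrArg (fun f : L →* ℂ => f l) h))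
    rw [classInner_def] at hsum
    simp only [hdual, mul_eq_zero, inv_eq_zero, or_iff_right (card_ne_zero (G := G))] at hsum
    have hres0 : classInner (fun x : M => (χ.1 : G → ℂ) x) (fun x : M => (χ'.1 : G → ℂ) x) = 0 := by
      rw [classInner_def]
      have h3 : (Nat.card L : ℂ) * ∑ x : M, (χ.1 : G → ℂ) x *
          (starRingEnd ℂ) ((χ'.1 : G → ℂ) x) = 0 := by
        refine Eq.trans ?_ hsum
        rw [Finset.mul_sum, ← Finset.sum_subtype (Finset.univ.filter fun g => g ∈ M)
          (by simp) (fun g => (Nat.card L : ℂ) * ((χ.1 : G → ℂ) g *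
            (starRingEnd ℂ) ((χ'.1 : G → ℂ) g))), Finset.sum_filter]
        refine Finset.sum_congr rfl fun g _ => ?_
        split_ifs <;> ring
      rw [(mul_eq_zero.1 h3).resolve_left (Nat.cast_ne_zero.2 Nat.card_pos.ne'), mul_zero]
    have hθ' : ∀ η : X, ∃ e : ℂ, e ≠ 0 ∧ (fun x : M => (η.1 : G → ℂ) x) = e • θ :=
      fun η => ⟨_, η.2, funext fun x => Chars2.clifford_invariant η.1.2 hθ hG η.2 x⟩
    obtain ⟨e, he, heq⟩ := hθ' χ
    obtain ⟨e', he', heq'⟩ := hθ' χ'
    rw [heq, heq', classInner_smul_left, classInner_smul_right, classInner_self_irr hθ] at hres0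
    simp [he, he'] at hres0⟩
  let aQ : A → (G ⧸ M →* G ⧸ M) := fun a =>
    QuotientGroup.map M M (φ a).toMonoidHom (fun x hx => hM a x hx)
  let f : A → (L →* L) := fun a =>
    { toFun := fun l => l.comp (aQ a⁻¹)
      map_one' := rfl
      map_mul' := fun _ _ => rfl }
  obtain ⟨χ, hχ⟩ := exists_fixed_of_abelian (X := X) T
    (fun t ht χ => Subtype.ext (Subtype.ext (funext fun g => by
      show (χ.1 : G → ℂ) (φ t⁻¹ g) = (χ.1 : G → ℂ) g
      obtain ⟨n, -, hn⟩ := hT t⁻¹ (T.inv_mem ht)
      rw [hn]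
      exact isClassFunction_irr χ.1 g n)))
    f (fun a l χ => Subtype.ext (Subtype.ext (funext fun g => rfl)))
    (by
      refine (Nat.coprime_of_dvd fun p hp h1 h2 => ?_)
      haveI := Fact.mk hp
      rw [Nat.card_congr (CommGroup.monoidHom_mulEquiv_of_hasEnoughRootsOfUnity (G ⧸ M) ℂ).some.toEquiv,
        ← Subgroup.index_eq_card] at h2
      exact hp.not_dvd_one (hcop ▸ Nat.dvd_gcd h2 h1))
  exact ⟨χ.1, (irrAction_fixed_iff φ χ.1).1 fun a => congrArg Subtype.val (hχ a), χ.2⟩

omit [Fintype G] [Finite A] in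
/-- Invariance of inertia groups. -/
theorem inertiaSub_invariant (φ : A →* MulAut G) (N : Subgroup G) [hNn : N.Normal]
    (hN : ∀ a, ∀ n ∈ N, φ a n ∈ N) {θ : N → ℂ}
    (hθi : ∀ (a : A) (n : N), θ ⟨φ a n, hN a n n.2⟩ = θ n) :
    ∀ a, ∀ g ∈ Chars2.inertiaSub θ, φ a g ∈ Chars2.inertiaSub θ := by
  intro a g hg
  rw [Chars2.mem_inertiaSub] at hg ⊢
  funext n
  obtain ⟨n', rfl⟩ : ∃ n' : N, (⟨φ a n', hN a n' n'.2⟩ : N) = n :=
    ⟨⟨φ a⁻¹ n, hN a⁻¹ n n.2⟩, Subtype.ext (by
      show φ a (φ a⁻¹ (n : G)) = n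
      rw [← MulAut.mul_apply, ← map_mul, mul_inv_cancel, map_one, MulAut.one_apply])⟩
  have h1 := congrFun hg n'
  rw [Chars2.conjFun_apply] at h1 ⊢
  rw [hθi]
  refine Eq.trans ?_ h1
  rw [← hθi a ⟨g⁻¹ * n' * g⁻¹⁻¹, hNn.conj_mem (n' : G) n'.2 g⁻¹⟩]
  congr 1
  ext
  simp

omit [Finite A] in
/-- Reduction to the inertia group. -/
theorem invariant_above_of_inertia (φ : A →* MulAut G) (N : Subgroup G) [hNn : N.Normal]
    [Fintype N] (hN : ∀ a, ∀ n ∈ N, φ a n ∈ N) {θ : N → ℂ} (hθ : IsIrrCharacter N θ)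
    (hθi : ∀ (a : A) (n : N), θ ⟨φ a n, hN a n n.2⟩ = θ n)
    [Fintype (Chars2.inertiaSub θ)] (hNI : N ≤ Chars2.inertiaSub θ)
    (ψ : IrrCharacter (Chars2.inertiaSub θ))
    (hψi : InvFun (subAct φ _ (inertiaSub_invariant φ N hN hθi))
      (ψ : Chars2.inertiaSub θ → ℂ))
    (hψ : classInner (fun n : N => (ψ : Chars2.inertiaSub θ → ℂ) ⟨n, hNI n.2⟩) θ ≠ 0) :
    ∃ χ : IrrCharacter G, InvFun φ (χ : G → ℂ) ∧
      classInner (fun n : N => (χ : G → ℂ) n) θ ≠ 0 := by
  have hirr := Chars2.isIrr_indFun_of_inertia hNI hθ rfl ψ.2 hψ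
  refine ⟨⟨_, hirr⟩, fun a g => ?_, ?_⟩
  · show indFun (Chars2.inertiaSub θ) (ψ : Chars2.inertiaSub θ → ℂ) (φ a g) =
      indFun (Chars2.inertiaSub θ) (ψ : Chars2.inertiaSub θ → ℂ) g
    rw [indFun_apply, indFun_apply]
    congr 1
    refine (Fintype.sum_equiv (φ a).toEquiv _ _ fun x => ?_).symm
    show _ = extendByZero _ _ ((φ a x)⁻¹ * φ a g * φ a x)
    rw [← map_inv, ← map_mul, ← map_mul]
    by_cases hy : x⁻¹ * g * x ∈ Chars2.inertiaSub θ
    · rw [extendByZero_of_mem _ _ hy,
        extendByZero_of_mem _ _ (inertiaSub_invariant φ N hN hθi a _ hy)]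
      exact (hψi a ⟨_, hy⟩).symm
    · rw [extendByZero_of_not_mem _ _ hy, extendByZero_of_not_mem]
      intro h
      have h2 := inertiaSub_invariant φ N hN hθi a⁻¹ _ h
      rw [← MulAut.mul_apply, ← map_mul, inv_mul_cancel, map_one, MulAut.one_apply] at h2
      exact hy h2
  · refine classInner_restrict_trans N (Chars2.inertiaSub θ) hNI
      (isCharacter_of_isIrr hirr) ψ (isCharacter_of_isIrr hθ) ?_ hψ
    intro h0
    have h1 := classInner_indFun (Chars2.inertiaSub θ) (ψ : Chars2.inertiaSub θ → ℂ)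
      (isClassFunction_indFun (Chars2.inertiaSub θ) (ψ : Chars2.inertiaSub θ → ℂ))
    rw [classInner_self_irr hirr, ← classInner_conj_symm, h0, map_zero] at h1
    exact one_ne_zero h1

/-- An invariant character of a normal subgroup of coprime index lies under an invariant
character, if the acting group or the quotient is solvable. -/
theorem exists_invariant_above_coprime (φ : A →* MulAut G) (N : Subgroup G) [hNn : N.Normal]
    [Fintype N] (hN : ∀ a, ∀ n ∈ N, φ a n ∈ N) (T : Subgroup A) [T.Normal]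
    (hT : ∀ t ∈ T, ∃ n ∈ N, ∀ g, φ t g = n * g * n⁻¹) (hcop : N.index.Coprime T.index)
    (hsolv : Group.IsSolvable (A ⧸ T) ∨ Group.IsSolvable (G ⧸ N))
    {θ : N → ℂ} (hθ : IsIrrCharacter N θ)
    (hθi : ∀ (a : A) (n : N), θ ⟨φ a n, hN a n n.2⟩ = θ n) :
    ∃ χ : IrrCharacter G, InvFun φ (χ : G → ℂ) ∧
      classInner (fun n : N => (χ : G → ℂ) n) θ ≠ 0 := by
  classical
  induction hk : N.index using Nat.strong_induction_on generalizing G with
  | _ k ih =>
  subst hk
  have hNI : N ≤ Chars2.inertiaSub θ :=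
    Chars2.le_inertiaSub (isClassFunction_of_isCharacter (isCharacter_of_isIrr hθ))
  have hIinv := inertiaSub_invariant φ N hN hθi
  haveI : Fintype (Chars2.inertiaSub θ) := Fintype.ofFinite _
  haveI : Fintype (N.subgroupOf (Chars2.inertiaSub θ)) := Fintype.ofFinite _
  -- the data on the inertia group
  let φI := subAct φ _ hIinv
  let e : N.subgroupOf (Chars2.inertiaSub θ) ≃* N := Subgroup.subgroupOfEquivOfLe hNI
  have hN' : ∀ a, ∀ n ∈ N.subgroupOf (Chars2.inertiaSub θ),
      φI a n ∈ N.subgroupOf (Chars2.inertiaSub θ) := fun a n hn => hN a _ hn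
  have hT' : ∀ t ∈ T, ∃ n ∈ N.subgroupOf (Chars2.inertiaSub θ), ∀ g, φI t g = n * g * n⁻¹ := by
    intro t ht
    obtain ⟨n, hn, hn'⟩ := hT t ht
    exact ⟨⟨n, hNI hn⟩, hn, fun g => Subtype.ext (hn' g)⟩
  have hidx : (N.subgroupOf (Chars2.inertiaSub θ)).index ∣ N.index :=
    Subgroup.relIndex_dvd_index_of_le hNI
  have hθ' : IsIrrCharacter (N.subgroupOf (Chars2.inertiaSub θ)) (fun n => θ (e n)) :=
    isIrrCharacter_comp_equiv hθ e
  have hθi' : ∀ (a : A) (n : N.subgroupOf (Chars2.inertiaSub θ)),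
      θ (e ⟨φI a n, hN' a n n.2⟩) = θ (e n) := fun a n => hθi a (e n)
  have hG' : Chars2.inertiaSub (fun n => θ (e n)) = ⊤ := by
    refine Chars2.inertiaSub_eq_top fun t m => ?_
    have h1 := congrFun (Chars2.mem_inertiaSub.1 ((Chars2.inertiaSub θ).inv_mem t.2)) (e m)
    rw [Chars2.conjFun_apply] at h1
    refine Eq.trans ?_ h1
    refine congrArg θ (Subtype.ext ?_)
    simp [e]
  have hfinish : (∃ ψ : IrrCharacter (Chars2.inertiaSub θ),
      InvFun φI (ψ : Chars2.inertiaSub θ → ℂ) ∧
      classInner (fun n : N.subgroupOf (Chars2.inertiaSub θ) =>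
        (ψ : Chars2.inertiaSub θ → ℂ) n) (fun n => θ (e n)) ≠ 0) →
      ∃ χ : IrrCharacter G, InvFun φ (χ : G → ℂ) ∧
        classInner (fun n : N => (χ : G → ℂ) n) θ ≠ 0 := by
    rintro ⟨ψ, hψi, hψ⟩
    refine invariant_above_of_inertia φ N hN hθ hθi hNI ψ hψi ?_
    rw [← classInner_comp_equiv e]
    exact hψ
  rcases hsolv with hA | hQ
  · exact hfinish (invariant_above_of_solvable_acting φI (N.subgroupOf (Chars2.inertiaSub θ))
      hN' T hT' (hcop.coprime_dvd_left hidx) hA hθ' hθi' hG')
  · by_cases hG : Chars2.inertiaSub θ = ⊤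
    · let M := N ⊔ commutator G
      haveI : M.Normal := Subgroup.sup_normal _ _
      haveI : Fintype M := Fintype.ofFinite _
      have hMinv : ∀ a, ∀ x ∈ M, φ a x ∈ M := by
        intro a x hx
        have h1 : M.map (φ a).toMonoidHom ≤ M := by
          rw [Subgroup.map_sup]
          refine sup_le_sup ?_ ?_
          · rintro _ ⟨n, hn, rfl⟩; exact hN a n hn
          · rw [commutator_def, Subgroup.map_commutator]
            exact Subgroup.commutator_mono le_top le_top
        exact h1 ⟨x, hx, rfl⟩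
      by_cases hMN : M ≤ N
      · exact invariant_above_of_abelian φ N (le_sup_right.trans hMN) hN T hT hcop hθ hθi hG
      · have hNM : N ≤ M := le_sup_left
        have hMtop : M ≠ ⊤ := by
          intro htop
          have hNtop : N ≠ ⊤ := fun h => hMN (h ▸ le_top)
          haveI : Nontrivial (G ⧸ N) := QuotientGroup.nontrivial_iff.2 hNtop
          haveI := hQ
          refine (Group.IsSolvable.commutator_lt_top_of_nontrivial (G := G ⧸ N)).ne (top_unique ?_)
          rintro y -
          obtain ⟨g, rfl⟩ := QuotientGroup.mk'_surjective N y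
          have hg : QuotientGroup.mk' N g ∈ M.map (QuotientGroup.mk' N) :=
            ⟨g, htop ▸ Subgroup.mem_top g, rfl⟩
          rw [Subgroup.map_sup, QuotientGroup.map_mk'_self, bot_sup_eq, commutator_def,
            Subgroup.map_commutator] at hg
          exact Subgroup.commutator_mono le_top le_top hg
        let φM := subAct φ M hMinv
        haveI : Fintype (N.subgroupOf M) := Fintype.ofFinite _
        let eM : N.subgroupOf M ≃* N := Subgroup.subgroupOfEquivOfLe hNM
        have hlt1 : (N.subgroupOf M).index < N.index := by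
          have h := Subgroup.relIndex_mul_index hNM
          have hM1 : 1 < M.index := by
            have := Subgroup.index_ne_zero_of_finite (H := M)
            have := mt Subgroup.index_eq_one.1 hMtop
            omega
          show N.relIndex M < N.index
          rw [← h]
          exact lt_mul_of_one_lt_right (Nat.pos_of_ne_zero Subgroup.index_ne_zero_of_finite) hM1
        have hsolvM : Group.IsSolvable (M ⧸ N.subgroupOf M) := by
          haveI := hQ
          refine Group.isSolvable_of_isSolvable_injective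
            (f := QuotientGroup.map (N.subgroupOf M) N M.subtype (fun x hx => hx)) ?_
          refine (MonoidHom.ker_eq_bot_iff _).1 (eq_bot_iff.2 fun y hy => ?_)
          obtain ⟨x, rfl⟩ := QuotientGroup.mk'_surjective _ y
          exact (QuotientGroup.eq_one_iff x).2 ((QuotientGroup.eq_one_iff (x : G)).1 hy)
        obtain ⟨ψ, hψi, hψ⟩ := ih _ hlt1 φM (N.subgroupOf M) (fun a n hn => hN a _ hn)
          (fun t ht => by
            obtain ⟨n, hn, hn'⟩ := hT t ht
            exact ⟨⟨n, hNM hn⟩, hn, fun g => Subtype.ext (hn' g)⟩)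
          (hcop.coprime_dvd_left (Subgroup.relIndex_dvd_index_of_le hNM)) (Or.inr hsolvM)
          (isIrrCharacter_comp_equiv hθ eM) (fun a n => hθi a (eM n)) rfl
        have hlt2 : M.index < N.index := by
          have h := Subgroup.relIndex_mul_index hNM
          have hM1 : 1 < N.relIndex M := by
            have := mt Subgroup.relIndex_eq_one.1 hMN
            have : N.relIndex M ≠ 0 := fun h0 => by
              rw [h0, zero_mul] at h
              exact Subgroup.index_ne_zero_of_finite h.symm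
            omega
          rw [← h]
          exact lt_mul_of_one_lt_left (Nat.pos_of_ne_zero Subgroup.index_ne_zero_of_finite) hM1
        have hsolvQ : Group.IsSolvable (G ⧸ M) := by
          haveI := hQ
          exact Group.isSolvable_of_surjective (f := QuotientGroup.map N M (MonoidHom.id G) hNM)
            (fun y => by
              obtain ⟨g, rfl⟩ := QuotientGroup.mk'_surjective M y
              exact ⟨QuotientGroup.mk' N g, rfl⟩)
        obtain ⟨χ, hχi, hχ⟩ := ih _ hlt2 φ M hMinv
          (fun t ht => by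
            obtain ⟨n, hn, hn'⟩ := hT t ht
            exact ⟨n, hNM hn, hn'⟩)
          (hcop.coprime_dvd_left (Subgroup.index_dvd_of_le hNM)) (Or.inr hsolvQ) ψ.2
          (fun a x => hψi a x) rfl
        refine ⟨χ, hχi, classInner_restrict_trans N M hNM (irr_isCharacter χ) ψ
          (isCharacter_of_isIrr hθ) hχ ?_⟩
        rw [← classInner_comp_equiv eM]
        exact hψ
    · have hlt : (N.subgroupOf (Chars2.inertiaSub θ)).index < N.index := by
        have h := Subgroup.relIndex_mul_index hNI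
        have hI1 : 1 < (Chars2.inertiaSub θ).index := by
          have := Subgroup.index_ne_zero_of_finite (H := Chars2.inertiaSub θ)
          have := mt Subgroup.index_eq_one.1 hG
          omega
        show N.relIndex (Chars2.inertiaSub θ) < N.index
        rw [← h]
        exact lt_mul_of_one_lt_right (Nat.pos_of_ne_zero Subgroup.index_ne_zero_of_finite) hI1
      have hsolvI : Group.IsSolvable
          (Chars2.inertiaSub θ ⧸ N.subgroupOf (Chars2.inertiaSub θ)) := by
        haveI := hQ
        refine Group.isSolvable_of_isSolvable_injective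
          (f := QuotientGroup.map (N.subgroupOf (Chars2.inertiaSub θ)) N
            (Chars2.inertiaSub θ).subtype (fun x hx => hx)) ?_
        refine (MonoidHom.ker_eq_bot_iff _).1 (eq_bot_iff.2 fun y hy => ?_)
        obtain ⟨x, rfl⟩ := QuotientGroup.mk'_surjective _ y
        exact (QuotientGroup.eq_one_iff x).2 ((QuotientGroup.eq_one_iff (x : G)).1 hy)
      exact hfinish (ih _ hlt φI (N.subgroupOf (Chars2.inertiaSub θ)) hN' hT'
        (hcop.coprime_dvd_left hidx) (Or.inr hsolvI) hθ' hθi' rfl)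

end Cfsg.Agent.Chars
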