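import Cfsg.Agent.Chars.SelfCentralising
import Cfsg.Agent.S0165
import Cfsg.Agent.S4441

/-!
Character degrees of a simple group of order 7920, from the 11- and 5-blocks.
-/

set_option autoImplicit false
set_option linter.style.haveILetI false
set_option linter.unusedSectionVars false

open Cfsg Cfsg.Agent Cfsg.Agent.Blocks
open scoped ComplexConjugate

namespace Cfsg.Agent.Chars.Order7920

universe u

/-- Candidates for degrees congruent to `±1` modulo eleven. -/
theorem cand_eleven : ∀ d : Fin 89, (d : ℕ) ∣ 7920 → (d : ℕ) % 11 = 1 ∨ (d : ℕ) % 11 = 10 →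
    ((d : ℕ) = 1 ∨ (d : ℕ) = 12 ∨ (d : ℕ) = 45) ∧ (d : ℕ) % 11 = 1 ∨
      (d : ℕ) = 10 ∧ (d : ℕ) % 11 = 10 := by
  decide +kernel

set_option synthInstance.maxSize 1024 in
/-- The two possible shapes of the principal 11-block. -/
theorem shape_eleven : ∀ a b c : Fin 5, ∀ t : Fin 89, (a : ℕ) + b + c = 4 → (t : ℕ) ∣ 7920 →
    (t : ℕ) % 11 = 5 ∨ (t : ℕ) % 11 = 6 →
    ((1 : ℤ) - 10 * (a : ℕ) + 12 * (b : ℕ) + 45 * (c : ℕ) = (t : ℕ) ∨
      (1 : ℤ) - 10 * (a : ℕ) + 12 * (b : ℕ) + 45 * (c : ℕ) = -((t : ℕ) : ℤ)) →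
    1 + 100 * (a : ℕ) + 144 * (b : ℕ) + 2025 * (c : ℕ) + 2 * ((t : ℕ) * (t : ℕ)) ≤ 7920 →
    (7920 - (1 + 100 * (a : ℕ) + 144 * (b : ℕ) + 2025 * (c : ℕ) + 2 * ((t : ℕ) * (t : ℕ)))) % 121 = 0 →
    ((a : ℕ) = 2 ∧ (b : ℕ) = 2 ∧ (c : ℕ) = 0 ∧ (t : ℕ) = 5) ∨
      ((a : ℕ) = 3 ∧ (b : ℕ) = 0 ∧ (c : ℕ) = 1 ∧ (t : ℕ) = 16) := by
  decide +kernel

/-- Degrees of characters off the principal 11-block prime to five. -/
theorem cand_five : ∀ d : Fin 89, (d : ℕ) ∣ 7920 → 11 ∣ (d : ℕ) →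
    ((d : ℕ) % 5 = 1 ∨ (d : ℕ) % 5 = 4) → (d : ℕ) * (d : ℕ) ≤ 5082 →
    (d : ℕ) = 11 ∨ (d : ℕ) = 44 ∨ (d : ℕ) = 66 := by
  decide +kernel

/-- Degrees of characters off the principal 11-block divisible by five. -/
theorem cand_five_zero : ∀ d : Fin 89, (d : ℕ) ∣ 7920 → 11 ∣ (d : ℕ) → 5 ∣ (d : ℕ) → (d : ℕ) ≠ 0 →
    (d : ℕ) = 55 := by
  decide +kernel

variable {G : Type u} [Group G] [Fintype G] [IsSimpleGroup G]

section basic

variable (hG : Nat.card G = 7920)
include hG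

theorem not_comm : ¬ ∀ a b : G, a * b = b * a := fun hab => by
  letI : CommGroup G := { mul_comm := hab }
  have h := IsSimpleGroup.prime_card (α := G)
  rw [hG] at h
  norm_num at h

theorem degree_facts (χ : IrrCharacter G) : (χ : G → ℂ) 1 = (charDegree (χ : G → ℂ) : ℂ) ∧
    0 < charDegree (χ : G → ℂ) ∧ charDegree (χ : G → ℂ) ∣ 7920 ∧
    charDegree (χ : G → ℂ) < 89 := by
  classical
  obtain ⟨h1, h2⟩ := Blocks.charDegree_eq χ.2
  obtain ⟨d, -, hd, hdd⟩ := irr_degree_dvd_card χ.2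
  have he : d = charDegree (χ : G → ℂ) := by
    rw [h1] at hd; exact_mod_cast hd.symm
  refine ⟨h1, h2, hG ▸ he ▸ hdd, ?_⟩
  have hs := sum_sq_apply_one (G := G)
  simp only [fun η : IrrCharacter G => (Blocks.charDegree_eq η.2).1] at hs
  have h3 : ∑ η : IrrCharacter G, charDegree (η : G → ℂ) ^ 2 = Nat.card G := by exact_mod_cast hs
  have h4 := Finset.single_le_sum (f := fun η : IrrCharacter G => charDegree (η : G → ℂ) ^ 2)
    (fun η _ => Nat.zero_le _) (Finset.mem_univ χ)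
  rw [h3, hG] at h4
  by_contra h5
  have := Nat.pow_le_pow_left (not_lt.1 h5) 2
  omega

theorem sum_degree_sq : ∑ η : IrrCharacter G, charDegree (η : G → ℂ) ^ 2 = 7920 := by
  have hs := sum_sq_apply_one (G := G)
  simp only [fun η : IrrCharacter G => (Blocks.charDegree_eq η.2).1] at hs
  rw [← hG]
  exact_mod_cast hs

theorem card_sylow {p : ℕ} [Fact p.Prime] (h1 : p ∣ 7920) (h2 : ¬ p ^ 2 ∣ 7920) (P : Sylow p G) :
    Nat.card P = p := by
  have hd : p ∣ Nat.card G := hG ▸ h1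
  obtain ⟨a, ha⟩ := IsPGroup.iff_card.1 P.isPGroup'
  have h3 : p ∣ Nat.card P := P.dvd_card_of_dvd_card hd
  rcases a with _ | _ | a
  · rw [ha, pow_zero] at h3
    exact absurd h3 (Fact.out : p.Prime).not_dvd_one
  · rw [ha, pow_one]
  · exact absurd ((dvd_trans (pow_dvd_pow p (by omega : 2 ≤ a + 1 + 1)) (dvd_of_eq ha.symm)).trans
      (hG ▸ Subgroup.card_subgroup_dvd_card (P : Subgroup G))) h2

theorem count_relation {p : ℕ} [Fact p.Prime] (P : Sylow p G) {e : ℕ}
    (he : (Subgroup.centralizer ((P : Subgroup G) : Set G)).relIndex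
      (Subgroup.normalizer ((P : Subgroup G) : Set G)) = e) :
    ∃ n : ℕ, n % p = 1 ∧ e * n * Nat.card (Subgroup.centralizer ((P : Subgroup G) : Set G)) = 7920 := by
  refine ⟨(Subgroup.normalizer ((P : Subgroup G) : Set G)).index, ?_, ?_⟩
  · have h0 := card_sylow_modEq_one p G
    rw [P.card_eq_index_normalizer] at h0
    exact Eq.trans h0 (Nat.mod_eq_of_lt (Fact.out : p.Prime).one_lt)
  · rw [← he, Subgroup.relIndex_mul_index (Subgroup.centralizer_le_normalizer _), mul_comm,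
      Subgroup.card_mul_index, hG]

end basic

variable (hG : Nat.card G = 7920)
include hG

/-- The principal 11-block. -/
theorem eleven (P : Sylow 11 G) [Fact (Nat.Prime 11)] :
    Subgroup.centralizer ((P : Subgroup G) : Set G) = P ∧
    ∃ (X : Finset (IrrCharacter G)) (θ θ' : IrrCharacter G), X.card = 4 ∧ θ ≠ θ' ∧
      oneChar G ∉ X ∧ θ ∉ X ∧ θ' ∉ X ∧ oneChar G ≠ θ ∧ oneChar G ≠ θ' ∧
      charDegree (θ' : G → ℂ) = charDegree (θ : G → ℂ) ∧
      (∀ χ : IrrCharacter G, ¬ 11 ∣ charDegree (χ : G → ℂ) →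
        χ = oneChar G ∨ χ ∈ X ∨ χ = θ ∨ χ = θ') ∧
      ((charDegree (θ : G → ℂ) = 5 ∧ (∃ χ ∈ X, charDegree (χ : G → ℂ) = 12) ∧
          ∃ χ ∈ X, charDegree (χ : G → ℂ) = 10) ∨
        (charDegree (θ : G → ℂ) = 16 ∧
          ∃ A : Finset (IrrCharacter G), ∃ c, X = insert c A ∧ c ∉ A ∧ A.card = 3 ∧
            charDegree (c : G → ℂ) = 45 ∧ ∀ χ ∈ A, charDegree (χ : G → ℂ) = 10)) := by
  classical
  have hna := not_comm hG
  have hdf := degree_facts hG
  have hP := card_sylow hG (by norm_num) (by norm_num) P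
  obtain ⟨M, hMmax, hpM⟩ := DegreeGraph.exists_isMaximal_mem 11
  have hM : IsPModular 11 M := ⟨Fact.out, hMmax, hpM⟩
  obtain ⟨X, Y, hB, hdisj, hX, hY, εX, ε, hXp, hε, hYp, hYreg, hrel⟩ :=
    S4441.result 11 M hM (by norm_num) P hP _ rfl
  set e := (Subgroup.centralizer ((P : Subgroup G) : Set G)).relIndex
    (Subgroup.normalizer ((P : Subgroup G) : Set G)) with he
  have he2 : 2 ≤ e := SimpleDeg.two_le_relIndex hna P hP rfl
  have hed : e ∣ 10 := SimpleDeg.relIndex_dvd_pred P hP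
  have hone : ∀ χ : IrrCharacter G, charDegree (χ : G → ℂ) = 1 → χ = oneChar G := fun χ hχ =>
    Subtype.ext (SimpleDeg.eq_one_of_degree_one hna (by rw [(hdf χ).1, hχ, Nat.cast_one]))
  have hXdeg : ∀ χ ∈ X, ((charDegree (χ : G → ℂ) = 1 ∨ charDegree (χ : G → ℂ) = 12 ∨
      charDegree (χ : G → ℂ) = 45) ∧ εX χ = 1) ∨ (charDegree (χ : G → ℂ) = 10 ∧ εX χ = -1) := by
    intro χ hχ
    obtain ⟨hs, hc, -⟩ := hXp χ hχ
    obtain ⟨k, hk⟩ := Int.modEq_iff_dvd.1 hc.symm
    have hmod : charDegree (χ : G → ℂ) % 11 = 1 ∧ εX χ = 1 ∨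
        charDegree (χ : G → ℂ) % 11 = 10 ∧ εX χ = -1 := by
      rcases hs with hs | hs <;> rw [hs] at hk <;> [left; right] <;>
        exact ⟨by omega, hs⟩
    have hc' := cand_eleven ⟨_, (hdf χ).2.2.2⟩ (hdf χ).2.2.1 (hmod.imp And.left And.left)
    simp only at hc'
    rcases hc' with ⟨h1, h2⟩ | ⟨h1, h2⟩
    · exact Or.inl ⟨h1, (hmod.resolve_right fun h => by omega).2⟩
    · exact Or.inr ⟨h1, (hmod.resolve_left fun h => by omega).2⟩
  have hrel1 : ∀ θ ∈ Y, (ε : ℤ) * charDegree (θ : G → ℂ) =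
      ∑ χ ∈ X.toFinset, εX χ * charDegree (χ : G → ℂ) := by
    intro θ hθ
    have h1 := hrel θ hθ 1 (by rw [orderOf_one]; norm_num)
    rw [← Set.coe_toFinset X, finsum_mem_coe_finset] at h1
    simp only [fun χ => (hdf χ).1] at h1
    exact_mod_cast h1
  have hXc : X.toFinset.card = e := by
    rw [← Set.ncard_eq_toFinset_card', ← Nat.card_coe_set_eq, hX]
  have hYc : Y.toFinset.card = 10 / e := by
    rw [← Set.ncard_eq_toFinset_card', ← Nat.card_coe_set_eq, hY]
  have he10 : e = 2 ∨ e = 5 ∨ e = 10 := by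
    have : e ≤ 10 := Nat.le_of_dvd (by norm_num) hed
    interval_cases e <;> first | omega | (exfalso; omega)
  obtain ⟨θ, hθ⟩ : Y.toFinset.Nonempty := Finset.card_pos.1 (by rw [hYc]; rcases he10 with h | h | h <;> rw [h] <;> norm_num)
  rw [Set.mem_toFinset] at hθ
  -- a character of degree ten exists
  have h10 : ∃ χ ∈ X, charDegree (χ : G → ℂ) = 10 := by
    by_contra hno
    push Not at hno
    have hpos : ∀ χ ∈ X.toFinset, εX χ * charDegree (χ : G → ℂ) = charDegree (χ : G → ℂ) ∧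
        (charDegree (χ : G → ℂ) = 1 ∨ charDegree (χ : G → ℂ) = 12 ∨ charDegree (χ : G → ℂ) = 45) :=
      fun χ hχ => by
        rcases hXdeg χ (Set.mem_toFinset.1 hχ) with ⟨h1, h2⟩ | ⟨h1, -⟩
        · exact ⟨by rw [h2, one_mul], h1⟩
        · exact absurd h1 (hno χ (Set.mem_toFinset.1 hχ))
    have h1 := hrel1 θ hθ
    rw [Finset.sum_congr rfl fun χ hχ => (hpos χ hχ).1, ← Nat.cast_sum] at h1
    have hθd : charDegree (θ : G → ℂ) = ∑ χ ∈ X.toFinset, charDegree (χ : G → ℂ) := by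
      have : (0 : ℤ) < ∑ χ ∈ X.toFinset, charDegree (χ : G → ℂ) := by
        exact_mod_cast Finset.sum_pos (fun χ _ => (hdf χ).2.1) (Finset.card_pos.1 (by omega))
      rcases hε with h | h <;> rw [h] at h1 <;> omega
    by_cases h1X : oneChar G ∈ X
    · rw [← Finset.add_sum_erase _ _ (Set.mem_toFinset.2 h1X)] at hθd
      have hone1 : charDegree ((oneChar G : IrrCharacter G) : G → ℂ) = 1 := DegreesBelow.charDegree_one
      have hrest : ∀ χ ∈ X.toFinset.erase (oneChar G),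
          charDegree (χ : G → ℂ) = 12 ∨ charDegree (χ : G → ℂ) = 45 := fun χ hχ =>
        (hpos χ (Finset.mem_of_mem_erase hχ)).2.resolve_left fun h =>
          Finset.ne_of_mem_erase hχ (hone χ h)
      have hlow : 12 * (e - 1) ≤ ∑ χ ∈ X.toFinset.erase (oneChar G), charDegree (χ : G → ℂ) := by
        have := Finset.card_nsmul_le_sum (X.toFinset.erase (oneChar G))
          (fun χ : IrrCharacter G => charDegree (χ : G → ℂ)) 12 fun χ hχ => by rcases hrest χ hχ with h | h <;> omega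
        rw [Finset.card_erase_of_mem (Set.mem_toFinset.2 h1X), hXc, smul_eq_mul] at this
        omega
      have hθlt := (hdf θ).2.2.2
      have hθdvd := (hdf θ).2.2.1
      rw [hone1] at hθd
      rcases he10 with h | h | h
      · obtain ⟨χ, hχ⟩ := Finset.card_eq_one.1 (by
          rw [Finset.card_erase_of_mem (Set.mem_toFinset.2 h1X), hXc, h] :
            (X.toFinset.erase (oneChar G)).card = 1)
        rw [hχ, Finset.sum_singleton] at hθd
        rcases hrest χ (by rw [hχ]; exact Finset.mem_singleton_self χ) with hd | hd <;>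
          rw [hd] at hθd <;> rw [hθd] at hθdvd <;> norm_num at hθdvd
      · set b := ((X.toFinset.erase (oneChar G)).filter fun χ : IrrCharacter G => charDegree (χ : G → ℂ) = 45).card
        have hsum : ∑ χ ∈ X.toFinset.erase (oneChar G), charDegree (χ : G → ℂ) = 48 + 33 * b := by
          rw [Finset.sum_congr rfl (g := fun χ : IrrCharacter G =>
            12 + if charDegree (χ : G → ℂ) = 45 then 33 else 0) fun χ hχ => by
              rcases hrest χ hχ with hd | hd <;> simp [hd],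
            Finset.sum_add_distrib, Finset.sum_const,
            Finset.card_erase_of_mem (Set.mem_toFinset.2 h1X), hXc, h, ← Finset.sum_filter,
            Finset.sum_const, smul_eq_mul, smul_eq_mul]
          show _ = 48 + 33 * b
          have : b = _ := rfl
          rw [this]; ring
        rw [hsum] at hθd
        have hb : b ≤ 1 := by omega
        interval_cases b <;> norm_num at hθd <;> rw [hθd] at hθdvd <;> norm_num at hθdvd
      · omega
    · have h1Y : oneChar G ∈ Y :=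
        (show oneChar G ∈ X ∪ Y from hB ▸ Blocks.one_mem_principal).resolve_left h1X
      have h2 := hYreg θ hθ _ h1Y 1 (by rw [orderOf_one]; norm_num)
      rw [(hdf θ).1, coe_oneChar] at h2
      simp only at h2
      have h3 : charDegree (θ : G → ℂ) = 1 := by exact_mod_cast h2
      rw [h3] at hθd
      have := Finset.card_nsmul_le_sum X.toFinset (fun χ : IrrCharacter G => charDegree (χ : G → ℂ)) 1
        fun χ _ => (hdf χ).2.1
      rw [hXc, smul_eq_mul, ← hθd] at this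
      omega
  obtain ⟨χt, hχt, hχt10⟩ := h10
  have hC : Subgroup.centralizer ((P : Subgroup G) : Set G) = P := by
    refine SelfCentralising.centralizer_eq_of_degree_pred (by norm_num) P hP hχt10
      fun x hx hx1 y hy hyp => ?_
    rw [(hXp χt hχt).2.2 x hx hx1 y hy hyp]
    rcases hXdeg χt hχt with ⟨h1, -⟩ | ⟨-, h2⟩
    · omega
    · rw [h2]; simp
  refine ⟨hC, ?_⟩
  have he5 : e = 5 := by
    obtain ⟨n, hn, hn'⟩ := count_relation hG P rfl
    rw [← he, hC, hP] at hn'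
    rcases he10 with h | h | h <;> rw [h] at hn' <;> omega
  rw [he5] at hXc hYc
  obtain ⟨θ₁, θ', hne, hYeq⟩ := Finset.card_eq_two.1 (show Y.toFinset.card = 2 by rw [hYc])
  have hθ₁ : θ₁ ∈ Y := Set.mem_toFinset.1 (hYeq ▸ Finset.mem_insert_self _ _)
  have hθ' : θ' ∈ Y :=
    Set.mem_toFinset.1 (hYeq ▸ Finset.mem_insert_of_mem (Finset.mem_singleton_self _))
  have hdeq : charDegree (θ' : G → ℂ) = charDegree (θ₁ : G → ℂ) := by
    have h2 := hYreg θ' hθ' θ₁ hθ₁ 1 (by rw [orderOf_one]; norm_num)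
    rw [(hdf θ').1, (hdf θ₁).1] at h2
    exact_mod_cast h2
  have hθmod : charDegree (θ₁ : G → ℂ) % 11 = 5 ∨ charDegree (θ₁ : G → ℂ) % 11 = 6 := by
    have h1 := hYp θ₁ hθ₁
    rw [he5] at h1
    obtain ⟨k, hk⟩ := Int.modEq_iff_dvd.1 h1.symm
    rcases hε with h | h <;> rw [h] at hk <;> omega
  have h1ne : ∀ η ∈ Y, oneChar G ≠ η := fun η hη h => by
    have h2 := hYreg η hη θ₁ hθ₁ 1 (by rw [orderOf_one]; norm_num)
    rw [← h, (hdf θ₁).1, coe_oneChar] at h2
    simp only at h2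
    have : charDegree (θ₁ : G → ℂ) = 1 := by exact_mod_cast h2.symm
    omega
  have h1X : oneChar G ∈ X :=
    (show oneChar G ∈ X ∪ Y from hB ▸ Blocks.one_mem_principal).resolve_right
      fun h => h1ne _ h rfl
  set X' := X.toFinset.erase (oneChar G) with hX'
  have hX'c : X'.card = 4 := by
    rw [hX', Finset.card_erase_of_mem (Set.mem_toFinset.2 h1X), hXc]
  have hX'deg : ∀ χ ∈ X', (charDegree (χ : G → ℂ) = 10 ∧ εX χ = -1) ∨
      (charDegree (χ : G → ℂ) = 12 ∧ εX χ = 1) ∨ (charDegree (χ : G → ℂ) = 45 ∧ εX χ = 1) := by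
    intro χ hχ
    rcases hXdeg χ (Set.mem_toFinset.1 (Finset.mem_of_mem_erase hχ)) with ⟨h1 | h1 | h1, h2⟩ | h
    · exact absurd (hone χ h1) (Finset.ne_of_mem_erase hχ)
    · exact Or.inr (Or.inl ⟨h1, h2⟩)
    · exact Or.inr (Or.inr ⟨h1, h2⟩)
    · exact Or.inl h
  have hnX : ∀ η ∈ Y, η ∉ X' := fun η hη h =>
    Set.disjoint_left.1 hdisj (Set.mem_toFinset.1 (Finset.mem_of_mem_erase h)) hη
  have hall : ∀ χ : IrrCharacter G, ¬ 11 ∣ charDegree (χ : G → ℂ) →
      χ = oneChar G ∨ χ ∈ X' ∨ χ = θ₁ ∨ χ = θ' := by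
    intro χ hχ
    have h1 : χ ∈ X ∪ Y := hB ▸ DegreesBelow.mem_principal hM P hP hC χ hχ
    rcases h1 with h1 | h1
    · by_cases h2 : χ = oneChar G
      · exact Or.inl h2
      · exact Or.inr (Or.inl (Finset.mem_erase.2 ⟨h2, Set.mem_toFinset.2 h1⟩))
    · have : χ ∈ Y.toFinset := Set.mem_toFinset.2 h1
      rw [hYeq, Finset.mem_insert, Finset.mem_singleton] at this
      exact Or.inr (Or.inr this)
  -- the shapes
  set a := (X'.filter fun χ : IrrCharacter G => charDegree (χ : G → ℂ) = 10).card with ha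
  set b := (X'.filter fun χ : IrrCharacter G => charDegree (χ : G → ℂ) = 12).card with hb
  set c := (X'.filter fun χ : IrrCharacter G => charDegree (χ : G → ℂ) = 45).card with hc
  have hsplit : ∀ f : ℕ → ℤ, ∀ F : IrrCharacter G → ℤ,
      (∀ χ ∈ X', F χ = f (charDegree (χ : G → ℂ))) →
      ∑ χ ∈ X', F χ = a * f 10 + b * f 12 + c * f 45 := by
    intro f F hF
    rw [Finset.sum_congr rfl (g := fun χ : IrrCharacter G =>
      (if charDegree (χ : G → ℂ) = 10 then f 10 else 0) +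
      (if charDegree (χ : G → ℂ) = 12 then f 12 else 0) +
      (if charDegree (χ : G → ℂ) = 45 then f 45 else 0)) fun χ hχ => by
        rw [hF χ hχ]
        rcases hX'deg χ hχ with ⟨h, -⟩ | ⟨h, -⟩ | ⟨h, -⟩ <;> simp [h]]
    simp only [Finset.sum_add_distrib, ← Finset.sum_filter, Finset.sum_const, nsmul_eq_mul]
    rfl
  have habc : a + b + c = 4 := by
    have h1 := hsplit (fun _ => 1) (fun _ => 1) fun χ _ => rfl
    rw [Finset.sum_const, hX'c] at h1
    simp only [nsmul_eq_mul, mul_one] at h1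
    omega
  have hrelA : (ε : ℤ) * charDegree (θ₁ : G → ℂ) = 1 - 10 * a + 12 * b + 45 * c := by
    rw [hrel1 θ₁ hθ₁, ← Finset.add_sum_erase _ _ (Set.mem_toFinset.2 h1X), ← hX',
      hsplit (fun d => if d = 10 then -10 else (d : ℤ)) _ fun χ hχ => by
        rcases hX'deg χ hχ with ⟨h, h'⟩ | ⟨h, h'⟩ | ⟨h, h'⟩ <;> rw [h, h'] <;> norm_num]
    rcases hXdeg _ h1X with ⟨-, h'⟩ | ⟨h, -⟩
    · rw [h', DegreesBelow.charDegree_one]; push_cast; norm_num; ring
    · rw [DegreesBelow.charDegree_one] at h; omega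
  set T : Finset (IrrCharacter G) := insert (oneChar G) (X' ∪ {θ₁, θ'}) with hT
  have hdj : Disjoint X' ({θ₁, θ'} : Finset (IrrCharacter G)) := by
    rw [Finset.disjoint_left]
    intro η hη hη'
    rw [Finset.mem_insert, Finset.mem_singleton] at hη'
    rcases hη' with rfl | rfl
    · exact hnX _ hθ₁ hη
    · exact hnX _ hθ' hη
  have h1T : oneChar G ∉ X' ∪ {θ₁, θ'} := by
    simp only [Finset.mem_union, Finset.mem_insert, Finset.mem_singleton, not_or]
    exact ⟨Finset.notMem_erase _ _, h1ne _ hθ₁, h1ne _ hθ'⟩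
  have hTsum : (∑ η ∈ T, charDegree (η : G → ℂ) ^ 2 : ℤ) =
      1 + 100 * a + 144 * b + 2025 * c + 2 * ((charDegree (θ₁ : G → ℂ) : ℤ) * charDegree (θ₁ : G → ℂ)) := by
    rw [hT, Finset.sum_insert h1T, Finset.sum_union hdj, Finset.sum_pair hne, hdeq,
      DegreesBelow.charDegree_one, hsplit (fun d => (d : ℤ) ^ 2) _ fun χ _ => rfl]
    push_cast
    ring
  have hTsum' : ∑ η ∈ T, charDegree (η : G → ℂ) ^ 2 = 1 + 100 * a + 144 * b + 2025 * c +
      2 * (charDegree (θ₁ : G → ℂ) * charDegree (θ₁ : G → ℂ)) := by exact_mod_cast hTsum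
  have hs := sum_degree_sq hG
  rw [← Finset.sum_add_sum_compl T, hTsum'] at hs
  have h121 : 121 ∣ ∑ η ∈ Tᶜ, charDegree (η : G → ℂ) ^ 2 := Finset.dvd_sum fun η hη => by
    have h11 : 11 ∣ charDegree (η : G → ℂ) := by
      by_contra h
      rw [Finset.mem_compl, hT] at hη
      rcases hall η h with h' | h' | h' | h' <;> exact hη (by simp [h'])
    exact pow_dvd_pow_of_dvd h11 2
  have hsh := shape_eleven ⟨a, by omega⟩ ⟨b, by omega⟩ ⟨c, by omega⟩ ⟨_, (hdf θ₁).2.2.2⟩
    habc (hdf θ₁).2.2.1 hθmod (by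
      simp only
      rcases hε with h | h <;> rw [h] at hrelA
      · left; linarith
      · right; linarith) (by simp only; omega) (by simp only; omega)
  refine ⟨X', θ₁, θ', hX'c, hne, Finset.notMem_erase _ _, hnX _ hθ₁, hnX _ hθ', h1ne _ hθ₁,
    h1ne _ hθ', hdeq, hall, ?_⟩
  simp only at hsh
  rcases hsh with ⟨h1, h2, h3, h4⟩ | ⟨h1, h2, h3, h4⟩
  · refine Or.inl ⟨h4, ?_⟩
    obtain ⟨χ, hχ⟩ := Finset.card_pos.1 (by rw [← hb, h2]; norm_num :
      0 < (X'.filter fun χ : IrrCharacter G => charDegree (χ : G → ℂ) = 12).card)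
    obtain ⟨η, hη⟩ := Finset.card_pos.1 (by rw [← ha, h1]; norm_num :
      0 < (X'.filter fun χ : IrrCharacter G => charDegree (χ : G → ℂ) = 10).card)
    exact ⟨⟨χ, (Finset.mem_filter.1 hχ).1, (Finset.mem_filter.1 hχ).2⟩,
      η, (Finset.mem_filter.1 hη).1, (Finset.mem_filter.1 hη).2⟩
  · refine Or.inr ⟨h4, ?_⟩
    obtain ⟨f, hf⟩ := Finset.card_eq_one.1 (hc.symm.trans h3)
    have hfm := Finset.mem_filter.1 (hf.symm ▸ Finset.mem_singleton_self f :
      f ∈ X'.filter fun χ : IrrCharacter G => charDegree (χ : G → ℂ) = 45)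
    refine ⟨X'.erase f, f, (Finset.insert_erase hfm.1).symm, Finset.notMem_erase _ _,
      by rw [Finset.card_erase_of_mem hfm.1, hX'c], hfm.2, fun χ hχ => ?_⟩
    rcases hX'deg χ (Finset.mem_of_mem_erase hχ) with ⟨h, -⟩ | ⟨h, -⟩ | ⟨h, -⟩
    · exact h
    · have : χ ∈ X'.filter fun χ : IrrCharacter G => charDegree (χ : G → ℂ) = 12 :=
        Finset.mem_filter.2 ⟨Finset.mem_of_mem_erase hχ, h⟩
      rw [Finset.card_eq_zero.1 (hb.symm.trans h2)] at this
      exact absurd this (Finset.notMem_empty χ)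
    · have : χ ∈ X'.filter fun χ : IrrCharacter G => charDegree (χ : G → ℂ) = 45 :=
        Finset.mem_filter.2 ⟨Finset.mem_of_mem_erase hχ, h⟩
      rw [hf, Finset.mem_singleton] at this
      exact absurd this (Finset.ne_of_mem_erase hχ)

/-- The principal 5-block, at a given Sylow subgroup. -/
theorem five_core [Fact (Nat.Prime 5)] [Fact (Nat.Prime 11)] (h10 : ∃ χ : IrrCharacter G,
      charDegree (χ : G → ℂ) = 10) (P : Sylow 5 G) :
    Subgroup.centralizer ((P : Subgroup G) : Set G) = P ∧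
    (∀ χ : IrrCharacter G, ¬ 5 ∣ charDegree (χ : G → ℂ) →
      charDegree (χ : G → ℂ) % 5 = 1 ∨ charDegree (χ : G → ℂ) % 5 = 4) ∧
    (Finset.univ.filter fun χ : IrrCharacter G => ¬ 5 ∣ charDegree (χ : G → ℂ)).card = 5 := by
  classical
  have hna := not_comm hG
  have hdf := degree_facts hG
  have hP := card_sylow hG (by norm_num) (by norm_num) P
  obtain ⟨M, hMmax, hpM⟩ := DegreeGraph.exists_isMaximal_mem 5
  have hM : IsPModular 5 M := ⟨Fact.out, hMmax, hpM⟩
  obtain ⟨x, hx⟩ := exists_prime_orderOf_dvd_card' (G := (P : Subgroup G)) 5 (by rw [hP])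
  have hx5 : orderOf (x : G) = 5 := by rw [Subgroup.orderOf_coe]; exact hx
  set C := Subgroup.centralizer ((P : Subgroup G) : Set G) with hCdef
  have hPC : (P : Subgroup G) ≤ C := by
    haveI : IsCyclic (P : Subgroup G) := isCyclic_of_prime_card hP
    intro y hy
    exact Subgroup.mem_centralizer_iff.2 fun z hz =>
      congrArg Subtype.val ((IsCyclic.commGroup (α := (P : Subgroup G))).mul_comm ⟨z, hz⟩ ⟨y, hy⟩)
  have hcomm : ∀ y ∈ C, Commute (x : G) y := fun y hy =>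
    Subgroup.mem_centralizer_iff.1 hy (x : G) x.2
  -- no involution centralises the Sylow subgroup
  have hodd : ¬ 2 ∣ Nat.card C := fun h2 => by
    obtain ⟨t, ht⟩ := exists_prime_orderOf_dvd_card' (G := C) 2 h2
    have ht2 : orderOf (t : G) = 2 := by rw [Subgroup.orderOf_coe]; exact ht
    obtain ⟨χ, hχ⟩ := h10
    have hvan : ∀ g : G, 5 ∣ orderOf g → (χ : G → ℂ) g = 0 := fun g hg => by
      obtain ⟨n, ρ, hi, hρ⟩ := χ.2
      haveI := hi
      have hfin : Module.finrank ℂ (Fin n → ℂ) = 10 := by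
        have h := (hdf χ).1
        rw [← hρ, Representation.char_one] at h
        rw [← hρ] at hχ
        exact (show Module.finrank ℂ (Fin n → ℂ) = charDegree ρ.character by exact_mod_cast h).trans hχ
      rw [← hρ]
      exact S0165.result ρ 5 1 Fact.out (by rw [hG]; norm_num) (by rw [hG]; norm_num)
        (by rw [hfin]; norm_num) g hg
    obtain ⟨j, hj, hjv⟩ := SelfCentralising.apply_involution hna χ
      (show (t : G) ^ 2 = 1 from ht2 ▸ pow_orderOf_eq_one (t : G))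
    obtain ⟨k, hk⟩ := SelfCentralising.exists_eq_sum_commute χ hx5 ht2 (by norm_num)
      (hcomm _ t.2) hvan
    rw [hjv, hχ] at hk
    rw [hχ] at hj
    have hk' : (20 : ℤ) - 4 * j = 10 * k := by
      have : ((20 : ℤ) - 4 * j : ℂ) = ((10 * k : ℤ) : ℂ) := by
        push_cast
        push_cast at hk
        linear_combination hk
      exact_mod_cast this
    have hj05 : j = 0 ∨ j = 5 := by omega
    refine (show (t : G) ≠ 1 from fun h => by rw [h, orderOf_one] at ht2; omega)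
      (SimpleDeg.eq_one_of_norm_eq hna (χ := χ) (by rw [(hdf χ).1, hχ]; norm_num) ?_)
    rw [hjv, hχ, (hdf χ).1, hχ]
    rcases hj05 with rfl | rfl <;> norm_num
  -- and none of order eleven
  have h11 : ¬ 11 ∣ Nat.card C := fun h11 => by
    obtain ⟨z, hz⟩ := exists_prime_orderOf_dvd_card' (G := C) 11 h11
    have hz' : orderOf (z : G) = 11 := by rw [Subgroup.orderOf_coe]; exact hz
    obtain ⟨Q, hQ⟩ := (IsPGroup.of_card (p := 11) (n := 1)
      (show Nat.card (Subgroup.zpowers (z : G)) = 11 ^ 1 by rw [Nat.card_zpowers, hz', pow_one])).exists_le_sylow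
    have hQe : Subgroup.zpowers (z : G) = Q := Subgroup.eq_of_le_of_card_ge hQ (by
      rw [Nat.card_zpowers, hz', card_sylow hG (by norm_num) (by norm_num) Q])
    have hxC : (x : G) ∈ Subgroup.centralizer ((Q : Subgroup G) : Set G) := by
      rw [← hQe, Subgroup.mem_centralizer_iff]
      intro w hw
      obtain ⟨i, rfl⟩ := Subgroup.mem_zpowers_iff.1 hw
      exact ((hcomm _ z.2).zpow_right i).eq.symm
    rw [(eleven hG Q).1] at hxC
    have := Subgroup.orderOf_dvd_natCard _ hxC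
    rw [hx5, card_sylow hG (by norm_num) (by norm_num) Q] at this
    norm_num at this
  obtain ⟨u, hu⟩ : 5 ∣ Nat.card C := hP ▸ Subgroup.card_dvd_of_le hPC
  obtain ⟨X, Y, hB, hdisj, hX, hY, εX, ε, hXp, hε, hYp, -, -⟩ :=
    S4441.result 5 M hM (by norm_num) P hP _ rfl
  set e := C.relIndex (Subgroup.normalizer ((P : Subgroup G) : Set G)) with he
  have he2 : 2 ≤ e := SimpleDeg.two_le_relIndex hna P hP rfl
  have hed : e ∣ 4 := SimpleDeg.relIndex_dvd_pred P hP
  obtain ⟨n, hn, hn'⟩ := count_relation hG P rfl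
  rw [← hCdef, ← he, hu] at hn'
  have heu : e = 4 ∧ u = 1 := by
    have hel : e ≤ 4 := Nat.le_of_dvd (by norm_num) hed
    have hud : u ∣ 7920 := ⟨e * n * 5, by rw [← hn']; ring⟩
    have h5 : e * n * u = 1584 := by linarith [hn', show e * n * (5 * u) = 5 * (e * n * u) by ring]
    have h2' : ¬ 2 ∣ u := fun h => hodd (hu ▸ h.mul_left 5)
    have h11' : ¬ 11 ∣ u := fun h => h11 (hu ▸ h.mul_left 5)
    have hu9 : u ∣ 9 := by
      have hud' : u ∣ 16 * (9 * 11) := ⟨e * n, by rw [show 16 * (9 * 11) = 1584 by norm_num, ← h5]; ring⟩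
      have c2 : Nat.Coprime u 16 := by
        have := (Nat.prime_two.coprime_iff_not_dvd.2 h2').symm.pow_right 4
        simpa using this
      have c11 : Nat.Coprime u 11 := ((Fact.out : Nat.Prime 11).coprime_iff_not_dvd.2 h11').symm
      exact c11.dvd_of_dvd_mul_right (c2.dvd_of_dvd_mul_left hud')
    have hu9' : u ≤ 9 := Nat.le_of_dvd (by norm_num) hu9
    interval_cases u <;> interval_cases e <;> first | exact ⟨rfl, rfl⟩ | (exfalso; omega)
  have hC : C = P := by
    refine (Subgroup.eq_of_le_of_card_ge hPC ?_).symm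
    rw [hu, heu.2, hP]
  rw [heu.1] at hX hY hYp
  have hmem : ∀ χ : IrrCharacter G, χ ∈ X ∪ Y ↔ ¬ 5 ∣ charDegree (χ : G → ℂ) := by
    refine fun χ => ⟨fun h hd => ?_, fun h => hB ▸ DegreesBelow.mem_principal hM P hP hC χ h⟩
    rcases h with h | h
    · obtain ⟨hs, hc, -⟩ := hXp χ h
      obtain ⟨k, hk⟩ := Int.modEq_iff_dvd.1 hc.symm
      rcases hs with hs | hs <;> rw [hs] at hk <;> omega
    · obtain ⟨k, hk⟩ := Int.modEq_iff_dvd.1 (hYp χ h).symm
      rcases hε with hs | hs <;> rw [hs] at hk <;> omega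
  refine ⟨hC, fun χ hχ => ?_, ?_⟩
  · rcases (hmem χ).2 hχ with h | h
    · obtain ⟨hs, hc, -⟩ := hXp χ h
      obtain ⟨k, hk⟩ := Int.modEq_iff_dvd.1 hc.symm
      rcases hs with hs | hs <;> rw [hs] at hk <;> omega
    · obtain ⟨k, hk⟩ := Int.modEq_iff_dvd.1 (hYp χ h).symm
      rcases hε with hs | hs <;> rw [hs] at hk <;> omega
  · rw [show (Finset.univ.filter fun χ : IrrCharacter G => ¬ 5 ∣ charDegree (χ : G → ℂ)) =
        X.toFinset ∪ Y.toFinset from Finset.ext fun χ => by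
      rw [Finset.mem_filter, Finset.mem_union, Set.mem_toFinset, Set.mem_toFinset, ← hmem χ]
      exact ⟨fun h => h.2, fun h => ⟨Finset.mem_univ _, h⟩⟩,
      Finset.card_union_of_disjoint (Set.disjoint_toFinset.2 hdisj), ← Set.ncard_eq_toFinset_card',
      ← Set.ncard_eq_toFinset_card', ← Nat.card_coe_set_eq, ← Nat.card_coe_set_eq, hX, hY]

/-- The principal 5-block. -/
theorem five [Fact (Nat.Prime 5)] [Fact (Nat.Prime 11)] (h10 : ∃ χ : IrrCharacter G,
      charDegree (χ : G → ℂ) = 10) :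
    (∀ χ : IrrCharacter G, ¬ 5 ∣ charDegree (χ : G → ℂ) →
      charDegree (χ : G → ℂ) % 5 = 1 ∨ charDegree (χ : G → ℂ) % 5 = 4) ∧
    (Finset.univ.filter fun χ : IrrCharacter G => ¬ 5 ∣ charDegree (χ : G → ℂ)).card = 5 := by
  obtain ⟨P⟩ : Nonempty (Sylow 5 G) := inferInstance
  exact (five_core hG h10 P).2

/-- The degrees. -/
theorem degrees : ∃ o a b c f θ θ' r s q : IrrCharacter G,
    (∀ χ : IrrCharacter G, χ ∈ ([o, a, b, c, f, θ, θ', r, s, q] : List (IrrCharacter G))) ∧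
    ([o, a, b, c, f, θ, θ', r, s, q] : List (IrrCharacter G)).Nodup ∧
    ([o, a, b, c, f, θ, θ', r, s, q] : List (IrrCharacter G)).map
      (fun χ : IrrCharacter G => charDegree (χ : G → ℂ)) = [1, 10, 10, 10, 45, 16, 16, 11, 44, 55] := by
  classical
  haveI : Fact (Nat.Prime 11) := ⟨by norm_num⟩
  haveI : Fact (Nat.Prime 5) := ⟨by norm_num⟩
  have hdf := degree_facts hG
  obtain ⟨P⟩ : Nonempty (Sylow 11 G) := inferInstance
  obtain ⟨hC, X, θ, θ', hXc, hθne, h1X, hθX, hθ'X, h1θ, h1θ', hdeq, hall, hshape⟩ := eleven hG P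
  have hone : charDegree ((oneChar G : IrrCharacter G) : G → ℂ) = 1 := DegreesBelow.charDegree_one
  rcases hshape with ⟨hθ5, ⟨χ, hχX, hχ12⟩, η, -, hη⟩ | ⟨hθ16, A, f, hXeq, hfA, hA, hfd, hAd⟩
  · exfalso
    have h10 : ∃ χ : IrrCharacter G, charDegree (χ : G → ℂ) = 10 := ⟨η, hη⟩
    have := (five hG h10).1 χ (by rw [hχ12]; norm_num)
    rw [hχ12] at this
    norm_num at this
  obtain ⟨a, b, c, hab, hac, hbc, hAeq⟩ := Finset.card_eq_three.1 hA
  have had := hAd a (by simp [hAeq])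
  have hbd := hAd b (by simp [hAeq])
  have hcd := hAd c (by simp [hAeq])
  obtain ⟨hmod5, hcard5⟩ := five hG ⟨a, had⟩
  set T : Finset (IrrCharacter G) := {oneChar G, a, b, c, f, θ, θ'} with hT
  have hXm : ∀ η, η ∈ X ↔ η = f ∨ η = a ∨ η = b ∨ η = c := fun η => by
    rw [hXeq, hAeq]; simp
  have hTnd : ([oneChar G, a, b, c, f, θ, θ'] : List (IrrCharacter G)).Nodup := by
    have e1 : ∀ η, η ∈ X → oneChar G ≠ η := fun η hη h => h1X (h ▸ hη)
    have e2 : ∀ η, η ∈ X → η ≠ θ ∧ η ≠ θ' := fun η hη => ⟨fun h => hθX (h ▸ hη), fun h => hθ'X (h ▸ hη)⟩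
    have hfne : ∀ η, η ∈ A → η ≠ f := fun η hη h => hfA (h ▸ hη)
    simp only [List.nodup_cons, List.mem_cons, List.not_mem_nil, not_or, List.nodup_nil,
      not_false_eq_true, and_true, or_false]
    exact ⟨⟨e1 a ((hXm a).2 (by tauto)), e1 b ((hXm b).2 (by tauto)), e1 c ((hXm c).2 (by tauto)),
        e1 f ((hXm f).2 (by tauto)), h1θ, h1θ'⟩,
      ⟨hab, hac, hfne a (by simp [hAeq]), e2 a ((hXm a).2 (by tauto))⟩,
      ⟨hbc, hfne b (by simp [hAeq]), e2 b ((hXm b).2 (by tauto))⟩,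
      ⟨hfne c (by simp [hAeq]), e2 c ((hXm c).2 (by tauto))⟩, e2 f ((hXm f).2 (by tauto)), hθne⟩
  have hTl : T = ([oneChar G, a, b, c, f, θ, θ'] : List (IrrCharacter G)).toFinset := by
    simp [hT]
  have hR : ∀ χ ∈ Tᶜ, 11 ∣ charDegree (χ : G → ℂ) := fun χ hχ => by
    by_contra h
    rw [Finset.mem_compl, hT] at hχ
    rcases hall χ h with h' | h' | h' | h'
    · exact hχ (by simp [h'])
    · rcases (hXm χ).1 h' with h'' | h'' | h'' | h'' <;> exact hχ (by simp [h''])
    · exact hχ (by simp [h'])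
    · exact hχ (by simp [h'])
  have hsum : ∑ χ ∈ Tᶜ, charDegree (χ : G → ℂ) ^ 2 = 5082 := by
    have hs := sum_degree_sq hG
    rw [← Finset.sum_add_sum_compl T, hTl, List.sum_toFinset _ hTnd, ← hTl] at hs
    simp only [List.map_cons, List.map_nil, List.sum_cons, List.sum_nil, hone, had, hbd, hcd, hfd,
      hθ16, hdeq] at hs
    omega
  -- two further characters of degree prime to five
  set R := Tᶜ.filter fun χ : IrrCharacter G => ¬ 5 ∣ charDegree (χ : G → ℂ) with hRdef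
  have hR2 : R.card = 2 := by
    have hT3 : (T.filter fun χ : IrrCharacter G => ¬ 5 ∣ charDegree (χ : G → ℂ)).card = 3 := by
      rw [Finset.card_filter, hTl, List.sum_toFinset _ hTnd]
      simp [hone, had, hbd, hcd, hfd, hθ16, hdeq]
    have h := hcard5
    rw [show (Finset.univ : Finset (IrrCharacter G)) = T ∪ Tᶜ from (Finset.union_compl T).symm,
      Finset.filter_union, Finset.card_union_of_disjoint
        (Finset.disjoint_filter_filter disjoint_compl_right), hT3, ← hRdef] at h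
    omega
  obtain ⟨r, s, hrs, hReq⟩ := Finset.card_eq_two.1 hR2
  have hr5 : ∀ χ ∈ R, charDegree (χ : G → ℂ) = 11 ∨ charDegree (χ : G → ℂ) = 44 ∨
      charDegree (χ : G → ℂ) = 66 := fun χ hχ => by
    obtain ⟨hχT, hχ5⟩ := Finset.mem_filter.1 hχ
    have hle := Finset.single_le_sum (f := fun χ : IrrCharacter G => charDegree (χ : G → ℂ) ^ 2)
      (fun η _ => Nat.zero_le _) hχT
    rw [hsum] at hle
    exact cand_five ⟨_, (hdf χ).2.2.2⟩ (hdf χ).2.2.1 (hR χ hχT) (hmod5 χ hχ5)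
      (by simpa [pow_two] using hle)
  set Q := Tᶜ.filter fun χ : IrrCharacter G => 5 ∣ charDegree (χ : G → ℂ) with hQdef
  have hQ : ∀ χ ∈ Q, charDegree (χ : G → ℂ) = 55 := fun χ hχ => by
    obtain ⟨hχT, hχ5⟩ := Finset.mem_filter.1 hχ
    exact cand_five_zero ⟨_, (hdf χ).2.2.2⟩ (hdf χ).2.2.1 (hR χ hχT) hχ5 (hdf χ).2.1.ne'
  have hsplit : Q.card * 3025 + (charDegree (r : G → ℂ) ^ 2 + charDegree (s : G → ℂ) ^ 2) = 5082 := by
    rw [← hsum, ← Finset.sum_filter_add_sum_filter_not Tᶜ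
      (fun χ : IrrCharacter G => 5 ∣ charDegree (χ : G → ℂ)), ← hQdef, ← hRdef, hReq,
      Finset.sum_pair hrs, Finset.sum_congr rfl (fun χ hχ => by rw [hQ χ hχ]),
      Finset.sum_const, smul_eq_mul]
    norm_num
  have hfin : Q.card = 1 ∧ ((charDegree (r : G → ℂ) = 11 ∧ charDegree (s : G → ℂ) = 44) ∨
      (charDegree (r : G → ℂ) = 44 ∧ charDegree (s : G → ℂ) = 11)) := by
    rcases hr5 r (by simp [hReq]) with h | h | h <;>
      rcases hr5 s (by simp [hReq]) with h' | h' | h' <;> rw [h, h'] at hsplit ⊢ <;> omega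
  obtain ⟨q, hq⟩ := Finset.card_eq_one.1 hfin.1
  have hqd := hQ q (by simp [hq])
  obtain ⟨r, s, hrs, hrd, hsd, hReq⟩ : ∃ r s : IrrCharacter G, r ≠ s ∧ charDegree (r : G → ℂ) = 11 ∧
      charDegree (s : G → ℂ) = 44 ∧ R = {r, s} := by
    rcases hfin.2 with ⟨h, h'⟩ | ⟨h, h'⟩
    · exact ⟨r, s, hrs, h, h', hReq⟩
    · exact ⟨s, r, hrs.symm, h', h, hReq.trans (Finset.pair_comm r s)⟩
  refine ⟨oneChar G, a, b, c, f, θ, θ', r, s, q, fun χ => ?_, ?_, ?_⟩
  · by_cases hχ : χ ∈ T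
    · rw [hTl, List.mem_toFinset] at hχ
      simp only [List.mem_cons, List.not_mem_nil] at hχ ⊢
      tauto
    · have hχ' : χ ∈ Tᶜ := Finset.mem_compl.2 hχ
      by_cases h5 : 5 ∣ charDegree (χ : G → ℂ)
      · have : χ ∈ Q := Finset.mem_filter.2 ⟨hχ', h5⟩
        rw [hq, Finset.mem_singleton] at this
        simp [this]
      · have : χ ∈ R := Finset.mem_filter.2 ⟨hχ', h5⟩
        rw [hReq, Finset.mem_insert, Finset.mem_singleton] at this
        rcases this with h | h <;> simp [h]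
  · refine (List.nodup_append (l₁ := [oneChar G, a, b, c, f, θ, θ']) (l₂ := [r, s, q])).2
      ⟨hTnd, ?_, ?_⟩
    · simp only [List.nodup_cons, List.mem_cons, List.not_mem_nil, not_or, List.nodup_nil,
        not_false_eq_true, and_true, or_false]
      exact ⟨⟨hrs, fun h => by rw [h, hqd] at hrd; omega⟩, fun h => by rw [h, hqd] at hsd; omega⟩
    · intro η hη η' hη' h
      subst h
      have hηT : η ∈ T := by rw [hTl, List.mem_toFinset]; exact hη
      have hnot : η ∈ Tᶜ := by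
        simp only [List.mem_cons, List.not_mem_nil, or_false] at hη'
        rcases hη' with h | h | h <;> rw [h]
        · exact (Finset.mem_filter.1 (show r ∈ R by simp [hReq])).1
        · exact (Finset.mem_filter.1 (show s ∈ R by simp [hReq])).1
        · exact (Finset.mem_filter.1 (show q ∈ Q by simp [hq])).1
      exact Finset.mem_compl.1 hnot hηT
  · simp [hone, had, hbd, hcd, hfd, hθ16, hdeq, hrd, hsd, hqd]

end Cfsg.Agent.Chars.Order7920
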