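import Cfsg.Agent.Chars.Order7920
import Cfsg.Agent.Chars2.ClassSum

/-!
Involutions and elements of order three in a simple group of order 7920.
-/

set_option autoImplicit false
set_option linter.style.haveILetI false
set_option linter.unusedSectionVars false

open Cfsg Cfsg.Agent Cfsg.Agent.Blocks
open scoped ComplexConjugate

namespace Cfsg.Agent.Chars.Order7920

universe u

set_option synthInstance.maxSize 1024 in
/-- The values at an involution. -/
theorem values_two : ∀ k₁ k₂ k₃ : Fin 6, ∀ j : Fin 23,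
    (1 ≤ (k₁ : ℕ) ∧ (k₁ : ℕ) ≤ 4) ∧ (1 ≤ (k₂ : ℕ) ∧ (k₂ : ℕ) ≤ 4) ∧ (1 ≤ (k₃ : ℕ) ∧ (k₃ : ℕ) ≤ 4) →
    ∀ th : ℤ, th = 1 - ((10 - 4 * ((k₁ : ℕ) : ℤ)) + (10 - 4 * ((k₂ : ℕ) : ℤ)) + (10 - 4 * ((k₃ : ℕ) : ℤ))) +
      (45 - 4 * ((j : ℕ) : ℤ)) →
    -16 < th ∧ th < 16 →
    720 - 72 * ((10 - 4 * ((k₁ : ℕ) : ℤ)) * (10 - 4 * ((k₁ : ℕ) : ℤ)) +
      (10 - 4 * ((k₂ : ℕ) : ℤ)) * (10 - 4 * ((k₂ : ℕ) : ℤ)) +
      (10 - 4 * ((k₃ : ℕ) : ℤ)) * (10 - 4 * ((k₃ : ℕ) : ℤ))) +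
      16 * ((45 - 4 * ((j : ℕ) : ℤ)) * (45 - 4 * ((j : ℕ) : ℤ))) - 45 * (th * th) = 0 →
    th = 0 ∧ (j : ℕ) = 12 ∧
      (((k₁ : ℕ) = 2 ∧ (k₂ : ℕ) = 3 ∧ (k₃ : ℕ) = 3) ∨ ((k₁ : ℕ) = 3 ∧ (k₂ : ℕ) = 2 ∧ (k₃ : ℕ) = 3) ∨
        ((k₁ : ℕ) = 3 ∧ (k₂ : ℕ) = 3 ∧ (k₃ : ℕ) = 2)) := by
  intro k₁ k₂ k₃ j hk th hth
  subst hth
  revert hk
  revert j k₁ k₂ k₃
  decide +kernel

set_option synthInstance.maxSize 1024 in
/-- The values at a real element of order three. -/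
theorem values_three : ∀ l₁ l₂ l₃ : Fin 7, ∀ m : Fin 8, ∀ T₁ T₂ T₃ a b c u C : ℤ,
    T₁ = 10 - 3 * ((l₁ : ℕ) : ℤ) → T₂ = 10 - 3 * ((l₂ : ℕ) : ℤ) → T₃ = 10 - 3 * ((l₃ : ℕ) : ℤ) →
    a = 11 - 3 * ((m : ℕ) : ℤ) → b = 1 + 2 * (1 - (T₁ + T₂ + T₃)) + a →
    u = 2 * T₁ - 2 * T₂ - 2 * T₃ → c = 1 + u + 3 * a + 4 * b →
    1 + 10 * (T₁ + T₂ + T₃) + 32 * (1 - (T₁ + T₂ + T₃)) + 11 * a + 44 * b + 55 * c = 0 →
    C = 1 + (T₁ * T₁ + T₂ * T₂ + T₃ * T₃) + 2 * ((1 - (T₁ + T₂ + T₃)) * (1 - (T₁ + T₂ + T₃))) +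
      a * a + b * b + c * c →
    (C = 9 ∨ C = 18 ∨ C = 36 ∨ C = 72 ∨ C = 144) →
    (165 * (10 - u)) % (10 * C) = 0 → C = 18 ∧ (T₁ = 1 ∧ T₂ = 1 ∧ T₃ = 1) ∧ a = 2 := by
  intro l₁ l₂ l₃ m T₁ T₂ T₃ a b c u C h1 h2 h3 h4 h5 h6 h7 h8 h9
  subst h9 h7 h6 h5 h4 h3 h2 h1
  revert h8
  revert l₁ l₂ l₃ m
  decide +kernel

/-- The labelled characters of a simple group of order 7920. -/
structure Labels (G : Type u) [Group G] [Fintype G] where
  a : IrrCharacter G
  b : IrrCharacter G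
  c : IrrCharacter G
  f : IrrCharacter G
  θ : IrrCharacter G
  θ' : IrrCharacter G
  r : IrrCharacter G
  s : IrrCharacter G
  q : IrrCharacter G
  hnd : ([oneChar G, a, b, c, f, θ, θ', r, s, q] : List (IrrCharacter G)).Nodup
  hall : ∀ χ : IrrCharacter G,
    χ ∈ ([oneChar G, a, b, c, f, θ, θ', r, s, q] : List (IrrCharacter G))
  hdeg : ([oneChar G, a, b, c, f, θ, θ', r, s, q] : List (IrrCharacter G)).map
    (fun χ : IrrCharacter G => charDegree (χ : G → ℂ)) = [1, 10, 10, 10, 45, 16, 16, 11, 44, 55]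

open Classical in
/-- The size of a class divides the number of pairs from two classes with product in it. -/
theorem card_class_dvd_pairs {G : Type u} [Group G] [Fintype G] (t y x : G) :
    (Finset.univ.filter (IsConj x)).card ∣
      ((Finset.univ.filter (IsConj t)).filter fun w => IsConj (w * y) x).card *
        (Finset.univ.filter (IsConj y)).card := by
  set S := ((Finset.univ.filter (IsConj t)) ×ˢ (Finset.univ.filter (IsConj y))).filter
    (fun p => IsConj (p.1 * p.2) x) with hS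
  have hcj : ∀ g a : G, IsConj a (g * a * g⁻¹) := fun g a => isConj_iff.2 ⟨g, rfl⟩
  have hmem : ∀ p : G × G, p ∈ S ↔ (IsConj t p.1 ∧ IsConj y p.2) ∧ IsConj (p.1 * p.2) x := fun p => by
    simp only [hS, Finset.mem_filter, Finset.mem_product, Finset.mem_univ, true_and]
  let C : G → (G × G) → (G × G) := fun g p => (g * p.1 * g⁻¹, g * p.2 * g⁻¹)
  have hCS : ∀ g p, p ∈ S → C g p ∈ S := fun g p hp => by
    obtain ⟨⟨h1, h2⟩, h3⟩ := (hmem p).1 hp
    refine (hmem _).2 ⟨⟨h1.trans (hcj g _), h2.trans (hcj g _)⟩, ?_⟩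
    rw [show (C g p).1 * (C g p).2 = g * (p.1 * p.2) * g⁻¹ by simp only [C]; group]
    exact (hcj g _).symm.trans h3
  have hfib : ∀ (φ : G × G → G) (a : G), (∀ g p, φ (C g p) = g * φ p * g⁻¹) →
      (∀ p ∈ S, φ p ∈ Finset.univ.filter (IsConj a)) →
      S.card = (S.filter fun p => φ p = a).card * (Finset.univ.filter (IsConj a)).card := by
    intro φ a hφ hm
    rw [Finset.card_eq_sum_card_fiberwise hm,
      Finset.sum_congr rfl (g := fun _ => (S.filter fun p => φ p = a).card) fun b hb => ?_,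
      Finset.sum_const, smul_eq_mul, mul_comm]
    obtain ⟨g, rfl⟩ := isConj_iff.1 (Finset.mem_filter.1 hb).2
    refine (Finset.card_nbij' (C g) (C g⁻¹) ?_ ?_ ?_ ?_).symm
    · intro p hp
      obtain ⟨h1, h2⟩ := Finset.mem_filter.1 hp
      exact Finset.mem_filter.2 ⟨hCS g p h1, by rw [hφ, h2]⟩
    · intro p hp
      obtain ⟨h1, h2⟩ := Finset.mem_filter.1 hp
      exact Finset.mem_filter.2 ⟨hCS g⁻¹ p h1, by rw [hφ, h2]; group⟩
    · intro p _; ext <;> simp only [C] <;> group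
    · intro p _; ext <;> simp only [C] <;> group
  have h1 := hfib (fun p => p.1 * p.2) x (fun g p => by simp only [C]; group)
    fun p hp => Finset.mem_filter.2 ⟨Finset.mem_univ _, ((hmem p).1 hp).2.symm⟩
  have h2 := hfib Prod.snd y (fun g p => rfl)
    fun p hp => Finset.mem_filter.2 ⟨Finset.mem_univ _, ((hmem p).1 hp).1.2⟩
  have h3 : (S.filter fun p => p.2 = y).card =
      ((Finset.univ.filter (IsConj t)).filter fun w => IsConj (w * y) x).card := by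
    refine Finset.card_nbij' Prod.fst (fun w => (w, y)) ?_ ?_ ?_ ?_
    · intro p hp
      obtain ⟨h1, h2⟩ := Finset.mem_filter.1 hp
      obtain ⟨⟨ha, -⟩, hb⟩ := (hmem p).1 h1
      exact Finset.mem_filter.2 ⟨Finset.mem_filter.2 ⟨Finset.mem_univ _, ha⟩, h2 ▸ hb⟩
    · intro w hw
      obtain ⟨h1, h2⟩ := Finset.mem_filter.1 hw
      exact Finset.mem_filter.2 ⟨(hmem _).2 ⟨⟨(Finset.mem_filter.1 h1).2, IsConj.refl y⟩, h2⟩, rfl⟩
    · intro p hp
      exact Prod.ext rfl (Finset.mem_filter.1 hp).2.symm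
    · intro w _; rfl
  rw [← h3, ← h2, h1]
  exact Dvd.intro_left _ rfl

variable {G : Type u} [Group G] [Fintype G] [IsSimpleGroup G]

theorem exists_labels (hG : Nat.card G = 7920) : Nonempty (Labels G) := by
  obtain ⟨o, a, b, c, f, θ, θ', r, s, q, hall, hnd, hdeg⟩ := degrees hG
  have ho : o = oneChar G := Subtype.ext (SimpleDeg.eq_one_of_degree_one (not_comm hG) (by
    rw [(Blocks.charDegree_eq o.2).1]
    simp only [List.map_cons, List.cons.injEq] at hdeg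
    rw [hdeg.1, Nat.cast_one]))
  subst ho
  exact ⟨⟨a, b, c, f, θ, θ', r, s, q, hnd, hall, hdeg⟩⟩

namespace Labels

variable (L : Labels G)

theorem sum_eq {M : Type*} [AddCommMonoid M] (F : IrrCharacter G → M) :
    ∑ χ : IrrCharacter G, F χ = F (oneChar G) + (F L.a + (F L.b + (F L.c + (F L.f + (F L.θ +
      (F L.θ' + (F L.r + (F L.s + F L.q)))))))) := by
  classical
  rw [show (Finset.univ : Finset (IrrCharacter G)) =
      ([oneChar G, L.a, L.b, L.c, L.f, L.θ, L.θ', L.r, L.s, L.q] : List (IrrCharacter G)).toFinset from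
    Finset.ext fun χ => iff_of_true (Finset.mem_univ _) (List.mem_toFinset.2 (L.hall χ)),
    List.sum_toFinset _ L.hnd]
  simp

theorem deg : charDegree (L.a : G → ℂ) = 10 ∧ charDegree (L.b : G → ℂ) = 10 ∧
    charDegree (L.c : G → ℂ) = 10 ∧ charDegree (L.f : G → ℂ) = 45 ∧
    charDegree (L.θ : G → ℂ) = 16 ∧ charDegree (L.θ' : G → ℂ) = 16 ∧
    charDegree (L.r : G → ℂ) = 11 ∧ charDegree (L.s : G → ℂ) = 44 ∧
    charDegree (L.q : G → ℂ) = 55 := by
  have h := L.hdeg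
  simp only [List.map_cons, List.map_nil, List.cons.injEq] at h
  obtain ⟨-, h1, h2, h3, h4, h5, h6, h7, h8, h9, -⟩ := h
  exact ⟨h1, h2, h3, h4, h5, h6, h7, h8, h9⟩

theorem deg_one : ((L.a : G → ℂ) 1 = 10 ∧ (L.b : G → ℂ) 1 = 10 ∧ (L.c : G → ℂ) 1 = 10) ∧
    (L.f : G → ℂ) 1 = 45 ∧ (L.θ : G → ℂ) 1 = 16 ∧ (L.θ' : G → ℂ) 1 = 16 ∧
    (L.r : G → ℂ) 1 = 11 ∧ (L.s : G → ℂ) 1 = 44 ∧ (L.q : G → ℂ) 1 = 55 := by
  obtain ⟨h1, h2, h3, h4, h5, h6, h7, h8, h9⟩ := L.deg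
  simp only [(Blocks.charDegree_eq _).1, fun χ : IrrCharacter G => (Blocks.charDegree_eq χ.2).1,
    h1, h2, h3, h4, h5, h6, h7, h8, h9]
  norm_num

theorem column (g h : G) (hc : ¬ IsConj g h) :
    ∑ χ : IrrCharacter G, (χ : G → ℂ) g * conj ((χ : G → ℂ) h) = 0 := by
  classical
  rw [column_orth, if_neg hc]

end Labels

variable (hG : Nat.card G = 7920) (L : Labels G)
include hG

/-- A character of degree divisible by `p` vanishes on `p`-singular elements. -/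
theorem vanish {p : ℕ} [Fact p.Prime] (hp : p ∣ 7920) (hp2 : ¬ p ^ 2 ∣ 7920) (χ : IrrCharacter G)
    (hd : p ∣ charDegree (χ : G → ℂ)) {g : G} (hg : p ∣ orderOf g) : (χ : G → ℂ) g = 0 := by
  obtain ⟨n, ρ, hi, hρ⟩ := χ.2
  haveI := hi
  have h1 := (Blocks.charDegree_eq χ.2).1
  rw [← hρ, Representation.char_one] at h1
  have hfin : Module.finrank ℂ (Fin n → ℂ) = charDegree ρ.character := by exact_mod_cast h1
  rw [← hρ] at hd ⊢
  exact S0165.result ρ p 1 Fact.out (by rw [pow_one, hG]; exact hp) (by rw [hG]; exact hp2)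
    (by rw [pow_one, hfin]; exact hd) g hg

/-- The relation of the principal 11-block and the values at an element of order eleven. -/
theorem relation_eleven [Fact (Nat.Prime 11)] :
    (∀ g : G, ¬ 11 ∣ orderOf g → (L.θ' : G → ℂ) g = (L.θ : G → ℂ) g ∧ (L.θ : G → ℂ) g =
      1 - ((L.a : G → ℂ) g + (L.b : G → ℂ) g + (L.c : G → ℂ) g) + (L.f : G → ℂ) g) ∧
    ∀ x : G, orderOf x = 11 →
      (L.a : G → ℂ) x = -1 ∧ (L.b : G → ℂ) x = -1 ∧ (L.c : G → ℂ) x = -1 ∧ (L.f : G → ℂ) x = 1 ∧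
      (L.θ : G → ℂ) x + (L.θ' : G → ℂ) x = -1 ∧ (L.r : G → ℂ) x = 0 ∧ (L.s : G → ℂ) x = 0 ∧
      (L.q : G → ℂ) x = 0 := by
  classical
  obtain ⟨da, db, dc, df, dθ, dθ', dr, ds, dq⟩ := L.deg
  have hdf := degree_facts hG
  obtain ⟨M, hMmax, hpM⟩ := DegreeGraph.exists_isMaximal_mem 11
  have hM : IsPModular 11 M := ⟨Fact.out, hMmax, hpM⟩
  have main : ∀ P : Sylow 11 G,
      (∀ g : G, ¬ 11 ∣ orderOf g → (L.θ' : G → ℂ) g = (L.θ : G → ℂ) g ∧ (L.θ : G → ℂ) g =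
        1 - ((L.a : G → ℂ) g + (L.b : G → ℂ) g + (L.c : G → ℂ) g) + (L.f : G → ℂ) g) ∧
      ∀ x : G, x ∈ (P : Subgroup G) → x ≠ 1 →
        (L.a : G → ℂ) x = -1 ∧ (L.b : G → ℂ) x = -1 ∧ (L.c : G → ℂ) x = -1 ∧ (L.f : G → ℂ) x = 1 := by
    intro P
    have hP := card_sylow hG (by norm_num) (by norm_num) P
    obtain ⟨hC, -⟩ := eleven hG P
    obtain ⟨X, Y, hB, hdisj, hX, hY, εX, ε, hXp, hε, hYp, hYreg, hrel⟩ :=
      S4441.result 11 M hM (by norm_num) P hP _ rfl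
    have he : (Subgroup.centralizer ((P : Subgroup G) : Set G)).relIndex
        (Subgroup.normalizer ((P : Subgroup G) : Set G)) = 5 := by
      have h2 : 2 ≤ _ := SimpleDeg.two_le_relIndex (not_comm hG) P hP rfl
      have h3 := SimpleDeg.relIndex_dvd_pred P hP
      obtain ⟨n, hn, hn'⟩ := count_relation hG P rfl
      set e := (Subgroup.centralizer ((P : Subgroup G) : Set G)).relIndex
        (Subgroup.normalizer ((P : Subgroup G) : Set G))
      rw [hC, hP] at hn'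
      have : e ≤ 10 := Nat.le_of_dvd (by norm_num) h3
      interval_cases e <;> omega
    have hmem : ∀ χ : IrrCharacter G, ¬ 11 ∣ charDegree (χ : G → ℂ) → χ ∈ X ∪ Y := fun χ h =>
      hB ▸ DegreesBelow.mem_principal hM P hP hC χ h
    have hXd : ∀ χ ∈ X, charDegree (χ : G → ℂ) % 11 = 1 ∧ εX χ = 1 ∨
        charDegree (χ : G → ℂ) % 11 = 10 ∧ εX χ = -1 := by
      intro χ hχ
      obtain ⟨hs, hc, -⟩ := hXp χ hχ
      obtain ⟨k, hk⟩ := Int.modEq_iff_dvd.1 hc.symm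
      rcases hs with hs | hs <;> rw [hs] at hk <;> [left; right] <;> exact ⟨by omega, hs⟩
    have hYd : ∀ χ ∈ Y, (ε = 1 ∧ charDegree (χ : G → ℂ) % 11 = 5) ∨
        (ε = -1 ∧ charDegree (χ : G → ℂ) % 11 = 6) := by
      intro χ hχ
      have h1 := hYp χ hχ
      rw [he] at h1
      obtain ⟨k, hk⟩ := Int.modEq_iff_dvd.1 h1.symm
      rcases hε with hs | hs <;> rw [hs] at hk <;> [left; right] <;> exact ⟨hs, by omega⟩
    have hmemX : ∀ χ : IrrCharacter G, ¬ 11 ∣ charDegree (χ : G → ℂ) →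
        charDegree (χ : G → ℂ) % 11 = 1 ∨ charDegree (χ : G → ℂ) % 11 = 10 → χ ∈ X := fun χ h h' =>
      (hmem χ h).resolve_right fun hY' => by rcases hYd χ hY' with ⟨-, h1⟩ | ⟨-, h1⟩ <;> omega
    have hmemY : ∀ χ : IrrCharacter G, charDegree (χ : G → ℂ) = 16 → χ ∈ Y := fun χ h =>
      (hmem χ (by omega)).resolve_left fun hX' => by rcases hXd χ hX' with ⟨h1, -⟩ | ⟨h1, -⟩ <;> omega
    have hoX : oneChar G ∈ X := hmemX _ (by rw [DegreesBelow.charDegree_one]; norm_num)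
      (by rw [DegreesBelow.charDegree_one]; norm_num)
    have haX := hmemX L.a (by omega) (by omega)
    have hbX := hmemX L.b (by omega) (by omega)
    have hcX := hmemX L.c (by omega) (by omega)
    have hfX := hmemX L.f (by omega) (by omega)
    have hval : ∀ χ ∈ X, ∀ x : G, x ∈ (P : Subgroup G) → x ≠ 1 → (χ : G → ℂ) x = (εX χ : ℂ) := by
      intro χ hχ x hx hx1
      have := (hXp χ hχ).2.2 x hx hx1 1 (one_mem _) (by rw [orderOf_one]; norm_num)
      rwa [mul_one] at this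
    have hs : ∀ χ ∈ X, ∀ d : ℕ, charDegree (χ : G → ℂ) = d → d % 11 = 10 → εX χ = -1 := fun χ hχ d hd h =>
      ((hXd χ hχ).resolve_left fun h' => by omega).2
    have hs' : ∀ χ ∈ X, ∀ d : ℕ, charDegree (χ : G → ℂ) = d → d % 11 = 1 → εX χ = 1 := fun χ hχ d hd h =>
      ((hXd χ hχ).resolve_right fun h' => by omega).2
    have ea := hs L.a haX 10 da (by norm_num)
    have eb := hs L.b hbX 10 db (by norm_num)
    have ec := hs L.c hcX 10 dc (by norm_num)
    have ef := hs' L.f hfX 45 df (by norm_num)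
    have eo := hs' _ hoX 1 DegreesBelow.charDegree_one (by norm_num)
    have hε1 : ε = 1 := by
      rcases hYd L.θ (hmemY _ dθ) with ⟨h, -⟩ | ⟨-, h⟩
      · exact h
      · omega
    have hnd := L.hnd
    simp only [List.nodup_cons, List.mem_cons, List.not_mem_nil, not_or, or_false,
      List.nodup_nil, and_true, not_false_eq_true] at hnd
    obtain ⟨⟨o1, o2, o3, o4, -⟩, ⟨a1, a2, a3, -⟩, ⟨b1, b2, -⟩, ⟨c1, -⟩, -⟩ := hnd
    have hXeq : X.toFinset = {oneChar G, L.a, L.b, L.c, L.f} := by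
      refine (Finset.eq_of_subset_of_card_le ?_ ?_).symm
      · intro χ hχ
        simp only [Finset.mem_insert, Finset.mem_singleton] at hχ
        rw [Set.mem_toFinset]
        rcases hχ with rfl | rfl | rfl | rfl | rfl <;> assumption
      · rw [← Set.ncard_eq_toFinset_card', ← Nat.card_coe_set_eq, hX, he]
        simp [o1, o2, o3, o4, a1, a2, a3, b1, b2, c1]
    refine ⟨fun g hg => ?_, fun x hx hx1 => ⟨?_, ?_, ?_, ?_⟩⟩
    · refine ⟨hYreg _ (hmemY _ dθ') _ (hmemY _ dθ) g hg, ?_⟩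
      have h1 := hrel L.θ (hmemY _ dθ) g hg
      rw [← Set.coe_toFinset X, finsum_mem_coe_finset, hXeq, hε1] at h1
      rw [Finset.sum_insert (by simp [o1, o2, o3, o4]), Finset.sum_insert (by simp [a1, a2, a3]),
        Finset.sum_insert (by simp [b1, b2]), Finset.sum_pair c1, eo, ea, eb, ec, ef, coe_oneChar] at h1
      push_cast at h1
      linear_combination h1
    · rw [hval _ haX x hx hx1, ea]; simp
    · rw [hval _ hbX x hx hx1, eb]; simp
    · rw [hval _ hcX x hx hx1, ec]; simp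
    · rw [hval _ hfX x hx hx1, ef]; simp
  refine ⟨fun g hg => ?_, fun x hx => ?_⟩
  · obtain ⟨P⟩ : Nonempty (Sylow 11 G) := inferInstance
    exact (main P).1 g hg
  · obtain ⟨Q, hQ⟩ := (IsPGroup.of_card (p := 11) (n := 1)
      (show Nat.card (Subgroup.zpowers x) = 11 ^ 1 by rw [Nat.card_zpowers, hx, pow_one])).exists_le_sylow
    have hx1 : x ≠ 1 := fun h => by rw [h, orderOf_one] at hx; omega
    obtain ⟨h1, h2, h3, h4⟩ := (main Q).2 x (hQ (Subgroup.mem_zpowers x)) hx1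
    have v : ∀ χ : IrrCharacter G, 11 ∣ charDegree (χ : G → ℂ) → (χ : G → ℂ) x = 0 := fun χ hd =>
      vanish hG (by norm_num) (by norm_num) χ hd (by rw [hx])
    have hr := v L.r (by omega)
    have hsv := v L.s (by omega)
    have hq := v L.q (by omega)
    refine ⟨h1, h2, h3, h4, ?_, hr, hsv, hq⟩
    have hcol := Labels.column x 1 fun hc => hx1 (isConj_one_left.1 hc)
    rw [L.sum_eq] at hcol
    obtain ⟨⟨e1, e2, e3⟩, e4, e5, e6, e7, e8, e9⟩ := L.deg_one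
    simp only [e1, e2, e3, e4, e5, e6, e7, e8, e9, h1, h2, h3, h4, hr, hsv, hq, coe_oneChar,
      map_ofNat, map_one, zero_mul, add_zero] at hcol
    linear_combination hcol / 16

/-- The relation of the principal 5-block. -/
theorem relation_five [Fact (Nat.Prime 5)] [Fact (Nat.Prime 11)] :
    ∀ g : G, ¬ 5 ∣ orderOf g →
      (L.s : G → ℂ) g = 1 + (L.θ : G → ℂ) g + (L.θ' : G → ℂ) g + (L.r : G → ℂ) g := by
  classical
  intro g hg
  obtain ⟨da, db, dc, df, dθ, dθ', dr, ds, dq⟩ := L.deg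
  obtain ⟨hmod, hcard⟩ := five hG ⟨L.a, da⟩
  obtain ⟨P⟩ : Nonempty (Sylow 5 G) := inferInstance
  have hP := card_sylow hG (by norm_num) (by norm_num) P
  obtain ⟨M, hMmax, hpM⟩ := DegreeGraph.exists_isMaximal_mem 5
  obtain ⟨X, Y, hB, hdisj, hX, hY, εX, ε, hXp, hε, hYp, -, hrel⟩ :=
    S4441.result 5 M ⟨Fact.out, hMmax, hpM⟩ (by norm_num) P hP _ rfl
  set e := (Subgroup.centralizer ((P : Subgroup G) : Set G)).relIndex
    (Subgroup.normalizer ((P : Subgroup G) : Set G))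
  have he2 : 2 ≤ e := SimpleDeg.two_le_relIndex (not_comm hG) P hP rfl
  have hed : e ∣ 4 := SimpleDeg.relIndex_dvd_pred P hP
  have he4 : e = 2 ∨ e = 4 := by
    have : e ≤ 4 := Nat.le_of_dvd (by norm_num) hed
    interval_cases e <;> omega
  have hnot : ∀ χ ∈ X ∪ Y, ¬ 5 ∣ charDegree (χ : G → ℂ) := fun χ h hd => by
    rcases h with h | h
    · obtain ⟨hs, hc, -⟩ := hXp χ h
      obtain ⟨k, hk⟩ := Int.modEq_iff_dvd.1 hc.symm
      rcases hs with hs | hs <;> rw [hs] at hk <;> omega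
    · obtain ⟨k, hk⟩ := Int.modEq_iff_dvd.1 (hYp χ h).symm
      rcases hε with hs | hs <;> rcases he4 with h4 | h4 <;> rw [hs, h4] at hk <;> omega
  have hXd : ∀ χ ∈ X, charDegree (χ : G → ℂ) % 5 = 1 ∧ εX χ = 1 ∨
      charDegree (χ : G → ℂ) % 5 = 4 ∧ εX χ = -1 := by
    intro χ hχ
    obtain ⟨hs, hc, -⟩ := hXp χ hχ
    obtain ⟨k, hk⟩ := Int.modEq_iff_dvd.1 hc.symm
    rcases hs with hs | hs <;> rw [hs] at hk <;> [left; right] <;> exact ⟨by omega, hs⟩
  have hYc : 0 < Nat.card Y := by rw [hY]; rcases he4 with h | h <;> rw [h] <;> norm_num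
  obtain ⟨⟨η, hη⟩⟩ := (Nat.card_pos_iff.1 hYc).1
  have he : e = 4 := by
    refine he4.resolve_left fun h2 => ?_
    obtain ⟨k, hk⟩ := Int.modEq_iff_dvd.1 (hYp η hη).symm
    have := hmod η (hnot η (Or.inr hη))
    rcases hε with hs | hs <;> rw [hs, h2] at hk <;> omega
  rw [he] at hX hY hYp
  have hYd : charDegree (η : G → ℂ) % 5 = 1 ∧ ε = -1 ∨ charDegree (η : G → ℂ) % 5 = 4 ∧ ε = 1 := by
    obtain ⟨k, hk⟩ := Int.modEq_iff_dvd.1 (hYp η hη).symm
    rcases hε with hs | hs <;> rw [hs] at hk <;> [right; left] <;> exact ⟨by omega, hs⟩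
  let sg : IrrCharacter G → ℤ := fun χ => if charDegree (χ : G → ℂ) % 5 = 1 then 1 else -1
  have hYeq : Y.toFinset = {η} := by
    refine (Finset.eq_of_subset_of_card_le
      (Finset.singleton_subset_iff.2 (Set.mem_toFinset.2 hη)) ?_).symm
    rw [← Set.ncard_eq_toFinset_card', ← Nat.card_coe_set_eq, hY, Finset.card_singleton]
  have hF : (Finset.univ.filter fun χ : IrrCharacter G => ¬ 5 ∣ charDegree (χ : G → ℂ)) =
      X.toFinset ∪ Y.toFinset := by
    refine (Finset.eq_of_subset_of_card_le (fun χ hχ => ?_) ?_).symm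
    · refine Finset.mem_filter.2 ⟨Finset.mem_univ _, hnot χ ?_⟩
      simpa using hχ
    · rw [hcard, Finset.card_union_of_disjoint (Set.disjoint_toFinset.2 hdisj),
        ← Set.ncard_eq_toFinset_card', ← Set.ncard_eq_toFinset_card', ← Nat.card_coe_set_eq,
        ← Nat.card_coe_set_eq, hX, hY]
  have hzero : ∑ χ ∈ Finset.univ.filter (fun χ : IrrCharacter G => ¬ 5 ∣ charDegree (χ : G → ℂ)),
      (sg χ : ℂ) * (χ : G → ℂ) g = 0 := by
    rw [hF, Finset.sum_union (Set.disjoint_toFinset.2 hdisj), hYeq, Finset.sum_singleton]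
    have h1 := hrel η hη g hg
    rw [← Set.coe_toFinset X, finsum_mem_coe_finset] at h1
    rw [Finset.sum_congr rfl fun χ hχ => show (sg χ : ℂ) * (χ : G → ℂ) g = (εX χ : ℂ) * (χ : G → ℂ) g by
      rcases hXd χ (Set.mem_toFinset.1 hχ) with ⟨a1, a2⟩ | ⟨a1, a2⟩ <;> simp [sg, a1, a2], ← h1]
    rcases hYd with ⟨a1, a2⟩ | ⟨a1, a2⟩ <;> simp [sg, a1, a2]
  rw [Finset.sum_filter, L.sum_eq] at hzero
  simp only [sg, DegreesBelow.charDegree_one, da, db, dc, df, dθ, dθ', dr, ds, dq] at hzero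
  simp only [coe_oneChar] at hzero
  norm_num at hzero
  linear_combination -hzero

/-- No involution inverts an element of order eleven. -/
theorem not_conj_inverted [Fact (Nat.Prime 11)] {t x : G} (ht : orderOf t = 2) (hx : orderOf x = 11)
    (h : t * x * t⁻¹ = x⁻¹) : False := by
  classical
  obtain ⟨Q, hQ⟩ := (IsPGroup.of_card (p := 11) (n := 1)
    (show Nat.card (Subgroup.zpowers x) = 11 ^ 1 by rw [Nat.card_zpowers, hx, pow_one])).exists_le_sylow
  have hP := card_sylow hG (by norm_num) (by norm_num) Q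
  have hQe : Subgroup.zpowers x = (Q : Subgroup G) :=
    Subgroup.eq_of_le_of_card_ge hQ (by rw [Nat.card_zpowers, hx, hP])
  have htN : t ∈ Subgroup.normalizer ((Q : Subgroup G) : Set G) := by
    rw [← hQe, Subgroup.mem_normalizer_iff]
    have hle : ∀ y ∈ Subgroup.zpowers x, t * y * t⁻¹ ∈ Subgroup.zpowers x := by
      intro y hy
      obtain ⟨i, rfl⟩ := Subgroup.mem_zpowers_iff.1 hy
      rw [← conj_zpow, h, inv_zpow]
      exact inv_mem (zpow_mem (Subgroup.mem_zpowers x) i)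
    refine fun y => ⟨hle y, fun hy => ?_⟩
    have ht2 : t * t = 1 := by rw [← sq, ← ht]; exact pow_orderOf_eq_one t
    have := hle _ hy
    rwa [show t * (t * y * t⁻¹) * t⁻¹ = (t * t) * y * (t * t)⁻¹ by group, ht2, one_mul, inv_one,
      mul_one] at this
  obtain ⟨hC, -⟩ := eleven hG Q
  obtain ⟨n, hn, hn'⟩ := count_relation hG Q rfl
  have h3 := SimpleDeg.relIndex_dvd_pred Q hP
  have h2 := SimpleDeg.two_le_relIndex (not_comm hG) Q hP rfl
  rw [hC, hP] at hn'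
  have hN : Nat.card (Subgroup.normalizer ((Q : Subgroup G) : Set G)) = 55 := by
    rw [← Subgroup.relIndex_bot_left, ← Subgroup.relIndex_mul_relIndex ⊥
      (Subgroup.centralizer ((Q : Subgroup G) : Set G)) _ bot_le (Subgroup.centralizer_le_normalizer _),
      Subgroup.relIndex_bot_left, hC, hP]
    rw [hC] at h2 h3
    set e := (Q : Subgroup G).relIndex (Subgroup.normalizer ((Q : Subgroup G) : Set G))
    have : e ≤ 10 := Nat.le_of_dvd (by norm_num) h3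
    interval_cases e <;> omega
  have := Subgroup.orderOf_dvd_natCard _ htN
  rw [ht, hN] at this
  norm_num at this

/-- Values at an involution. -/
theorem involution [Fact (Nat.Prime 5)] [Fact (Nat.Prime 11)] {t : G} (ht : orderOf t = 2) :
    Nat.card (Subgroup.centralizer ({t} : Set G)) = 48 ∧
      ((L.f : G → ℂ) t = -3 ∧ (L.θ : G → ℂ) t = 0 ∧ (L.θ' : G → ℂ) t = 0) ∧
      (((L.a : G → ℂ) t = 2 ∧ (L.b : G → ℂ) t = -2 ∧ (L.c : G → ℂ) t = -2) ∨
       ((L.a : G → ℂ) t = -2 ∧ (L.b : G → ℂ) t = 2 ∧ (L.c : G → ℂ) t = -2) ∨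
       ((L.a : G → ℂ) t = -2 ∧ (L.b : G → ℂ) t = -2 ∧ (L.c : G → ℂ) t = 2)) ∧
      ((L.r : G → ℂ) t = 3 ∧ (L.s : G → ℂ) t = 4 ∧ (L.q : G → ℂ) t = -1) := by
  classical
  have hna := not_comm hG
  obtain ⟨da, db, dc, df, dθ, dθ', dr, ds, dq⟩ := L.deg
  obtain ⟨⟨e1, e2, e3⟩, e4, e5, e6, e7, e8, e9⟩ := L.deg_one
  have ht2 : t ^ 2 = 1 := ht ▸ pow_orderOf_eq_one t
  have ht1 : t ≠ 1 := fun h => by rw [h, orderOf_one] at ht; omega
  have hval : ∀ χ : IrrCharacter G, ∀ d : ℕ, charDegree (χ : G → ℂ) = d → 2 ≤ d →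
      ∃ k : ℕ, 1 ≤ k ∧ 2 * k + 1 ≤ d ∧ (χ : G → ℂ) t = (d : ℂ) - 4 * (k : ℂ) := by
    intro χ d hd hd2
    obtain ⟨k, hk, hv⟩ := SelfCentralising.apply_involution hna χ ht2
    rw [hd] at hk hv
    have h1 : (χ : G → ℂ) 1 = (d : ℂ) := by rw [(Blocks.charDegree_eq χ.2).1, hd]
    have hne : k ≠ 0 ∧ 2 * k ≠ d := by
      by_contra hcon
      refine ht1 (SimpleDeg.eq_one_of_norm_eq hna (χ := χ) (by rw [h1]; exact_mod_cast (by omega : d ≠ 1)) ?_)
      rw [hv, h1, Complex.natCast_re]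
      rcases (by omega : k = 0 ∨ 2 * k = d) with h | h
      · subst h; simp
      · rw [← h]
        push_cast
        rw [show (2 : ℂ) * k - 4 * k = -((2 * k : ℕ) : ℂ) by push_cast; ring, norm_neg,
          Complex.norm_natCast]
        push_cast; ring
    exact ⟨k, by omega, by omega, hv⟩
  obtain ⟨k₁, h1a, h1b, va⟩ := hval L.a 10 da (by norm_num)
  obtain ⟨k₂, h2a, h2b, vb⟩ := hval L.b 10 db (by norm_num)
  obtain ⟨k₃, h3a, h3b, vc⟩ := hval L.c 10 dc (by norm_num)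
  obtain ⟨j, -, hjb, vf⟩ := hval L.f 45 df (by norm_num)
  obtain ⟨i, hia, hib, vθ⟩ := hval L.θ 16 dθ (by norm_num)
  obtain ⟨m, hma, hmb, vr⟩ := hval L.r 11 dr (by norm_num)
  push_cast at va vb vc vf vθ vr
  have ho : ¬ 11 ∣ orderOf t := by rw [ht]; norm_num
  obtain ⟨hθeq, hθrel⟩ := (relation_eleven hG L).1 t ho
  obtain ⟨x, hx⟩ := exists_prime_orderOf_dvd_card' (G := G) 11 (by rw [hG]; norm_num)
  obtain ⟨xa, xb, xc, xf, xθ, xr, xs, xq⟩ := (relation_eleven hG L).2 x hx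
  -- no product of two conjugates of `t` is conjugate to `x`
  have hprod : ∑ χ : IrrCharacter G,
      (χ : G → ℂ) t * (χ : G → ℂ) t * conj ((χ : G → ℂ) x) / (χ : G → ℂ) 1 = 0 := by
    have hcard : ((Finset.univ.filter (IsConj t)).card : ℂ) ≠ 0 :=
      Nat.cast_ne_zero.2 (Finset.card_ne_zero.2 ⟨t, Finset.mem_filter.2 ⟨Finset.mem_univ _, IsConj.refl t⟩⟩)
    refine (mul_right_inj' hcard).1 ?_
    rw [mul_zero, Finset.mul_sum, Finset.sum_congr rfl
      (g := fun χ : IrrCharacter G => (∑ y ∈ Finset.univ.filter (IsConj t), (χ : G → ℂ) (y * t)) *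
        conj ((χ : G → ℂ) x)) fun χ _ => ?_]
    · simp only [Finset.sum_mul]
      rw [Finset.sum_comm]
      refine Finset.sum_eq_zero fun y hy => Labels.column _ _ fun hc => ?_
      have hyt : orderOf (y * t) = 11 := by
        obtain ⟨g, hg⟩ := isConj_iff.1 hc
        rw [← hx, ← hg]
        exact (MulEquiv.orderOf_eq (MulAut.conj g) (y * t)).symm
      have hy2 : y * y = 1 := by
        obtain ⟨g, rfl⟩ := isConj_iff.1 (Finset.mem_filter.1 hy).2
        rw [show g * t * g⁻¹ * (g * t * g⁻¹) = g * (t * t) * g⁻¹ by group, ← sq, ht2, mul_one, mul_inv_cancel]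
      refine not_conj_inverted hG ht hyt ?_
      rw [mul_inv_rev, inv_eq_of_mul_eq_one_right hy2, show t * (y * t) * t⁻¹ = t * y by group,
        inv_eq_of_mul_eq_one_right (by rw [← sq]; exact ht2 : t * t = 1)]
    · have := irr_apply_one_ne_zero χ.2
      rw [show (∑ y ∈ Finset.univ.filter (IsConj t), (χ : G → ℂ) (y * t)) =
        ((Finset.univ.filter (IsConj t)).card : ℂ) * (χ : G → ℂ) t * (χ : G → ℂ) t / (χ : G → ℂ) 1 by
          rw [eq_div_iff this]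
          convert Chars2.sum_class_pairs χ.2 t t]
      ring
  rw [L.sum_eq] at hprod
  simp only [e1, e2, e3, e4, e5, e6, e7, e8, e9, xa, xb, xc, xf, xr, xs, xq, hθeq, coe_oneChar,
    map_one, map_neg, map_zero, mul_zero, zero_div, add_zero] at hprod
  have hS : conj ((L.θ : G → ℂ) x) + conj ((L.θ' : G → ℂ) x) = -1 := by
    rw [← map_add, xθ, map_neg, map_one]
  have hkey : (720 : ℂ) - 72 * ((L.a : G → ℂ) t * (L.a : G → ℂ) t + (L.b : G → ℂ) t * (L.b : G → ℂ) t +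
      (L.c : G → ℂ) t * (L.c : G → ℂ) t) + 16 * ((L.f : G → ℂ) t * (L.f : G → ℂ) t) -
      45 * ((L.θ : G → ℂ) t * (L.θ : G → ℂ) t) = 0 := by
    linear_combination 720 * hprod - 45 * ((L.θ : G → ℂ) t * (L.θ : G → ℂ) t) * hS
  rw [va, vb, vc, vf, vθ] at hkey hθrel
  have hθz : (16 : ℤ) - 4 * i = 1 - ((10 - 4 * (k₁ : ℤ)) + (10 - 4 * (k₂ : ℤ)) + (10 - 4 * (k₃ : ℤ))) +
      (45 - 4 * (j : ℤ)) := by exact_mod_cast hθrel
  obtain ⟨hth, hj, hks⟩ := values_two ⟨k₁, by omega⟩ ⟨k₂, by omega⟩ ⟨k₃, by omega⟩ ⟨j, by omega⟩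
    ⟨⟨h1a, by simp only; omega⟩, ⟨h2a, by simp only; omega⟩, h3a, by simp only; omega⟩
    (16 - 4 * (i : ℤ)) hθz ⟨by omega, by omega⟩ (by simp only; exact_mod_cast hkey)
  simp only at hj hks
  have hi : i = 4 := by omega
  subst hj hi
  have vf' : (L.f : G → ℂ) t = -3 := by rw [vf]; norm_num
  have vθ0 : (L.θ : G → ℂ) t = 0 := by rw [vθ]; norm_num
  have vθ0' : (L.θ' : G → ℂ) t = 0 := by rw [hθeq, vθ0]
  have hT : (((L.a : G → ℂ) t = 2 ∧ (L.b : G → ℂ) t = -2 ∧ (L.c : G → ℂ) t = -2) ∨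
       ((L.a : G → ℂ) t = -2 ∧ (L.b : G → ℂ) t = 2 ∧ (L.c : G → ℂ) t = -2) ∨
       ((L.a : G → ℂ) t = -2 ∧ (L.b : G → ℂ) t = -2 ∧ (L.c : G → ℂ) t = 2)) := by
    rcases hks with ⟨rfl, rfl, rfl⟩ | ⟨rfl, rfl, rfl⟩ | ⟨rfl, rfl, rfl⟩
    · left; rw [va, vb, vc]; norm_num
    · right; left; rw [va, vb, vc]; norm_num
    · right; right; rw [va, vb, vc]; norm_num
  have vs : (L.s : G → ℂ) t = 12 - 4 * (m : ℂ) := by
    rw [relation_five hG L t (by rw [ht]; norm_num), vθ0, vθ0', vr]; ring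
  have vq : (L.q : G → ℂ) t = -9 + 4 * (m : ℂ) := by
    have hcol := Labels.column t 1 fun hc => ht1 (isConj_one_left.1 hc)
    rw [L.sum_eq] at hcol
    simp only [e1, e2, e3, e4, e5, e6, e7, e8, e9, vf', vθ0, vθ0', vr, vs, coe_oneChar, map_one,
      map_ofNat, zero_mul] at hcol
    rcases hT with ⟨u1, u2, u3⟩ | ⟨u1, u2, u3⟩ | ⟨u1, u2, u3⟩ <;> rw [u1, u2, u3] at hcol <;>
      linear_combination hcol / 55
  have hnorm : (Nat.card (Subgroup.centralizer ({t} : Set G)) : ℤ) =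
      1 + 12 + 9 + (11 - 4 * (m : ℤ)) * (11 - 4 * (m : ℤ)) + (12 - 4 * (m : ℤ)) * (12 - 4 * (m : ℤ)) +
      (-9 + 4 * (m : ℤ)) * (-9 + 4 * (m : ℤ)) := by
    have h := column_orth t t
    rw [if_pos (IsConj.refl t), L.sum_eq] at h
    simp only [vf', vθ0, vθ0', vr, vs, vq, coe_oneChar, map_one, map_ofNat, map_sub, map_neg,
      map_add, map_mul, map_natCast, zero_mul, mul_one] at h
    rcases hT with ⟨u1, u2, u3⟩ | ⟨u1, u2, u3⟩ | ⟨u1, u2, u3⟩ <;>
      (rw [u1, u2, u3] at h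
       simp only [map_ofNat, map_neg] at h
       have h' : ((Nat.card (Subgroup.centralizer ({t} : Set G)) : ℤ) : ℂ) =
         ((1 + 12 + 9 + (11 - 4 * (m : ℤ)) * (11 - 4 * (m : ℤ)) + (12 - 4 * (m : ℤ)) * (12 - 4 * (m : ℤ)) +
           (-9 + 4 * (m : ℤ)) * (-9 + 4 * (m : ℤ)) : ℤ) : ℂ) := by
         push_cast
         linear_combination -h
       exact_mod_cast h')
  have hdvd : Nat.card (Subgroup.centralizer ({t} : Set G)) ∣ 7920 :=
    hG ▸ Subgroup.card_subgroup_dvd_card _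
  have hm : m = 2 := by
    have : m ≤ 5 := by omega
    have hd := Int.natCast_dvd_natCast.2 hdvd
    interval_cases m <;> first | rfl | (exfalso; rw [hnorm] at hd; norm_num at hd)
  subst hm
  refine ⟨Int.ofNat.inj (hnorm.trans (by norm_num)), ⟨vf', vθ0, vθ0'⟩, hT, ?_, ?_, ?_⟩
  · rw [vr]; norm_num
  · rw [vs]; norm_num
  · rw [vq]; norm_num

/-- The centraliser of an element of order eleven. -/
theorem card_centralizer_eleven [Fact (Nat.Prime 11)] {x : G} (hx : orderOf x = 11) :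
    Nat.card (Subgroup.centralizer ({x} : Set G)) = 11 := by
  obtain ⟨Q, hQ⟩ := (IsPGroup.of_card (p := 11) (n := 1)
    (show Nat.card (Subgroup.zpowers x) = 11 ^ 1 by rw [Nat.card_zpowers, hx, pow_one])).exists_le_sylow
  have hQc := card_sylow hG (by norm_num) (by norm_num) Q
  have hQe : Subgroup.zpowers x = (Q : Subgroup G) :=
    Subgroup.eq_of_le_of_card_ge hQ (by rw [Nat.card_zpowers, hx, hQc])
  have h : Subgroup.centralizer ({x} : Set G) = Subgroup.centralizer ((Q : Subgroup G) : Set G) := by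
    rw [← hQe, Subgroup.zpowers_eq_closure, Subgroup.centralizer_closure]
  rw [h, (eleven hG Q).1, hQc]

/-- An eigenvalue description of a real value at an element of order three. -/
theorem apply_three (χ : IrrCharacter G) {y : G} (hy : orderOf y = 3)
    (hreal : (χ : G → ℂ) y⁻¹ = (χ : G → ℂ) y) :
    ∃ l : ℕ, 3 * l ≤ 2 * charDegree (χ : G → ℂ) ∧
      (χ : G → ℂ) y = (charDegree (χ : G → ℂ) : ℂ) - 3 * (l : ℂ) := by
  classical
  have hdeg := (Blocks.charDegree_eq χ.2).1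
  have hint := isIntegral_of_isCharacter (irr_isCharacter χ) y
  have him : ((χ : G → ℂ) y).im = 0 := by
    rw [char_inv_eq_conj (irr_isCharacter χ)] at hreal
    exact Complex.conj_eq_iff_im.1 hreal
  obtain ⟨n, ρ, hi, hρ⟩ := χ.2
  rw [← hρ, Representation.char_one] at hdeg
  have hfin : Module.finrank ℂ (Fin n → ℂ) = charDegree (χ : G → ℂ) := by
    rw [← hρ]; exact_mod_cast hdeg
  obtain ⟨z, hz, hc, -, -⟩ := exists_eigenvalues ρ y
  have hc1 := hc 1
  simp only [pow_one, hρ] at hc1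
  rw [hy] at hz
  have hre : ∀ i, (z i).re = if z i = 1 then 1 else -(1 / 2 : ℝ) := by
    intro i
    split_ifs with h
    · rw [h, Complex.one_re]
    · have h3 : (z i - 1) * (z i * z i + z i + 1) = 0 := by linear_combination hz i
      rcases mul_eq_zero.1 h3 with h4 | h4
      · exact absurd (sub_eq_zero.1 h4) h
      · have e1 := congrArg Complex.re h4
        have e2 := congrArg Complex.im h4
        simp only [Complex.add_re, Complex.mul_re, Complex.one_re, Complex.zero_re] at e1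
        simp only [Complex.add_im, Complex.mul_im, Complex.one_im, Complex.zero_im] at e2
        have e3 : (z i).im * (2 * (z i).re + 1) = 0 := by linarith
        rcases mul_eq_zero.1 e3 with e4 | e4
        · nlinarith [mul_self_nonneg (2 * (z i).re + 1)]
        · linarith
  set S := Finset.univ.filter fun i => ¬ z i = 1 with hS
  have hχre : ((χ : G → ℂ) y).re = (charDegree (χ : G → ℂ) : ℝ) - 3 / 2 * S.card := by
    rw [← hfin, hc1, Complex.re_sum, Finset.sum_congr rfl fun i _ => hre i,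
      Finset.sum_congr rfl (g := fun i => (1 : ℝ) - if ¬ z i = 1 then 3 / 2 else 0) fun i _ => by
        split_ifs <;> norm_num,
      Finset.sum_sub_distrib, Finset.sum_const, Finset.card_univ, Fintype.card_fin,
      ← Finset.sum_filter, Finset.sum_const, nsmul_eq_mul, nsmul_eq_mul, ← hS]
    ring
  have hχ : (χ : G → ℂ) y = (charDegree (χ : G → ℂ) : ℂ) - 3 / 2 * (S.card : ℂ) := by
    apply Complex.ext
    · rw [hχre]; simp
    · rw [him]; simp
  rcases Nat.even_or_odd' S.card with ⟨l, hl | hl⟩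
  · refine ⟨l, ?_, ?_⟩
    · have := Finset.card_le_univ S
      simp only [Fintype.card_fin] at this
      omega
    · rw [hχ, hl]; push_cast; ring
  · exfalso
    have h1 : IsIntegral ℤ (((1 : ℕ) : ℂ) / ((2 : ℕ) : ℂ)) := by
      have h2 : ((1 : ℕ) : ℂ) / ((2 : ℕ) : ℂ) =
          (((charDegree (χ : G → ℂ) : ℤ) - 3 * (l : ℤ) - 1 : ℤ) : ℂ) - (χ : G → ℂ) y := by
        rw [hχ, hl]; push_cast; ring
      rw [h2]
      exact (isIntegral_intCast _).sub hint
    have h3 := Nat.le_of_dvd one_pos (dvd_of_isIntegral_div (by norm_num : 0 < 2) h1)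
    omega

/-- The column of a real element of order three. -/
theorem real_three (L : Labels G) [Fact (Nat.Prime 5)] [Fact (Nat.Prime 11)] {y : G} (hy : orderOf y = 3)
    (hreal : IsConj y y⁻¹) (h9 : 9 ∣ Nat.card (Subgroup.centralizer ({y} : Set G))) :
    Nat.card (Subgroup.centralizer ({y} : Set G)) = 18 ∧
      ((L.a : G → ℂ) y = 1 ∧ (L.b : G → ℂ) y = 1 ∧ (L.c : G → ℂ) y = 1 ∧ (L.f : G → ℂ) y = 0) ∧
      ((L.θ : G → ℂ) y = -2 ∧ (L.θ' : G → ℂ) y = -2) ∧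
      ((L.r : G → ℂ) y = 2 ∧ (L.s : G → ℂ) y = -1 ∧ (L.q : G → ℂ) y = 1) := by
  classical
  have hna := not_comm hG
  obtain ⟨da, db, dc, df, dθ, dθ', dr, ds, dq⟩ := L.deg
  obtain ⟨⟨e1, e2, e3⟩, e4, e5, e6, e7, e8, e9⟩ := L.deg_one
  have hy1 : y ≠ 1 := fun h => by rw [h, orderOf_one] at hy; omega
  obtain ⟨g₀, hg₀⟩ := isConj_iff.1 hreal
  have hr : ∀ χ : IrrCharacter G, (χ : G → ℂ) y⁻¹ = (χ : G → ℂ) y := fun χ => by
    rw [← hg₀, isCharacter_conj_apply (irr_isCharacter χ)]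
  obtain ⟨t, ht⟩ := exists_prime_orderOf_dvd_card' (G := G) 2 (by rw [hG]; norm_num)
  obtain ⟨-, ⟨tf, tθ, tθ'⟩, hT, tr, ts, tq⟩ := involution hG L ht
  obtain ⟨x, hx⟩ := exists_prime_orderOf_dvd_card' (G := G) 11 (by rw [hG]; norm_num)
  obtain ⟨xa, xb, xc, xf, xθ, xr, xs, xq⟩ := (relation_eleven hG L).2 x hx
  obtain ⟨l₁, h1, va⟩ := apply_three hG L.a hy (hr _)
  obtain ⟨l₂, h2, vb⟩ := apply_three hG L.b hy (hr _)
  obtain ⟨l₃, h3, vc⟩ := apply_three hG L.c hy (hr _)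
  obtain ⟨m, h4, vr⟩ := apply_three hG L.r hy (hr _)
  rw [da] at h1 va; rw [db] at h2 vb; rw [dc] at h3 vc; rw [dr] at h4 vr
  push_cast at va vb vc vr
  have vf : (L.f : G → ℂ) y = 0 := by
    obtain ⟨n, ρ, hi, hρ⟩ := L.f.2
    haveI := hi
    have h := (Blocks.charDegree_eq L.f.2).1
    rw [df, ← hρ, Representation.char_one] at h
    have hfin : Module.finrank ℂ (Fin n → ℂ) = 45 := by exact_mod_cast h
    rw [← hρ]
    exact S0165.result ρ 3 2 (by norm_num) (by rw [hG]; norm_num) (by rw [hG]; norm_num)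
      (by rw [hfin]; norm_num) y (by rw [hy])
  obtain ⟨hθeq, hθrel⟩ := (relation_eleven hG L).1 y (by rw [hy]; norm_num)
  have vs := relation_five hG L y (by rw [hy]; norm_num)
  rw [hθeq] at vs
  rw [va, vb, vc, vf, add_zero] at hθrel
  rw [hθrel, vr] at vs
  set T₁ : ℤ := 10 - 3 * (l₁ : ℤ) with hT₁
  set T₂ : ℤ := 10 - 3 * (l₂ : ℤ) with hT₂
  set T₃ : ℤ := 10 - 3 * (l₃ : ℤ) with hT₃
  set a : ℤ := 11 - 3 * (m : ℤ) with ha
  set b : ℤ := 1 + 2 * (1 - (T₁ + T₂ + T₃)) + a with hb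
  have va' : (L.a : G → ℂ) y = (T₁ : ℂ) := by rw [va, hT₁]; push_cast; ring
  have vb' : (L.b : G → ℂ) y = (T₂ : ℂ) := by rw [vb, hT₂]; push_cast; ring
  have vc' : (L.c : G → ℂ) y = (T₃ : ℂ) := by rw [vc, hT₃]; push_cast; ring
  have vr' : (L.r : G → ℂ) y = (a : ℂ) := by rw [vr, ha]; push_cast; ring
  have vθ : (L.θ : G → ℂ) y = ((1 - (T₁ + T₂ + T₃) : ℤ) : ℂ) := by
    rw [hθrel, hT₁, hT₂, hT₃]; push_cast; ring
  have vs' : (L.s : G → ℂ) y = (b : ℂ) := by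
    rw [vs, hb, hT₁, hT₂, hT₃, ha]; push_cast; ring
  -- the class of `y` is not that of `t`
  have hyt : ¬ IsConj y t := fun h => by
    obtain ⟨g, hg⟩ := isConj_iff.1 h
    have := MulEquiv.orderOf_eq (MulAut.conj g) y
    rw [MulAut.conj_apply, hg, hy, ht] at this
    omega
  have hcolt := Labels.column y t hyt
  rw [L.sum_eq] at hcolt
  have hcol1 := Labels.column y 1 fun hc => hy1 (isConj_one_left.1 hc)
  rw [L.sum_eq] at hcol1
  have hnorm := column_orth y y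
  rw [if_pos (IsConj.refl y), L.sum_eq] at hnorm
  have hsum : ∑ w ∈ Finset.univ.filter (IsConj t), ∑ χ : IrrCharacter G,
      (χ : G → ℂ) (w * y) * conj ((χ : G → ℂ) x) =
      ((Finset.univ.filter (IsConj t)).card : ℂ) * ∑ χ : IrrCharacter G,
        (χ : G → ℂ) t * (χ : G → ℂ) y * conj ((χ : G → ℂ) x) / (χ : G → ℂ) 1 := by
    rw [Finset.sum_comm, Finset.mul_sum]
    refine Finset.sum_congr rfl fun χ _ => ?_
    have h0 := irr_apply_one_ne_zero χ.2
    rw [← Finset.sum_mul, show ∑ w ∈ Finset.univ.filter (IsConj t), (χ : G → ℂ) (w * y) =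
      ((Finset.univ.filter (IsConj t)).card : ℂ) * (χ : G → ℂ) t * (χ : G → ℂ) y / (χ : G → ℂ) 1 by
        rw [eq_div_iff h0]; convert Chars2.sum_class_pairs χ.2 t y]
    ring
  simp only [column_orth] at hsum
  rw [Finset.sum_congr rfl (g := fun w => if IsConj (w * y) x then (11 : ℂ) else 0) fun w _ => ?_]
    at hsum
  swap
  · by_cases h : IsConj (w * y) x
    · rw [if_pos h, if_pos h]
      obtain ⟨g, hg⟩ := isConj_iff.1 h
      have ho : orderOf (w * y) = 11 := by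
        rw [← hx, ← hg]
        exact (MulEquiv.orderOf_eq (MulAut.conj g) (w * y)).symm
      rw [card_centralizer_eleven hG ho]
      norm_num
    · rw [if_neg h, if_neg h]
  rw [← Finset.sum_filter, Finset.sum_const, nsmul_eq_mul, L.sum_eq] at hsum
  set N := ((Finset.univ.filter (IsConj t)).filter fun w => IsConj (w * y) x).card with hN
  have hCt : (Subgroup.centralizer ({t} : Set G)).index = 165 := by
    have := Subgroup.index_mul_card (Subgroup.centralizer ({t} : Set G))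
    rw [(involution hG L ht).1, hG] at this
    omega
  have hKt : (Finset.univ.filter (IsConj t)).card = 165 := by
    rw [← hCt]; convert card_filter_isConj t
  simp only [va', vb', vc', vr', vθ, hθeq, vs', vf, tf, tθ, tθ', tr, ts, tq, e1, e2, e3, e4, e5, e6, e7,
    e8, e9, xa, xb, xc, xf, xr, xs, xq, coe_oneChar, map_ofNat, map_intCast, map_zero, map_neg,
    map_one, mul_zero, zero_mul, zero_div, one_mul, mul_one, add_zero, zero_add, hKt]
    at hcolt hcol1 hnorm hsum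
  set C := Nat.card (Subgroup.centralizer ({y} : Set G)) with hCdef
  have hCdvd : C ∣ 7920 := hG ▸ Subgroup.card_subgroup_dvd_card _
  have hC5 : ¬ 5 ∣ C ∧ ¬ 11 ∣ C := by
    constructor <;> intro h
    · obtain ⟨v, hv⟩ := exists_prime_orderOf_dvd_card' (G := Subgroup.centralizer ({y} : Set G)) 5 h
      have hv' : orderOf (v : G) = 5 := by rw [Subgroup.orderOf_coe]; exact hv
      obtain ⟨Q, hQ⟩ := (IsPGroup.of_card (p := 5) (n := 1)
        (show Nat.card (Subgroup.zpowers (v : G)) = 5 ^ 1 by rw [Nat.card_zpowers, hv', pow_one])).exists_le_sylow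
      have hQc := card_sylow hG (by norm_num) (by norm_num) Q
      have hQe : Subgroup.zpowers (v : G) = (Q : Subgroup G) :=
        Subgroup.eq_of_le_of_card_ge hQ (by rw [Nat.card_zpowers, hv', hQc])
      have hC5 : Subgroup.centralizer ((Q : Subgroup G) : Set G) = Q := (five_core hG ⟨L.a, da⟩ Q).1
      have hyC : y ∈ Subgroup.centralizer ((Q : Subgroup G) : Set G) := by
        rw [← hQe, Subgroup.mem_centralizer_iff]
        intro w hw
        obtain ⟨i, rfl⟩ := Subgroup.mem_zpowers_iff.1 hw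
        exact (Commute.zpow_left (Subgroup.mem_centralizer_singleton_iff.1 v.2) i).eq
      rw [hC5] at hyC
      have := Subgroup.orderOf_dvd_natCard _ hyC
      rw [hy, hQc] at this
      norm_num at this
    · obtain ⟨v, hv⟩ := exists_prime_orderOf_dvd_card' (G := Subgroup.centralizer ({y} : Set G)) 11 h
      have hv' : orderOf (v : G) = 11 := by rw [Subgroup.orderOf_coe]; exact hv
      obtain ⟨Q, hQ⟩ := (IsPGroup.of_card (p := 11) (n := 1)
        (show Nat.card (Subgroup.zpowers (v : G)) = 11 ^ 1 by rw [Nat.card_zpowers, hv', pow_one])).exists_le_sylow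
      have hQc := card_sylow hG (by norm_num) (by norm_num) Q
      have hQe : Subgroup.zpowers (v : G) = (Q : Subgroup G) :=
        Subgroup.eq_of_le_of_card_ge hQ (by rw [Nat.card_zpowers, hv', hQc])
      have hyC : y ∈ Subgroup.centralizer ((Q : Subgroup G) : Set G) := by
        rw [← hQe, Subgroup.mem_centralizer_iff]
        intro w hw
        obtain ⟨i, rfl⟩ := Subgroup.mem_zpowers_iff.1 hw
        exact (Commute.zpow_left (Subgroup.mem_centralizer_singleton_iff.1 v.2) i).eq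
      rw [(eleven hG Q).1] at hyC
      have := Subgroup.orderOf_dvd_natCard _ hyC
      rw [hy, hQc] at this
      norm_num at this
  have hClist : C = 9 ∨ C = 18 ∨ C = 36 ∨ C = 72 ∨ C = 144 := by
    obtain ⟨k, hk⟩ := h9
    have hk' : k ∣ 16 * (5 * 11) := ⟨7920 / C, by
      have := Nat.mul_div_cancel' hCdvd
      rw [hk, mul_assoc] at this; rw [hk]
      omega⟩
    have c5 : Nat.Coprime k 5 := ((Fact.out : Nat.Prime 5).coprime_iff_not_dvd.2
      fun h => hC5.1 (hk ▸ h.mul_left 9)).symm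
    have c11 : Nat.Coprime k 11 := ((Fact.out : Nat.Prime 11).coprime_iff_not_dvd.2
      fun h => hC5.2 (hk ▸ h.mul_left 9)).symm
    have h16 : k ∣ 2 ^ 4 := by
      have := c11.dvd_of_dvd_mul_right (show k ∣ (16 * 5) * 11 by rwa [mul_assoc])
      exact c5.dvd_of_dvd_mul_right this
    obtain ⟨i, hi, rfl⟩ := (Nat.dvd_prime_pow Nat.prime_two).1 h16
    interval_cases i <;> omega
  -- all cases for the values at the involution
  obtain ⟨u, T₁', T₂', T₃', hu, hperm⟩ : ∃ u T₁' T₂' T₃' : ℤ, u = 2 * T₁' - 2 * T₂' - 2 * T₃' ∧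
      (((L.a : G → ℂ) t = 2 ∧ (L.b : G → ℂ) t = -2 ∧ (L.c : G → ℂ) t = -2 ∧ T₁' = T₁ ∧ T₂' = T₂ ∧ T₃' = T₃) ∨
       ((L.a : G → ℂ) t = -2 ∧ (L.b : G → ℂ) t = 2 ∧ (L.c : G → ℂ) t = -2 ∧ T₁' = T₂ ∧ T₂' = T₁ ∧ T₃' = T₃) ∨
       ((L.a : G → ℂ) t = -2 ∧ (L.b : G → ℂ) t = -2 ∧ (L.c : G → ℂ) t = 2 ∧ T₁' = T₃ ∧ T₂' = T₁ ∧ T₃' = T₂)) := by
    rcases hT with ⟨u1, u2, u3⟩ | ⟨u1, u2, u3⟩ | ⟨u1, u2, u3⟩
    · exact ⟨_, T₁, T₂, T₃, rfl, Or.inl ⟨u1, u2, u3, rfl, rfl, rfl⟩⟩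
    · exact ⟨_, T₂, T₁, T₃, rfl, Or.inr (Or.inl ⟨u1, u2, u3, rfl, rfl, rfl⟩)⟩
    · exact ⟨_, T₃, T₁, T₂, rfl, Or.inr (Or.inr ⟨u1, u2, u3, rfl, rfl, rfl⟩)⟩
  have hsum' : T₁' + T₂' + T₃' = T₁ + T₂ + T₃ ∧
      T₁' * T₁' + T₂' * T₂' + T₃' * T₃' = T₁ * T₁ + T₂ * T₂ + T₃ * T₃ := by
    rcases hperm with ⟨-, -, -, rfl, rfl, rfl⟩ | ⟨-, -, -, rfl, rfl, rfl⟩ | ⟨-, -, -, rfl, rfl, rfl⟩ <;>
      constructor <;> ring
  have hq : (L.q : G → ℂ) y = ((1 + u + 3 * a + 4 * b : ℤ) : ℂ) := by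
    rcases hperm with ⟨u1, u2, u3, r1, r2, r3⟩ | ⟨u1, u2, u3, r1, r2, r3⟩ | ⟨u1, u2, u3, r1, r2, r3⟩ <;>
      rw [u1, u2, u3] at hcolt <;> simp only [map_ofNat, map_neg] at hcolt <;>
      rw [hu, r1, r2, r3] <;> push_cast <;> linear_combination -hcolt
  rw [hq] at hcol1 hnorm
  simp only [map_intCast] at hnorm
  have hrel1 : 1 + 10 * (T₁' + T₂' + T₃') + 32 * (1 - (T₁' + T₂' + T₃')) + 11 * a + 44 * b +
      55 * (1 + u + 3 * a + 4 * b) = 0 := by
    rw [hsum'.1]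
    have : ((1 + 10 * (T₁ + T₂ + T₃) + 32 * (1 - (T₁ + T₂ + T₃)) + 11 * a + 44 * b +
      55 * (1 + u + 3 * a + 4 * b) : ℤ) : ℂ) = 0 := by
      push_cast at hcol1 ⊢
      linear_combination hcol1
    exact_mod_cast this
  have hCval : (C : ℤ) = 1 + (T₁' * T₁' + T₂' * T₂' + T₃' * T₃') +
      2 * ((1 - (T₁' + T₂' + T₃')) * (1 - (T₁' + T₂' + T₃'))) + a * a + b * b +
      (1 + u + 3 * a + 4 * b) * (1 + u + 3 * a + 4 * b) := by
    rw [hsum'.1, hsum'.2]
    have : ((C : ℤ) : ℂ) = ((1 + (T₁ * T₁ + T₂ * T₂ + T₃ * T₃) +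
      2 * ((1 - (T₁ + T₂ + T₃)) * (1 - (T₁ + T₂ + T₃))) + a * a + b * b +
      (1 + u + 3 * a + 4 * b) * (1 + u + 3 * a + 4 * b) : ℤ) : ℂ) := by
      push_cast at hnorm ⊢
      linear_combination -hnorm
    exact_mod_cast this
  -- integrality of the structure constant
  have hint : (165 * (10 - u)) % (10 * (C : ℤ)) = 0 := by
    have hNu : (110 : ℤ) * N = 165 * (10 - u) := by
      have : ((110 * N : ℤ) : ℂ) = ((165 * (10 - u) : ℤ) : ℂ) := by
        rcases hperm with ⟨u1, u2, u3, r1, r2, r3⟩ | ⟨u1, u2, u3, r1, r2, r3⟩ | ⟨u1, u2, u3, r1, r2, r3⟩ <;>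
          rw [u1, u2, u3] at hsum <;> rw [hu, r1, r2, r3] <;> push_cast at hsum ⊢ <;>
          linear_combination 10 * hsum
      exact_mod_cast this
    have hidx : ∀ (g : G) (k : ℕ), Nat.card (Subgroup.centralizer ({g} : Set G)) = k →
        (Finset.univ.filter (IsConj g)).card * k = 7920 := fun g k hk => by
      rw [show (Finset.univ.filter (IsConj g)).card = (Subgroup.centralizer ({g} : Set G)).index by
        convert card_filter_isConj g, ← hk, Subgroup.index_mul_card, hG]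
    have hdvd := card_class_dvd_pairs t y x
    rw [← hN] at hdvd
    have hx720 := hidx x 11 (card_centralizer_eleven hG hx)
    have hyC := hidx y C rfl
    obtain ⟨k, hk⟩ := hdvd
    set cy := (Finset.univ.filter (IsConj y)).card
    set cx := (Finset.univ.filter (IsConj x)).card
    have hcx : cx = 720 := by omega
    have : 11 * N = k * C := by
      have : N * cy * C = cx * k * C := by rw [hk]
      rw [mul_assoc, hyC, hcx] at this
      linarith
    have h2 : (11 : ℤ) * N = k * C := by exact_mod_cast this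
    rw [← hNu]
    exact Int.emod_eq_zero_of_dvd ⟨k, by linarith⟩
  have hl₁ : l₁ < 7 := by omega
  have hl₂ : l₂ < 7 := by omega
  have hl₃ : l₃ < 7 := by omega
  have hm8 : m < 8 := by omega
  obtain ⟨hres, hTs, hu', ha'⟩ : (C : ℤ) = 18 ∧ (T₁ = 1 ∧ T₂ = 1 ∧ T₃ = 1) ∧ u = -2 ∧ a = 2 := by
    have hC' : (C : ℤ) = 9 ∨ (C : ℤ) = 18 ∨ (C : ℤ) = 36 ∨ (C : ℤ) = 72 ∨ (C : ℤ) = 144 := by
      rcases hClist with h | h | h | h | h <;> rw [h] <;> norm_num
    have hb' : b = 1 + 2 * (1 - (T₁' + T₂' + T₃')) + a := by rw [hb, hsum'.1]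
    rcases hperm with ⟨-, -, -, r1, r2, r3⟩ | ⟨-, -, -, r1, r2, r3⟩ | ⟨-, -, -, r1, r2, r3⟩
    · obtain ⟨h, ⟨q1, q2, q3⟩, q4⟩ := values_three ⟨l₁, hl₁⟩ ⟨l₂, hl₂⟩ ⟨l₃, hl₃⟩ ⟨m, hm8⟩ T₁' T₂' T₃'
        a b _ u C r1 r2 r3 ha hb' hu rfl hrel1 hCval hC' hint
      exact ⟨h, ⟨by omega, by omega, by omega⟩, by omega, q4⟩
    · obtain ⟨h, ⟨q1, q2, q3⟩, q4⟩ := values_three ⟨l₂, hl₂⟩ ⟨l₁, hl₁⟩ ⟨l₃, hl₃⟩ ⟨m, hm8⟩ T₁' T₂' T₃'
        a b _ u C r1 r2 r3 ha hb' hu rfl hrel1 hCval hC' hint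
      exact ⟨h, ⟨by omega, by omega, by omega⟩, by omega, q4⟩
    · obtain ⟨h, ⟨q1, q2, q3⟩, q4⟩ := values_three ⟨l₃, hl₃⟩ ⟨l₁, hl₁⟩ ⟨l₂, hl₂⟩ ⟨m, hm8⟩ T₁' T₂' T₃'
        a b _ u C r1 r2 r3 ha hb' hu rfl hrel1 hCval hC' hint
      exact ⟨h, ⟨by omega, by omega, by omega⟩, by omega, q4⟩
  obtain ⟨t1, t2, t3⟩ := hTs
  have hb1 : b = -1 := by rw [hb, t1, t2, t3, ha']; norm_num
  refine ⟨by exact_mod_cast hres, ⟨?_, ?_, ?_, vf⟩, ⟨?_, ?_⟩, ?_, ?_, ?_⟩
  · rw [va', t1]; norm_num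
  · rw [vb', t2]; norm_num
  · rw [vc', t3]; norm_num
  · rw [vθ, t1, t2, t3]; norm_num
  · rw [hθeq, vθ, t1, t2, t3]; norm_num
  · rw [vr', ha']; norm_num
  · rw [vs', hb1]; norm_num
  · rw [hq, hu', ha', hb1]; norm_num

end Cfsg.Agent.Chars.Order7920
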