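import Cfsg.Agent.Chars.Order7920Classes
import Mathlib.GroupTheory.Transfer
import Mathlib.GroupTheory.IndexNormal

/-!
The normaliser of a Sylow 3-subgroup of a simple group of order 7920.
-/

set_option autoImplicit false
set_option linter.style.haveILetI false
set_option linter.unusedSectionVars false

open Cfsg Cfsg.Agent Cfsg.Agent.Blocks
open scoped ComplexConjugate

namespace Cfsg.Agent.Chars.Order7920

universe u

variable {G : Type u} [Group G] [Fintype G] [IsSimpleGroup G]
variable (hG : Nat.card G = 7920)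
include hG

theorem card_sylow_three [Fact (Nat.Prime 3)] (P : Sylow 3 G) : Nat.card P = 9 := by
  obtain ⟨a, ha⟩ := IsPGroup.iff_card.1 P.isPGroup'
  have h2 : 3 ^ 2 ∣ Nat.card P := P.pow_dvd_card_of_pow_dvd_card (by rw [hG]; norm_num)
  have h3 : Nat.card P ∣ 7920 := hG ▸ Subgroup.card_subgroup_dvd_card (P : Subgroup G)
  rw [ha] at h2 h3 ⊢
  have e2 : 2 ≤ a := (Nat.pow_dvd_pow_iff_le_right (by norm_num)).1 h2
  have e3 : ¬ 3 ≤ a := fun h' => by
    have := (pow_dvd_pow 3 h').trans h3
    norm_num at this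
  rw [show a = 2 by omega]
  norm_num

theorem card_centralizer_five [Fact (Nat.Prime 5)] [Fact (Nat.Prime 11)] {x : G} (hx : orderOf x = 5) :
    Nat.card (Subgroup.centralizer ({x} : Set G)) = 5 := by
  obtain ⟨L⟩ := exists_labels hG
  obtain ⟨da, -⟩ := L.deg
  obtain ⟨Q, hQ⟩ := (IsPGroup.of_card (p := 5) (n := 1)
    (show Nat.card (Subgroup.zpowers x) = 5 ^ 1 by rw [Nat.card_zpowers, hx, pow_one])).exists_le_sylow
  have hQc := card_sylow hG (by norm_num) (by norm_num) Q
  have hQe : Subgroup.zpowers x = (Q : Subgroup G) :=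
    Subgroup.eq_of_le_of_card_ge hQ (by rw [Nat.card_zpowers, hx, hQc])
  have h : Subgroup.centralizer ({x} : Set G) = Subgroup.centralizer ((Q : Subgroup G) : Set G) := by
    rw [← hQe, Subgroup.zpowers_eq_closure, Subgroup.centralizer_closure]
  rw [h, (five_core hG ⟨L.a, da⟩ Q).1, hQc]

/-- An element of order five or eleven does not normalise a subgroup of order nine. -/
theorem not_mem_normalizer {p : ℕ} [Fact p.Prime] (hp : p = 5 ∨ p = 11) {v : G} (hv : orderOf v = p)
    (hC : Nat.card (Subgroup.centralizer ({v} : Set G)) = p) {P : Subgroup G} (hP : Nat.card P = 9) :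
    v ∉ Subgroup.normalizer (P : Set G) := by
  classical
  intro hN
  let f : Function.End P := fun y => ⟨v * y * v⁻¹, (Subgroup.mem_normalizer_iff.1 hN y).1 y.2⟩
  have hpow : ∀ (n : ℕ) (y : P), (((f ^ n) y : P) : G) = v ^ n * y * (v ^ n)⁻¹ := by
    intro n
    induction n with
    | zero => intro y; simp only [pow_zero, one_mul, inv_one, mul_one]; rfl
    | succ n ih =>
      intro y
      rw [pow_succ']
      show v * ((f ^ n) y : G) * v⁻¹ = _
      rw [ih y]
      group
  have hf : f ^ p ^ 1 = 1 := by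
    funext y
    apply Subtype.ext
    rw [hpow, pow_one, ← hv, pow_orderOf_eq_one]
    simp only [one_mul, inv_one, mul_one]
    rfl
  have h := Equiv.Perm.card_fixedPoints_modEq hf
  have hfix : ∀ y : P, f y = y → y = 1 := fun y hy => by
    have h1 : (y : G) ∈ Subgroup.centralizer ({v} : Set G) := by
      rw [Subgroup.mem_centralizer_singleton_iff]
      have e : v * (y : G) * v⁻¹ = y := congrArg Subtype.val hy
      have : v * (y : G) = y * v := by rw [← mul_inv_eq_iff_eq_mul]; exact e
      exact this.symm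
    have d1 := Subgroup.orderOf_dvd_natCard _ h1
    have d2 : orderOf (y : G) ∣ 9 := hP ▸ Subgroup.orderOf_dvd_natCard _ y.2
    rw [hC] at d1
    have hcop : Nat.Coprime p 9 := by rcases hp with rfl | rfl <;> norm_num
    have : orderOf (y : G) = 1 := Nat.eq_one_of_dvd_coprimes hcop d1 d2
    exact Subtype.ext (orderOf_eq_one_iff.1 this)
  have h1 : Fintype.card f.fixedPoints = 1 := by
    refine Fintype.card_eq_one_iff.2 ⟨⟨1, ?_⟩, fun y => Subtype.ext (hfix y.1 y.2)⟩
    show f 1 = 1
    apply Subtype.ext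
    simp [f]
  rw [h1, ← Nat.card_eq_fintype_card, hP] at h
  rcases hp with rfl | rfl <;> exact absurd h (by decide)

/-- The normaliser of a Sylow 3-subgroup has order 144. -/
theorem card_normalizer_three [Fact (Nat.Prime 3)] [Fact (Nat.Prime 5)] [Fact (Nat.Prime 11)]
    (P : Sylow 3 G) : Nat.card (Subgroup.normalizer ((P : Subgroup G) : Set G)) = 144 := by
  classical
  obtain ⟨L⟩ := exists_labels hG
  have hP := card_sylow_three hG P
  set N := Subgroup.normalizer ((P : Subgroup G) : Set G) with hN
  have hPN : (P : Subgroup G) ≤ N := Subgroup.le_normalizer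
  have hPc : ∀ a ∈ (P : Subgroup G), ∀ b ∈ (P : Subgroup G), a * b = b * a := fun a ha b hb => by
    have h := IsPGroup.commutative_of_card_eq_prime_sq (p := 3) (G := (P : Subgroup G))
      (by rw [hP]; norm_num) ⟨a, ha⟩ ⟨b, hb⟩
    exact congrArg Subtype.val h
  -- the possible orders
  have h5 : ¬ 5 ∣ Nat.card N := fun h => by
    obtain ⟨v, hv⟩ := exists_prime_orderOf_dvd_card' (G := N) 5 h
    have hv' : orderOf (v : G) = 5 := by rw [Subgroup.orderOf_coe]; exact hv
    exact not_mem_normalizer hG (Or.inl rfl) hv' (card_centralizer_five hG hv') hP v.2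
  have h11 : ¬ 11 ∣ Nat.card N := fun h => by
    obtain ⟨v, hv⟩ := exists_prime_orderOf_dvd_card' (G := N) 11 h
    have hv' : orderOf (v : G) = 11 := by rw [Subgroup.orderOf_coe]; exact hv
    exact not_mem_normalizer hG (Or.inr rfl) hv' (card_centralizer_eleven hG hv') hP v.2
  have hNd : Nat.card N ∣ 7920 := hG ▸ Subgroup.card_subgroup_dvd_card _
  obtain ⟨j, hj⟩ : 9 ∣ Nat.card N := hP ▸ Subgroup.card_dvd_of_le hPN
  have hj16 : j ∣ 2 ^ 4 := by
    have hj1 : j ∣ 16 * 5 * 11 := by
      refine Nat.dvd_of_mul_dvd_mul_left (k := 9) (by norm_num) ?_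
      rw [← hj]; simpa using hNd
    have c5 : Nat.Coprime j 5 := ((Fact.out : Nat.Prime 5).coprime_iff_not_dvd.2
      fun h => h5 (hj ▸ h.mul_left 9)).symm
    have c11 : Nat.Coprime j 11 := ((Fact.out : Nat.Prime 11).coprime_iff_not_dvd.2
      fun h => h11 (hj ▸ h.mul_left 9)).symm
    exact c5.dvd_of_dvd_mul_right (c11.dvd_of_dvd_mul_right hj1)
  have hn : N.index % 3 = 1 := by
    have h0 := card_sylow_modEq_one 3 G
    rw [P.card_eq_index_normalizer] at h0
    exact h0
  have hmul : Nat.card N * N.index = 7920 := by rw [Subgroup.card_mul_index, hG]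
  rw [hj] at hmul
  obtain ⟨k, hk, rfl⟩ := (Nat.dvd_prime_pow Nat.prime_two).1 hj16
  -- not nine
  have hk0 : k ≠ 0 := by
    rintro rfl
    have hNP : (P : Subgroup G) = N := Subgroup.eq_of_le_of_card_ge hPN (by rw [hj, hP]; norm_num)
    have hle : N ≤ Subgroup.centralizer ((P : Subgroup G) : Set G) := fun g hg => by
      rw [← hNP] at hg
      exact Subgroup.mem_centralizer_iff.2 fun a ha => hPc a ha g hg
    have hc := MonoidHom.ker_transferSylow_isComplement' P hle
    rcases (MonoidHom.normal_ker (MonoidHom.transferSylow P hle)).eq_bot_or_eq_top with h | h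
    · have := hc.card_mul_card
      rw [h, Subgroup.card_bot, one_mul, hP, hG] at this
      norm_num at this
    · have := hc.card_mul_card
      rw [h, Subgroup.card_top, hP, hG] at this
      norm_num at this
  -- not thirty-six
  have hk2 : k ≠ 2 := by
    rintro rfl
    have hN36 : Nat.card N = 36 := by rw [hj]; norm_num
    have hCP : Subgroup.centralizer ((P : Subgroup G) : Set G) = P := by
      set C := Subgroup.centralizer ((P : Subgroup G) : Set G)
      have hPC : (P : Subgroup G) ≤ C := fun g hg =>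
        Subgroup.mem_centralizer_iff.2 fun a ha => hPc a ha g hg
      have hd : Nat.card C ∣ 36 := hN36 ▸ Subgroup.card_dvd_of_le (Subgroup.centralizer_le_normalizer _)
      obtain ⟨c, hc⟩ : 9 ∣ Nat.card C := hP ▸ Subgroup.card_dvd_of_le hPC
      have hc2 : ¬ 2 ∣ Nat.card C := fun h => by
        obtain ⟨s, hs⟩ := exists_prime_orderOf_dvd_card' (G := C) 2 h
        have hs' : orderOf (s : G) = 2 := by rw [Subgroup.orderOf_coe]; exact hs
        have h9 : 9 ∣ Nat.card (Subgroup.centralizer ({(s : G)} : Set G)) :=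
          hP ▸ Subgroup.card_dvd_of_le fun g hg => Subgroup.mem_centralizer_singleton_iff.2
            (Subgroup.mem_centralizer_iff.1 s.2 g hg)
        rw [(involution hG L hs').1] at h9
        norm_num at h9
      have hc4 : c ∣ 4 := Nat.dvd_of_mul_dvd_mul_left (k := 9) (by norm_num) (hc ▸ hd)
      have : c ≤ 4 := Nat.le_of_dvd (by norm_num) hc4
      refine (Subgroup.eq_of_le_of_card_ge hPC ?_).symm
      rw [hP, hc]
      interval_cases c <;> omega
    -- a normalising involution inverts some element of order three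
    have hinv : ∀ s ∈ N, orderOf s = 2 →
        ∃ z ∈ (P : Subgroup G), orderOf z = 3 ∧ s * z * s⁻¹ = z⁻¹ := by
      intro s hsN hs
      obtain ⟨w, hwP, hw⟩ : ∃ w ∈ (P : Subgroup G), s * w * s⁻¹ ≠ w := by
        by_contra hcon
        push Not at hcon
        have hsC : s ∈ Subgroup.centralizer ((P : Subgroup G) : Set G) :=
          Subgroup.mem_centralizer_iff.2 fun w hw => (mul_inv_eq_iff_eq_mul.1 (hcon w hw)).symm
        rw [hCP] at hsC
        have := Subgroup.orderOf_dvd_natCard _ hsC
        rw [hs, hP] at this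
        norm_num at this
      have hsw : s * w * s⁻¹ ∈ (P : Subgroup G) := (Subgroup.mem_normalizer_iff.1 hsN w).1 hwP
      have hs2 : s * s = 1 := by rw [← sq, ← hs]; exact pow_orderOf_eq_one s
      set z := w⁻¹ * (s * w * s⁻¹) with hzdef
      have hz : z ∈ (P : Subgroup G) := mul_mem (inv_mem hwP) hsw
      have hzi : s * z * s⁻¹ = z⁻¹ := by
        calc s * z * s⁻¹ = (s * w * s⁻¹)⁻¹ * ((s * s) * w * (s * s)⁻¹) := by rw [hzdef]; group
          _ = (s * w * s⁻¹)⁻¹ * w := by rw [hs2]; group
          _ = z⁻¹ := by rw [hzdef]; group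
      obtain ⟨i, hi, he⟩ := (Nat.dvd_prime_pow (Fact.out : Nat.Prime 3)).1
        (show orderOf z ∣ 3 ^ 2 from (Subgroup.orderOf_dvd_natCard _ hz).trans (dvd_of_eq (by rw [hP]; norm_num)))
      interval_cases i
      · exact absurd (inv_mul_eq_one.1 (orderOf_eq_one_iff.1 (by simpa using he))).symm hw
      · exact ⟨z, hz, by simpa using he, hzi⟩
      · refine ⟨z ^ 3, pow_mem hz 3, ?_, by rw [← conj_pow, hzi, inv_pow]⟩
        rw [orderOf_pow' z (by norm_num), he]
        norm_num
    obtain ⟨s, hs⟩ := exists_prime_orderOf_dvd_card' (G := N) 2 (by rw [hN36]; norm_num)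
    have hs' : orderOf (s : G) = 2 := by rw [Subgroup.orderOf_coe]; exact hs
    have h9 : ∀ z ∈ (P : Subgroup G), 9 ∣ Nat.card (Subgroup.centralizer ({z} : Set G)) := fun z hz =>
      hP ▸ Subgroup.card_dvd_of_le fun a ha =>
        Subgroup.mem_centralizer_singleton_iff.2 (hPc a ha z hz)
    obtain ⟨z, hzP, hz3, hzs⟩ := hinv s s.2 hs'
    obtain ⟨hC, ⟨za, zb, zc, zf⟩, ⟨zθ, zθ'⟩, zr, zs, zq⟩ :=
      real_three hG L hz3 (isConj_iff.2 ⟨s, hzs⟩) (h9 z hzP)
    set Cz := Subgroup.centralizer ({z} : Set G) with hCz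
    have hPCz : (P : Subgroup G) ≤ Cz := fun a ha =>
      Subgroup.mem_centralizer_singleton_iff.2 (hPc a ha z hzP)
    have hidx : ((P : Subgroup G).subgroupOf Cz).index = 2 := by
      have := Subgroup.card_mul_index ((P : Subgroup G).subgroupOf Cz)
      rw [Nat.card_congr (Subgroup.subgroupOfEquivOfLe hPCz).toEquiv, hP, hC] at this
      omega
    haveI hnorm := Subgroup.normal_of_index_eq_two hidx
    have hCzN : Cz ≤ N := by
      rw [hN]
      exact (Subgroup.normal_subgroupOf_iff_le_normalizer hPCz).1 hnorm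
    obtain ⟨u, hu⟩ := exists_prime_orderOf_dvd_card' (G := Cz) 2 (by rw [hC]; norm_num)
    have hu' : orderOf (u : G) = 2 := by rw [Subgroup.orderOf_coe]; exact hu
    obtain ⟨z', hz'P, hz'3, hz'u⟩ := hinv u (hCzN u.2) hu'
    obtain ⟨hC', ⟨za', zb', zc', zf'⟩, ⟨zθ0, zθ1⟩, zr', zs', zq'⟩ :=
      real_three hG L hz'3 (isConj_iff.2 ⟨u, hz'u⟩) (h9 z' hz'P)
    have hnc : ¬ IsConj z z' := by
      intro hc
      obtain ⟨g, hg⟩ := isConj_iff.1 hc
      -- both subgroups are the Sylow subgroup of the centraliser of `z`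
      have hle : ((P : Subgroup G).map (MulAut.conj g⁻¹).toMonoidHom) ≤ Cz := by
        rintro a ⟨b, hb, rfl⟩
        rw [hCz, Subgroup.mem_centralizer_singleton_iff]
        have h' := hPc b hb z' hz'P
        rw [← hg] at h'
        simp only [MulEquiv.coe_toMonoidHom, MulAut.conj_apply, inv_inv]
        calc g⁻¹ * b * g * z = g⁻¹ * (b * (g * z * g⁻¹)) * g := by group
          _ = g⁻¹ * ((g * z * g⁻¹) * b) * g := by rw [h']
          _ = z * (g⁻¹ * b * g) := by group
      have heq : (P : Subgroup G).map (MulAut.conj g⁻¹).toMonoidHom = P := by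
        refine Subgroup.eq_of_le_of_card_ge ?_
          (by rw [Subgroup.card_map_of_injective (MulAut.conj g⁻¹).injective])
        intro a ha
        -- the image of `a` in the quotient of order two has order dividing nine
        have hord : orderOf (QuotientGroup.mk (s := (P : Subgroup G).subgroupOf Cz) ⟨a, hle ha⟩) = 1 := by
          have h2 : orderOf (QuotientGroup.mk (s := (P : Subgroup G).subgroupOf Cz) ⟨a, hle ha⟩) ∣ 2 := by
            rw [← hidx]; exact orderOf_dvd_natCard _
          have h9 : orderOf (QuotientGroup.mk (s := (P : Subgroup G).subgroupOf Cz) ⟨a, hle ha⟩) ∣ 9 := by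
            refine (orderOf_map_dvd (QuotientGroup.mk' _) _).trans ?_
            rw [Subgroup.orderOf_mk]
            refine (Subgroup.orderOf_dvd_natCard _ ha).trans (dvd_of_eq ?_)
            rw [Subgroup.card_map_of_injective (MulAut.conj g⁻¹).injective, hP]
          exact Nat.eq_one_of_dvd_coprimes (by norm_num : Nat.Coprime 2 9) h2 h9
        exact Subgroup.mem_subgroupOf.1 ((QuotientGroup.eq_one_iff (⟨a, hle ha⟩ : Cz)).1 (orderOf_eq_one_iff.1 hord))
      have hgN : g⁻¹ ∈ N := by
        rw [hN, Subgroup.mem_normalizer_iff]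
        intro a
        have hmem := Subgroup.mem_map_iff_mem (f := (MulAut.conj g⁻¹).toMonoidHom)
          (MulAut.conj g⁻¹).injective (K := (P : Subgroup G)) (x := a)
        rw [heq] at hmem
        exact hmem.symm
      -- the centraliser of `z` has index two in the normaliser
      have hidx2 : (Cz.subgroupOf N).index = 2 := by
        have := Subgroup.card_mul_index (Cz.subgroupOf N)
        rw [Nat.card_congr (Subgroup.subgroupOfEquivOfLe hCzN).toEquiv, hC, hN36] at this
        omega
      haveI hnN := Subgroup.normal_of_index_eq_two hidx2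
      have hmem := hnN.conj_mem ⟨u, hCzN u.2⟩ (Subgroup.mem_subgroupOf.2 u.2) ⟨g⁻¹, hgN⟩
      rw [Subgroup.mem_subgroupOf] at hmem
      replace hmem := Subgroup.mem_centralizer_singleton_iff.1 hmem
      simp only [Subgroup.coe_mul, Subgroup.coe_inv, inv_inv] at hmem
      have hcomm : (u : G) * z' = z' * u := by
        rw [← hg]
        calc (u : G) * (g * z * g⁻¹) = g * (g⁻¹ * u * g * z) * g⁻¹ := by group
          _ = g * (z * (g⁻¹ * u * g)) * g⁻¹ := by rw [hmem]
          _ = g * z * g⁻¹ * u := by group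
      rw [hcomm, mul_inv_cancel_right] at hz'u
      have h2 : orderOf z' ∣ 2 := orderOf_dvd_of_pow_eq_one (by
        rw [pow_two]; nth_rewrite 2 [hz'u]; exact mul_inv_cancel z')
      rw [hz'3] at h2
      norm_num at h2
    have h := Labels.column z z' hnc
    rw [L.sum_eq] at h
    simp only [za, zb, zc, zf, zθ, zθ', zr, zs, zq, za', zb', zc', zf', zθ0, zθ1, zr', zs', zq',
      coe_oneChar, map_one, map_neg, map_ofNat, map_zero] at h
    norm_num at h
  interval_cases k <;> first | omega | norm_num at hj hmul ⊢ <;> omega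

end Cfsg.Agent.Chars.Order7920
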