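import Cfsg.Prelude.Def_Blocks
import Cfsg.Agent.Chars.CoprimeExt
import Cfsg.Agent.Core.Residual

/-!
Characters of degree prime to `p` and the subgroup generated by the `p'`-elements.
-/

set_option autoImplicit false
set_option linter.style.haveILetI false

namespace Cfsg.Agent.Chars

open Cfsg.Agent

universe u

variable {G : Type u} [Group G] [Finite G] {p : ℕ} [hp : Fact p.Prime]

/-- A linear character of a group generated by `p'`-elements has order prime to `p`. -/
theorem orderOf_hom_coprime {H : Type u} [Group H] [Finite H] (hH : pResidual p H = ⊤)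
    (lam : H →* ℂˣ) : (orderOf lam).Coprime p := by
  set m := Nat.card H / p ^ (Nat.card H).factorization p
  have hm : m.Coprime p := (Nat.coprime_ordCompl hp.out Nat.card_pos.ne').symm
  refine hm.coprime_dvd_left (orderOf_dvd_of_pow_eq_one ?_)
  refine MonoidHom.eq_of_eqOn_dense (s := {g : H | Nat.Coprime (orderOf g) p}) hH fun g hg => ?_
  rw [MonoidHom.pow_apply, ← map_pow]
  have : orderOf g ∣ m := by
    have h : orderOf g ∣ p ^ (Nat.card H).factorization p * m := by
      rw [Nat.ordProj_mul_ordCompl_eq_self]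
      exact orderOf_dvd_natCard g
    exact (Nat.Coprime.pow_right _ hg).dvd_of_dvd_mul_left h
  rw [orderOf_dvd_iff_pow_eq_one.1 this, map_one]
  rfl

omit [Finite G] in
/-- A character trivial on a normal subgroup stays irreducible on a supplement. -/
theorem isIrreducible_comp_of_sup_eq_top {V : Type*} [AddCommGroup V] [Module ℂ V]
    (ρ : Representation ℂ G V) (h : ρ.IsIrreducible) (H N : Subgroup G) (hsup : H ⊔ N = ⊤)
    (hN : ∀ n ∈ N, ρ n = 1) : Representation.IsIrreducible (ρ.comp H.subtype) := by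
  rw [isIrreducible_iff] at h ⊢
  refine ⟨h.1, fun S hS => h.2 S fun g => ?_⟩
  have hg : g ∈ H ⊔ N := hsup ▸ Subgroup.mem_top g
  rw [Subgroup.sup_eq_closure] at hg
  induction hg using Subgroup.closure_induction_left with
  | one => intro v hv; simpa using hv
  | mul_left x hx y _ ih =>
    intro v hv
    rw [map_mul, Module.End.mul_apply]
    rcases hx with hx | hx
    · exact hS ⟨x, hx⟩ _ (ih v hv)
    · rw [hN x hx]; exact ih v hv
  | inv_mul_cancel x hx y _ ih =>
    intro v hv
    rw [map_mul, Module.End.mul_apply]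
    rcases hx with hx | hx
    · exact hS ⟨x⁻¹, H.inv_mem hx⟩ _ (ih v hv)
    · rw [hN x⁻¹ (N.inv_mem hx)]; exact ih v hv

/-- An invariant character of `p'`-degree of `O^p(G)` has exactly one extension of
determinantal order prime to `p`. -/
theorem existsUnique_ext_pPrime {θ : pResidual p G → ℂ} (hθ : IsIrrCharacter (pResidual p G) θ)
    (hinv : Chars2.inertiaSub θ = ⊤) (hdeg : ¬ p ∣ charDegree θ) :
    ∃! χ : G → ℂ, IsIrrCharacter G χ ∧ (∀ n : pResidual p G, χ n = θ n) ∧
      ¬ p ∣ detOrder χ := by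
  obtain ⟨d, ρ, hirr, rfl⟩ := hθ
  haveI := hirr
  have hd : ρ.character 1 = (d : ℂ) := by rw [Representation.char_one, Module.finrank_fin_fun]
  have hdd : charDegree ρ.character = d := by simp [charDegree, hd]
  rw [hdd] at hdeg
  obtain ⟨k, hk⟩ := Core.index_pResidual p G
  have hcopd : Nat.Coprime (pResidual p G).index d := by
    rw [hk]; exact ((hp.out.coprime_iff_not_dvd).2 hdeg).pow_left k
  have hinv' := inv_of_inertia_top hinv
  set lam := Chars2.detHom ρ with hlamdef
  have hord : (orderOf lam).Coprime p :=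
    orderOf_hom_coprime (Core.pResidual_pResidual p G) lam
  have hcopl : Nat.Coprime (pResidual p G).index (orderOf lam) := by
    rw [hk]; exact (hord.symm).pow_left k
  have hlam : ∀ (g : G) (n : pResidual p G), lam (MulAut.conjNormal g n) = lam n := by
    intro g n
    obtain ⟨e⟩ := Chars2.equiv_of_character_eq ρ (ρ.comp (MulAut.conjNormal (H := pResidual p G) g).toMonoidHom)
      (funext fun k => (Chars2.inv_conjNormal ρ.character hinv' g k).symm)
    refine Units.ext ?_
    rw [hlamdef, Chars2.detHom_apply, Chars2.detHom_apply]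
    have h := e.conj_apply_self n
    simp only [MonoidHom.coe_comp, MulEquiv.coe_toMonoidHom, Function.comp_apply] at h
    rw [← h]
    exact LinearMap.det_conj _ _
  obtain ⟨μ, hμ, hμo⟩ := Chars2.exists_ext_same_order lam hlam hcopl
  obtain ⟨χ₀, hχ₀, hχ₀r⟩ := (Chars2.extends_iff_det ρ.character ⟨d, ρ, hirr, rfl⟩ hinv' d hd
    hcopd).2 ⟨Chars2.linFun μ, (Chars2.linFun_isCharacter μ).1, (Chars2.linFun_isCharacter μ).2,
      fun n => by rw [Chars2.detChar_eq ρ _ rfl, Chars2.linFun_apply, Chars2.linFun_apply, hμ]⟩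
  obtain ⟨m, σ, hσ, hσc⟩ := hχ₀
  haveI := hσ
  obtain ⟨η₀, hη₀⟩ : ∃ η₀ : Representation ℂ G (Fin d → ℂ), ∀ n : pResidual p G, η₀ n = ρ n := by
    obtain ⟨e⟩ := Chars2.equiv_of_character_eq ρ (σ.comp (pResidual p G).subtype)
      (funext fun n => ((congrFun hσc (n : G)).trans (hχ₀r n)).symm)
    exact ⟨(e.symm.toLinearEquiv.conjAlgEquiv ℂ).toMonoidHom.comp σ,
      fun n => e.symm.conj_apply_self n⟩
  obtain ⟨χ, ⟨hχ, hχr, hχd⟩, huniq⟩ := Chars2.existsUnique_ext_det ρ hcopd η₀ hη₀ μ hμ
  refine ⟨χ, ⟨hχ, hχr, ?_⟩, fun χ' ⟨hχ', hχ'r, hχ'o⟩ => huniq χ' ⟨hχ', hχ'r, ?_⟩⟩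
  · rw [detOrder, hχd, Chars2.orderOf_linFun, hμo]
    exact fun h => hp.out.coprime_iff_not_dvd.1 hord.symm h
  · obtain ⟨m', σ', hσ', rfl⟩ := hχ'
    haveI := hσ'
    rw [Chars2.detOrder_eq σ' _ rfl] at hχ'o
    rw [Chars2.detChar_eq σ' _ rfl]
    refine congrArg Chars2.linFun (Chars2.ext_unique_of_coprime (N := pResidual p G) _ _
      (fun n => ?_) ?_ (hμo ▸ hcopl))
    · rw [hμ, hlamdef]
      refine Units.ext ?_
      rw [Chars2.detHom_apply, Chars2.detHom_apply]
      obtain ⟨e⟩ := Chars2.equiv_of_character_eq ρ (σ'.comp (pResidual p G).subtype)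
        (funext fun n => (hχ'r n).symm)
      have h := e.conj_apply_self n
      simp only [MonoidHom.coe_comp, Subgroup.coe_subtype, Function.comp_apply] at h
      rw [← h]
      exact LinearMap.det_conj _ _
    · rw [hk]; exact ((hp.out.coprime_iff_not_dvd).2 hχ'o).pow_left k

/-- An irreducible character of `p'`-degree restricts irreducibly to `O^p(G)`. -/
theorem restrict_pPrime {χ : G → ℂ} (hχ : IsIrrCharacter G χ) (hdeg : ¬ p ∣ charDegree χ) :
    IsIrrCharacter (pResidual p G) (fun n => χ n) ∧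
      Chars2.inertiaSub (fun n : pResidual p G => χ n) = ⊤ := by
  classical
  haveI := Fintype.ofFinite G
  set N := pResidual p G
  obtain ⟨θ, hθ⟩ : ∃ θ : IrrCharacter N, classInner (fun k : N => χ k) (θ : N → ℂ) ≠ 0 := by
    by_contra hc0
    push Not at hc0
    have h0 : (fun k : N => χ k) = 0 := by
      rw [eq_sum_classInner (isClassFunction_of_isCharacter
        (isCharacter_restrict (isCharacter_of_isIrr hχ) N))]
      simp [hc0]
    exact irr_apply_one_ne_zero hχ (by simpa using congrFun h0 1)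
  have hcd := Chars2.clifford_degree hχ θ.2 hθ
  obtain ⟨n, hn0, hn, -⟩ := irr_degree_dvd_card hχ
  obtain ⟨d, hd0, hd, hdvd⟩ := irr_degree_dvd_card θ.2
  obtain ⟨c, hcn⟩ := exists_classInner_eq_nat
    (isCharacter_restrict (isCharacter_of_isIrr hχ) N) (isCharacter_of_isIrr θ.2)
  rw [hn, hcn, hd] at hcd
  have hcd' : n = (Chars2.inertiaSub (θ : N → ℂ)).index * c * d := by exact_mod_cast hcd
  have hnd : charDegree χ = n := by simp [charDegree, hn]
  rw [hnd] at hdeg
  obtain ⟨k, hk⟩ := Core.index_pResidual p G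
  have hinv : Chars2.inertiaSub (θ : N → ℂ) = ⊤ := by
    rw [← Subgroup.index_eq_one]
    obtain ⟨j, -, hj⟩ := (Nat.dvd_prime_pow hp.out).1 (hk ▸ Subgroup.index_dvd_of_le
      (Chars2.le_inertiaSub (isClassFunction_of_isCharacter (isCharacter_of_isIrr θ.2))))
    rcases j with _ | j
    · simpa using hj
    · refine absurd ?_ hdeg
      rw [hcd', hj, pow_succ', mul_assoc, mul_assoc]
      exact dvd_mul_right _ _
  have hdegθ : ¬ p ∣ charDegree (θ : N → ℂ) := by
    have : charDegree (θ : N → ℂ) = d := by simp [charDegree, hd]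
    rw [this]
    exact fun h => hdeg (hcd' ▸ dvd_mul_of_dvd_right h _)
  obtain ⟨χ₀, ⟨hχ₀, hχ₀r, -⟩, -⟩ := existsUnique_ext_pPrime θ.2 hinv hdegθ
  have hg := Chars2.gallagher (N := N) (φ := 1) (ϑ := (θ : N → ℂ))
    isIrrCharacter_one (Chars2.inertiaSub_eq_top fun g n => rfl) hinv
    (by rw [one_mul]; exact θ.2) hχ₀ hχ₀r
  obtain ⟨β, ⟨hβ, hβ1⟩, hβχ⟩ := hg.surjOn (show χ ∈ {ψ : G → ℂ | IsIrrCharacter G ψ ∧
      classInner (indFun N (1 * (θ : N → ℂ))) ψ ≠ 0} from ⟨hχ, by
    rw [one_mul, classInner_indFun N _ (isClassFunction_of_isCharacter (isCharacter_of_isIrr hχ))]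
    intro h0
    refine hθ ?_
    rw [← classInner_conj_symm, h0, map_zero]⟩)
  rw [classInner_indFun N 1 (isClassFunction_of_isCharacter (isCharacter_of_isIrr hβ))] at hβ1
  have hβ1' : classInner (fun k : N => β k) 1 ≠ 0 := fun h0 => hβ1 (by
    rw [← classInner_conj_symm, h0, map_zero])
  have hβN : ∀ k : N, β k = β 1 := fun k => by
    have h1 := Chars2.clifford_invariant hβ isIrrCharacter_one
      (Chars2.inertiaSub_eq_top fun g n => rfl) hβ1' k
    have h2 := Chars2.clifford_invariant hβ isIrrCharacter_one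
      (Chars2.inertiaSub_eq_top fun g n => rfl) hβ1' 1
    simpa using h1.trans h2.symm
  obtain ⟨m, ρ, hi, rfl⟩ := hβ
  have hρN : ∀ x ∈ N, ρ x = 1 := fun x hx => (rep_char_eq_finrank_iff ρ x).1 (by
    rw [hβN ⟨x, hx⟩, Representation.char_one])
  obtain ⟨P⟩ : Nonempty (Sylow p G) := inferInstance
  haveI := isIrreducible_comp_of_sup_eq_top ρ hi (P : Subgroup G) N
    (Core.sylow_sup_pResidual P) hρN
  have hm := rep_finrank_dvd_card (ρ.comp (P : Subgroup G).subtype)
  rw [Module.finrank_fin_fun, P.card_eq_multiplicity] at hm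
  obtain ⟨j, -, hj⟩ := (Nat.dvd_prime_pow hp.out).1 hm
  have hmd : m * d = n := by
    have h1 := congrFun hβχ 1
    have h2 := hχ₀r 1
    simp only [Subgroup.coe_one] at h2
    simp only [Pi.mul_apply, h2, hd, hn, Representation.char_one, Module.finrank_fin_fun] at h1
    exact_mod_cast h1
  have hm1 : m = 1 := by
    rcases j with _ | j
    · simpa using hj
    · refine absurd ?_ hdeg
      rw [← hmd, hj, pow_succ', mul_assoc]
      exact dvd_mul_right _ _
  have hfun : (fun k : N => χ k) = (θ : N → ℂ) := funext fun k => by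
    rw [← hβχ]
    show ρ.character k * χ₀ k = _
    rw [hβN, hχ₀r, Representation.char_one, Module.finrank_fin_fun, hm1]
    simp
  rw [hfun]
  exact ⟨θ.2, hinv⟩

end Cfsg.Agent.Chars
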