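import Cfsg.Agent.Chars.SzBinaryCrit
import Mathlib

/-!
Further criteria for an action on cosets not to be binary: three elements, conjugates in one
abelian situation, and transport along isomorphisms.
-/

set_option autoImplicit false

namespace Cfsg.Agent.Chars.PSLBinary

open Cfsg.Agent.Chars.SzBinary

variable {G : Type*} [Group G]

/-- Disjoint pointwise stabilisers give a failure of binarity. -/
theorem not_bin_of_disjoint [Finite G] {H : Subgroup G} {x z : G}
    (hd : ∀ g ∈ rSub H x, g ∈ rSub H z → g = 1) (hy : x ∉ rSub H (x⁻¹ * z)) : ¬ Bin H := by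
  refine not_bin H x (x⁻¹ * z) fun g hg hg' => ?_
  rw [mul_inv_cancel_left] at hg'
  obtain rfl := hd g hg hg'
  have hy' : ¬ ∀ t, At H (x⁻¹ * z) t → At H x t := hy
  push Not at hy'
  obtain ⟨t, h1, h2⟩ := hy'
  refine ⟨t, h1, h2, fun h => h2 ?_⟩
  rw [mul_one] at h
  simpa using at_inv h

theorem rSub_conj_iff {H : Subgroup G} {x g : G} (c : G) :
    c * g * c⁻¹ ∈ rSub H (c * x * c⁻¹) ↔ g ∈ rSub H x := by
  refine ⟨fun h => ?_, rSub_conj c⟩
  have := rSub_conj c⁻¹ h
  simpa [mul_assoc] using this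

theorem at_of_isConj {H : Subgroup G} {v w t : G} (hc : IsConj v w) (ht : At H v t) :
    ∃ t', At H w t' := by
  obtain ⟨c, rfl⟩ := isConj_iff.1 hc
  exact ⟨c * t, at_conj c ht⟩

theorem at_of_mem_rSub {H : Subgroup G} {v w t : G} (hv : v ∈ rSub H w) (ht : At H w t) : At H v t :=
  hv t ht

/-- Conjugate elements, one in the stabiliser of the other, have equal stabilisers. -/
theorem rSub_eq [Finite G] {H : Subgroup G} {v w : G} (hv : v ∈ rSub H w) (hc : IsConj v w) :
    rSub H v = rSub H w := by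
  obtain ⟨c, rfl⟩ := isConj_iff.1 hc
  refine Subgroup.eq_of_le_of_card_ge (rSub_mono hv) (le_of_eq ?_)
  exact Nat.card_congr
    { toFun := fun g => ⟨c⁻¹ * g.1 * c, (rSub_conj_iff c).1 (by
        have e : c * (c⁻¹ * g.1 * c) * c⁻¹ = g.1 := by group
        rw [e]; exact g.2)⟩
      invFun := fun g => ⟨c * g.1 * c⁻¹, rSub_conj c g.2⟩
      left_inv := fun g => Subtype.ext (by simp [mul_assoc])
      right_inv := fun g => Subtype.ext (by simp [mul_assoc]) }

/-- Conjugate elements of a subgroup whose stabilisers are proper in it. -/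
theorem not_bin_of_class [Finite G] {H U : Subgroup G} {x : G} (hx : x ∈ U) (hx1 : x ≠ 1)
    (hconj : ∀ v ∈ U, v ≠ 1 → IsConj v x) (hle : ∀ v ∈ U, v ≠ 1 → rSub H v ≤ U)
    (hlt : rSub H x ≠ U) : ¬ Bin H := by
  have hcj : ∀ v ∈ U, v ≠ 1 → ∀ w ∈ U, w ≠ 1 → IsConj v w :=
    fun v hv hv1 w hw hw1 => (hconj v hv hv1).trans (hconj w hw hw1).symm
  obtain ⟨w, hwU, hw⟩ : ∃ w ∈ U, w ∉ rSub H x := by
    by_contra! h
    exact hlt (le_antisymm (hle x hx hx1) h)
  have hw1 : w ≠ 1 := fun e => hw (e ▸ one_mem _)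
  refine not_bin_of_disjoint (x := x) (z := w) (fun g hg hg' => ?_) fun h => ?_
  · by_contra hg1
    have hgU : g ∈ U := hle x hx hx1 hg
    have e1 := rSub_eq hg (hcj g hgU hg1 x hx hx1)
    have e2 := rSub_eq hg' (hcj g hgU hg1 w hwU hw1)
    exact hw (e1 ▸ e2 ▸ mem_rSub_self H w)
  · have hy1 : x⁻¹ * w ≠ 1 := fun e => hw ((inv_mul_eq_one.1 e) ▸ mem_rSub_self H x)
    have hyU : x⁻¹ * w ∈ U := U.mul_mem (U.inv_mem hx) hwU
    have e1 := rSub_eq h (hcj x hx hx1 _ hyU hy1)
    have hy : x⁻¹ * w ∈ rSub H x := e1 ▸ mem_rSub_self H _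
    have := (rSub H x).mul_mem (mem_rSub_self H x) hy
    rw [mul_inv_cancel_left] at this
    exact hw this

/-- Binarity transports along isomorphisms. -/
theorem bin_map {G' : Type*} [Group G'] (e : G ≃* G') (H : Subgroup G) (hb : Bin H) :
    Bin (H.map e.toMonoidHom) := by
  have key : ∀ g a b : G, g • (a : G ⧸ H) = (b : G ⧸ H) ↔
      e g • ((e a : G') : G' ⧸ H.map e.toMonoidHom) = ((e b : G') : G' ⧸ H.map e.toMonoidHom) := by
    intro g a b
    rw [MulAction.Quotient.smul_coe, MulAction.Quotient.smul_coe, smul_eq_mul, smul_eq_mul,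
      QuotientGroup.eq, QuotientGroup.eq, ← map_mul, ← map_inv, ← map_mul]
    exact (Subgroup.mem_map_iff_mem e.injective).symm
  intro n I J hn hp
  choose a ha using fun i => QuotientGroup.mk_surjective (I i)
  choose b hbb using fun i => QuotientGroup.mk_surjective (J i)
  have tr : ∀ g i, g • ((e.symm (a i) : G) : G ⧸ H) = ((e.symm (b i) : G) : G ⧸ H) ↔
      e g • I i = J i :=
    fun g i => by rw [key, e.apply_symm_apply, e.apply_symm_apply, ha, hbb]
  obtain ⟨g, hg⟩ := hb n (fun i => ((e.symm (a i) : G) : G ⧸ H))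
    (fun i => ((e.symm (b i) : G) : G ⧸ H)) hn (fun i j hij => by
      obtain ⟨g', h1, h2⟩ := hp i j hij
      refine ⟨e.symm g', (tr _ i).2 ?_, (tr _ j).2 ?_⟩ <;> rw [e.apply_symm_apply] <;> assumption)
  exact ⟨e g, fun i => (tr g i).1 (hg i)⟩

/-- Binarity is invariant under conjugation. -/
theorem bin_conj_iff (c : G) (H : Subgroup G) :
    Bin (H.map (MulAut.conj c).toMonoidHom) ↔ Bin H := by
  refine ⟨fun h => ?_, bin_map (MulAut.conj c) H⟩
  have := bin_map (MulAut.conj c⁻¹) _ h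
  rwa [Subgroup.map_map, show (MulAut.conj c⁻¹).toMonoidHom.comp (MulAut.conj c).toMonoidHom =
    MonoidHom.id G from MonoidHom.ext fun g => by simp [mul_assoc], Subgroup.map_id] at this

theorem bin_bot : Bin (⊥ : Subgroup G) := by
  have key : ∀ {a t : G}, At (⊥ : Subgroup G) a t → a = 1 := fun {a t} h => by
    have h : t⁻¹ * a * t = 1 := Subgroup.mem_bot.1 h
    simpa [mul_assoc] using congrArg (fun u => t * u * t⁻¹) h
  refine bin_of_product ⊥ ?_ ?_
  · intro t₁ t₂ t₃ a b ha _ _ ha1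
    exact absurd (key ha) ha1
  · intro t₁ t₂ a ha _ ha1
    exact absurd (key ha) ha1

end Cfsg.Agent.Chars.PSLBinary
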