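import Cfsg.Agent.Chars.PSLBinaryCrit
import Cfsg.Agent.Linear.PSL2Borel
import Cfsg.Agent.Forms.QuadBasic
import Mathlib

/-!
Binary coset actions of `PSL₂`: subgroups of order divisible by the characteristic.
-/

set_option autoImplicit false
set_option linter.unusedSectionVars false
set_option maxHeartbeats 400000

namespace Cfsg.Agent.Chars.PSLBinary

open Matrix Cfsg.Agent.Chars.SzBinary Cfsg.Agent.Dickson Cfsg.Agent.Linear
open Cfsg.Agent.Linear.PSL2Borel

variable {F : Type*} [Field F] [Fintype F]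

local notation "SL" => Matrix.SpecialLinearGroup (Fin 2) F
local notation "PSL" => Matrix.ProjectiveSpecialLinearGroup (Fin 2) F

theorem psl_simple (h4 : 4 ≤ Fintype.card F) :
    IsSimpleGroup (Matrix.ProjectiveSpecialLinearGroup (Fin 2) F) :=
  Matrix.ProjectiveSpecialLinearGroup.rank_two_simple (by rw [Nat.card_eq_fintype_card]; omega)

/-- An element with given entries. -/
def mk (a b c d : F) (h : a * d - b * c = 1) : Matrix.SpecialLinearGroup (Fin 2) F :=
  ⟨!![a, b; c, d], by rw [Matrix.det_fin_two_of]; exact h⟩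

@[simp] theorem mk00 (a b c d : F) (h : a * d - b * c = 1) : mk a b c d h 0 0 = a := rfl
@[simp] theorem mk01 (a b c d : F) (h : a * d - b * c = 1) : mk a b c d h 0 1 = b := rfl
@[simp] theorem mk10 (a b c d : F) (h : a * d - b * c = 1) : mk a b c d h 1 0 = c := rfl
@[simp] theorem mk11 (a b c d : F) (h : a * d - b * c = 1) : mk a b c d h 1 1 = d := rfl

theorem neg_apply2 (g : SL) (i j : Fin 2) : (-g) i j = -(g i j) := by
  simp [Matrix.SpecialLinearGroup.coe_neg]

theorem UP_entries {g : SL} (h : toPSL g ∈ UP F) :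
    g.1 1 0 = 0 ∧ g.1 0 0 = g.1 1 1 ∧ g.1 0 0 ^ 2 = 1 := by
  obtain ⟨b, hb⟩ := mem_UP.1 h
  rcases toPSL_eq_iff.1 hb.symm with rfl | rfl <;> simp

theorem mem_UP_of_entries {g : SL} (h10 : g.1 1 0 = 0) (ha : g.1 0 0 ^ 2 = 1) : toPSL g ∈ UP F := by
  have hd := det_eq g
  rw [h10, mul_zero, sub_zero] at hd
  rcases sq_eq_one_iff.1 ha with h | h <;> rw [h] at hd
  · refine mem_UP.2 ⟨g.1 0 1, congrArg toPSL (ext2 ?_ ?_ ?_ ?_)⟩ <;> simp [h10, h]
    linear_combination -hd
  · refine mem_UP.2 ⟨-(g.1 0 1), toPSL_eq_iff.2 (Or.inr (ext2 ?_ ?_ ?_ ?_))⟩ <;> simp [h10, h]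
    linear_combination -hd

theorem UP_le_borelP : UP F ≤ borelP F := fun x hx => by
  obtain ⟨g, rfl⟩ := toPSL_surjective x
  exact toPSL_mem_borelP.2 (UP_entries hx).1

/-- A subgroup containing a root group but outside the Borel subgroup is everything. -/
theorem eq_top_of_UP {M : Subgroup PSL} (hU : UP F ≤ M) (hB : ¬ M ≤ borelP F) : M = ⊤ := by
  obtain ⟨x, hx, hxB⟩ := SetLike.not_le_iff_exists.1 hB
  obtain ⟨g, rfl⟩ := toPSL_surjective x
  rw [toPSL_mem_borelP] at hxB
  let N : Subgroup SL := M.comap toPSL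
  have hu : ∀ s : F, (uel s : SL) ∈ N := fun s => hU (mem_UP.2 ⟨s, rfl⟩)
  have hg : g ∈ N := hx
  have hl : ∀ s : F, (lel s : SL) ∈ N := by
    intro s
    set b := -s / (g.1 1 0 * g.1 1 0) with hb
    set t := -(g.1 0 0) / g.1 1 0 with ht
    have e : (lel s : SL) = uel t * (g * uel b * g⁻¹) * (uel t)⁻¹ := by
      have hd := det_eq g
      apply ext2 <;> simp [mul_apply2, hb, ht] <;> field_simp <;>
        first
          | ring1
          | linear_combination hd
          | linear_combination -hd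
          | linear_combination (g.1 1 0) * hd
          | linear_combination -(g.1 1 0) * hd
          | linear_combination s * g.1 0 0 * hd
          | linear_combination -(s * g.1 0 0) * hd
    rw [e]
    exact N.mul_mem (N.mul_mem (hu _) (N.mul_mem (N.mul_mem hg (hu _)) (N.inv_mem hg))) (N.inv_mem (hu _))
  have hne : ∀ k : SL, k.1 1 0 ≠ 0 → k ∈ N := by
    intro k hk
    have hd := det_eq k
    have e : k = uel ((k.1 0 0 - 1) / k.1 1 0) * lel (k.1 1 0) * uel ((k.1 1 1 - 1) / k.1 1 0) := by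
      apply ext2 <;> simp [mul_apply2] <;> field_simp <;>
        first
          | ring1
          | linear_combination hd
          | linear_combination -hd
    rw [e]
    exact N.mul_mem (N.mul_mem (hu _) (hl _)) (hu _)
  refine (Subgroup.eq_top_iff' M).2 fun x => ?_
  obtain ⟨k, rfl⟩ := toPSL_surjective x
  show k ∈ N
  by_cases hk : k.1 1 0 = 0
  · have hd := det_eq k
    rw [hk, mul_zero, sub_zero] at hd
    have h1 : k * lel 1 ∈ N := hne _ (by
      simp [mul_apply2, hk]
      exact right_ne_zero_of_mul_eq_one hd)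
    have := N.mul_mem h1 (N.inv_mem (hl 1))
    rwa [mul_inv_cancel_right] at this
  · exact hne k hk

theorem conj_UP_self {b : F} {c : PSL} (hc : c ∈ UP F) :
    c * toPSL (uel b) * c⁻¹ ∈ Subgroup.zpowers (toPSL (uel b)) := by
  obtain ⟨s, rfl⟩ := mem_UP.1 hc
  rw [← map_mul, ← map_inv, ← map_mul, uel_inv, ← uel_add, ← uel_add,
    show s + b + -s = b by ring]
  exact Subgroup.mem_zpowers _

theorem uel_ne_one {b : F} (hb : b ≠ 0) : toPSL (uel b : SL) ≠ 1 := by
  intro h
  rcases toPSL_eq_one_iff.1 h with e | e <;>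
  · have := congrArg (fun y : SL => y.1 0 1) e
    simp at this
    exact hb this

theorem rSub_le_borel (h4 : 4 ≤ Fintype.card F) {H : Subgroup PSL} (hH : H ≠ ⊤) {b : F}
    (hb : b ≠ 0) {t : PSL} (ht : At H (toPSL (uel b)) t) :
    rSub H (toPSL (uel b)) ≤ borelP F := by
  haveI := psl_simple h4
  have hne := sup_ne_top hH (uel_ne_one hb) ht (C := UP F) (fun c hc => conj_UP_self hc)
  by_contra h
  exact hne (eq_top_of_UP le_sup_right fun hle => h (le_sup_left.trans hle))

theorem rSub_UP_or (h4 : 4 ≤ Fintype.card F) {H : Subgroup PSL} (hH : H ≠ ⊤) {b : F}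
    (hb : b ≠ 0) {t : PSL} (ht : At H (toPSL (uel b)) t) :
    rSub H (toPSL (uel b)) ≤ UP F ∨ UP F ≤ rSub H (toPSL (uel b)) := by
  refine or_iff_not_imp_left.2 fun h => ?_
  obtain ⟨x, hx, hxU⟩ := SetLike.not_le_iff_exists.1 h
  obtain ⟨M, rfl⟩ := toPSL_surjective x
  have h10 := toPSL_mem_borelP.1 (rSub_le_borel h4 hH hb ht hx)
  have hd := det_eq M
  rw [h10, mul_zero, sub_zero] at hd
  have ha : (1 : F) - M.1 0 0 ^ 2 ≠ 0 := fun e =>
    hxU (mem_UP_of_entries h10 (by linear_combination -e))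
  intro y hy
  obtain ⟨r, rfl⟩ := mem_UP.1 hy
  set s := r / (1 - M.1 0 0 ^ 2) with hs
  have e : (uel r : SL) = uel s * M * (uel s)⁻¹ * M⁻¹ := by
    apply ext2 <;> simp [mul_apply2, h10, hs] <;> field_simp <;>
      first
        | ring1
        | linear_combination hd
        | linear_combination -hd
        | linear_combination r * hd
        | linear_combination -r * hd
  rw [e, map_mul, map_inv, map_mul, map_mul, map_inv]
  exact (rSub H _).mul_mem
    (conj_mem_rSub (conj_UP_self (mem_UP.2 ⟨s, rfl⟩)) hx) ((rSub H _).inv_mem hx)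

/-- Unipotent triple in odd characteristic. -/
theorem not_bin_unipotent (h2 : (2 : F) ≠ 0) {H : Subgroup PSL} {b : F} (hb : b ≠ 0)
    (hp : rSub H (toPSL (uel b)) ≤ UP F) (hm : rSub H (toPSL (uel (-b))) ≤ UP F) : ¬ Bin H := by
  let T : SL := mk 0 (-(b / 2)) (2 / b) 0 (by field_simp; ring)
  have hz : (lel (4 / b) : SL) = T * uel (-b) * T⁻¹ := by
    apply ext2 <;> simp only [mul_apply2, neg_apply2, inv00, inv01, inv10, inv11, uel00, uel01, uel10, uel11, lel00, lel01, lel10, lel11, mk00, mk01, mk10, mk11, T] <;> field_simp <;> ring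
  have hyid : (uel b : SL)⁻¹ * lel (4 / b) = -(lel (-2 / b) * uel b * (lel (-2 / b))⁻¹) := by
    apply ext2 <;> simp only [mul_apply2, neg_apply2, inv00, inv01, inv10, inv11, uel00, uel01, uel10, uel11, lel00, lel01, lel10, lel11, mk00, mk01, mk10, mk11] <;> field_simp <;> ring
  have h4 : (4 : F) ≠ 0 := by
    rw [show (4 : F) = 2 * 2 by norm_num]; exact mul_ne_zero h2 h2
  refine not_bin_of_disjoint (x := toPSL (uel b)) (z := toPSL (lel (4 / b))) (fun g hg hg' => ?_)
    fun h => ?_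
  · obtain ⟨M, rfl⟩ := toPSL_surjective g
    obtain ⟨e1, e2, e3⟩ := UP_entries (hp hg)
    rw [hz, show toPSL M = toPSL T * toPSL (T⁻¹ * M * T) * (toPSL T)⁻¹ by
      rw [← map_inv, ← map_mul, ← map_mul]; congr 1; group, map_mul, map_mul, map_inv, rSub_conj_iff] at hg'
    obtain ⟨f1, -, -⟩ := UP_entries (hm hg')
    simp only [mul_apply2, neg_apply2, inv00, inv01, inv10, inv11, uel00, uel01, uel10, uel11, lel00, lel01, lel10, lel11, mk00, mk01, mk10, mk11, T, e1] at f1
    have e01 : M.1 0 1 = 0 := by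
      field_simp at f1
      ring_nf at f1
      simpa [hb, h2, h4] using f1
    rw [toPSL_eq_one_iff]
    exact IsScal.eq_one_or ⟨e01, e1, e2⟩
  · rw [← map_inv, ← map_mul, hyid, toPSL_neg, map_mul, map_mul, map_inv] at h
    have e : toPSL (uel b : SL) = toPSL (lel (-2 / b)) *
        toPSL ((lel (-2 / b))⁻¹ * uel b * lel (-2 / b)) * (toPSL (lel (-2 / b)))⁻¹ := by
      rw [← map_inv, ← map_mul, ← map_mul]; congr 1; group
    have h' : toPSL ((lel (-2 / b))⁻¹ * uel b * lel (-2 / b)) ∈ rSub H (toPSL (uel b : SL)) :=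
      (rSub_conj_iff (x := toPSL (uel b : SL)) (toPSL (lel (-2 / b) : SL))).1 (by rw [← e]; exact h)
    obtain ⟨f1, -, -⟩ := UP_entries (hp h')
    simp only [mul_apply2, neg_apply2, inv00, inv01, inv10, inv11, uel00, uel01, uel10, uel11, lel00, lel01, lel10, lel11, mk00, mk01, mk10, mk11] at f1
    field_simp at f1
    exact h4 (by linear_combination -f1)

/-- The triple for subgroups properly between a root group and the Borel subgroup. -/
theorem not_bin_borel {H : Subgroup PSL} (hU : UP F ≤ H) (hB : H ≤ borelP F) {k : F} (hk0 : k ≠ 0)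
    (hk : k ^ 2 ≠ 1) (D : SL) (hD : toPSL D ∈ H)
    (hD00 : D.1 0 0 = k) (hD01 : D.1 0 1 = 0) (hD10 : D.1 1 0 = 0) : ¬ Bin H := by
  have hD11 : D.1 1 1 = k⁻¹ := by
    have hd := det_eq D
    rw [hD00, hD01, zero_mul, sub_zero] at hd
    exact (inv_eq_of_mul_eq_one_right hd).symm
  set c : F := (k - 1) ^ 2 / k with hc
  have hc0 : c ≠ 0 := div_ne_zero (pow_ne_zero _ (sub_ne_zero.2 fun e => hk (by rw [e, one_pow]))) hk0
  have hkk : k⁻¹ - k ≠ 0 := by
    intro e
    apply hk
    field_simp at e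
    linear_combination -e
  set c' : F := c / (k⁻¹ - k) with hc'
  have hc'0 : c' ≠ 0 := div_ne_zero hc0 hkk
  let Z : SL := mk k⁻¹ 0 c k (by field_simp; ring)
  let W : SL := mk 0 (-1) 1 0 (by ring)
  let α : F := (k⁻¹ - c - 1) / c
  let M' : SL := mk α (-1) 1 0 (by ring)
  have hZ : Z = lel c' * D⁻¹ * (lel c')⁻¹ := by
    have e : c' * (k⁻¹ - k) = c := div_mul_cancel₀ _ hkk
    apply ext2 <;> simp only [mul_apply2, neg_apply2, inv00, inv01, inv10, inv11, uel00, uel01, uel10, uel11, lel00, lel01, lel10, lel11, mk00, mk01, mk10, mk11, Z, hD00, hD01, hD10, hD11] <;> first | ring1 | linear_combination -e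
  have hW : W⁻¹ * D⁻¹ * W = D := by
    apply ext2 <;> simp only [mul_apply2, neg_apply2, inv00, inv01, inv10, inv11, uel00, uel01, uel10, uel11, lel00, lel01, lel10, lel11, mk00, mk01, mk10, mk11, W, hD00, hD01, hD10, hD11] <;> ring
  have t1 : At H (toPSL Z) (toPSL (lel c')) := by
    show (toPSL (lel c'))⁻¹ * toPSL Z * toPSL (lel c') ∈ H
    rw [← map_inv, ← map_mul, ← map_mul, hZ]
    rw [show (lel c' : SL)⁻¹ * (lel c' * D⁻¹ * (lel c')⁻¹) * lel c' = D⁻¹ by group, map_inv]
    exact H.inv_mem hD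
  have t2 : At H (toPSL Z) (toPSL (lel c' * W)) := by
    show (toPSL (lel c' * W))⁻¹ * toPSL Z * toPSL (lel c' * W) ∈ H
    rw [← map_inv, ← map_mul, ← map_mul, hZ]
    rw [show (lel c' * W : SL)⁻¹ * (lel c' * D⁻¹ * (lel c')⁻¹) * (lel c' * W) = W⁻¹ * D⁻¹ * W by group, hW]
    exact hD
  refine not_bin_of_disjoint (x := toPSL (uel 1)) (z := toPSL Z) (fun g hg hg' => ?_) fun h => ?_
  · obtain ⟨M, rfl⟩ := toPSL_surjective g
    have m1 : At H (toPSL M) 1 := hg 1 (by simpa [At] using hU (mem_UP.2 ⟨1, rfl⟩))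
    have e1 : M.1 1 0 = 0 := toPSL_mem_borelP.1 (hB (by simpa [At] using m1))
    have f1 : toPSL ((lel c')⁻¹ * M * lel c') ∈ borelP F :=
      hB (by simpa [At, map_mul, map_inv] using hg' _ t1)
    have f2 : toPSL ((lel c' * W)⁻¹ * M * (lel c' * W)) ∈ borelP F :=
      hB (by simpa [At, map_mul, map_inv] using hg' _ t2)
    rw [toPSL_mem_borelP] at f1 f2
    simp only [mul_apply2, neg_apply2, inv00, inv01, inv10, inv11, uel00, uel01, uel10, uel11, lel00, lel01, lel10, lel11, mk00, mk01, mk10, mk11, W, e1] at f1 f2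
    have e2 : M.1 0 1 = 0 := by linear_combination -f2
    have e3 : c' * (M.1 1 1 - M.1 0 0) = 0 := by linear_combination f1 + c' * c' * e2
    rw [toPSL_eq_one_iff]
    exact IsScal.eq_one_or
      ⟨e2, e1, (sub_eq_zero.1 ((mul_eq_zero.1 e3).resolve_left hc'0)).symm⟩
  · have hY : M'⁻¹ * ((uel 1 : SL)⁻¹ * Z) * M' = uel (-c) := by
      apply ext2 <;> simp only [mul_apply2, neg_apply2, inv00, inv01, inv10, inv11, uel00, uel01, uel10, uel11, lel00, lel01, lel10, lel11, mk00, mk01, mk10, mk11, M', Z, α] <;> field_simp <;>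
        first
          | ring1
          | (simp only [hc]; field_simp; ring)
    have tY : At H ((toPSL (uel 1))⁻¹ * toPSL Z) (toPSL M') := by
      show (toPSL M')⁻¹ * _ * toPSL M' ∈ H
      rw [← map_inv, ← map_inv, ← map_mul, ← map_mul, ← map_mul, hY]
      exact hU (mem_UP.2 ⟨_, rfl⟩)
    have f : toPSL (M'⁻¹ * uel 1 * M') ∈ borelP F :=
      hB (by simpa [At, map_mul, map_inv] using h _ tY)
    rw [toPSL_mem_borelP] at f
    simp only [mul_apply2, neg_apply2, inv00, inv01, inv10, inv11, uel00, uel01, uel10, uel11, lel00, lel01, lel10, lel11, mk00, mk01, mk10, mk11, M'] at f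
    norm_num at f

theorem uel_conj_class (h2 : (2 : F) = 0) {b b' : F} (hb : b ≠ 0) (hb' : b' ≠ 0) :
    IsConj (toPSL (uel b : SL)) (toPSL (uel b')) := by
  obtain ⟨s, hs⟩ := Forms.exists_sq_of_two_eq_zero h2 (b' / b)
  have hs0 : s ≠ 0 := fun e => div_ne_zero hb' hb (by simp [← hs, e])
  let d : SL := mk s 0 0 s⁻¹ (by field_simp; ring)
  refine isConj_iff.2 ⟨toPSL d, ?_⟩
  rw [← map_inv, ← map_mul, ← map_mul]
  congr 1
  field_simp at hs
  apply ext2 <;> simp only [mul_apply2, neg_apply2, inv00, inv01, inv10, inv11, uel00, uel01, uel10, uel11, lel00, lel01, lel10, lel11, mk00, mk01, mk10, mk11, d] <;> field_simp <;> first | ring1 | linear_combination hs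

/-- Subgroups of order divisible by the characteristic. -/
theorem uni_main (p : ℕ) [Fact p.Prime] [CharP F p] (h4 : 4 ≤ Fintype.card F) {H : Subgroup PSL}
    (hH : H ≠ ⊤) (hp : p ∣ Nat.card H) (hb : Bin H) :
    (2 : F) = 0 ∧ ∃ t : PSL, H.map (MulAut.conj t).toMonoidHom = UP F := by
  classical
  have top : ∀ t : PSL, H.map (MulAut.conj t).toMonoidHom ≠ ⊤ := fun t e => hH
    (Subgroup.map_injective (MulAut.conj t).injective
      (e.trans (Subgroup.map_top_of_surjective _ (MulAut.conj t).surjective).symm))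
  by_cases hex : ∃ t : PSL, UP F ≤ H.map (MulAut.conj t).toMonoidHom
  · obtain ⟨t, hU⟩ := hex
    set H2 := H.map (MulAut.conj t).toMonoidHom
    have hb2 : Bin H2 := (bin_conj_iff t H).2 hb
    have hB : H2 ≤ borelP F := by
      by_contra h
      exact top t (eq_top_of_UP hU h)
    have heq : H2 = UP F := by
      refine le_antisymm (fun x hx => ?_) hU
      obtain ⟨M, rfl⟩ := toPSL_surjective x
      have h10 := toPSL_mem_borelP.1 (hB hx)
      by_contra hn
      have hd := det_eq M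
      rw [h10, mul_zero, sub_zero] at hd
      have hk : M.1 0 0 ^ 2 ≠ 1 := fun e => hn (mem_UP_of_entries h10 e)
      refine not_bin_borel hU hB (left_ne_zero_of_mul_eq_one hd) hk (uel (-(M.1 0 1) * M.1 0 0) * M)
        ?_ ?_ ?_ ?_ hb2
      · rw [map_mul]
        exact H2.mul_mem (hU (mem_UP.2 ⟨_, rfl⟩)) hx
      · simp [mul_apply2, h10]
      · simp [mul_apply2]
        linear_combination -(M.1 0 1) * hd
      · simp [mul_apply2, h10]
    refine ⟨?_, t, heq⟩
    by_contra h2
    have hr : ∀ b : F, rSub H2 (toPSL (uel b)) ≤ UP F := fun b g hg => by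
      have hg1 := hg 1 (by simpa [At] using hU (mem_UP.2 ⟨b, rfl⟩))
      rw [← heq]
      simpa [At] using hg1
    exact not_bin_unipotent h2 one_ne_zero (hr 1) (hr _) hb2
  · exfalso
    push Not at hex
    obtain ⟨c, b, hb0, hm⟩ := exists_conj_uel p H hp
    have hat : At H (toPSL (uel b)) (toPSL c) := by
      obtain ⟨y, hy, e⟩ := hm
      rw [← e]
      simpa [At, mul_assoc] using hy
    have hlt : ∀ b' : F, b' ≠ 0 → ∀ t, At H (toPSL (uel b')) t →
        ¬ UP F ≤ rSub H (toPSL (uel b')) := fun b' _ t ht hle => hex t fun v hv =>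
      ⟨t⁻¹ * v * t, hle hv t ht, by simp [mul_assoc]⟩
    have hsub : ∀ b' : F, b' ≠ 0 → ∀ t, At H (toPSL (uel b')) t →
        rSub H (toPSL (uel b')) ≤ UP F := fun b' h0 t ht =>
      (rSub_UP_or h4 hH h0 ht).resolve_right (hlt b' h0 t ht)
    by_cases h2 : (2 : F) = 0
    · refine not_bin_of_class (U := UP F) (mem_UP.2 ⟨b, rfl⟩) (uel_ne_one hb0) ?_ ?_
        (fun e => hlt b hb0 _ hat e.ge) hb
      · intro v hv hv1
        obtain ⟨b', rfl⟩ := mem_UP.1 hv
        exact uel_conj_class h2 (fun e => hv1 (by rw [e, uel_zero, map_one])) hb0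
      · intro v hv hv1
        obtain ⟨b', rfl⟩ := mem_UP.1 hv
        have h0 : b' ≠ 0 := fun e => hv1 (by rw [e, uel_zero, map_one])
        obtain ⟨t', ht'⟩ := at_of_isConj (uel_conj_class h2 hb0 h0) hat
        exact hsub b' h0 t' ht'
    · have hneg : At H (toPSL (uel (-b))) (toPSL c) := by
        rw [← uel_inv, map_inv]
        exact at_inv hat
      exact not_bin_unipotent h2 hb0 (hsub b hb0 _ hat) (hsub _ (neg_ne_zero.2 hb0) _ hneg) hb

end Cfsg.Agent.Chars.PSLBinary
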