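import Cfsg.Agent.Chars.SelfCentralising
import Cfsg.Agent.S4441

/-!
Groups of order 7920 with disconnected prime graph are simple.
-/

set_option autoImplicit false
set_option linter.style.haveILetI false
set_option linter.unusedSectionVars false

open Cfsg Cfsg.Agent Cfsg.Agent.Blocks
open scoped Pointwise

namespace Cfsg.Agent.Chars.PrimeGraph7920

universe u

theorem cand_two : ∀ d θ : Fin 89, (d : ℕ) ∣ 7920 → (θ : ℕ) ∣ 7920 → (d : ℕ) ≠ 1 →
    ((d : ℕ) % 11 = 1 ∨ (d : ℕ) % 11 = 10) → ((θ : ℕ) % 11 = 2 ∨ (θ : ℕ) % 11 = 9) →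
    ((θ : ℕ) = (d : ℕ) + 1 ∨ (θ : ℕ) + 1 = (d : ℕ)) → (d : ℕ) = 10 := by
  decide +kernel

theorem sylow_count : ∀ n : Fin 721, (n : ℕ) ∣ 720 → (n : ℕ) % 11 = 1 →
    (n : ℕ) = 1 ∨ (n : ℕ) = 12 ∨ (n : ℕ) = 45 ∨ (n : ℕ) = 144 := by
  decide +kernel

variable {G : Type u} [Group G] [Finite G]

/-- An element of prime order fixes a point on a normalised subgroup of suitable order. -/
theorem exists_commuting {p r k : ℕ} [Fact p.Prime] [Fact r.Prime] {v : G} (hv : orderOf v = p)
    {R : Subgroup G} (hR : Nat.card R = r ^ k) (hmod : r ^ k % p ≠ 1)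
    (hN : v ∈ Subgroup.normalizer (R : Set G)) :
    ∃ y : G, orderOf y = r ∧ Commute y v := by
  classical
  haveI : Fintype R := Fintype.ofFinite R
  let f : Function.End R := fun y => ⟨v * y * v⁻¹, (Subgroup.mem_normalizer_iff.1 hN y).1 y.2⟩
  have hpow : ∀ (n : ℕ) (y : R), (((f ^ n) y : R) : G) = v ^ n * y * (v ^ n)⁻¹ := by
    intro n
    induction n with
    | zero => intro y; simp only [pow_zero, one_mul, inv_one, mul_one]; rfl
    | succ n ih =>
      intro y
      rw [pow_succ']
      show v * ((f ^ n) y : G) * v⁻¹ = _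
      rw [ih y]
      group
  have hf : f ^ p ^ 1 = 1 := by
    funext y
    apply Subtype.ext
    rw [hpow, pow_one, ← hv, pow_orderOf_eq_one]
    simp only [one_mul, inv_one, mul_one]
    rfl
  have h := Equiv.Perm.card_fixedPoints_modEq hf
  by_contra hcon
  have hfix : ∀ y : R, f y = y → y = 1 := fun y hy => by
    by_contra hy1
    have e : v * (y : G) * v⁻¹ = y := congrArg Subtype.val hy
    have hc : Commute (y : G) v := (mul_inv_eq_iff_eq_mul.1 e).symm
    have hd : orderOf (y : G) ∣ r ^ k := hR ▸ Subgroup.orderOf_dvd_natCard _ y.2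
    obtain ⟨i, -, hi⟩ := (Nat.dvd_prime_pow (Fact.out : r.Prime)).1 hd
    rcases i with _ | i
    · rw [pow_zero, orderOf_eq_one_iff] at hi
      exact hy1 (Subtype.ext hi)
    · refine hcon ⟨(y : G) ^ r ^ i, ?_, hc.pow_left _⟩
      rw [orderOf_pow' _ (pow_ne_zero _ (Fact.out : r.Prime).ne_zero), hi,
        Nat.gcd_eq_right (pow_dvd_pow r (Nat.le_succ i)),
        Nat.pow_div (Nat.le_succ i) (Fact.out : r.Prime).pos]
      simp
  have h1 : Fintype.card f.fixedPoints = 1 := by
    refine Fintype.card_eq_one_iff.2 ⟨⟨1, ?_⟩, fun y => Subtype.ext (hfix y.1 y.2)⟩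
    show f 1 = 1
    apply Subtype.ext
    simp [f]
  rw [h1, ← Nat.card_eq_fintype_card, hR] at h
  exact hmod ((show r ^ k % p = 1 % p from h).trans (Nat.mod_eq_of_lt (Fact.out : p.Prime).one_lt))

/-- Commuting elements from the Frattini argument. -/
theorem frattini_edge {p r : ℕ} [Fact p.Prime] [Fact r.Prime] (N : Subgroup G) [N.Normal]
    (hr : r ∣ Nat.card N) (hpG : p ∣ Nat.card G) (hpN : ¬ p ∣ Nat.card N)
    (hmod : ∀ k, 1 ≤ k → r ^ k ∣ Nat.card G → r ^ k % p ≠ 1) :
    ∃ x y : G, orderOf x = p ∧ orderOf y = r ∧ Commute y x := by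
  obtain ⟨R⟩ : Nonempty (Sylow r N) := inferInstance
  set R' := (R : Subgroup N).map N.subtype with hR'
  obtain ⟨k, hk⟩ := IsPGroup.iff_card.1 R.isPGroup'
  have hk' : Nat.card R' = r ^ k := by
    rw [hR', Subgroup.card_map_of_injective N.subtype_injective, hk]
  have hk1 : 1 ≤ k := by
    rcases k with _ | k
    · have := R.dvd_card_of_dvd_card hr
      rw [hk, pow_zero] at this
      exact absurd this (Fact.out : r.Prime).not_dvd_one
    · omega
  have hsup : Subgroup.normalizer (R' : Set G) ⊔ N = ⊤ := Sylow.normalizer_sup_eq_top R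
  have hidx : N.index ∣ Nat.card (Subgroup.normalizer (R' : Set G)) := by
    rw [← Subgroup.relIndex_top_right, ← hsup, Subgroup.relIndex_sup_right]
    exact Subgroup.relIndex_dvd_card _ _
  have hp : p ∣ N.index := by
    rw [← Subgroup.card_mul_index N] at hpG
    exact ((Fact.out : p.Prime).dvd_mul.1 hpG).resolve_left hpN
  obtain ⟨v, hv⟩ := exists_prime_orderOf_dvd_card' p (hp.trans hidx)
  have hv' : orderOf (v : G) = p := by rw [Subgroup.orderOf_coe]; exact hv
  obtain ⟨y, hy, hc⟩ := exists_commuting hv' hk'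
    (hmod k hk1 (hk' ▸ Subgroup.card_subgroup_dvd_card R')) v.2
  exact ⟨v, y, hv', hy, hc⟩

/-- A normal subgroup containing a Sylow subgroup sees all its conjugates. -/
theorem relIndex_normalizer {p : ℕ} [Fact p.Prime] (N : Subgroup G) [N.Normal] (P : Sylow p G)
    (hPN : (P : Subgroup G) ≤ N) :
    (Subgroup.normalizer ((P : Subgroup G) : Set G)).relIndex N =
      (Subgroup.normalizer ((P : Subgroup G) : Set G)).index := by
  set M := Subgroup.normalizer ((P : Subgroup G) : Set G)
  have h1 : N.relIndex M = N.index := by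
    rw [← Subgroup.relIndex_top_right, ← Sylow.normalizer_sup_eq_top' P hPN,
      Subgroup.relIndex_sup_right]
    rfl
  have h2 : (M ⊓ N).relIndex N * N.index = (M ⊓ N).index :=
    Subgroup.relIndex_mul_index inf_le_right
  have h3 : (N ⊓ M).relIndex M * M.index = (N ⊓ M).index :=
    Subgroup.relIndex_mul_index inf_le_right
  rw [Subgroup.inf_relIndex_right] at h2 h3
  rw [inf_comm, h1, ← h2, mul_comm] at h3
  exact (Nat.eq_of_mul_eq_mul_right (Nat.pos_of_ne_zero Subgroup.index_ne_zero_of_finite) h3).symm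

theorem le_of_index_coprime {p : ℕ} [Fact p.Prime] (N : Subgroup G) [N.Normal] (hN : ¬ p ∣ N.index)
    (Q : Subgroup G) (hQ : Nat.card Q = p) : Q ≤ N := by
  intro y hy
  have hd : orderOf (QuotientGroup.mk (s := N) y) ∣ p :=
    (orderOf_map_dvd (QuotientGroup.mk' N) y).trans (hQ ▸ Subgroup.orderOf_dvd_natCard _ hy)
  have hd' : orderOf (QuotientGroup.mk (s := N) y) ∣ N.index := orderOf_dvd_natCard _
  exact (QuotientGroup.eq_one_iff y).1 (orderOf_eq_one_iff.1
    (Nat.eq_one_of_dvd_coprimes ((Fact.out : p.Prime).coprime_iff_not_dvd.2 hN) hd hd'))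

/-- A transfer: a self-centralising-in-normaliser Sylow subgroup gives an edge. -/
theorem transfer_edge {p r : ℕ} [Fact p.Prime] [Fact r.Prime] (P : Sylow p G) (hP : Nat.card P = p)
    (hle : Subgroup.normalizer ((P : Subgroup G) : Set G) ≤
      Subgroup.centralizer ((P : Subgroup G) : Set G))
    (hr : r ∣ Nat.card G) (hne : r ≠ p) (hmod : ∀ k, 1 ≤ k → r ^ k ∣ Nat.card G → r ^ k % p ≠ 1) :
    ∃ x y : G, orderOf x = p ∧ orderOf y = r ∧ Commute y x := by
  set K := (MonoidHom.transferSylow P hle).ker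
  have hc := (MonoidHom.ker_transferSylow_isComplement' P hle).card_mul_card
  rw [hP] at hc
  change Nat.card K * p = Nat.card G at hc
  refine frattini_edge K ?_ ⟨Nat.card K, by rw [← hc, mul_comm]⟩
    (MonoidHom.not_dvd_card_ker_transferSylow P hle) hmod
  rw [← hc] at hr
  exact ((Fact.out : r.Prime).dvd_mul.1 hr).resolve_right fun h =>
    hne ((Nat.prime_dvd_prime_iff_eq Fact.out Fact.out).1 h)

theorem index_normalizer_eq {p : ℕ} [Fact p.Prime] (P Q : Sylow p G) :
    (Subgroup.normalizer ((P : Subgroup G) : Set G)).index =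
      (Subgroup.normalizer ((Q : Subgroup G) : Set G)).index := by
  exact P.card_eq_index_normalizer.symm.trans Q.card_eq_index_normalizer

theorem card_sylow_eleven {H : Type u} [Group H] [Finite H] [Fact (Nat.Prime 11)] (P : Sylow 11 H)
    (hd : 11 ∣ Nat.card H) (hd2 : ¬ 11 ^ 2 ∣ Nat.card H) : Nat.card P = 11 := by
  obtain ⟨a, ha⟩ := IsPGroup.iff_card.1 P.isPGroup'
  have h3 : 11 ∣ Nat.card P := P.dvd_card_of_dvd_card hd
  rcases a with _ | _ | a
  · rw [ha] at h3; norm_num at h3
  · rw [ha, pow_one]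
  · exact absurd ((dvd_trans (pow_dvd_pow 11 (by omega : 2 ≤ a + 1 + 1)) (dvd_of_eq ha.symm)).trans
      (Subgroup.card_subgroup_dvd_card _)) hd2

theorem le_centralizer_sylow {p : ℕ} [Fact p.Prime] (P : Sylow p G) (hP : Nat.card P = p) :
    (P : Subgroup G) ≤ Subgroup.centralizer ((P : Subgroup G) : Set G) := by
  haveI : IsCyclic (P : Subgroup G) := isCyclic_of_prime_card hP
  intro y hy
  exact Subgroup.mem_centralizer_iff.2 fun z hz =>
    congrArg Subtype.val ((IsCyclic.commGroup (α := (P : Subgroup G))).mul_comm ⟨z, hz⟩ ⟨y, hy⟩)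

theorem card_centralizer_mul_relIndex (P : Subgroup G) :
    Nat.card (Subgroup.centralizer (P : Set G)) *
      (Subgroup.centralizer (P : Set G)).relIndex (Subgroup.normalizer (P : Set G)) =
    Nat.card (Subgroup.normalizer (P : Set G)) := by
  rw [← Subgroup.relIndex_bot_left, ← Subgroup.relIndex_bot_left,
    Subgroup.relIndex_mul_relIndex _ _ _ bot_le (Subgroup.centralizer_le_normalizer _)]

theorem relIndex_dvd {p : ℕ} [Fact p.Prime] (P : Sylow p G) (hP : Nat.card P = p) :
    (Subgroup.centralizer ((P : Subgroup G) : Set G)).relIndex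
      (Subgroup.normalizer ((P : Subgroup G) : Set G)) ∣ p - 1 := by
  haveI : IsCyclic (P : Subgroup G) := isCyclic_of_prime_card hP
  have h1 : Nat.card ((Subgroup.normalizerMonoidHom (P : Subgroup G)).range) ∣
      Nat.card (MulAut (P : Subgroup G)) := Subgroup.card_subgroup_dvd_card _
  rw [← Subgroup.index_ker, Subgroup.normalizerMonoidHom_ker] at h1
  rw [IsCyclic.card_mulAut, hP, Nat.totient_prime Fact.out] at h1
  exact h1

/-- There is no group of order `495 * 2 ^ i` with 45 Sylow 11-subgroups. -/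
theorem no_forty_five [Fact (Nat.Prime 11)] : ∀ (n : ℕ) (H : Type u) [Group H] [Finite H],
    Nat.card H = n → ∀ i : ℕ, i ≤ 4 → n = 495 * 2 ^ i → ∀ P : Sylow 11 H,
    (Subgroup.normalizer ((P : Subgroup H) : Set H)).index = 45 → False := by
  intro n
  induction n using Nat.strong_induction_on with
  | _ n ih =>
  intro H _ _ hH i hi hn P h45
  classical
  subst hn
  have hsmall : 2 ^ i ≤ 16 := (Nat.pow_le_pow_right (by norm_num) hi).trans (by norm_num)
  have hd7920 : Nat.card H ∣ 7920 := hH ▸ by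
    rw [show (7920 : ℕ) = 495 * 2 ^ 4 by norm_num]; exact Nat.mul_dvd_mul_left _ (pow_dvd_pow 2 hi)
  have hP : Nat.card P = 11 := card_sylow_eleven P
    (hH ▸ dvd_mul_of_dvd_left (by norm_num) _) fun h => by have := h.trans hd7920; norm_num at this
  have hM : ∀ Q : Sylow 11 H,
      Nat.card (Subgroup.normalizer ((Q : Subgroup H) : Set H)) = 11 * 2 ^ i := fun Q => by
    have := Subgroup.card_mul_index (Subgroup.normalizer ((Q : Subgroup H) : Set H))
    rw [index_normalizer_eq Q P, h45, hH] at this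
    omega
  -- no commuting elements of orders eleven and three or five
  have hno : ∀ r, r = 3 ∨ r = 5 → ¬ ∃ x y : H, orderOf x = 11 ∧ orderOf y = r ∧ Commute y x := by
    rintro r hr ⟨x, y, hx, hy, hc⟩
    obtain ⟨Q, hQ⟩ := (IsPGroup.of_card (p := 11) (n := 1)
      (show Nat.card (Subgroup.zpowers x) = 11 ^ 1 by rw [Nat.card_zpowers, hx, pow_one])).exists_le_sylow
    have hQe : Subgroup.zpowers x = (Q : Subgroup H) := Subgroup.eq_of_le_of_card_ge hQ (by
      rw [Nat.card_zpowers, hx, card_sylow_eleven Q (hH ▸ dvd_mul_of_dvd_left (by norm_num) _)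
        fun h => by have := h.trans hd7920; norm_num at this])
    have hyC : y ∈ Subgroup.centralizer ((Q : Subgroup H) : Set H) := by
      rw [← hQe, Subgroup.mem_centralizer_iff]
      intro w hw
      obtain ⟨j, rfl⟩ := Subgroup.mem_zpowers_iff.1 hw
      exact (hc.zpow_right j).eq.symm
    have hd := Subgroup.orderOf_dvd_natCard _ (Subgroup.centralizer_le_normalizer _ hyC)
    rw [hy, hM Q] at hd
    have hrp : r.Prime := by rcases hr with rfl | rfl <;> norm_num
    rcases (Nat.Prime.dvd_mul hrp).1 hd with h | h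
    · rcases hr with rfl | rfl <;> norm_num at h
    · have := hrp.dvd_of_dvd_pow h
      rcases hr with rfl | rfl <;> norm_num at this
  have hmod3 : ∀ k, 1 ≤ k → 3 ^ k ∣ Nat.card H → 3 ^ k % 11 ≠ 1 := fun k hk1 hk => by
    have : k ≤ 2 := by
      by_contra h
      have := ((pow_dvd_pow 3 (not_le.1 h)).trans hk).trans hd7920
      norm_num at this
    interval_cases k <;> norm_num
  have hmod5 : ∀ k, 1 ≤ k → 5 ^ k ∣ Nat.card H → 5 ^ k % 11 ≠ 1 := fun k hk1 hk => by
    have : k ≤ 1 := by
      by_contra h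
      have := ((pow_dvd_pow 5 (not_le.1 h)).trans hk).trans hd7920
      norm_num at this
    interval_cases k; norm_num
  haveI : Fact (Nat.Prime 3) := ⟨by norm_num⟩
  haveI : Fact (Nat.Prime 5) := ⟨by norm_num⟩
  set C := Subgroup.centralizer ((P : Subgroup H) : Set H) with hC
  set M := Subgroup.normalizer ((P : Subgroup H) : Set H) with hMdef
  have hMC : ¬ M ≤ C := fun hle => hno 3 (Or.inl rfl)
    (transfer_edge P hP hle (hH ▸ dvd_mul_of_dvd_left (by norm_num) _) (by norm_num) hmod3)
  -- the index of the centraliser is two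
  have he : C.relIndex M = 2 := by
    have h1 := relIndex_dvd P hP
    have h2 := card_centralizer_mul_relIndex (P : Subgroup H)
    have h3 : C.relIndex M ≠ 1 := fun h => hMC (Subgroup.relIndex_eq_one.1 h)
    rw [hM P] at h2
    have h5 : ¬ 5 ∣ C.relIndex M := fun h => by
      have : 5 ∣ 11 * 2 ^ i := h2 ▸ dvd_mul_of_dvd_right h _
      interval_cases i <;> norm_num at this
    have : C.relIndex M ≤ 10 := Nat.le_of_dvd (by norm_num) h1
    set e := C.relIndex M
    clear_value e
    interval_cases e <;> omega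
  by_cases hs : ∀ N : Subgroup H, N.Normal → N = ⊥ ∨ N = ⊤
  · haveI : Nontrivial H := Finite.one_lt_card_iff_nontrivial.1 (by rw [hH]; have := Nat.one_le_two_pow (n := i); omega)
    haveI : IsSimpleGroup H := ⟨fun N hN => hs N hN⟩
    haveI := Fintype.ofFinite H
    have hna : ¬ ∀ a b : H, a * b = b * a := fun hab => hMC fun g _ =>
      Subgroup.mem_centralizer_iff.2 fun w _ => hab w g
    obtain ⟨Mi, hMmax, hpM⟩ := DegreeGraph.exists_isMaximal_mem 11
    obtain ⟨X, Y, hB, hdisj, hX, hY, εX, ε, hXp, hε, hYp, hYreg, hrel⟩ :=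
      S4441.result 11 Mi ⟨Fact.out, hMmax, hpM⟩ (by norm_num) P hP 2 he
    have hdf : ∀ χ : IrrCharacter H, (χ : H → ℂ) 1 = (charDegree (χ : H → ℂ) : ℂ) ∧
        charDegree (χ : H → ℂ) ∣ 7920 ∧ charDegree (χ : H → ℂ) < 89 := fun χ => by
      obtain ⟨h1, h2⟩ := Blocks.charDegree_eq χ.2
      obtain ⟨d, -, hd, hdd⟩ := irr_degree_dvd_card χ.2
      have hed : d = charDegree (χ : H → ℂ) := by
        rw [h1] at hd; exact_mod_cast hd.symm
      refine ⟨h1, hed ▸ hdd.trans hd7920, ?_⟩
      have hs := sum_sq_apply_one (G := H)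
      simp only [fun η : IrrCharacter H => (Blocks.charDegree_eq η.2).1] at hs
      have h3 : ∑ η : IrrCharacter H, charDegree (η : H → ℂ) ^ 2 = Nat.card H := by exact_mod_cast hs
      have h4 := Finset.single_le_sum (f := fun η : IrrCharacter H => charDegree (η : H → ℂ) ^ 2)
        (fun η _ => Nat.zero_le _) (Finset.mem_univ χ)
      rw [h3] at h4
      by_contra h5
      have := Nat.pow_le_pow_left (not_lt.1 h5) 2
      have := Nat.le_of_dvd (by norm_num) hd7920
      omega
    have h1X : oneChar H ∈ X := by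
      refine (show oneChar H ∈ X ∪ Y from hB ▸ Blocks.one_mem_principal).resolve_right fun h => ?_
      obtain ⟨k, hk⟩ := Int.modEq_iff_dvd.1 (hYp _ h).symm
      rw [DegreesBelow.charDegree_one] at hk
      rcases hε with hs | hs <;> rw [hs] at hk <;> omega
    obtain ⟨χ, hχX, hχ1⟩ : ∃ χ ∈ X, χ ≠ oneChar H := by
      by_contra hcon
      push Not at hcon
      have : Nat.card X ≤ Nat.card ({oneChar H} : Set (IrrCharacter H)) :=
        Nat.card_mono (Set.finite_singleton _) fun χ hχ => hcon χ hχ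
      rw [hX] at this
      simp at this
    have hXeq : X.toFinset = {oneChar H, χ} := by
      refine (Finset.eq_of_subset_of_card_le ?_ ?_).symm
      · intro η hη
        simp only [Finset.mem_insert, Finset.mem_singleton] at hη
        rw [Set.mem_toFinset]
        rcases hη with rfl | rfl <;> assumption
      · rw [← Set.ncard_eq_toFinset_card', ← Nat.card_coe_set_eq, hX, Finset.card_pair hχ1.symm]
    obtain ⟨⟨θ, hθ⟩⟩ := (Nat.card_pos_iff.1 (show 0 < Nat.card Y by rw [hY]; norm_num)).1
    have hsign : ∀ η ∈ X, charDegree (η : H → ℂ) % 11 = 1 ∧ εX η = 1 ∨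
        charDegree (η : H → ℂ) % 11 = 10 ∧ εX η = -1 := by
      intro η hη
      obtain ⟨hs, hc, -⟩ := hXp η hη
      obtain ⟨k, hk⟩ := Int.modEq_iff_dvd.1 hc.symm
      rcases hs with hs | hs <;> rw [hs] at hk <;> [left; right] <;> exact ⟨by omega, hs⟩
    have ho : εX (oneChar H) = 1 := by
      rcases hsign _ h1X with ⟨-, h⟩ | ⟨h, -⟩
      · exact h
      · rw [DegreesBelow.charDegree_one] at h; omega
    have hr := hrel θ hθ 1 (by rw [orderOf_one]; norm_num)
    rw [← Set.coe_toFinset X, finsum_mem_coe_finset, hXeq, Finset.sum_pair hχ1.symm, ho,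
      (hdf θ).1, (hdf χ).1, (hdf (oneChar H)).1, DegreesBelow.charDegree_one] at hr
    have hr' : ε * (charDegree (θ : H → ℂ) : ℤ) = 1 + εX χ * (charDegree (χ : H → ℂ) : ℤ) := by
      have : ((ε * (charDegree (θ : H → ℂ) : ℤ) : ℤ) : ℂ) =
          ((1 + εX χ * (charDegree (χ : H → ℂ) : ℤ) : ℤ) : ℂ) := by
        push_cast at hr ⊢
        linear_combination hr
      exact_mod_cast this
    have hd1 : charDegree (χ : H → ℂ) ≠ 1 := fun h => hχ1 (Subtype.ext
      (SimpleDeg.eq_one_of_degree_one hna (by rw [(hdf χ).1, h, Nat.cast_one])))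
    have hθmod : charDegree (θ : H → ℂ) % 11 = 2 ∨ charDegree (θ : H → ℂ) % 11 = 9 := by
      obtain ⟨k, hk⟩ := Int.modEq_iff_dvd.1 (hYp θ hθ).symm
      rcases hε with hs | hs <;> rw [hs] at hk <;> omega
    have h10 : charDegree (χ : H → ℂ) = 10 := cand_two ⟨_, (hdf χ).2.2⟩ ⟨_, (hdf θ).2.2⟩ (hdf χ).2.1
      (hdf θ).2.1 hd1 ((hsign χ hχX).imp And.left And.left) hθmod (by
        simp only
        rcases hε with e1 | e1 <;> rcases hsign χ hχX with ⟨-, e2⟩ | ⟨-, e2⟩ <;>
          rw [e1, e2] at hr' <;> omega)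
    have hCP : C = P := by
      refine SelfCentralising.centralizer_eq_of_degree_pred (by norm_num) P hP h10
        fun x hx hx1 y hy hyp => ?_
      rw [(hXp χ hχX).2.2 x hx hx1 y hy hyp]
      rcases hsign χ hχX with ⟨h1, -⟩ | ⟨-, h2⟩
      · omega
      · rw [h2]; simp
    have h2 := card_centralizer_mul_relIndex (P : Subgroup H)
    rw [← hC, ← hMdef, he, hCP, hP, hM P] at h2
    have hi1 : i = 1 := by interval_cases i <;> omega
    subst hi1
    haveI : Fact (Nat.Prime 2) := ⟨Nat.prime_two⟩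
    obtain ⟨S⟩ : Nonempty (Sylow 2 H) := inferInstance
    have hS : Nat.card S = 2 := by
      obtain ⟨a, ha⟩ := IsPGroup.iff_card.1 S.isPGroup'
      have h3 : 2 ∣ Nat.card S := S.dvd_card_of_dvd_card (hH ▸ by norm_num)
      have h4 : Nat.card S ∣ 990 :=
        (Subgroup.card_subgroup_dvd_card (S : Subgroup H)).trans (dvd_of_eq (hH.trans (by norm_num)))
      rw [ha] at h3 h4 ⊢
      rcases a with _ | _ | a
      · norm_num at h3
      · norm_num
      · have := (pow_dvd_pow 2 (by omega : 2 ≤ a + 1 + 1)).trans h4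
        norm_num at this
    have hle : Subgroup.normalizer ((S : Subgroup H) : Set H) ≤
        Subgroup.centralizer ((S : Subgroup H) : Set H) := fun g hg =>
      Subgroup.mem_centralizer_iff.2 fun w hw => by
        by_cases hw1 : w = 1
        · subst hw1; simp
        · have hmem : g * w * g⁻¹ ∈ (S : Subgroup H) := (Subgroup.mem_normalizer_iff.1 hg w).1 hw
          haveI : Fintype (S : Subgroup H) := Fintype.ofFinite _
          have : g * w * g⁻¹ = w := by
            by_contra hne
            set T : Finset (S : Subgroup H) :=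
              {1, (⟨w, hw⟩ : (S : Subgroup H)), (⟨g * w * g⁻¹, hmem⟩ : (S : Subgroup H))} with hT
            have h3 : T.card = 3 := by
              refine Finset.card_eq_three.2 ⟨_, _, _, ?_, ?_, ?_, rfl⟩
              · exact fun h => hw1 (congrArg Subtype.val h).symm
              · exact fun h => hw1 (conj_eq_one_iff.1 (congrArg Subtype.val h).symm)
              · exact fun h => hne (congrArg Subtype.val h).symm
            have := h3 ▸ Finset.card_le_univ T
            rw [← Nat.card_eq_fintype_card, hS] at this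
            omega
          exact (mul_inv_eq_iff_eq_mul.1 this).symm
    have hc := (MonoidHom.ker_transferSylow_isComplement' S hle).card_mul_card
    rw [hS, hH] at hc
    rcases hs _ (MonoidHom.normal_ker (MonoidHom.transferSylow S hle)) with h | h
    · rw [h, Subgroup.card_bot] at hc; norm_num at hc
    · rw [h, Subgroup.card_top, hH] at hc; norm_num at hc
  push Not at hs
  obtain ⟨N, hN, hNb, hNt⟩ := hs
  haveI := hN
  have hmul := Subgroup.card_mul_index N
  rw [hH] at hmul
  have hidx1 : N.index ≠ 1 := fun h => hNt (Subgroup.index_eq_one.1 h)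
  have hN1 : Nat.card N ≠ 1 := fun h => hNb (Subgroup.card_eq_one.1 h)
  by_cases h11 : 11 ∣ Nat.card N
  · have hPN : (P : Subgroup H) ≤ N := le_of_index_coprime N (fun h => by
      have := Nat.mul_dvd_mul h11 h
      rw [hmul] at this
      have := this.trans (hH ▸ hd7920)
      norm_num at this) P hP
    have h45' : M.relIndex N = 45 := (relIndex_normalizer N P hPN).trans h45
    have hd45 : 45 ∣ Nat.card N := h45' ▸ Subgroup.relIndex_dvd_card _ _
    obtain ⟨m, hm⟩ : 495 ∣ Nat.card N := Nat.Coprime.mul_dvd_of_dvd_of_dvd (by norm_num : Nat.Coprime 45 11) hd45 h11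
    have hm2 : m ∣ 2 ^ i := Nat.dvd_of_mul_dvd_mul_left (k := 495) (by norm_num) (hm ▸ ⟨_, hmul.symm⟩)
    obtain ⟨j, hj, rfl⟩ := (Nat.dvd_prime_pow Nat.prime_two).1 hm2
    have hlt : Nat.card N < 495 * 2 ^ i := by
      rw [← hmul]
      exact lt_mul_of_one_lt_right Nat.card_pos
        (Nat.lt_of_le_of_ne (Nat.one_le_iff_ne_zero.2 Subgroup.index_ne_zero_of_finite) hidx1.symm)
    refine ih _ hlt N rfl j (hj.trans hi) hm (P.subtype hPN) ?_
    rw [P.coe_subtype hPN, ← Subgroup.subgroupOf_normalizer_eq hPN]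
    exact h45'
  -- the normal subgroup is a 2-group
  have h35 : ∀ r, r = 3 ∨ r = 5 → ¬ r ∣ Nat.card N := by
    intro r hr h
    refine hno r hr ?_
    rcases hr with rfl | rfl
    · exact frattini_edge N h (hH ▸ dvd_mul_of_dvd_left (by norm_num) _) h11 hmod3
    · exact frattini_edge N h (hH ▸ dvd_mul_of_dvd_left (by norm_num) _) h11 hmod5
  obtain ⟨k, hk, hNk⟩ : ∃ k, k ≤ i ∧ Nat.card N = 2 ^ k := by
    refine (Nat.dvd_prime_pow Nat.prime_two).1 ?_
    have hd : Nat.card N ∣ 3 ^ 2 * 5 * 11 * 2 ^ i := ⟨_, hmul.symm⟩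
    have c3 : Nat.Coprime (Nat.card N) (3 ^ 2) :=
      ((Nat.prime_three.coprime_iff_not_dvd.2 (h35 3 (Or.inl rfl))).symm).pow_right 2
    have c5 : Nat.Coprime (Nat.card N) 5 :=
      ((Fact.out : Nat.Prime 5).coprime_iff_not_dvd.2 (h35 5 (Or.inr rfl))).symm
    have c11 : Nat.Coprime (Nat.card N) 11 := ((Fact.out : Nat.Prime 11).coprime_iff_not_dvd.2 h11).symm
    exact Nat.Coprime.dvd_of_dvd_mul_left ((c3.mul_right c5).mul_right c11) hd
  have hk0 : k ≠ 0 := fun h => hN1 (by rw [hNk, h, pow_zero])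
  have hQc : Nat.card (H ⧸ N) = 495 * 2 ^ (i - k) := by
    rw [← Subgroup.index_eq_card]
    refine Nat.eq_of_mul_eq_mul_left (n := 2 ^ k) (pow_pos (by norm_num) k) ?_
    rw [← hNk, hmul, hNk, mul_left_comm, ← pow_add, Nat.add_sub_cancel' hk]
  set π := QuotientGroup.mk' N
  have hπ : Function.Surjective π := QuotientGroup.mk'_surjective N
  let P' : Sylow 11 (H ⧸ N) := P.mapSurjective hπ
  set n' := (Subgroup.normalizer ((P' : Subgroup (H ⧸ N)) : Set (H ⧸ N))).index with hn'
  have hd45 : n' ∣ 45 := by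
    rw [← h45]
    refine (Subgroup.index_dvd_of_le ?_).trans (Subgroup.index_map_dvd M hπ)
    exact Subgroup.le_normalizer_map π
  have hmod : n' % 11 = 1 := by
    have h0 := card_sylow_modEq_one 11 (H ⧸ N)
    rw [P'.card_eq_index_normalizer] at h0
    exact h0
  have hcase : n' = 1 ∨ n' = 45 := by
    have : n' ≤ 45 := Nat.le_of_dvd (by norm_num) hd45
    interval_cases n' <;> omega
  rcases hcase with h | h
  · haveI hn : (P' : Subgroup (H ⧸ N)).Normal :=
      Subgroup.normalizer_eq_top_iff.1 (Subgroup.index_eq_one.1 h)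
    set W := (P' : Subgroup (H ⧸ N)).comap π
    have hPW : (P : Subgroup H) ≤ W := Subgroup.map_le_iff_le_comap.1 le_rfl
    have h45' : M.relIndex W = 45 := (relIndex_normalizer W P hPW).trans h45
    have hW : Nat.card W = Nat.card N * 11 := by
      have e1 := Subgroup.card_mul_index W
      rw [Subgroup.index_comap_of_surjective _ hπ, hH] at e1
      have e2 := Subgroup.card_mul_index (P' : Subgroup (H ⧸ N))
      rw [card_sylow_eleven P' (hQc ▸ dvd_mul_of_dvd_left (by norm_num) _)
        (fun h => by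
          have := (h.trans (Subgroup.card_quotient_dvd_card N)).trans hd7920
          norm_num at this), hQc] at e2
      refine Nat.eq_of_mul_eq_mul_right (Nat.pos_of_ne_zero
        (Subgroup.index_ne_zero_of_finite (H := (P' : Subgroup (H ⧸ N))))) ?_
      rw [e1, mul_assoc, e2, hNk, mul_left_comm, ← pow_add, Nat.add_sub_cancel' hk]
    have hd := h45' ▸ Subgroup.relIndex_dvd_card M W
    rw [hW, hNk] at hd
    have : k ≤ 4 := hk.trans hi
    interval_cases k <;> norm_num at hd
  · refine ih _ ?_ (H ⧸ N) hQc (i - k) (by omega) rfl P' h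
    exact Nat.mul_lt_mul_of_pos_left (Nat.pow_lt_pow_right (by norm_num) (by omega)) (by norm_num)

/-- Commuting elements of prime orders `r` and `s`. -/
def Edge (G : Type u) [Group G] (r s : ℕ) : Prop :=
  ∃ x y : G, orderOf x = r ∧ orderOf y = s ∧ Commute y x

/-- A group of order 7920 is simple or has a connected prime graph. -/
theorem simple_or_connected [Fact (Nat.Prime 11)] (hG : Nat.card G = 7920) :
    IsSimpleGroup G ∨ Edge G 11 2 ∧ Edge G 11 3 ∧ (Edge G 11 5 ∨ Edge G 5 3) := by
  classical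
  haveI : Fact (Nat.Prime 2) := ⟨by norm_num⟩
  haveI : Fact (Nat.Prime 3) := ⟨by norm_num⟩
  haveI : Fact (Nat.Prime 5) := ⟨by norm_num⟩
  obtain ⟨P⟩ : Nonempty (Sylow 11 G) := inferInstance
  have hP : Nat.card P = 11 := card_sylow_eleven P (by rw [hG]; norm_num) (by rw [hG]; norm_num)
  set C := Subgroup.centralizer ((P : Subgroup G) : Set G) with hCdef
  set M := Subgroup.normalizer ((P : Subgroup G) : Set G) with hMdef
  have hmul : Nat.card M * M.index = 7920 := by rw [Subgroup.card_mul_index, hG]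
  have hn : M.index = 1 ∨ M.index = 12 ∨ M.index = 45 ∨ M.index = 144 := by
    have h0 := card_sylow_modEq_one 11 G
    rw [P.card_eq_index_normalizer] at h0
    have h11 : 11 ∣ Nat.card M := hP ▸ Subgroup.card_dvd_of_le Subgroup.le_normalizer
    obtain ⟨m, hm⟩ := h11
    rw [hm, mul_assoc] at hmul
    have hd : M.index ∣ 720 := ⟨m, by rw [mul_comm]; omega⟩
    exact sylow_count ⟨M.index, Nat.lt_succ_of_le (Nat.le_of_dvd (by norm_num) hd)⟩ hd h0
  have he : C.relIndex M ∣ 10 := relIndex_dvd P hP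
  have hCM : Nat.card C * C.relIndex M = Nat.card M := card_centralizer_mul_relIndex (P : Subgroup G)
  obtain ⟨x, hx⟩ := exists_prime_orderOf_dvd_card' (G := (P : Subgroup G)) 11 (by rw [hP])
  have hx' : orderOf (x : G) = 11 := by rw [Subgroup.orderOf_coe]; exact hx
  have hedge : ∀ r, r.Prime → r ∣ Nat.card C → Edge G 11 r := fun r hr h => by
    haveI : Fact r.Prime := ⟨hr⟩
    obtain ⟨y, hy⟩ := exists_prime_orderOf_dvd_card' (G := C) r h
    exact ⟨x, y, hx', by rw [Subgroup.orderOf_coe]; exact hy,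
      (Subgroup.mem_centralizer_iff.1 y.2 (x : G) x.2).symm⟩
  have hmod5 : ∀ k, 1 ≤ k → 3 ^ k ∣ 7920 → 3 ^ k % 5 ≠ 1 := fun k hk1 hk => by
    have : k ≤ 2 := by
      by_contra h
      have := (pow_dvd_pow 3 (not_le.1 h)).trans hk
      norm_num at this
    interval_cases k <;> norm_num
  -- the cases in which the centraliser is large
  have big : (∀ e, e ∣ 10 → ∀ c, c * e = Nat.card M → 2 ∣ c ∧ 3 ∣ c) → 5 ∣ Nat.card M →
      Edge G 11 2 ∧ Edge G 11 3 ∧ (Edge G 11 5 ∨ Edge G 5 3) := by
    intro h h5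
    obtain ⟨h2, h3⟩ := h _ he _ hCM
    refine ⟨hedge 2 Nat.prime_two h2, hedge 3 Nat.prime_three h3, ?_⟩
    by_cases h5C : 5 ∣ Nat.card C
    · exact Or.inl (hedge 5 Fact.out h5C)
    right
    have hcard : Nat.card (C.subgroupOf M) = Nat.card C :=
      Nat.card_congr (Subgroup.subgroupOfEquivOfLe (Subgroup.centralizer_le_normalizer _)).toEquiv
    haveI : (C.subgroupOf M).Normal := by
      rw [hCdef, hMdef, ← Subgroup.normalizerMonoidHom_ker]
      exact MonoidHom.normal_ker _
    obtain ⟨v, y, hv, hy, hc⟩ := frattini_edge (p := 5) (r := 3) (C.subgroupOf M) (hcard ▸ h3) h5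
      (hcard ▸ h5C) fun k hk1 hk => hmod5 k hk1 (hk.trans (hG ▸ Subgroup.card_subgroup_dvd_card M))
    exact ⟨v, y, by rw [Subgroup.orderOf_coe]; exact hv, by rw [Subgroup.orderOf_coe]; exact hy,
      hc.map M.subtype⟩
  rcases hn with h | h | h | h <;> rw [h] at hmul
  · refine Or.inr (big (fun e he c hc => ?_) (by rw [show Nat.card M = 7920 by omega]; norm_num))
    rw [show Nat.card M = 7920 by omega] at hc
    have := Nat.le_of_dvd (by norm_num) he
    interval_cases e <;> omega
  · refine Or.inr (big (fun e he c hc => ?_) (by rw [show Nat.card M = 660 by omega]; norm_num))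
    rw [show Nat.card M = 660 by omega] at hc
    have := Nat.le_of_dvd (by norm_num) he
    interval_cases e <;> omega
  · exact (no_forty_five 7920 G hG 4 le_rfl (by norm_num) P h).elim
  have hM55 : Nat.card M = 55 := by omega
  rw [hM55] at hCM
  have hmod : ∀ r, r = 2 ∨ r = 3 ∨ r = 5 → ∀ k, 1 ≤ k → r ^ k ∣ 7920 → r ^ k % 11 ≠ 1 := by
    intro r hr k hk1 hk
    have : k ≤ 4 := by
      by_contra h
      have := (pow_dvd_pow r (not_le.1 h)).trans hk
      rcases hr with rfl | rfl | rfl <;> norm_num at this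
    rcases hr with rfl | rfl | rfl <;> interval_cases k <;> first | (norm_num at hk; done) | decide
  by_cases hle : M ≤ C
  · refine Or.inr ⟨?_, ?_, Or.inl ?_⟩
    · exact transfer_edge P hP hle (by rw [hG]; norm_num) (by norm_num) (hG ▸ hmod 2 (Or.inl rfl))
    · exact transfer_edge P hP hle (by rw [hG]; norm_num) (by norm_num)
        (hG ▸ hmod 3 (Or.inr (Or.inl rfl)))
    · exact transfer_edge P hP hle (by rw [hG]; norm_num) (by norm_num)
        (hG ▸ hmod 5 (Or.inr (Or.inr rfl)))
  have hC : Nat.card C = 11 := by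
    have h1 : C.relIndex M ≠ 1 := fun h => hle (Subgroup.relIndex_eq_one.1 h)
    have := Nat.le_of_dvd (by norm_num) he
    set e := C.relIndex M
    clear_value e
    interval_cases e <;> omega
  have hC' : ∀ r, r.Prime → r ≠ 11 → ¬ Edge G 11 r := by
    rintro r hr hne ⟨a, b, ha, hb, hc⟩
    obtain ⟨Q, hQ⟩ := (IsPGroup.of_card (p := 11) (n := 1)
      (show Nat.card (Subgroup.zpowers a) = 11 ^ 1 by rw [Nat.card_zpowers, ha, pow_one])).exists_le_sylow
    have hQe : Subgroup.zpowers a = (Q : Subgroup G) := Subgroup.eq_of_le_of_card_ge hQ (by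
      rw [Nat.card_zpowers, ha, card_sylow_eleven Q (by rw [hG]; norm_num) (by rw [hG]; norm_num)])
    obtain ⟨g, hg⟩ := MulAction.exists_smul_eq G Q P
    have hgQ : MulAut.conj g • (Q : Subgroup G) = P := by rw [← hg]; rfl
    have hmem : g * b * g⁻¹ ∈ C := by
      rw [hCdef, Subgroup.mem_centralizer_iff]
      intro w hw
      rw [← hgQ, Subgroup.pointwise_smul_def] at hw
      obtain ⟨z, hz, rfl⟩ := Subgroup.mem_map.1 hw
      rw [← hQe] at hz
      obtain ⟨j, rfl⟩ := Subgroup.mem_zpowers_iff.1 hz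
      have hj := (hc.zpow_right j).eq
      show g * a ^ j * g⁻¹ * (g * b * g⁻¹) = g * b * g⁻¹ * (g * a ^ j * g⁻¹)
      calc _ = g * (a ^ j * b) * g⁻¹ := by group
        _ = g * (b * a ^ j) * g⁻¹ := by rw [hj]
        _ = _ := by group
    have := Subgroup.orderOf_dvd_natCard _ hmem
    rw [hC, show g * b * g⁻¹ = MulAut.conj g b from rfl, MulEquiv.orderOf_eq, hb] at this
    exact hne ((Nat.prime_dvd_prime_iff_eq hr Fact.out).1 this)
  left
  haveI : Nontrivial G := Finite.one_lt_card_iff_nontrivial.1 (by omega)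
  refine ⟨fun N hN => ?_⟩
  haveI := hN
  by_cases hNb : N = ⊥
  · exact Or.inl hNb
  right
  by_contra hNt
  have hNmul := Subgroup.card_mul_index N
  rw [hG] at hNmul
  by_cases h11 : 11 ∣ Nat.card N
  · have hi11 : ¬ 11 ∣ N.index := fun h => by
      have := Nat.mul_dvd_mul h11 h
      rw [hNmul] at this
      norm_num at this
    have hPN := le_of_index_coprime N hi11 P hP
    have h144 : M.relIndex N = 144 := (relIndex_normalizer N P hPN).trans h
    obtain ⟨m, hm⟩ : 1584 ∣ Nat.card N :=
      Nat.Coprime.mul_dvd_of_dvd_of_dvd (by norm_num : Nat.Coprime 144 11)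
        (h144 ▸ Subgroup.relIndex_dvd_card M N) h11
    have hm1 : m = 1 := by
      have hmd : m * N.index = 5 := by rw [hm, mul_assoc] at hNmul; omega
      have hne : N.index ≠ 1 := fun h => hNt (Subgroup.index_eq_one.1 h)
      have h5 : m ∣ 5 := ⟨_, hmd.symm⟩
      rcases (Nat.dvd_prime (by norm_num)).1 h5 with rfl | rfl
      · rfl
      · omega
    rw [hm1] at hm
    let Q : Sylow 11 N := P.subtype hPN
    have hQ : Nat.card Q = 11 :=
      card_sylow_eleven Q (by rw [hm]; norm_num) (by rw [hm]; norm_num)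
    have hQM : Nat.card (Subgroup.normalizer ((Q : Subgroup N) : Set N)) = 11 := by
      have h1 := Subgroup.card_mul_index (Subgroup.normalizer ((Q : Subgroup N) : Set N))
      have h2 : (Subgroup.normalizer ((Q : Subgroup N) : Set N)).index = 144 := by
        rw [P.coe_subtype hPN, ← Subgroup.subgroupOf_normalizer_eq hPN]
        exact h144
      rw [h2, hm] at h1
      omega
    have hle' : Subgroup.normalizer ((Q : Subgroup N) : Set N) ≤
        Subgroup.centralizer ((Q : Subgroup N) : Set N) := by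
      have : (Q : Subgroup N) = Subgroup.normalizer ((Q : Subgroup N) : Set N) :=
        Subgroup.eq_of_le_of_card_ge Subgroup.le_normalizer (by rw [hQM, hQ])
      intro y hy
      rw [← this] at hy
      exact le_centralizer_sylow Q hQ hy
    obtain ⟨a, b, ha, hb, hc⟩ := transfer_edge (r := 2) Q hQ hle' (by rw [hm]; norm_num) (by norm_num)
      fun k hk1 hk => hmod 2 (Or.inl rfl) k hk1 (hk.trans (hG ▸ Subgroup.card_subgroup_dvd_card N))
    exact hC' 2 Nat.prime_two (by norm_num) ⟨a, b, by rw [Subgroup.orderOf_coe]; exact ha,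
      by rw [Subgroup.orderOf_coe]; exact hb, hc.map N.subtype⟩
  · obtain ⟨r, hr, hrN⟩ := Nat.exists_prime_and_dvd (fun h => hNb (Subgroup.card_eq_one.1 h) :
      Nat.card N ≠ 1)
    haveI : Fact r.Prime := ⟨hr⟩
    have hr11 : r ≠ 11 := fun h => h11 (h ▸ hrN)
    have hr' : r = 2 ∨ r = 3 ∨ r = 5 := by
      have hd : r ∣ 2 ^ 4 * 3 ^ 2 * 5 * 11 := hrN.trans ⟨_, hNmul.symm⟩
      rcases (Nat.Prime.dvd_mul hr).1 hd with h | h
      · rcases (Nat.Prime.dvd_mul hr).1 h with h | h
        · rcases (Nat.Prime.dvd_mul hr).1 h with h | h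
          · exact Or.inl ((Nat.prime_dvd_prime_iff_eq hr Nat.prime_two).1 (hr.dvd_of_dvd_pow h))
          · exact Or.inr (Or.inl ((Nat.prime_dvd_prime_iff_eq hr Nat.prime_three).1 (hr.dvd_of_dvd_pow h)))
        · exact Or.inr (Or.inr ((Nat.prime_dvd_prime_iff_eq hr Fact.out).1 h))
      · exact absurd ((Nat.prime_dvd_prime_iff_eq hr Fact.out).1 h) hr11
    exact hC' r hr hr11 (frattini_edge N hrN (by rw [hG]; norm_num) h11 (hG ▸ hmod r hr'))

end Cfsg.Agent.Chars.PrimeGraph7920
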