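import Cfsg.Agent.Chars.RationalPGroup
import Cfsg.Agent.Chars.InvariantAbove
import Cfsg.Agent.Chars2.Clifford
import Cfsg.Agent.Chars2.DegreeRatio
import Cfsg.Agent.Chars2.DegreeInherit
import Cfsg.Agent.Chars2.Ramified
import Cfsg.Agent.Chars2.Correspondence
import Cfsg.Agent.Chars2.GoingDown
import Cfsg.Agent.Chars2.Homogeneous
import Mathlib.GroupTheory.Solvable

/-! A faithful irreducible character of a solvable group with a Sylow `p`-subgroup which is not
normal has degree divisible by a prime power congruent to `-1`, `0` or `1` modulo `p`. -/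

set_option autoImplicit false
set_option linter.style.haveILetI false
set_option linter.unusedSectionVars false

open Cfsg Cfsg.Agent
open scoped ComplexConjugate commutatorElement

namespace Cfsg.Agent.Chars.PrimePower

universe u

variable {G : Type u} [Group G] [Fintype G] {p : ℕ} [hp : Fact p.Prime]

noncomputable local instance (priority := high) fintypeSub (K : Subgroup G) : Fintype K :=
  Fintype.ofFinite _

/-- There is a normal Sylow `p`-subgroup. -/
def HasNormalSylow (p : ℕ) (G : Type u) [Group G] : Prop :=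
  ∃ S : Subgroup G, S.Normal ∧ IsPGroup p S ∧ ¬ p ∣ S.index

theorem card_lt_of_ne_top {H : Subgroup G} (h : H ≠ ⊤) : Nat.card H < Nat.card G :=
  (Subgroup.card_le_card_group H).lt_of_ne fun he => h (Subgroup.eq_top_of_card_eq H he)

/-- A character whose restriction to a subgroup is irreducible is irreducible. -/
theorem isIrr_of_restrict {χ : G → ℂ} (hχ : IsCharacter G χ) (N : Subgroup G)
    (h : IsIrrCharacter N (fun x : N => χ x)) : IsIrrCharacter G χ := by
  classical
  refine isIrrCharacter_of_norm_one hχ ?_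
  obtain ⟨c, hc⟩ := Chars2.exists_multiplicities hχ
  have hval : ∀ x : G, χ x = ∑ ζ : IrrCharacter G, (c ζ : ℂ) * (ζ : G → ℂ) x := fun x => by
    refine (Chars2.apply_eq_sum (isClassFunction_of_isCharacter hχ) x).trans ?_
    simp only [hc]
  choose M hM using fun a b : IrrCharacter G =>
    exists_classInner_eq_nat (isCharacter_restrict (irr_isCharacter a) N)
      (isCharacter_restrict (irr_isCharacter b) N)
  have hdiag : ∀ a, 1 ≤ M a a := by
    intro a
    by_contra hlt
    have h0 : classInner (fun x : N => (a : G → ℂ) x) (fun x : N => (a : G → ℂ) x) = 0 := by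
      rw [hM, show M a a = 0 by omega, Nat.cast_zero]
    exact irr_apply_one_ne_zero a.2 (congrFun (Chars2.eq_zero_of_norm_zero h0) 1)
  have h1 : ∑ a, ∑ b, c b * c a * M a b = 1 := by
    have h2 := classInner_self_irr h
    rw [show (fun x : N => χ x) = ∑ ζ : IrrCharacter G, (c ζ : ℂ) • fun x : N => (ζ : G → ℂ) x by
      funext x; rw [Finset.sum_apply, hval]; rfl, classInner_sum_left] at h2
    simp only [classInner_sum_right, classInner_smul_left, classInner_smul_right,
      Complex.conj_natCast, hM, Finset.mul_sum] at h2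
    simp only [← mul_assoc] at h2
    exact_mod_cast h2
  have h3 : ∑ a, c a * c a ≤ 1 := by
    refine le_trans (Finset.sum_le_sum fun a _ => ?_) h1.le
    exact le_trans (Nat.le_mul_of_pos_right _ (hdiag a))
      (Finset.single_le_sum (f := fun b => c b * c a * M a b) (fun b _ => Nat.zero_le _)
        (Finset.mem_univ a))
  have h4 : ∑ a, c a * c a ≠ 0 := by
    intro h0
    rw [Finset.sum_eq_zero_iff] at h0
    refine irr_apply_one_ne_zero h ?_
    show χ 1 = 0
    rw [hval, Finset.sum_eq_zero fun a _ => ?_]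
    rw [(mul_self_eq_zero.1 (h0 a (Finset.mem_univ a))), Nat.cast_zero, zero_mul]
  conv_lhs => arg 1; rw [show χ = ∑ ζ : IrrCharacter G, (c ζ : ℂ) • (ζ : G → ℂ) by
    funext x; rw [Finset.sum_apply, hval]; rfl]
  rw [classInner_sum_left]
  simp only [classInner_smul_left]
  have e : ∀ a : IrrCharacter G, classInner (a : G → ℂ) χ = c a := fun a => by
    rw [← classInner_conj_symm, hc, Complex.conj_natCast]
  simp only [e]
  have h5 : ∑ a, c a * c a = 1 := by omega
  exact_mod_cast h5

theorem mem_of_pElement {S : Subgroup G} [S.Normal] (hS : ¬ p ∣ S.index) {x : G} {j : ℕ}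
    (hx : x ^ p ^ j = 1) : x ∈ S := by
  rw [← QuotientGroup.eq_one_iff, ← orderOf_eq_one_iff]
  refine Nat.eq_one_of_dvd_coprimes (((hp.out.coprime_iff_not_dvd).2 hS).pow_left j)
    (orderOf_dvd_of_pow_eq_one (by rw [← QuotientGroup.mk_pow, hx, QuotientGroup.mk_one])) ?_
  rw [Subgroup.index_eq_card]
  exact orderOf_dvd_natCard _

theorem le_of_isPGroup {S : Subgroup G} [S.Normal] (hS : ¬ p ∣ S.index) {Q : Subgroup G}
    (hQ : IsPGroup p Q) : Q ≤ S := fun x hx => by
  obtain ⟨j, hj⟩ := hQ ⟨x, hx⟩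
  exact mem_of_pElement hS (j := j) (congrArg Subtype.val hj)

/-- The degree of a constituent of a restriction divides the degree. -/
theorem constituent_degree {χ : G → ℂ} (hχ : IsIrrCharacter G χ) {n : ℕ} (hn : χ 1 = n)
    (N : Subgroup G) [N.Normal] {θ : N → ℂ} (hθ : IsIrrCharacter N θ) {d : ℕ} (hd : θ 1 = d)
    (hcon : classInner (fun x : N => χ x) θ ≠ 0) :
    ∃ e : ℕ, classInner (fun x : N => χ x) θ = e ∧ n = (Chars2.inertiaSub θ).index * e * d := by
  obtain ⟨e, he⟩ := exists_classInner_eq_nat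
    (isCharacter_restrict (isCharacter_of_isIrr hχ) N) (isCharacter_of_isIrr hθ)
  refine ⟨e, he, ?_⟩
  have h := Chars2.clifford_degree hχ hθ hcon
  rw [hn, he, hd] at h
  exact_mod_cast h

theorem exists_constituent {χ : G → ℂ} (hχ : IsCharacter G χ) (h1 : χ 1 ≠ 0) (N : Subgroup G) :
    ∃ θ : IrrCharacter N, classInner (fun x : N => χ x) (θ : N → ℂ) ≠ 0 := by
  by_contra hall
  push Not at hall
  refine h1 ?_
  have h0 := Chars2.apply_eq_sum
    (isClassFunction_of_isCharacter (isCharacter_restrict hχ N)) 1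
  simp only [hall, zero_mul, Finset.sum_const_zero, Subgroup.coe_one] at h0
  exact h0

/-- A quotient by the kernel of a character carries a faithful character. -/
theorem exists_faithful_irr {χ : G → ℂ} (hχ : IsIrrCharacter G χ) :
    ∃ (K : Subgroup G) (_ : K.Normal), (∀ g, g ∈ K ↔ χ g = χ 1) ∧
      ∃ χ' : G ⧸ K → ℂ, IsIrrCharacter (G ⧸ K) χ' ∧ (∀ y, χ' y = χ' 1 → y = 1) ∧
        ∀ g : G, χ' g = χ g := by
  classical
  have hc := isCharacter_of_isIrr hχ
  haveI := charKer_normal hc
  haveI : Fintype (G ⧸ charKer hc) := Fintype.ofFinite _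
  obtain ⟨d, ρ, hirr, hρ⟩ := id hχ
  haveI := hirr
  have hker : ∀ g ∈ charKer hc, ρ g = 1 := by
    intro g hg
    rw [mem_charKer] at hg
    rw [← hρ, Representation.char_one, rep_char_eq_finrank_iff] at hg
    exact hg
  let ρ' : Representation ℂ (G ⧸ charKer hc) (Fin d → ℂ) := QuotientGroup.lift _ ρ hker
  have hval : ∀ g : G, ρ'.character (g : G ⧸ charKer hc) = χ g := fun g => by
    exact congrFun hρ g
  refine ⟨charKer hc, inferInstance, fun g => mem_charKer hc, ρ'.character, ?_, ?_, hval⟩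
  · have h1 := isCharacter_of_rep ρ'
    have hnorm : classInner ρ'.character ρ'.character = 1 := by
      have h2 := classInner_self_irr hχ
      rw [classInner_def, inv_mul_eq_iff_eq_mul₀ card_ne_zero, mul_one] at h2
      rw [classInner_def, inv_mul_eq_iff_eq_mul₀ card_ne_zero, mul_one]
      have hfib : ∑ g : G, χ g * conj (χ g) =
          ∑ y : G ⧸ charKer hc, (Nat.card (charKer hc) : ℂ) *
            (ρ'.character y * conj (ρ'.character y)) := by
        simp only [← hval]
        rw [← Equiv.sum_comp (Subgroup.groupEquivQuotientProdSubgroup (s := charKer hc)).symm, Fintype.sum_prod_type]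
        refine Finset.sum_congr rfl fun y _ => ?_
        rw [Nat.card_eq_fintype_card, ← nsmul_eq_mul, ← Finset.card_univ, ← Finset.sum_const]
        refine Finset.sum_congr rfl fun k _ => ?_
        have e : (((Subgroup.groupEquivQuotientProdSubgroup (s := charKer hc)).symm (y, k) : G) :
            G ⧸ charKer hc) = y :=
          congrArg Prod.fst ((Subgroup.groupEquivQuotientProdSubgroup (s := charKer hc)).apply_symm_apply (y, k))
        rw [e]
      rw [hfib, ← Finset.mul_sum, ← Subgroup.card_mul_index (charKer hc), Nat.cast_mul,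
        Subgroup.index_eq_card] at h2
      exact mul_left_cancel₀ (subgroup_card_ne_zero _) h2
    exact isIrrCharacter_of_norm_one h1 hnorm
  · intro y hy
    obtain ⟨g, rfl⟩ := QuotientGroup.mk_surjective y
    rw [← QuotientGroup.mk_one, hval, hval] at hy
    exact (QuotientGroup.eq_one_iff g).2 ((mem_charKer hc).2 hy)

/-- A normal subgroup has a normal Sylow subgroup if all its constituents' quotients have. -/
theorem hasNormalSylow_of_constituents {χ : G → ℂ} (hχ : IsCharacter G χ)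
    (hf : ∀ g : G, χ g = χ 1 → g = 1) (L : Subgroup G)
    (h : ∀ θ : IrrCharacter L, classInner (fun x : L => χ x) (θ : L → ℂ) ≠ 0 →
      ∃ (K : Subgroup L) (_ : K.Normal),
        (∀ x, x ∈ K ↔ (θ : L → ℂ) x = (θ : L → ℂ) 1) ∧ HasNormalSylow p (L ⧸ K)) :
    HasNormalSylow p L := by
  classical
  choose K hKn hK hS using h
  choose S hSn hSp hSi using hS
  let I : Subgroup L := ⨅ (θ : IrrCharacter L)
    (hθ : classInner (fun x : L => χ x) (θ : L → ℂ) ≠ 0),
      (haveI := hKn θ hθ; (S θ hθ).comap (QuotientGroup.mk' (K θ hθ)))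
  have hI : ∀ x : L, x ∈ I ↔ ∀ θ hθ,
      (haveI := hKn θ hθ; QuotientGroup.mk' (K θ hθ) x ∈ S θ hθ) := fun x => by
    simp only [I, Subgroup.mem_iInf, Subgroup.mem_comap]
  obtain ⟨Q⟩ : Nonempty (Sylow p L) := inferInstance
  have hQI : (Q : Subgroup L) ≤ I := by
    intro x hx
    rw [hI]
    intro θ hθ
    haveI := hKn θ hθ
    haveI := hSn θ hθ
    haveI : Fintype (L ⧸ K θ hθ) := Fintype.ofFinite _
    obtain ⟨j, hj⟩ := Q.isPGroup' ⟨x, hx⟩
    have hj' : x ^ p ^ j = 1 := congrArg Subtype.val hj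
    exact mem_of_pElement (hSi θ hθ) (j := j) (by rw [← map_pow, hj', map_one])
  have hIp : IsPGroup p I := by
    intro x
    refine ⟨Nat.card L, Subtype.ext (Subtype.ext (hf _ ?_))⟩
    set y : L := (x : L) ^ p ^ Nat.card L
    show χ (y : G) = χ 1
    have hval : ∀ z : L, χ z = ∑ θ : IrrCharacter L,
        classInner (fun x : L => χ x) (θ : L → ℂ) * (θ : L → ℂ) z := fun z =>
      Chars2.apply_eq_sum (isClassFunction_of_isCharacter (isCharacter_restrict hχ L)) z
    rw [hval y, ← Subgroup.coe_one L, hval 1]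
    refine Finset.sum_congr rfl fun θ _ => ?_
    by_cases hθ : classInner (fun x : L => χ x) (θ : L → ℂ) = 0
    · rw [hθ, zero_mul, zero_mul]
    congr 1
    haveI := hKn θ hθ
    rw [← hK θ hθ, ← QuotientGroup.eq_one_iff]
    obtain ⟨j, hj⟩ := hSp θ hθ ⟨_, (hI x).1 x.2 θ hθ⟩
    have hj' : (((x : L) : L ⧸ K θ hθ)) ^ p ^ j = 1 := congrArg Subtype.val hj
    rw [QuotientGroup.mk_pow, ← orderOf_dvd_iff_pow_eq_one]
    obtain ⟨i, -, hi⟩ := (Nat.dvd_prime_pow hp.out).1 (orderOf_dvd_of_pow_eq_one hj')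
    rw [hi]
    refine pow_dvd_pow p ?_
    have h1 : p ^ i ≤ Nat.card L := by
      rw [← hi]
      exact Nat.le_of_dvd Nat.card_pos ((orderOf_dvd_natCard _).trans (K θ hθ).card_quotient_dvd_card)
    exact (Nat.lt_pow_self hp.out.one_lt).le.trans h1
  refine ⟨I, ?_, hIp, ?_⟩
  · refine ⟨fun x hx g => (hI _).2 fun θ hθ => ?_⟩
    haveI := hKn θ hθ
    rw [map_mul, map_mul, map_inv]
    exact (hSn θ hθ).conj_mem _ ((hI x).1 hx θ hθ) _
  · rw [Q.is_maximal' hIp hQI]
    exact Q.not_dvd_index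

theorem normal_of_le_commutator_sup {L M T P : Subgroup G} [M.Normal] (hLT : L ≤ T) (hTM : T ≤ M)
    (hab : ∀ a ∈ M, ∀ b ∈ M, ⁅a, b⁆ ∈ L) (hP : ∀ g ∈ P, ∀ t ∈ T, g * t * g⁻¹ ∈ T)
    (htop : M ⊔ P = ⊤) : T.Normal := by
  refine ⟨fun t ht g => ?_⟩
  have hg : g ∈ M ⊔ P := htop ▸ Subgroup.mem_top g
  obtain ⟨a, ha, y, hy, rfl⟩ := Subgroup.mem_sup_of_normal_left.1 hg
  have h1 := hP y hy t ht
  have h2 := hLT (hab a ha _ (hTM h1))
  have e : a * y * t * (a * y)⁻¹ = ⁅a, y * t * y⁻¹⁆ * (y * t * y⁻¹) := by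
    rw [commutatorElement_def]; group
  rw [e]
  exact T.mul_mem h2 h1

/-- The induction. -/
theorem exists_prime_pow : ∀ (k : ℕ) (G : Type u) [Group G] [Fintype G], Nat.card G = k →
    Group.IsSolvable G → ∀ (χ : G → ℂ), IsIrrCharacter G χ → (∀ g : G, χ g = χ 1 → g = 1) →
    ∀ (n : ℕ), χ 1 = n → ¬ HasNormalSylow p G →
    ∃ q : ℕ, IsPrimePow q ∧ q ∣ n ∧ ((p : ℤ) ∣ (q : ℤ) + 1 ∨ (p : ℤ) ∣ q ∨ (p : ℤ) ∣ (q : ℤ) - 1) := by
  intro k
  induction k using Nat.strong_induction_on with
  | _ k ih =>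
  intro G _ _ hk hsolv χ hχ hf n hn hns
  classical
  by_cases hpn : p ∣ n
  · exact ⟨p, hp.out.isPrimePow, hpn, Or.inr (Or.inl dvd_rfl)⟩
  by_contra hgoal
  have hcχ := isCharacter_of_isIrr hχ
  have hn0 : χ 1 ≠ 0 := irr_apply_one_ne_zero hχ
  have hn0' : n ≠ 0 := fun h => hn0 (by rw [hn, h, Nat.cast_zero])
  haveI := hsolv
  -- proper normal subgroups have normal Sylow subgroups
  have hprop : ∀ L : Subgroup G, L.Normal → L ≠ ⊤ → HasNormalSylow p L := by
    intro L hL hne
    by_contra hno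
    refine hno (hasNormalSylow_of_constituents hcχ hf L fun θ hθ => ?_)
    obtain ⟨K, hKn, hK, χ', hχ', hf', hval⟩ := exists_faithful_irr θ.2
    refine ⟨K, hKn, hK, ?_⟩
    by_contra hns'
    haveI : Fintype (L ⧸ K) := Fintype.ofFinite _
    obtain ⟨d, hd⟩ := exists_apply_one_eq (isCharacter_of_isIrr θ.2)
    haveI := hL
    obtain ⟨e, -, hnd⟩ := constituent_degree hχ hn L θ.2 hd hθ
    obtain ⟨q, hq, hqd, hqm⟩ := ih (Nat.card (L ⧸ K)) (by
        rw [← hk]
        exact lt_of_le_of_lt (Nat.le_of_dvd Nat.card_pos K.card_quotient_dvd_card)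
          (card_lt_of_ne_top hne))
      (L ⧸ K) rfl inferInstance χ' hχ' hf' d (by rw [← QuotientGroup.mk_one, hval, hd]) hns'
    exact hgoal ⟨q, hq, hqd.trans (Dvd.intro_left _ hnd.symm), hqm⟩
  have hpE : ∀ M : Subgroup G, M.Normal → M ≠ ⊤ → ∃ S : Subgroup G, S.Normal ∧ S ≤ M ∧
      IsPGroup p S ∧ ¬ p ∣ S.relIndex M ∧ ∀ x ∈ M, ∀ j, x ^ p ^ j = 1 → x ∈ S := by
    intro M hM hne
    obtain ⟨S, hS, hSp, hSi⟩ := hprop M hM hne
    haveI := hS
    have hall : ∀ x ∈ M, ∀ j, x ^ p ^ j = 1 → x ∈ S.map M.subtype := fun x hx j hj =>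
      ⟨⟨x, hx⟩, mem_of_pElement hSi (j := j) (Subtype.ext hj), rfl⟩
    refine ⟨S.map M.subtype, ⟨?_⟩, Subgroup.map_subtype_le _, hSp.map _, ?_, hall⟩
    · rintro x ⟨y, hy, rfl⟩ g
      obtain ⟨j, hj⟩ := hSp ⟨y, hy⟩
      refine hall _ (hM.conj_mem _ y.2 g) j ?_
      rw [conj_pow]
      have hj' : ((y : G)) ^ p ^ j = 1 := by
        have := congrArg (fun z : S => ((z : M) : G)) hj
        simpa using this
      show g * (y : G) ^ p ^ j * g⁻¹ = 1
      rw [hj', mul_one, mul_inv_cancel]
    · rwa [Subgroup.relIndex, Subgroup.subgroupOf,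
        Subgroup.comap_map_eq_self_of_injective M.subtype_injective]
  have hno : ∀ C : Subgroup G, C.Normal → ¬ p ∣ C.index → C = ⊤ := by
    intro C hC hi
    by_contra hne
    obtain ⟨S, hS, hSC, hSp, hSi, -⟩ := hpE C hC hne
    refine hns ⟨S, hS, hSp, ?_⟩
    rw [← Subgroup.relIndex_mul_index hSC]
    exact fun h => ((hp.out.dvd_mul).1 h).elim hSi hi
  -- a maximal normal subgroup
  haveI : Nontrivial G := by
    by_contra hnt
    rw [not_nontrivial_iff_subsingleton] at hnt
    exact hns ⟨⊤, inferInstance, IsPGroup.of_card (n := 0) (by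
      rw [pow_zero, Nat.card_eq_one_iff_unique]; exact ⟨inferInstance, ⟨1⟩⟩),
      by rw [Subgroup.index_top]; exact hp.out.not_dvd_one⟩
  have hder : commutator G ≠ ⊤ := (Group.IsSolvable.commutator_lt_top_of_nontrivial G).ne
  obtain ⟨M, hMco, hMder⟩ := (eq_top_or_exists_le_coatom (commutator G)).resolve_left hder
  haveI hMn : M.Normal := Subgroup.Normal.of_commutator_le G hMder
  have hMmax : ∀ g ∉ M, M ⊔ Subgroup.zpowers g = ⊤ := fun g hg => hMco.2 _ (lt_of_le_of_ne le_sup_left
    fun he => hg (he ▸ Subgroup.mem_sup_right (Subgroup.mem_zpowers g)))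
  have hpi : p ∣ M.index := by
    by_contra h
    exact hMco.1 (hno M hMn h)
  obtain ⟨g0, hg0⟩ : ∃ g : G, g ∉ M ∧ g ^ p ∈ M := by
    rw [Subgroup.index_eq_card] at hpi
    obtain ⟨y, hy⟩ := exists_prime_orderOf_dvd_card' p hpi
    obtain ⟨g, rfl⟩ := QuotientGroup.mk_surjective y
    refine ⟨g, fun h => ?_, ?_⟩
    · rw [(QuotientGroup.eq_one_iff g).2 h, orderOf_one] at hy
      exact hp.out.ne_one hy.symm
    · rw [← QuotientGroup.eq_one_iff, QuotientGroup.mk_pow, ← hy, pow_orderOf_eq_one]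
  have hMidx : M.index = p := by
    have hsup := hMmax g0 hg0.1
    have h1 : M.index ∣ p := by
      rw [Subgroup.index_eq_card]
      have hz : Subgroup.zpowers (g0 : G ⧸ M) = ⊤ := by
        rw [eq_top_iff]
        intro y _
        obtain ⟨g, rfl⟩ := QuotientGroup.mk_surjective y
        obtain ⟨a, ha, b, hb, rfl⟩ :=
          Subgroup.mem_sup_of_normal_left.1 (hsup ▸ Subgroup.mem_top g : g ∈ M ⊔ Subgroup.zpowers g0)
        obtain ⟨i, rfl⟩ := hb
        exact ⟨i, by simp [(QuotientGroup.eq_one_iff a).2 ha]⟩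
      have h2 : Nat.card (Subgroup.zpowers (g0 : G ⧸ M)) ∣ p := by
        rw [Nat.card_zpowers]
        exact orderOf_dvd_of_pow_eq_one
          (by rw [← QuotientGroup.mk_pow]; exact (QuotientGroup.eq_one_iff _).2 hg0.2)
      rwa [hz, Nat.card_congr Subgroup.topEquiv.toEquiv] at h2
    exact Nat.dvd_antisymm h1 hpi
  obtain ⟨R, hRn, hRM, hRp, hRi, hRall⟩ := hpE M hMn hMco.1
  have hsupP : ∀ P : Sylow p G, M ⊔ (P : Subgroup G) = ⊤ := by
    intro P
    refine hMco.2 _ (lt_of_le_of_ne le_sup_left fun he => P.not_dvd_index ?_)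
    exact hpi.trans (Subgroup.index_dvd_of_le (le_sup_right.trans he.ge))
  have hRM' : R ≠ M := by
    intro he
    refine hns ⟨⊤, inferInstance, ?_, by rw [Subgroup.index_top]; exact hp.out.not_dvd_one⟩
    obtain ⟨a, ha⟩ := IsPGroup.iff_card.1 hRp
    exact IsPGroup.of_card (n := a + 1) (by
      rw [Nat.card_congr Subgroup.topEquiv.toEquiv, ← M.card_mul_index, ← he, ha, he, hMidx,
        pow_succ])
  obtain ⟨L, hL, hLmax⟩ := (Set.toFinite {L : Subgroup G | L.Normal ∧ R ≤ L ∧ L < M}).exists_maximal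
    ⟨R, hRn, le_rfl, lt_of_le_of_ne hRM hRM'⟩
  obtain ⟨hLn, hRL, hLM⟩ := hL
  haveI := hLn
  haveI := hRn
  have hchief : ∀ Y : Subgroup G, Y.Normal → L ≤ Y → Y ≤ M → Y = L ∨ Y = M := by
    intro Y hY h1 h2
    by_contra hne
    push Not at hne
    exact hne.1 (le_antisymm (hLmax ⟨hY, hRL.trans h1, lt_of_le_of_ne h2 hne.2⟩ h1) h1)
  have hab : ∀ a ∈ M, ∀ b ∈ M, ⁅a, b⁆ ∈ L := by
    have hY : (⁅M, M⁆ ⊔ L) = L := by
      refine (hchief _ inferInstance le_sup_right
        (sup_le (Subgroup.commutator_le_self M) hLM.le)).resolve_right fun he => ?_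
      let Mb := M.map (QuotientGroup.mk' L)
      have h1 : ⁅Mb, Mb⁆ = Mb := by
        rw [← Subgroup.map_commutator]
        conv_rhs => rw [show Mb = M.map (QuotientGroup.mk' L) from rfl, ← he, Subgroup.map_sup,
          QuotientGroup.map_mk'_self, sup_bot_eq]
      haveI : Group.IsSolvable Mb := inferInstance
      haveI : Nontrivial Mb := (Subgroup.nontrivial_iff_ne_bot _).2 (by
        rw [Ne, Subgroup.map_eq_bot_iff, QuotientGroup.ker_mk']
        exact fun h => hLM.not_ge h)
      have h2 := (Group.IsSolvable.commutator_lt_top_of_nontrivial Mb).ne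
      apply h2
      apply Subgroup.map_injective Mb.subtype_injective
      rw [Subgroup.map_subtype_commutator, h1, ← MonoidHom.range_eq_map, Subgroup.range_subtype]
    exact fun a ha b hb => hY ▸ Subgroup.mem_sup_left (Subgroup.commutator_mem_commutator ha hb)
  have hpLM : ¬ p ∣ L.relIndex M := fun h => hRi (by
    rw [← Subgroup.relIndex_mul_relIndex R L M hRL hLM.le]
    exact h.trans (dvd_mul_left _ _))
  -- the chief factor is an `r`-group
  let Mb := M.map (QuotientGroup.mk' L)
  have hMbcard : Nat.card Mb = L.relIndex M := by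
    rw [Subgroup.relIndex, Subgroup.index_eq_card]
    exact Nat.card_congr (QuotientGroup.quotientKerEquivRange
      ((QuotientGroup.mk' L).comp M.subtype) |>.toEquiv.trans
      (Equiv.setCongr (by rw [MonoidHom.range_comp, Subgroup.range_subtype]))).symm |>.trans (by
      rw [show ((QuotientGroup.mk' L).comp M.subtype).ker = L.subgroupOf M by
        rw [← MonoidHom.comap_ker, QuotientGroup.ker_mk']; rfl])
  obtain ⟨r, a, hr, ha0, hcard⟩ : ∃ r a : ℕ, r.Prime ∧ a ≠ 0 ∧ L.relIndex M = r ^ a := by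
    have hne1 : L.relIndex M ≠ 1 := fun h => hLM.not_ge (Subgroup.relIndex_eq_one.1 h)
    obtain ⟨r, hr, hrd⟩ := Nat.exists_prime_and_dvd hne1
    haveI := Fact.mk hr
    let Y : Subgroup G :=
      { carrier := {g | g ∈ M ∧ ∃ j, g ^ r ^ j ∈ L}
        one_mem' := ⟨one_mem _, 0, by simp⟩
        mul_mem' := by
          rintro g h ⟨hg, i, hi⟩ ⟨hh, j, hj⟩
          refine ⟨mul_mem hg hh, i + j, ?_⟩
          rw [← QuotientGroup.eq_one_iff, QuotientGroup.mk_pow, QuotientGroup.mk_mul]
          have hc : Commute (g : G ⧸ L) h := by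
            rw [← commutatorElement_eq_one_iff_commute, commutatorElement_def,
              ← QuotientGroup.mk_inv, ← QuotientGroup.mk_inv, ← QuotientGroup.mk_mul,
              ← QuotientGroup.mk_mul, ← QuotientGroup.mk_mul, QuotientGroup.eq_one_iff]
            exact hab g hg h hh
          have e1 : (g : G ⧸ L) ^ r ^ i = 1 := by
            rw [← QuotientGroup.mk_pow]; exact (QuotientGroup.eq_one_iff _).2 hi
          have e2 : (h : G ⧸ L) ^ r ^ j = 1 := by
            rw [← QuotientGroup.mk_pow]; exact (QuotientGroup.eq_one_iff _).2 hj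
          rw [hc.mul_pow, pow_add, pow_mul, e1, one_pow, one_mul, mul_comm, pow_mul, e2, one_pow]
        inv_mem' := by
          rintro g ⟨hg, i, hi⟩
          exact ⟨inv_mem hg, i, by rw [inv_pow]; exact inv_mem hi⟩ }
    have hY : Y.Normal := ⟨fun g hg x => ⟨hMn.conj_mem g hg.1 x, hg.2.imp fun j hj => by
      rw [conj_pow]; exact hLn.conj_mem _ hj x⟩⟩
    have hYL : Y ≠ L := by
      rw [← hMbcard] at hrd
      obtain ⟨⟨y, g, hg, rfl⟩, hy⟩ := exists_prime_orderOf_dvd_card' (G := Mb) r hrd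
      intro he
      have hgY : g ∈ Y := ⟨hg, 1, by
        rw [pow_one, ← QuotientGroup.eq_one_iff, QuotientGroup.mk_pow]
        have := congrArg Subtype.val (orderOf_dvd_iff_pow_eq_one.1 hy.dvd)
        exact this⟩
      rw [he, ← QuotientGroup.eq_one_iff] at hgY
      have h1 : (⟨(g : G ⧸ L), g, hg, rfl⟩ : Mb) = 1 := Subtype.ext hgY
      refine hr.ne_one ?_
      rw [← hy, ← orderOf_one (G := Mb)]
      congr 1
    have hYM := (hchief Y hY (fun g hg => ⟨hLM.le hg, 0, by simpa using hg⟩)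
      fun g hg => hg.1).resolve_left hYL
    have hMbr : IsPGroup r Mb := by
      rintro ⟨y, g, hg, rfl⟩
      obtain ⟨-, j, hj⟩ : g ∈ Y := hYM ▸ hg
      exact ⟨j, Subtype.ext (by
        show (QuotientGroup.mk' L g) ^ r ^ j = 1
        rw [← map_pow]
        exact (QuotientGroup.eq_one_iff _).2 hj)⟩
    obtain ⟨a, ha⟩ := IsPGroup.iff_card.1 hMbr
    exact ⟨r, a, hr, fun h => hne1 (by rw [← hMbcard, ha, h, pow_zero]), hMbcard.symm.trans ha⟩
  -- the chief factor has order `1` modulo `p`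
  have hmod : (p : ℤ) ∣ ((r ^ a : ℕ) : ℤ) - 1 := by
    obtain ⟨P⟩ : Nonempty (Sylow p G) := inferInstance
    let Y : Subgroup G := (Subgroup.centralizer
      ((P : Subgroup G).map (QuotientGroup.mk' L) : Set (G ⧸ L))).comap (QuotientGroup.mk' L) ⊓ M
    have hLY : L ≤ Y := le_inf (fun g hg => by
      rw [Subgroup.mem_comap, show QuotientGroup.mk' L g = 1 from
        (QuotientGroup.eq_one_iff g).2 hg]
      exact one_mem _) hLM.le
    have hY : Y.Normal := normal_of_le_commutator_sup hLY inf_le_right hab (fun y hy t ht => by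
      refine ⟨Subgroup.mem_comap.2 ?_, hMn.conj_mem t ht.2 y⟩
      have h1 := Subgroup.mem_centralizer_iff.1 ht.1 (QuotientGroup.mk' L y) ⟨y, hy, rfl⟩
      rw [map_mul, map_mul, map_inv, h1, mul_inv_cancel_right]
      exact ht.1) (hsupP P)
    rcases hchief Y hY hLY inf_le_right with hYL | hYM
    swap
    · exfalso
      let U := L ⊔ (P : Subgroup G)
      have hU : U.Normal := by
        refine ⟨fun x hx g => ?_⟩
        have hg : g ∈ M ⊔ (P : Subgroup G) := hsupP P ▸ Subgroup.mem_top g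
        obtain ⟨m, hm, y, hy, rfl⟩ := Subgroup.mem_sup_of_normal_left.1 hg
        have hy' : y ∈ U := Subgroup.mem_sup_right hy
        have h1 : y * x * y⁻¹ ∈ U := U.mul_mem (U.mul_mem hy' hx) (U.inv_mem hy')
        obtain ⟨l, hl, z, hz, hlz⟩ := Subgroup.mem_sup_of_normal_left.1 h1
        have hmc : (QuotientGroup.mk' L m) * QuotientGroup.mk' L z =
            QuotientGroup.mk' L z * QuotientGroup.mk' L m := by
          have h2 : m ∈ Y := hYM ▸ hm
          exact (Subgroup.mem_centralizer_iff.1 h2.1 _ ⟨z, hz, rfl⟩).symm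
        have e : QuotientGroup.mk' L (m * y * x * (m * y)⁻¹) = QuotientGroup.mk' L z := by
          rw [show m * y * x * (m * y)⁻¹ = m * (l * z) * m⁻¹ by rw [hlz]; group, map_mul, map_mul,
            map_mul, show QuotientGroup.mk' L l = 1 from (QuotientGroup.eq_one_iff l).2 hl, one_mul,
            hmc, map_inv, mul_inv_cancel_right]
        obtain ⟨l', hl', he⟩ : ∃ l' ∈ L, m * y * x * (m * y)⁻¹ = l' * z :=
          ⟨m * y * x * (m * y)⁻¹ * z⁻¹, by
            rw [← QuotientGroup.eq_one_iff, ← QuotientGroup.mk'_apply, map_mul, e, map_inv,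
              mul_inv_cancel], by rw [inv_mul_cancel_right]⟩
        rw [he]
        exact U.mul_mem (Subgroup.mem_sup_left hl') (Subgroup.mem_sup_right hz)
      have hUtop := hno U hU fun h => P.not_dvd_index (h.trans (Subgroup.index_dvd_of_le le_sup_right))
      have hQ : IsPGroup p (G ⧸ L) := by
        refine P.isPGroup'.of_surjective ((QuotientGroup.mk' L).comp (P : Subgroup G).subtype) ?_
        intro x
        obtain ⟨g, rfl⟩ := QuotientGroup.mk_surjective x
        obtain ⟨l, hl, z, hz, rfl⟩ :=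
          Subgroup.mem_sup_of_normal_left.1 (hUtop ▸ Subgroup.mem_top g : g ∈ U)
        exact ⟨⟨z, hz⟩, by
          show QuotientGroup.mk' L z = QuotientGroup.mk' L (l * z)
          rw [map_mul, show QuotientGroup.mk' L l = 1 from (QuotientGroup.eq_one_iff l).2 hl,
            one_mul]⟩
      obtain ⟨b, hb⟩ := IsPGroup.iff_card.1 (hQ.to_subgroup Mb)
      rcases Nat.eq_zero_or_pos b with rfl | hb0
      · rw [hMbcard, hcard, pow_zero] at hb
        exact hr.ne_one (Nat.pow_eq_one.1 hb |>.resolve_right ha0)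
      · exact hpLM (by rw [← hMbcard, hb]; exact dvd_pow_self p hb0.ne')
    haveI : Mb.Normal := Subgroup.Normal.map hMn _ (QuotientGroup.mk'_surjective L)
    let f : (P : Subgroup G) →* MulAut Mb :=
      MulAut.conjNormal.comp ((QuotientGroup.mk' L).comp (P : Subgroup G).subtype)
    letI : MulAction (P : Subgroup G) Mb := MulAction.compHom Mb f
    have hfix : MulAction.fixedPoints (P : Subgroup G) Mb = {1} := by
      ext v
      simp only [MulAction.mem_fixedPoints, Set.mem_singleton_iff]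
      refine ⟨fun hv => ?_, fun hv y => ?_⟩
      · obtain ⟨v, g, hg, rfl⟩ := v
        have hgY : g ∈ Y := by
          refine ⟨Subgroup.mem_centralizer_iff.2 ?_, hg⟩
          rintro z ⟨y, hy, rfl⟩
          have h1 := congrArg Subtype.val (hv ⟨y, hy⟩)
          change ((f ⟨y, hy⟩ (⟨QuotientGroup.mk' L g, g, hg, rfl⟩ : Mb)) : G ⧸ L) = _ at h1
          simp only [f, MonoidHom.comp_apply, MulAut.conjNormal_apply, Subgroup.coe_subtype] at h1
          exact mul_inv_eq_iff_eq_mul.1 h1
        rw [hYL] at hgY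
        exact Subtype.ext ((QuotientGroup.eq_one_iff g).2 hgY)
      · subst hv
        exact map_one (f y)
    have h1 := P.isPGroup'.card_modEq_card_fixedPoints Mb
    rw [hfix, hMbcard, hcard, Nat.card_eq_fintype_card, Set.card_singleton] at h1
    exact_mod_cast (Nat.modEq_iff_dvd.1 h1.symm)
  -- a constituent on `L`
  obtain ⟨θ, hθ⟩ := exists_constituent hcχ hn0 L
  obtain ⟨d, hd⟩ := exists_apply_one_eq (isCharacter_of_isIrr θ.2)
  obtain ⟨e, he, hnd⟩ := constituent_degree hχ hn L θ.2 hd hθ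
  set T := Chars2.inertiaSub (θ : L → ℂ) with hTdef
  have hTn : T.index ∣ n := by rw [hnd, mul_assoc]; exact dvd_mul_right _ _
  have hsylow : ∀ T : Subgroup G, ¬ p ∣ T.index → ∃ P : Sylow p G, (P : Subgroup G) ≤ T := by
    intro T hT
    obtain ⟨P₀⟩ : Nonempty (Sylow p T) := inferInstance
    have hc : Nat.card ((P₀ : Subgroup T).map T.subtype) = p ^ (Nat.card G).factorization p := by
      rw [Subgroup.card_map_of_injective T.subtype_injective, P₀.card_eq_multiplicity,
        ← T.card_mul_index, Nat.factorization_mul Nat.card_pos.ne' Subgroup.index_ne_zero_of_finite,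
        Finsupp.add_apply, Nat.factorization_eq_zero_of_not_dvd hT, add_zero]
    exact ⟨Sylow.ofCard _ hc, by simp only [Sylow.coe_ofCard]; exact Subgroup.map_subtype_le _⟩
  obtain ⟨P, hPT⟩ := hsylow T fun h => hpn (h.trans hTn)
  have hLT : L ≤ T := Chars2.le_inertiaSub (isClassFunction_irr θ)
  have htop : M ⊔ T = ⊤ := top_le_iff.1 ((hsupP P).ge.trans (sup_le_sup_left hPT M))
  have hTMn : (T ⊓ M).Normal := normal_of_le_commutator_sup (le_inf hLT hLM.le) inf_le_right hab
    (fun y hy t ht => ⟨T.mul_mem (T.mul_mem (hPT hy) ht.1) (T.inv_mem (hPT hy)),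
      hMn.conj_mem t ht.2 y⟩) (hsupP P)
  rcases hchief _ hTMn (le_inf hLT hLM.le) inf_le_right with hc | hc
  · refine hgoal ⟨r ^ a, hr.isPrimePow.pow ha0, ?_, Or.inr (Or.inr hmod)⟩
    have h1 : T.index = L.relIndex M := by
      have e1 := Subgroup.relIndex_mul_index (le_sup_left : M ≤ M ⊔ T)
      have e2 : M.relIndex (M ⊔ T) = M.relIndex T := Subgroup.relIndex_sup_left T M
      have e3 := Subgroup.relIndex_mul_index (inf_le_left : T ⊓ M ≤ T)
      have e4 := Subgroup.relIndex_mul_index (inf_le_right : T ⊓ M ≤ M)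
      rw [e2, htop, Subgroup.index_top, mul_one] at e1
      rw [inf_comm, Subgroup.inf_relIndex_right, e1, inf_comm, hc] at e3
      rw [hc] at e4
      have := e3.trans e4.symm
      rw [mul_comm] at this
      exact Nat.eq_of_mul_eq_mul_right (Nat.pos_of_ne_zero Subgroup.index_ne_zero_of_finite) this
    rw [← hcard, ← h1]; exact hTn
  have hTtop : T = ⊤ := by
    rw [← htop, sup_eq_right.2 (hc.ge.trans inf_le_left)]
  -- the restriction to `M` is irreducible
  have hnormM : ∑ g ∈ Finset.univ.filter (· ∈ M), χ g * conj (χ g) = (Nat.card M : ℂ) := by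
    obtain ⟨η, hη⟩ := exists_constituent hcχ hn0 M
    obtain ⟨dM, hdM⟩ := exists_apply_one_eq (isCharacter_of_isIrr η.2)
    obtain ⟨e', he', hnd'⟩ := constituent_degree hχ hn M η.2 hdM hη
    obtain ⟨d1, ρ, hρi, hρ⟩ := id η.2
    obtain ⟨d2, σ, hσi, hσ⟩ := id hχ
    haveI := hρi
    haveI := hσi
    have hr2 := (Chars2.finrank_dvd_of_constituent (ρ := ρ) (σ := σ)
      (Chars2.nontrivial_of_classInner σ ρ (by rw [hσ, hρ]; exact hη))).2
    have e1 : Module.finrank ℂ (Fin d1 → ℂ) = dM := by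
      have := hdM; rw [← hρ, Representation.char_one] at this; exact_mod_cast this
    have e2 : Module.finrank ℂ (Fin d2 → ℂ) = n := by
      have := hn; rw [← hσ, Representation.char_one] at this; exact_mod_cast this
    rw [e1, e2, hMidx, hnd'] at hr2
    have hdM0 : 0 < dM := Nat.pos_of_ne_zero fun h => hn0' (by rw [hnd', h, mul_zero])
    rw [Nat.mul_div_cancel _ hdM0] at hr2
    have hone : (Chars2.inertiaSub (η : M → ℂ)).index * e' = 1 := by
      rcases (Nat.dvd_prime hp.out).1 hr2 with h | h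
      · exact h
      · exact absurd (hnd' ▸ h ▸ dvd_mul_right p dM) hpn
    have hi := Nat.eq_one_of_mul_eq_one_right hone
    have he1 := Nat.eq_one_of_mul_eq_one_left hone
    have hres : (fun x : M => χ x) = (η : M → ℂ) := funext fun x => by
      rw [Chars2.clifford_invariant hχ η.2 (Subgroup.index_eq_one.1 hi) hη x, he', he1,
        Nat.cast_one, one_mul]
    have h1 := classInner_self_irr η.2
    rw [← hres, classInner_def, inv_mul_eq_iff_eq_mul₀ (subgroup_card_ne_zero M), mul_one] at h1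
    rw [← h1]
    exact (Finset.sum_subtype _ (fun x => by simp) fun g => χ g * conj (χ g))
  -- the restriction to `L` is a multiple of `θ`
  have hresL : ∀ x : L, χ x = (e : ℂ) * (θ : L → ℂ) x := fun x => by
    rw [Chars2.clifford_invariant hχ θ.2 hTtop hθ x, he]
  have hnormL : ∑ g ∈ Finset.univ.filter (· ∈ L), χ g * conj (χ g) =
      (e : ℂ) ^ 2 * (Nat.card L : ℂ) := by
    rw [Finset.sum_subtype (p := (· ∈ L)) _ (fun x => by simp) fun g => χ g * conj (χ g)]
    have h1 := classInner_self_irr θ.2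
    rw [classInner_def, inv_mul_eq_iff_eq_mul₀ (subgroup_card_ne_zero L), mul_one] at h1
    rw [← h1, Finset.mul_sum]
    refine Finset.sum_congr rfl fun x _ => ?_
    rw [hresL x, map_mul, Complex.conj_natCast]
    ring
  have hed : n = e * d := by rw [hnd, hTtop, Subgroup.index_top, one_mul]
  have hML : (Nat.card M : ℂ) = (Nat.card L : ℂ) * ((r ^ a : ℕ) : ℂ) := by
    rw [← hcard, ← Nat.cast_mul]
    have := Nat.card_congr (QuotientGroup.quotientKerEquivRange
      ((QuotientGroup.mk' L).comp M.subtype)).toEquiv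
    have h2 := (L.subgroupOf M).card_mul_index
    rw [Nat.card_congr (Subgroup.subgroupOfEquivOfLe hLM.le).toEquiv] at h2
    rw [← h2]; rfl
  let S := Subgroup.closure {g | g ∈ M ∧ (g ∈ L ∨ χ g ≠ 0)}
  have hSn : S.Normal := by
    refine ⟨fun y hy x => ?_⟩
    have hle : S ≤ S.comap (MulAut.conj x).toMonoidHom := by
      refine (Subgroup.closure_le _).2 ?_
      rintro g ⟨hgM, hg⟩
      refine Subgroup.mem_comap.2 (Subgroup.subset_closure ?_)
      show x * g * x⁻¹ ∈ M ∧ (x * g * x⁻¹ ∈ L ∨ χ (x * g * x⁻¹) ≠ 0)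
      refine ⟨hMn.conj_mem g hgM x, hg.imp (fun h => hLn.conj_mem g h x) fun h => ?_⟩
      rwa [isCharacter_conj_apply hcχ]
    exact hle hy
  have hLS : L ≤ S := fun g hg => Subgroup.subset_closure ⟨hLM.le hg, Or.inl hg⟩
  rcases hchief S hSn hLS ((Subgroup.closure_le _).2 fun g hg => hg.1) with hSL | hSM
  · -- fully ramified
    have hvan : ∀ g ∈ M, g ∉ L → χ g = 0 := fun g hg hgL => by
      by_contra hne
      exact hgL (hSL ▸ Subgroup.subset_closure ⟨hg, Or.inr hne⟩)
    have he2 : e ^ 2 = r ^ a := by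
      have h1 : ∑ g ∈ Finset.univ.filter (· ∈ M), χ g * conj (χ g) =
          ∑ g ∈ Finset.univ.filter (· ∈ L), χ g * conj (χ g) := by
        refine (Finset.sum_subset (fun g => by simpa using fun h => hLM.le h) fun g hg hg' => ?_).symm
        rw [Finset.mem_filter] at hg
        rw [hvan g hg.2 (by simpa using hg'), zero_mul]
      rw [hnormM, hnormL, hML, mul_comm] at h1
      have := mul_right_cancel₀ (subgroup_card_ne_zero L) h1
      exact_mod_cast this.symm
    obtain ⟨b, -, hb⟩ := (Nat.dvd_prime_pow hr).1 (he2 ▸ dvd_pow_self e two_ne_zero)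
    have hb0 : b ≠ 0 := fun h => by
      rw [h, pow_zero] at hb
      rw [hb, one_pow] at he2
      exact hr.ne_one ((Nat.pow_eq_one.1 he2.symm).resolve_right ha0)
    have h2 : (p : ℤ) ∣ ((e : ℤ) + 1) * ((e : ℤ) - 1) := by
      rw [← he2] at hmod; push_cast at hmod
      exact (show ((e : ℤ) + 1) * ((e : ℤ) - 1) = (e : ℤ) ^ 2 - 1 by ring) ▸ hmod
    refine hgoal ⟨e, hb ▸ hr.isPrimePow.pow hb0, hed ▸ dvd_mul_right e d, ?_⟩
    rcases (Nat.prime_iff_prime_int.1 hp.out).dvd_or_dvd h2 with h | h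
    · exact Or.inl h
    · exact Or.inr (Or.inr h)
  -- the restriction to `L` is irreducible
  let L' := L.subgroupOf M
  haveI : L'.Normal := inferInstance
  haveI : Fintype (M ⧸ L') := Fintype.ofFinite _
  have hquot : Nat.card (M ⧸ L') = r ^ a := by rw [← Subgroup.index_eq_card]; exact hcard
  have hlin : ∀ φ : IrrCharacter (M ⧸ L'), ∃ h : M ⧸ L' →* ℂˣ,
      (φ : M ⧸ L' → ℂ) = fun y => (h y : ℂ) := by
    intro φ
    refine exists_hom_of_degree_one (irr_isCharacter φ) (irr_apply_one_of_comm (fun x y => ?_) φ.2)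
    obtain ⟨x, rfl⟩ := QuotientGroup.mk_surjective x
    obtain ⟨y, rfl⟩ := QuotientGroup.mk_surjective y
    rw [← commutatorElement_eq_one_iff_mul_comm, commutatorElement_def, ← QuotientGroup.mk_inv,
      ← QuotientGroup.mk_inv, ← QuotientGroup.mk_mul, ← QuotientGroup.mk_mul,
      ← QuotientGroup.mk_mul, QuotientGroup.eq_one_iff]
    exact hab x x.2 y y.2
  choose lam hlam using hlin
  let tw : IrrCharacter (M ⧸ L') → M → ℂ := fun φ x => (lam φ (x : M ⧸ L') : ℂ) * χ x
  have hψM : IsIrrCharacter M (fun x : M => χ x) := by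
    refine isIrrCharacter_of_norm_one (isCharacter_restrict hcχ M) ?_
    rw [classInner_def, inv_mul_eq_iff_eq_mul₀ (subgroup_card_ne_zero M), mul_one, ← hnormM]
    exact (Finset.sum_subtype _ (fun x => by simp) fun g => χ g * conj (χ g)).symm
  have htwirr : ∀ φ, IsIrrCharacter M (tw φ) := fun φ =>
    isIrrCharacter_mul_hom hψM ((lam φ).comp (QuotientGroup.mk' L'))
  have htwinj : ∀ φ φ', tw φ = tw φ' → φ = φ' := by
    intro φ φ' h
    let E : Subgroup M := (lam φ / lam φ').comp (QuotientGroup.mk' L') |>.ker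
    have hgen : {x : M | (x : G) ∈ L ∨ χ (x : G) ≠ 0} ⊆ E := by
      intro x hx
      show lam φ (x : M ⧸ L') / lam φ' (x : M ⧸ L') = 1
      rw [div_eq_one]
      rcases hx with hx | hx
      · rw [(QuotientGroup.eq_one_iff x).2 (Subgroup.mem_subgroupOf.2 hx), map_one, map_one]
      · exact Units.ext (mul_right_cancel₀ hx (congrFun h x))
    have hall : ∀ x : M, x ∈ E := by
      intro x
      have hx : (x : G) ∈ S := by rw [hSM]; exact x.2
      have hle : S ≤ E.map M.subtype := (Subgroup.closure_le _).2 fun g hg =>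
        ⟨⟨g, hg.1⟩, hgen hg.2, rfl⟩
      obtain ⟨y, hy, hyx⟩ := hle hx
      exact (Subtype.ext hyx : y = x) ▸ hy
    apply Subtype.ext
    rw [hlam φ, hlam φ']
    funext y
    obtain ⟨x, rfl⟩ := QuotientGroup.mk_surjective y
    exact congrArg Units.val (div_eq_one.1 (hall x))
  have he1 : e = 1 := by
    have hsum : ∀ x : M, ∑ φ, tw φ x = if (x : G) ∈ L then ((r ^ a : ℕ) : ℂ) * χ x else 0 := by
      intro x
      rw [← Finset.sum_mul]
      have h1 := sum_apply_one_mul (G := M ⧸ L') (x : M ⧸ L')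
      have h2 : ∀ φ : IrrCharacter (M ⧸ L'), (φ : M ⧸ L' → ℂ) 1 * (φ : M ⧸ L' → ℂ) x =
          (lam φ (x : M ⧸ L') : ℂ) := fun φ => by
        rw [hlam φ]; show ((lam φ 1 : ℂˣ) : ℂ) * _ = _
        rw [map_one, Units.val_one, one_mul]
      simp only [h2] at h1
      rw [h1, hquot]
      simp only [QuotientGroup.eq_one_iff, L', Subgroup.mem_subgroupOf, ite_mul, zero_mul]
    let F : M → ℂ := fun x => ∑ φ, tw φ x
    have hn1 : classInner F F = (Fintype.card (IrrCharacter (M ⧸ L')) : ℂ) := by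
      have hF : F = ∑ φ, tw φ := by funext x; rw [Finset.sum_apply]
      rw [hF, classInner_sum_left]
      simp only [classInner_sum_right]
      rw [Finset.sum_congr rfl fun φ _ => Finset.sum_eq_single φ
        (fun φ' _ hne => classInner_irr_of_ne (htwirr φ) (htwirr φ') fun h => hne (htwinj _ _ h).symm)
        (fun h => absurd (Finset.mem_univ φ) h)]
      simp only [classInner_self_irr (htwirr _), Finset.sum_const, Finset.card_univ, nsmul_eq_mul,
        mul_one]
    have hcardirr : Fintype.card (IrrCharacter (M ⧸ L')) = r ^ a := by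
      have h1 := sum_sq_apply_one (G := M ⧸ L')
      have h2 : ∀ φ : IrrCharacter (M ⧸ L'), (φ : M ⧸ L' → ℂ) 1 = 1 := fun φ => by
        rw [hlam φ]; show ((lam φ 1 : ℂˣ) : ℂ) = 1
        rw [map_one, Units.val_one]
      simp only [h2, one_pow, Finset.sum_const, Finset.card_univ, nsmul_eq_mul, mul_one, hquot] at h1
      exact_mod_cast h1
    have hn2 : classInner F F = ((r ^ a : ℕ) : ℂ) * (e : ℂ) ^ 2 := by
      rw [classInner_def, inv_mul_eq_iff_eq_mul₀ (subgroup_card_ne_zero M)]
      have : ∀ x : M, F x * conj (F x) = if (x : G) ∈ L then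
          ((r ^ a : ℕ) : ℂ) ^ 2 * (χ x * conj (χ x)) else 0 := fun x => by
        show (∑ φ, tw φ x) * conj (∑ φ, tw φ x) = _
        rw [hsum x]
        split_ifs
        · rw [map_mul, Complex.conj_natCast]; ring
        · rw [zero_mul]
      rw [Finset.sum_congr rfl fun x _ => this x, Finset.sum_ite, Finset.sum_const_zero, add_zero,
        ← Finset.mul_sum]
      have h3 : ∑ x ∈ Finset.univ.filter (fun x : M => (x : G) ∈ L), χ x * conj (χ x) =
          ∑ g ∈ Finset.univ.filter (· ∈ L), χ g * conj (χ g) := by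
        refine Finset.sum_bij (fun x _ => (x : G)) (fun x hx => by simpa using hx)
          (fun x _ y _ h => Subtype.ext h) (fun g hg => ?_) fun x _ => rfl
        simp only [Finset.mem_filter, Finset.mem_univ, true_and] at hg
        exact ⟨⟨g, hLM.le hg⟩, by simpa using hg, rfl⟩
      rw [h3, hnormL, hML]
      ring
    rw [hn1, hcardirr] at hn2
    have h4 : (e : ℂ) ^ 2 = 1 :=
      mul_left_cancel₀ (Nat.cast_ne_zero.2 (pow_ne_zero _ hr.ne_zero)) (hn2.symm.trans (mul_one _).symm)
    have : e ^ 2 = 1 := by exact_mod_cast h4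
    exact (Nat.pow_eq_one.1 this).resolve_right two_ne_zero
  rw [he1, Nat.cast_one] at hresL hnormL
  simp only [one_mul] at hresL
  rw [one_pow, one_mul] at hnormL
  -- the smaller group `L P`
  let G₀ := L ⊔ (P : Subgroup G)
  have hG₀ : G₀ ≠ ⊤ := by
    intro h
    have hQ : IsPGroup p (G ⧸ L) := by
      refine P.isPGroup'.of_surjective ((QuotientGroup.mk' L).comp (P : Subgroup G).subtype) ?_
      intro x
      obtain ⟨g, rfl⟩ := QuotientGroup.mk_surjective x
      obtain ⟨l, hl, z, hz, rfl⟩ :=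
        Subgroup.mem_sup_of_normal_left.1 (h ▸ Subgroup.mem_top g : g ∈ G₀)
      exact ⟨⟨z, hz⟩, by
        show QuotientGroup.mk' L z = QuotientGroup.mk' L (l * z)
        rw [map_mul, show QuotientGroup.mk' L l = 1 from (QuotientGroup.eq_one_iff l).2 hl,
          one_mul]⟩
    obtain ⟨b, hb⟩ := IsPGroup.iff_card.1 (hQ.to_subgroup Mb)
    rcases Nat.eq_zero_or_pos b with rfl | hb0
    · rw [hMbcard, hcard, pow_zero] at hb
      exact hr.ne_one (Nat.pow_eq_one.1 hb |>.resolve_right ha0)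
    · exact hpLM (by rw [← hMbcard, hb]; exact dvd_pow_self p hb0.ne')
  have hχ₀ : IsIrrCharacter G₀ (fun x : G₀ => χ x) := by
    refine isIrr_of_restrict (isCharacter_restrict hcχ G₀) (L.subgroupOf G₀) ?_
    have : IsIrrCharacter (L.subgroupOf G₀) ((θ : L → ℂ) ∘ Subgroup.subgroupOfEquivOfLe le_sup_left) :=
      isIrrCharacter_comp_equiv θ.2 _
    convert this using 1
    funext x
    exact hresL ⟨_, x.2⟩
  have hns₀ : HasNormalSylow p G₀ := by
    by_contra hno₀
    obtain ⟨q, hq⟩ := ih (Nat.card G₀) (by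
        rw [← hk]; exact card_lt_of_ne_top hG₀)
      G₀ rfl inferInstance _ hχ₀ (fun g hg => Subtype.ext (hf _ hg)) n
      (by show χ 1 = _; exact hn) hno₀
    exact hgoal ⟨q, hq⟩
  obtain ⟨S₀, hS₀n, hS₀p, hS₀i⟩ := hns₀
  haveI := hS₀n
  -- `P` centralises `L` modulo `R`
  let C : Subgroup G := (Subgroup.centralizer
    (L.map (QuotientGroup.mk' R) : Set (G ⧸ R))).comap (QuotientGroup.mk' R)
  haveI : (L.map (QuotientGroup.mk' R)).Normal :=
    Subgroup.Normal.map hLn _ (QuotientGroup.mk'_surjective R)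
  have hCtop : C = ⊤ := by
    refine hno C inferInstance fun h => P.not_dvd_index (h.trans (Subgroup.index_dvd_of_le ?_))
    intro y hy
    refine Subgroup.mem_comap.2 ?_
    rw [Subgroup.mem_centralizer_iff]
    rintro z ⟨l, hl, rfl⟩
    rw [← map_mul, ← map_mul]
    have hmem : ∀ w ∈ (P : Subgroup G), ∀ v ∈ G₀, v * w * v⁻¹ ∈ (P : Subgroup G) := by
      intro w hw v hv
      have hPS : (P : Subgroup G).subgroupOf G₀ = S₀ := by
        refine le_antisymm (le_of_isPGroup hS₀i (P.isPGroup'.comap_subtype)) ?_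
        have hmax := P.is_maximal' (hS₀p.map G₀.subtype) fun x hx =>
          ⟨⟨x, Subgroup.mem_sup_right hx⟩, le_of_isPGroup hS₀i (P.isPGroup'.comap_subtype)
            (Subgroup.mem_subgroupOf.2 hx), rfl⟩
        intro x hx
        rw [Subgroup.mem_subgroupOf]
        exact hmax ▸ ⟨x, hx, rfl⟩
      have := hS₀n.conj_mem ⟨w, Subgroup.mem_sup_right hw⟩
        (hPS ▸ Subgroup.mem_subgroupOf.2 hw) ⟨v, hv⟩
      rw [← hPS] at this
      exact Subgroup.mem_subgroupOf.1 this
    have hc1 : ⁅l, y⁆ ∈ (P : Subgroup G) :=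
      (P : Subgroup G).mul_mem (hmem y hy l (Subgroup.mem_sup_left hl)) ((P : Subgroup G).inv_mem hy)
    have hc2 : ⁅l, y⁆ ∈ L := by
      rw [commutatorElement_def, mul_assoc, mul_assoc, ← mul_assoc y]
      exact L.mul_mem hl (hLn.conj_mem _ (L.inv_mem hl) y)
    obtain ⟨j, hj⟩ := P.isPGroup' ⟨_, hc1⟩
    have hR := hRall _ (hLM.le hc2) j (congrArg Subtype.val hj)
    rw [← QuotientGroup.eq_one_iff, ← QuotientGroup.mk'_apply, commutatorElement_def] at hR
    rw [map_mul, map_mul] at hR ⊢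
    rw [map_inv, map_inv, mul_inv_eq_one, mul_inv_eq_iff_eq_mul] at hR
    exact hR
  have hLcen : ∀ g : G, ∀ l ∈ L, ⁅g, l⁆ ∈ R := by
    intro g l hl
    have h1 : g ∈ C := hCtop ▸ Subgroup.mem_top g
    have h2 := Subgroup.mem_centralizer_iff.1 h1 (QuotientGroup.mk' R l) ⟨l, hl, rfl⟩
    rw [← QuotientGroup.eq_one_iff, ← QuotientGroup.mk'_apply, commutatorElement_def, map_mul,
      map_mul, map_mul, map_inv, map_inv, ← h2]
    group
  -- `R` is central
  obtain ⟨mu, hmu⟩ := exists_constituent hcχ hn0 R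
  obtain ⟨dR, hdR⟩ := exists_apply_one_eq (isCharacter_of_isIrr mu.2)
  obtain ⟨eR, heR, hndR⟩ := constituent_degree hχ hn R mu.2 hdR hmu
  have hdR1 : dR = 1 := by
    obtain ⟨d', -, hd', hdvd⟩ := irr_degree_dvd_card mu.2
    rw [hdR] at hd'
    rw [← Nat.cast_inj.1 hd'] at hdvd
    obtain ⟨c, hc⟩ := IsPGroup.iff_card.1 hRp
    rw [hc] at hdvd
    obtain ⟨i, -, hi⟩ := (Nat.dvd_prime_pow hp.out).1 hdvd
    rcases Nat.eq_zero_or_pos i with rfl | hi0
    · rw [hi, pow_zero]
    · exact absurd ((hi ▸ dvd_pow_self p hi0.ne').trans (Dvd.intro_left _ hndR.symm)) hpn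
  set TR := Chars2.inertiaSub (mu : R → ℂ) with hTR
  have hTRn : TR.Normal := by
    refine ⟨fun t ht g => ?_⟩
    -- every conjugate is a conjugate under `L`
    let θL : L → ℂ := fun x => χ x
    have hθL : IsIrrCharacter L θL := by
      rw [show θL = (θ : L → ℂ) from funext hresL]; exact θ.2
    let e := Subgroup.subgroupOfEquivOfLe hRL
    have hmu' : IsIrrCharacter (R.subgroupOf L) ((mu : R → ℂ) ∘ e) := isIrrCharacter_comp_equiv mu.2 e
    have hconj' : IsIrrCharacter (R.subgroupOf L) (Chars2.conjFun (mu : R → ℂ) g ∘ e) :=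
      isIrrCharacter_comp_equiv (Chars2.conjFun_isIrr mu.2 g) e
    have hc1 : classInner (fun x : R.subgroupOf L => θL x) ((mu : R → ℂ) ∘ e) ≠ 0 := by
      rw [show (fun x : R.subgroupOf L => θL x) = (fun x : R => χ x) ∘ e from rfl,
        Chars2.classInner_comp_mulEquiv]
      exact hmu
    have hc2 : classInner (fun x : R.subgroupOf L => θL x)
        (Chars2.conjFun (mu : R → ℂ) g ∘ e) ≠ 0 := by
      rw [show (fun x : R.subgroupOf L => θL x) = (fun x : R => χ x) ∘ e from rfl,
        Chars2.classInner_comp_mulEquiv,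
        Chars2.classInner_restrict_conjFun (isClassFunction_of_isCharacter hcχ)]
      exact hmu
    obtain ⟨l, hl⟩ := Chars2.clifford_constituent hθL hmu' hc1 hconj' hc2
    have hgl : Chars2.conjFun (mu : R → ℂ) g = Chars2.conjFun (mu : R → ℂ) (l : G) := by
      funext x
      have := congrFun hl (e.symm x)
      simp only [Function.comp_apply, MulEquiv.apply_symm_apply] at this
      rw [this]
      rfl
    have hmem : (l : G)⁻¹ * g ∈ TR := by
      rw [hTR, Chars2.mem_inertiaSub, Chars2.conjFun_mul, hgl, ← Chars2.conjFun_mul,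
        inv_mul_cancel, Chars2.conjFun_one]
    set t' := (l : G)⁻¹ * g with ht'
    have e1 : g * t * g⁻¹ = (t' * t * t'⁻¹) * ⁅(t' * t * t'⁻¹)⁻¹, (l : G)⁆ := by
      rw [ht', commutatorElement_def]; group
    rw [e1]
    exact TR.mul_mem (TR.mul_mem (TR.mul_mem hmem ht) (TR.inv_mem hmem))
      (Chars2.le_inertiaSub (isClassFunction_irr mu) (hLcen _ _ l.2))
  have hTRtop : TR = ⊤ := hno TR hTRn fun h =>
    hpn (h.trans (by rw [hndR, mul_assoc]; exact dvd_mul_right _ _))
  obtain ⟨muh, hmuh⟩ := exists_hom_of_degree_one (irr_isCharacter mu) (by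
    rw [hdR, hdR1, Nat.cast_one])
  have hRcen : ∀ z ∈ R, ∀ g : G, g * z = z * g := by
    intro z hz g
    rw [← mul_inv_eq_iff_eq_mul, ← mul_inv_eq_one]
    refine hf _ ?_
    have hmem : g * z * g⁻¹ * z⁻¹ ∈ R := R.mul_mem (hRn.conj_mem z hz g) (R.inv_mem hz)
    have h1 := Chars2.clifford_invariant hχ mu.2 hTRtop hmu ⟨_, hmem⟩
    have h2 := Chars2.clifford_invariant hχ mu.2 hTRtop hmu 1
    change χ _ = _ at h1
    rw [h1, show χ 1 = χ ((1 : R) : G) from rfl, h2]
    congr 1
    rw [hmuh]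
    show (muh _ : ℂ) = (muh 1 : ℂ)
    have hinv : muh ⟨g * z * g⁻¹, hRn.conj_mem z hz g⟩ = muh ⟨z, hz⟩ := by
      have hg : g⁻¹ ∈ TR := hTRtop ▸ Subgroup.mem_top _
      have := congrFun (Chars2.mem_inertiaSub.1 hg) ⟨z, hz⟩
      rw [Chars2.conjFun_apply, hmuh] at this
      simp only [inv_inv, Units.val_inj] at this
      exact this
    rw [show (⟨_, hmem⟩ : R) = ⟨g * z * g⁻¹, hRn.conj_mem z hz g⟩ * ⟨z, hz⟩⁻¹ from rfl, map_mul,
      map_inv, hinv, mul_inv_cancel, map_one]
  have hLab : ∀ a ∈ L, ∀ b ∈ L, a * b = b * a := by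
    intro a ha b hb
    rw [← commutatorElement_eq_one_iff_mul_comm]
    set z := ⁅a, b⁆ with hz
    have hzR : z ∈ R := hLcen a b hb
    have hcz : Commute z a := (hRcen z hzR a).symm
    have hpow : ∀ i : ℕ, a ^ i * b * (a ^ i)⁻¹ = z ^ i * b := by
      intro i
      induction i with
      | zero => simp
      | succ i ih =>
        have e : a ^ (i + 1) * b * (a ^ (i + 1))⁻¹ = a * (a ^ i * b * (a ^ i)⁻¹) * a⁻¹ := by
          simp only [pow_succ', mul_inv_rev, mul_assoc]
        rw [e, ih, ← mul_assoc, ← (hcz.pow_left i).eq, mul_assoc (z ^ i), mul_assoc (z ^ i),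
          show a * b * a⁻¹ = z * b by rw [hz, commutatorElement_def, inv_mul_cancel_right],
          ← mul_assoc, ← pow_succ]
    have ham : a ^ R.relIndex L ∈ R := by
      have := (R.subgroupOf L).pow_index_mem ⟨a, ha⟩
      exact Subgroup.mem_subgroupOf.1 this
    have h1 : z ^ R.relIndex L = 1 := by
      have := hpow (R.relIndex L)
      rw [← hRcen _ ham b, mul_inv_cancel_right] at this
      exact mul_eq_right.1 this.symm
    obtain ⟨c, hc⟩ := hRp ⟨z, hzR⟩
    have h2 : z ^ p ^ c = 1 := congrArg Subtype.val hc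
    have hcop : (R.relIndex L).Coprime (p ^ c) := by
      refine ((hp.out.coprime_iff_not_dvd.2 fun h => hRi ?_).symm).pow_right c
      rw [← Subgroup.relIndex_mul_relIndex R L M hRL hLM.le]
      exact h.trans (dvd_mul_right _ _)
    have := pow_gcd_eq_one.2 ⟨h1, h2⟩
    rwa [hcop.gcd_eq_one, pow_one] at this
  have hd1 : (θ : L → ℂ) 1 = 1 := irr_apply_one_of_comm
    (fun x y => Subtype.ext (hLab x x.2 y y.2)) θ.2
  have hχ1 : χ 1 = 1 := by
    have := hresL 1
    rw [hd1] at this
    exact this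
  obtain ⟨φ, hφ⟩ := exists_hom_of_degree_one hcχ hχ1
  have habel : ∀ x y : G, x * y = y * x := fun x y => by
    rw [← commutatorElement_eq_one_iff_mul_comm]
    refine hf _ ?_
    rw [hφ]
    show (φ _ : ℂ) = (φ 1 : ℂ)
    rw [map_commutatorElement, commutatorElement_eq_one_iff_mul_comm.2 (mul_comm _ _), map_one]
  refine hns ⟨(P : Subgroup G), ⟨fun x hx g => ?_⟩, P.isPGroup', P.not_dvd_index⟩
  rwa [habel g x, mul_inv_cancel_right]

end Cfsg.Agent.Chars.PrimePower
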