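import Cfsg.Agent.BlockChar.PPowerIndex
import Cfsg.Agent.BlockChar.PairDict
import Cfsg.Agent.Blocks.Defect

/-! Blocks of a quotient group and their defect groups. -/

set_option autoImplicit false
set_option linter.unusedSectionVars false
set_option linter.style.haveILetI false

namespace Cfsg.Agent.Chars.Quot

open MonoidAlgebra
open scoped MonoidAlgebra
open Cfsg Cfsg.Agent.Blocks Cfsg.Agent.BlockChar

universe u v

section alg

variable {k : Type v} [Field k] {G : Type u} [Group G] [Fintype G] (N : Subgroup G) [N.Normal]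

variable (k) in
/-- The quotient map of group algebras. -/
noncomputable def pi : k[G] →+* k[G ⧸ N] :=
  MonoidAlgebra.mapDomainRingHom k (QuotientGroup.mk' N)

theorem coeff_pi (z : k[G]) (x : G ⧸ N) [DecidablePred fun g : G => (g : G ⧸ N) = x] :
    (pi k N z).coeff x = ∑ g : G, if (g : G ⧸ N) = x then z.coeff g else 0 := by
  classical
  simp only [pi, MonoidAlgebra.mapDomainRingHom_apply, MonoidAlgebra.coeff_mapDomain,
    Finsupp.mapDomain, Finsupp.sum_apply, Finsupp.single_apply, QuotientGroup.mk'_apply]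
  rw [Finsupp.sum_fintype _ _ fun g => by simp]

theorem centralIn_pi [Fintype (G ⧸ N)] {z : k[G]} (hz : CentralIn (⊤ : Subgroup G) z) :
    CentralIn (⊤ : Subgroup (G ⧸ N)) (pi k N z) := by
  classical
  refine ⟨fun x hx => absurd (Subgroup.mem_top x) hx, fixed_of_coeff fun h _ x => ?_⟩
  obtain ⟨y, rfl⟩ := QuotientGroup.mk_surjective h
  rw [coeff_pi, coeff_pi]
  symm
  refine Fintype.sum_equiv (MulAut.conj y).toEquiv _ _ fun g => ?_
  have h1 : (((MulAut.conj y).toEquiv g : G) : G ⧸ N) = (y : G ⧸ N) * x * (y : G ⧸ N)⁻¹ ↔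
      (g : G ⧸ N) = x := by
    show ((y * g * y⁻¹ : G) : G ⧸ N) = _ ↔ _
    simp
  have h2 : z.coeff ((MulAut.conj y).toEquiv g) = z.coeff g :=
    hz.fixed.coeff (Subgroup.mem_top y) g
  rw [h2]
  split_ifs with ha hb hb
  · rfl
  · exact absurd (h1.mpr ha) hb
  · exact absurd (h1.mp hb) ha
  · rfl

theorem exists_fiber {p : ℕ} [Fact p.Prime] [CharP k p] {R : Subgroup G} (hR : IsPGroup p R)
    {z : k[G]} (hz : Fixed R z) {x : G ⧸ N}
    (hx : x ∈ Subgroup.centralizer (R.map (QuotientGroup.mk' N) : Set (G ⧸ N)))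
    (h : (pi k N z).coeff x ≠ 0) :
    ∃ g ∈ Subgroup.centralizer (R : Set G), (g : G ⧸ N) = x ∧ z.coeff g ≠ 0 := by
  classical
  rw [coeff_pi] at h
  letI act : MulAction R G := MulAction.compHom G ((MulAut.conj : G →* MulAut G).comp R.subtype)
  have hsmul : ∀ (u : R) (a : G), u • a = (u : G) * a * (u : G)⁻¹ := fun u a => rfl
  rw [BlockChar.sum_eq_sum_fixed (k := k) hR _ (fun u a => ?_)] at h
  · obtain ⟨g, hg, hg0⟩ := Finset.exists_ne_zero_of_sum_ne_zero h
    have hgx : (g : G ⧸ N) = x := by by_contra hc; exact hg0 (if_neg hc)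
    rw [if_pos hgx] at hg0
    refine ⟨g, Subgroup.mem_centralizer_iff.mpr fun u hu => ?_, hgx, hg0⟩
    have := (Finset.mem_filter.mp hg).2 ⟨u, hu⟩
    rw [hsmul] at this
    exact mul_inv_eq_iff_eq_mul.mp this
  · have hcomm : ((u : G) : G ⧸ N) * x = x * ((u : G) : G ⧸ N) :=
      Subgroup.mem_centralizer_iff.mp hx _ ⟨u, u.2, rfl⟩
    have hiff : (((u : G) * a * (u : G)⁻¹ : G) : G ⧸ N) = x ↔ (a : G ⧸ N) = x := by
      rw [QuotientGroup.mk_mul, QuotientGroup.mk_mul, QuotientGroup.mk_inv, mul_inv_eq_iff_eq_mul,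
        ← hcomm, mul_right_inj]
    rw [hsmul, hz.coeff u.2]
    by_cases ha : (a : G ⧸ N) = x
    · rw [if_pos ha, if_pos (hiff.mpr ha)]
    · rw [if_neg ha, if_neg (mt hiff.mp ha)]

theorem br_ne_zero_of_pi [Fintype (G ⧸ N)] {p : ℕ} [Fact p.Prime] [CharP k p] {R : Subgroup G}
    (hR : IsPGroup p R) {z : k[G]} (hz : Fixed R z)
    (h : br (R.map (QuotientGroup.mk' N)) (pi k N z) ≠ 0) : br R z ≠ 0 := by
  obtain ⟨x, hx, hx0⟩ := coeff_ne_zero_of_br_ne_zero h
  obtain ⟨g, hg, -, hg0⟩ := exists_fiber N hR hz hx hx0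
  exact br_ne_zero_of_coeff hg hg0

end alg

section lift

variable {G : Type u} [Group G] [Finite G] (N : Subgroup G) [N.Normal]

theorem exists_lift {p : ℕ} [Fact p.Prime] {D : Subgroup (G ⧸ N)} (hD : IsPGroup p D) :
    ∃ R : Subgroup G, IsPGroup p R ∧ R.map (QuotientGroup.mk' N) = D := by
  have hs := (QuotientGroup.mk' N).subgroupComap_surjective_of_surjective D
    (QuotientGroup.mk'_surjective N)
  set φ := (QuotientGroup.mk' N).subgroupComap D
  let S : Sylow p (D.comap (QuotientGroup.mk' N)) := default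
  refine ⟨(S : Subgroup (D.comap (QuotientGroup.mk' N))).map (Subgroup.subtype _),
    S.isPGroup'.map _, ?_⟩
  have htop : (S : Subgroup (D.comap (QuotientGroup.mk' N))).map φ = ⊤ := by
    have h := (S.mapSurjective hs).3 (Q := ⊤) (hD.of_equiv Subgroup.topEquiv.symm) le_top
    rw [← Sylow.coe_mapSurjective hs S]
    exact h.symm
  rw [Subgroup.map_map, show (QuotientGroup.mk' N).comp (Subgroup.subtype _) =
    D.subtype.comp φ from rfl, ← Subgroup.map_map, htop, ← MonoidHom.range_eq_map,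
    Subgroup.range_subtype]

theorem map_conjS (y : G) (P : Subgroup G) :
    (conjS y P).map (QuotientGroup.mk' N) =
      conjS (y : G ⧸ N) (P.map (QuotientGroup.mk' N)) := by
  simp only [conjS, Subgroup.map_map]
  congr 1

end lift

section chars

variable {G : Type u} [Group G] [Fintype G] (N : Subgroup G) [N.Normal] [Fintype (G ⧸ N)]
  {p : ℕ} [Fact p.Prime] {M : Ideal AlgInt} [M.IsMaximal]

open scoped Classical in
/-- The push-forward of a function to the quotient. -/
noncomputable def push (f : G → ℂ) : G ⧸ N → ℂ :=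
  fun x => ∑ g : G, if (g : G ⧸ N) = x then f g else 0

theorem rFun_push {f : G → ℂ} (hf : RFun M f) : RFun M (push N f) := fun x =>
  memR_sum _ _ fun g _ => by split_ifs; exacts [hf g, memR_zero]

theorem isClassFunction_push {f : G → ℂ} (hf : IsClassFunction G f) :
    IsClassFunction (G ⧸ N) (push N f) := by
  classical
  intro x h
  obtain ⟨y, rfl⟩ := QuotientGroup.mk_surjective h
  unfold push
  symm
  refine Fintype.sum_equiv (MulAut.conj y).toEquiv _ _ fun g => ?_
  simp only [MulEquiv.toEquiv_eq_coe, MulEquiv.coe_toEquiv, MulAut.conj_apply]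
  rw [hf g y]
  simp

theorem omega_push (χ : G ⧸ N → ℂ) (f : G → ℂ) :
    omega χ (push N f) = omega (χ ∘ QuotientGroup.mk) f := by
  classical
  simp only [omega, push, Function.comp_apply, QuotientGroup.mk_one, Finset.sum_mul, ite_mul,
    zero_mul]
  rw [Finset.sum_comm]
  congr 1
  exact Finset.sum_congr rfl fun g _ => by simp [eq_comm]

theorem pi_red {f : G → ℂ} (hf : RFun M f) :
    pi (Res M) N (red M (MonoidHom.id G) f) = red M (MonoidHom.id (G ⧸ N)) (push N f) := by
  classical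
  refine (red_ext Function.injective_id (fun x hx => absurd ⟨x, rfl⟩ hx) fun x => ?_).symm
  show (pi (Res M) N _).coeff x = _
  rw [coeff_pi]
  unfold push
  rw [res_sum _ _ fun g _ => by split_ifs; exacts [hf g, memR_zero]]
  refine Finset.sum_congr rfl fun g _ => ?_
  split_ifs
  · exact coeff_red (ι := MonoidHom.id G) Function.injective_id f g
  · exact res_zero.symm

/-- The inflation of an irreducible character. -/
def infl (χ : IrrCharacter (G ⧸ N)) : IrrCharacter G :=
  ⟨(χ : G ⧸ N → ℂ) ∘ QuotientGroup.mk,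
    Chars.isIrrCharacter_comp_surjective χ.2 (QuotientGroup.mk' N)
      (QuotientGroup.mk'_surjective N)⟩

theorem pi_idem_sq (hpM : (p : AlgInt) ∈ M) {B : Set (IrrCharacter G)} (hB : IsPBlock M B) :
    pi (Res M) N (idemG M B) * pi (Res M) N (idemG M B) = pi (Res M) N (idemG M B) := by
  rw [← map_mul, (isBlk_idemG hpM hB).idem]

theorem pi_mul_iff (hpM : (p : AlgInt) ∈ M) {B : Set (IrrCharacter G)} (hB : IsPBlock M B)
    {Bb : Set (IrrCharacter (G ⧸ N))} (hBb : IsPBlock M Bb) {χ : IrrCharacter (G ⧸ N)}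
    (hχ : χ ∈ Bb) :
    pi (Res M) N (idemG M B) * idemG M Bb = idemG M Bb ↔ infl N χ ∈ B := by
  have hR := rFun_blockCoeff hpM hB
  show pi (Res M) N (red M (MonoidHom.id G) (blockCoeff B)) * idem M (MonoidHom.id (G ⧸ N)) Bb =
    idem M (MonoidHom.id (G ⧸ N)) Bb ↔ _
  rw [pi_red N hR, red_mul_idem_iff Function.injective_id hpM hBb hχ
    (isClassFunction_push N (isClassFunction_blockCoeff B)) (rFun_push N hR)
    (by rw [← pi_red N hR]; exact pi_idem_sq N hpM hB), omega_push]
  show MemLocalIdeal M (omega (infl N χ : G → ℂ) (blockCoeff B) - 1) ↔ _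
  by_cases h : infl N χ ∈ B
  · rw [omega_blockCoeff_mem h, sub_self]
    exact iff_of_true memI_zero h
  · rw [omega_blockCoeff_not_mem h, zero_sub]
    exact iff_of_false (fun h' => not_memI_one (M := M) (by simpa using memI_neg h')) h

/-- The defect groups of a block of the quotient lie in images of those of the block above. -/
theorem exists_def_ge (hpM : (p : AlgInt) ∈ M) {B : Set (IrrCharacter G)} (hB : IsPBlock M B)
    {b : (Res M)[G ⧸ N]} (hb : IsBlk ⊤ b) (hle : pi (Res M) N (idemG M B) * b = b)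
    {D : Subgroup (G ⧸ N)} (hD : IsDef p ⊤ b D) :
    ∃ P : Subgroup G, IsDef p (⊤ : Subgroup G) (idemG M B) P ∧
      D ≤ P.map (QuotientGroup.mk' N) := by
  haveI := charP_res (p := p) hpM
  have he := isBlk_idemG hpM hB
  obtain ⟨R, hR, rfl⟩ := exists_lift N hD.pgroup
  have h1 : br (R.map (QuotientGroup.mk' N)) (pi (Res M) N (idemG M B)) ≠ 0 := by
    intro h0
    apply hD.ne_zero
    rw [← hle, br_mul hD.pgroup ((centralIn_pi N he.central).fixed.mono le_top)
      (hb.fixed.mono le_top), h0, zero_mul]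
  obtain ⟨P, hP⟩ := exists_isDef (p := p) he
  obtain ⟨x, hx, hRP⟩ := hP.maximal R le_top hR
    (br_ne_zero_of_pi N hR (he.fixed.mono le_top) h1)
  exact ⟨_, hP.conj he hx, Subgroup.map_mono hRP⟩

/-- For a normal `p`-subgroup, some block below has the image of a defect group as defect group. -/
theorem exists_blk_image_def (hpM : (p : AlgInt) ∈ M) {B : Set (IrrCharacter G)}
    (hB : IsPBlock M B) (hN : IsPGroup p N) {P : Subgroup G}
    (hP : IsDef p (⊤ : Subgroup G) (idemG M B) P) :
    ∃ b : (Res M)[G ⧸ N], IsBlk ⊤ b ∧ pi (Res M) N (idemG M B) * b = b ∧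
      IsDef p ⊤ b (P.map (QuotientGroup.mk' N)) := by
  classical
  haveI := charP_res (p := p) hpM
  have he := isBlk_idemG hpM hB
  have hNP : N ≤ P := le_defect_of_normal hpM hB
    ((isDefectGroup_iff_idemG hpM hB P).mpr hP) inferInstance hN
  obtain ⟨g, hg, hg0⟩ := coeff_ne_zero_of_br_ne_zero hP.ne_zero
  have hreg := isPRegular_of_coeff_blk hpM he hg0
  have hcoef : (pi (Res M) N (idemG M B)).coeff (g : G ⧸ N) = (idemG M B).coeff g := by
    rw [coeff_pi, Finset.sum_eq_single g (fun a _ hne => ?_)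
      (fun h => absurd (Finset.mem_univ g) h), if_pos rfl]
    split_ifs with ha
    · by_contra h0
      apply hne
      have hn : g⁻¹ * a ∈ N := QuotientGroup.eq.mp ha.symm
      have hcomm : Commute g (g⁻¹ * a) :=
        (Subgroup.mem_centralizer_iff.mp hg _ (hNP hn)).symm
      obtain ⟨i, hi⟩ := (IsPGroup.iff_orderOf).mp hN ⟨_, hn⟩
      rw [← Subgroup.orderOf_coe] at hi
      have hord : orderOf a = orderOf g * p ^ i := by
        rw [← hi, ← hcomm.orderOf_mul_eq_mul_orderOf_of_coprime ?_, mul_inv_cancel_left]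
        rw [hi]
        exact ((Nat.Prime.coprime_iff_not_dvd Fact.out).mpr hreg).symm.pow_right i
      have hi0 : i = 0 := by
        by_contra hi0
        exact isPRegular_of_coeff_blk hpM he h0 (hord ▸ (dvd_pow_self p hi0).mul_left _)
      rw [hi0, pow_zero, orderOf_eq_one_iff, inv_mul_eq_one] at hi
      exact hi.symm
    · rfl
  have hgc : (g : G ⧸ N) ∈
      Subgroup.centralizer (P.map (QuotientGroup.mk' N) : Set (G ⧸ N)) := by
    rw [Subgroup.mem_centralizer_iff]
    rintro _ ⟨u, hu, rfl⟩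
    exact congrArg (QuotientGroup.mk' N) (Subgroup.mem_centralizer_iff.mp hg u hu)
  have hbr := br_ne_zero_of_coeff hgc (by rwa [hcoef] : (pi (Res M) N (idemG M B)).coeff _ ≠ 0)
  rw [eq_sum_blks (centralIn_pi N he.central) (pi_idem_sq N hpM hB), map_sum] at hbr
  obtain ⟨b, hb, hbne⟩ := Finset.exists_ne_zero_of_sum_ne_zero hbr
  obtain ⟨hb1, hb2⟩ := Finset.mem_filter.mp hb
  have hblk := mem_blks.mp hb1
  refine ⟨b, hblk, hb2, ?_⟩
  obtain ⟨D, hD⟩ := exists_isDef (p := p) hblk
  obtain ⟨x, hx, hPD⟩ := hD.maximal _ le_top (hP.pgroup.map _) hbne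
  have hD1 := hD.conj hblk hx
  obtain ⟨P1, hP1, hD1le⟩ := exists_def_ge N hpM hB hblk hb2 hD1
  obtain ⟨y, -, rfl⟩ := hP.exists_conj hP1
  rw [map_conjS] at hD1le
  have := Subgroup.card_le_of_le hD1le
  rw [card_conjS (y : G ⧸ N)] at this
  rwa [← Subgroup.eq_of_le_of_card_ge hPD this] at hD1

end chars

end Cfsg.Agent.Chars.Quot
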