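import Cfsg.Agent.Chars.Blichfeldt
import Cfsg.Agent.Chars.GaloisValues
import Cfsg.Agent.Chars.CyclicValues
import Cfsg.Agent.Chars.Gen

/-! Schur's bound: the order of a `p`-group with a faithful rational valued character of degree
`n` divides `p ^ k * k!`, `k = n / (p - 1)`. -/

set_option autoImplicit false
set_option linter.style.haveILetI false
set_option linter.unusedSectionVars false

open Cfsg Cfsg.Agent
open scoped ComplexConjugate

namespace Cfsg.Agent.Chars.SchurPBound

universe u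

variable {G : Type u} [Group G] [Finite G] {p : ℕ} [hp : Fact p.Prime]

omit [Finite G] hp in
theorem exists_sum_range_pow {ψ : G → ℂ} (hψ : IsCharacter G ψ) {n : ℕ} (hn : ψ 1 = n) (x : G)
    {N : ℕ} (hx : x ^ (p * N) = 1) [Finite G] :
    ∃ a b : ℕ, a ≤ b ∧ b ≤ n ∧
      ∑ j ∈ Finset.range (p * N), ψ (x ^ j) = (p * N : ℕ) * (a : ℂ) ∧
      ∑ j ∈ Finset.range N, ψ (x ^ (p * j)) = (N : ℂ) * b := by
  classical
  obtain ⟨d, ρ, rfl⟩ := hψ
  obtain ⟨z, hz, hc, -, -⟩ := exists_eigenvalues ρ x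
  have hd : Module.finrank ℂ (Fin d → ℂ) = n := by
    have := hn
    rw [Representation.char_one] at this
    exact_mod_cast this
  have hz' : ∀ i, z i ^ (p * N) = 1 := fun i => by
    obtain ⟨c, hc'⟩ := orderOf_dvd_of_pow_eq_one hx
    rw [hc', pow_mul, hz i, one_pow]
  refine ⟨(Finset.univ.filter fun i => z i = 1).card,
    (Finset.univ.filter fun i => z i ^ p = 1).card,
    Finset.card_le_card (fun i => by simp +contextual), ?_, ?_, ?_⟩
  · exact (Finset.card_le_univ _).trans (le_of_eq (by rw [Fintype.card_fin, hd]))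
  · simp_rw [hc]
    rw [Finset.sum_comm, Finset.sum_congr rfl fun i _ => sum_pow_root (hz' i), Finset.sum_ite,
      Finset.sum_const_zero, add_zero, Finset.sum_const, nsmul_eq_mul, mul_comm]
  · simp_rw [hc, pow_mul]
    rw [Finset.sum_comm, Finset.sum_congr rfl fun i _ =>
        sum_pow_root (t := z i ^ p) (N := N) (by rw [← pow_mul]; exact hz' i), Finset.sum_ite,
      Finset.sum_const_zero, add_zero, Finset.sum_const, nsmul_eq_mul, mul_comm]

theorem int_modEq_pow (c : ℤ) : c ^ p ≡ c [ZMOD p] := by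
  rw [← ZMod.intCast_eq_intCast_iff]
  push_cast
  exact ZMod.pow_card _

/-- The values of a rational valued character of a `p`-group. -/
theorem value_bounds (hG : IsPGroup p G) {ψ : G → ℂ} (hψ : IsCharacter G ψ) {n : ℕ}
    (hn : ψ 1 = n) (hrat : ∀ (σ : ℂ ≃+* ℂ) (g : G), σ (ψ g) = ψ g) (x : G) :
    ∃ v : ℤ, ψ x = v ∧ (p : ℤ) ∣ (n : ℤ) - v ∧ v ≤ n ∧ -(n : ℤ) ≤ ((p : ℤ) - 1) * v := by
  classical
  haveI := Fintype.ofFinite G
  have hint : ∀ g : G, ∃ v : ℤ, ψ g = v := fun g =>
    exists_int_of_fixed (by obtain ⟨d, ρ, rfl⟩ := hψ; exact rep_char_isIntegral ρ g) fun σ => hrat σ g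
  choose v hv using hint
  have hcong : ∀ (a : ℕ) (y : G), y ^ p ^ a = 1 → (p : ℤ) ∣ (n : ℤ) - v y := by
    intro a
    induction a with
    | zero =>
      intro y hy
      rw [pow_zero, pow_one] at hy
      subst hy
      have : v 1 = n := by
        have h := hv 1
        rw [hn] at h
        exact_mod_cast h.symm
      rw [this, sub_self]; exact dvd_zero _
    | succ a ih =>
      intro y hy
      have h1 := ih (y ^ p) (by rw [← pow_mul, ← pow_succ']; exact hy)
      have h2 := gen_prime_congr (isGen_of_isCharacter hψ) hp.out y (hv y) (hv (y ^ p))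
      have h3 := Int.modEq_iff_dvd.1 (int_modEq_pow (p := p) (v y)).symm
      have := dvd_add (dvd_add h1 h2) h3
      exact (Int.dvd_add_right (dvd_refl _)).1 (dvd_add (dvd_refl (p : ℤ)) (by
        convert this using 1; ring))
  refine ⟨v x, hv x, ?_⟩
  obtain ⟨a, ha⟩ := hG x
  refine ⟨hcong a x ha, ?_⟩
  obtain ⟨b, hb⟩ : ∃ b, orderOf x = p ^ b :=
    let ⟨b, _, hb⟩ := (Nat.dvd_prime_pow hp.out).1 (orderOf_dvd_of_pow_eq_one ha); ⟨b, hb⟩
  have hp2 : (2 : ℤ) ≤ p := by exact_mod_cast hp.out.two_le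
  rcases Nat.eq_zero_or_pos b with rfl | hb0
  · rw [pow_zero, orderOf_eq_one_iff] at hb
    subst hb
    have : v 1 = n := by
      have h := hv 1
      rw [hn] at h
      exact_mod_cast h.symm
    rw [this]
    exact ⟨le_rfl, le_trans (by linarith) (mul_nonneg (by linarith) (Int.natCast_nonneg n))⟩
  obtain ⟨c, rfl⟩ := Nat.exists_eq_add_of_le hb0
  set N := p ^ c with hNdef
  have hxN : x ^ (p * N) = 1 := by
    rw [hNdef, ← pow_succ', Nat.add_comm, ← hb, pow_orderOf_eq_one]
  obtain ⟨A, B, hAB, hBn, h1, h2⟩ := exists_sum_range_pow hψ hn x hxN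
  have hgen : ∀ j, ¬ p ∣ j → ψ (x ^ j) = ψ x := by
    intro j hj
    obtain ⟨r, hr⟩ := IsPGroup.iff_card.1 hG
    obtain ⟨σ, hσ⟩ := exists_aut_of_coprime (G := G) (k := j) (by
      rw [hr]; exact ((hp.out.coprime_iff_not_dvd.2 hj).symm).pow_right r)
    rw [← hσ ψ hψ x, hrat]
  have hsplit : ∑ j ∈ Finset.range (p * N), ψ (x ^ j) =
      ∑ j ∈ Finset.range N, ψ (x ^ (p * j)) + ((p * N : ℕ) - N : ℂ) * ψ x := by
    have hbij : ((Finset.range (p * N)).filter fun j => p ∣ j) =
        (Finset.range N).image (p * ·) := by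
      ext j
      simp only [Finset.mem_filter, Finset.mem_range, Finset.mem_image]
      constructor
      · rintro ⟨hj, k, rfl⟩
        exact ⟨k, Nat.lt_of_mul_lt_mul_left hj, rfl⟩
      · rintro ⟨k, hk, rfl⟩
        exact ⟨Nat.mul_lt_mul_of_pos_left hk hp.out.pos, dvd_mul_right _ _⟩
    have hinj : Set.InjOn (p * ·) (Finset.range N : Set ℕ) := fun a _ b _ h =>
      Nat.eq_of_mul_eq_mul_left hp.out.pos h
    have hcard : ((Finset.range (p * N)).filter fun j => ¬ p ∣ j).card + N = p * N := by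
      have := Finset.card_filter_add_card_filter_not (s := Finset.range (p * N)) (fun j => p ∣ j)
      rw [hbij, Finset.card_image_of_injOn hinj, Finset.card_range, Finset.card_range] at this
      omega
    rw [← Finset.sum_filter_add_sum_filter_not (Finset.range (p * N)) (fun j => p ∣ j), hbij,
      Finset.sum_image hinj, Finset.sum_congr rfl fun j hj => hgen j (Finset.mem_filter.1 hj).2,
      Finset.sum_const, nsmul_eq_mul]
    congr 2
    have h : (((Finset.range (p * N)).filter fun j => ¬ p ∣ j).card : ℂ) + N = (p * N : ℕ) := by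
      exact_mod_cast hcard
    linear_combination h
  rw [h1, h2, hv x] at hsplit
  have hkey : ((p : ℤ) - 1) * v x = p * A - B := by
    have hN0 : (N : ℂ) ≠ 0 := Nat.cast_ne_zero.2 (pow_ne_zero _ hp.out.ne_zero)
    have : ((((p : ℤ) - 1) * v x : ℤ) : ℂ) = (((p : ℤ) * A - B : ℤ) : ℂ) := by
      apply mul_left_cancel₀ hN0
      push_cast at hsplit ⊢
      linear_combination -hsplit
    exact_mod_cast this
  have hA : (A : ℤ) ≤ B := by exact_mod_cast hAB
  have hB : (B : ℤ) ≤ n := by exact_mod_cast hBn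
  have hA0 : (0 : ℤ) ≤ A := Int.natCast_nonneg A
  constructor
  · by_contra hlt
    push Not at hlt
    have : ((p : ℤ) - 1) * n < ((p : ℤ) - 1) * v x := mul_lt_mul_of_pos_left hlt (by linarith)
    nlinarith
  · rw [hkey]
    nlinarith

/-- Schur's theorem. -/
theorem card_dvd (hG : IsPGroup p G) {ψ : G → ℂ} (hψ : IsCharacter G ψ) {n m : ℕ}
    (hn : ψ 1 = n) (hnm : n ≤ m) (hf : ∀ g : G, ψ g = ψ 1 → g = 1)
    (hrat : ∀ (σ : ℂ ≃+* ℂ) (g : G), σ (ψ g) = ψ g) :
    Nat.card G ∣ p ^ (m / (p - 1)) * (m / (p - 1)).factorial := by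
  classical
  haveI := Fintype.ofFinite G
  set k := m / (p - 1) with hk
  have hp1 : 0 < p - 1 := by have := hp.out.two_le; omega
  let f : G → ℂ := fun g => ∏ j ∈ Finset.Icc 1 k, (ψ g - ((n : ℂ) - (p : ℂ) * j))
  have hf1 : f 1 = ((p ^ k * k.factorial : ℕ) : ℂ) := by
    simp only [f, hn, sub_sub_cancel]
    rw [Finset.prod_mul_distrib, Finset.prod_const, Nat.card_Icc, Nat.add_sub_cancel]
    push_cast
    congr 1
    rw [← Nat.cast_prod, ← Finset.Ico_add_one_right_eq_Icc, Finset.prod_Ico_id_eq_factorial]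
  have hf0 : ∀ g : G, g ≠ 1 → f g = 0 := by
    intro g hg
    obtain ⟨v, hv, ⟨j, hj⟩, hle, hge⟩ := value_bounds hG hψ hn hrat g
    have hj1 : 1 ≤ j := by
      by_contra hlt
      have hne : v ≠ n := fun h => hg (hf g (by rw [hv, hn, h, Int.cast_natCast]))
      have : j < 0 ∨ j = 0 := by omega
      rcases this with h | h
      · nlinarith [hp.out.two_le]
      · subst h; exact hne (by linarith)
    have hjk : j.toNat ≤ k := by
      rw [hk, Nat.le_div_iff_mul_le hp1]
      have hle' : ((j.toNat * (p - 1) : ℕ) : ℤ) ≤ (m : ℤ) := by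
        push_cast [Int.toNat_of_nonneg (by omega : (0 : ℤ) ≤ j), Nat.cast_sub hp.out.one_le]
        have hp2 : (2 : ℤ) ≤ p := by exact_mod_cast hp.out.two_le
        have hnm' : (n : ℤ) ≤ m := by exact_mod_cast hnm
        have hv' : v = n - p * j := by linarith
        rw [hv'] at hge
        nlinarith
      exact_mod_cast hle'
    refine Finset.prod_eq_zero (i := j.toNat) (Finset.mem_Icc.2 ⟨by omega, hjk⟩) ?_
    have hj' : ((j.toNat : ℕ) : ℂ) = (j : ℂ) := by
      rw [← Int.cast_natCast, Int.toNat_of_nonneg (by omega)]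
    have hC : ((n : ℂ) - v) = p * j := by exact_mod_cast hj
    rw [hv, hj']
    linear_combination -hC
  have hgenf : IsGeneralizedCharacter G f := by
    have : ∀ s : Finset ℕ, IsGeneralizedCharacter G
        (fun g => ∏ j ∈ s, (ψ g - ((n : ℂ) - (p : ℂ) * j))) := by
      intro s
      induction s using Finset.induction_on with
      | empty => simpa using isGen_one (G := G)
      | insert a s ha ih =>
        have e : (fun g => ∏ j ∈ insert a s, (ψ g - ((n : ℂ) - (p : ℂ) * j))) =
            (ψ - (((n : ℤ) - (p : ℤ) * a : ℤ) : ℂ) • fun _ => (1 : ℂ)) *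
              fun g => ∏ j ∈ s, (ψ g - ((n : ℂ) - (p : ℂ) * j)) := by
          funext g
          rw [Finset.prod_insert ha, Pi.mul_apply, Pi.sub_apply, Pi.smul_apply, smul_eq_mul]
          push_cast
          ring
        rw [e]
        exact isGen_mul (isGen_sub (isGen_of_isCharacter hψ) (isGen_intCast_smul isGen_one _)) ih
    exact this _
  obtain ⟨z, hz⟩ := exists_classInner_eq_int hgenf (isGen_one (G := G))
  rw [classInner, Finset.sum_eq_single 1
    (fun g _ hg => by rw [hf0 g hg, zero_mul]) (fun h => absurd (Finset.mem_univ 1) h), hf1,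
    map_one, mul_one] at hz
  have hG0 : (Nat.card G : ℂ) ≠ 0 := Nat.cast_ne_zero.2 Nat.card_pos.ne'
  have : ((p ^ k * k.factorial : ℕ) : ℤ) = (Nat.card G : ℤ) * z := by
    have h : ((p ^ k * k.factorial : ℕ) : ℂ) = (Nat.card G : ℂ) * z := by
      rw [← hz, mul_inv_cancel_left₀ hG0]
    exact_mod_cast h
  exact Int.natCast_dvd_natCast.1 ⟨z, this⟩

omit [Finite G] in
/-- The exponent of `p` in `p ^ k * k!`. -/
theorem factorization_bound (n : ℕ) :
    (p ^ (n / (p - 1)) * (n / (p - 1)).factorial).factorization p ≤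
      ∑ i ∈ Finset.range (n + 1), n / ((p - 1) * p ^ i) := by
  set k := n / (p - 1) with hk
  rw [Nat.factorization_mul (pow_ne_zero _ hp.out.ne_zero) k.factorial_ne_zero,
    Finsupp.add_apply, hp.out.factorization_pow, Finsupp.single_eq_same,
    Nat.factorization_def _ hp.out,
    padicValNat_factorial (b := n + 1) (Nat.lt_succ_of_le ((Nat.log_le_self p k).trans (Nat.div_le_self _ _)))]
  have e : ∀ i, n / ((p - 1) * p ^ i) = k / p ^ i := fun i => (Nat.div_div_eq_div_mul _ _ _).symm
  simp only [e]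
  rw [Finset.range_eq_Ico, Finset.sum_eq_sum_Ico_succ_bot (Nat.succ_pos n), pow_zero, Nat.div_one]

end Cfsg.Agent.Chars.SchurPBound
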