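import Cfsg.Agent.Chars.SU3SylowCoords
import Mathlib

/-!
Automorphisms of the coordinatised Sylow 2-subgroup of `SU₃(q)`, `q` even.
-/

set_option autoImplicit false

namespace Cfsg.Agent.Chars

section Field

variable {F : Type*} [Field F] [Fintype F] [CharP F 2] {n q : ℕ}

theorem fix_facts (hn : 1 ≤ n) (hq : q = 2 ^ n) (hF : Fintype.card F = q ^ 2) :
    (∀ a b : F, (a + b) ^ q = a ^ q + b ^ q) ∧ (∀ a : F, (a ^ q) ^ q = a) ∧
      ∀ S : Finset F, (∀ a ∈ S, a ^ q = a) → S.card ≤ q := by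
  have hq2 : 2 ≤ q := by
    rw [hq]; exact (Nat.pow_le_pow_right (by norm_num) hn : 2 ^ 1 ≤ 2 ^ n)
  refine ⟨fun a b => hq ▸ add_pow_char_pow a b 2 n, fun a => ?_, fun S hS => ?_⟩
  · rw [← pow_mul, ← pow_two, ← hF]; exact FiniteField.pow_card a
  · have hsub : S.val ≤ (Polynomial.X ^ q - Polynomial.X : Polynomial F).roots := by
      refine Finset.val_le_iff_val_subset.2 fun c hc => ?_
      rw [Polynomial.mem_roots (FiniteField.X_pow_card_sub_X_ne_zero F (by omega))]
      simp [sub_eq_zero.2 (hS c hc)]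
    have h1 := Multiset.card_le_card hsub
    have h3 := Polynomial.card_roots' (Polynomial.X ^ q - Polynomial.X : Polynomial F)
    rw [FiniteField.X_pow_card_sub_X_natDegree_eq F (by omega : 1 < q)] at h3
    exact h1.trans h3

/-- An involutory pair of additive maps compatible with the norm fixes every norm. -/
theorem involution_fix (hn : 1 ≤ n) (hq : q = 2 ^ n) (hF : Fintype.card F = q ^ 2) (fv fg : F →+ F)
    (hv : ∀ a, fv (fv a) = a) (hg : ∀ z, z ^ q = z → fg z ^ q = fg z)
    (hgg : ∀ z, z ^ q = z → fg (fg z) = z)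
    (hN : ∀ a, fg (a ^ (q + 1)) = fv a ^ (q + 1)) : ∀ z, z ^ q = z → fg z = z := by
  classical
  obtain ⟨hfq, hqq, hfix⟩ := fix_facts hn hq hF
  have hq0 : q ≠ 0 := by rw [hq]; positivity
  have hadd : ∀ a : F, a + a = 0 := CharTwo.add_self_eq_zero
  have hB : ∀ a b, fg (a ^ q * b + b ^ q * a) = fv a ^ q * fv b + fv b ^ q * fv a := fun a b => by
    have h := hN (a + b)
    rw [map_add fv, pow_succ, pow_succ, hfq, hfq,
      show (a ^ q + b ^ q) * (a + b) = a ^ (q + 1) + b ^ (q + 1) + (a ^ q * b + b ^ q * a) by ring,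
      map_add, map_add, hN, hN] at h
    linear_combination h
  let T : F →+ F := fv + AddMonoidHom.id F
  let L : F → Finset F := fun c => Finset.univ.filter fun v => c ^ q * v + v ^ q * c = 0
  have hL : ∀ c, c ≠ 0 → ∀ v, v ∈ L c ↔ ∃ t : F, t ^ q = t ∧ v = t * c := by
    intro c hc v
    simp only [L, Finset.mem_filter, Finset.mem_univ, true_and]
    constructor
    · intro h
      refine ⟨v / c, ?_, (div_mul_cancel₀ v hc).symm⟩
      rw [div_pow, div_eq_div_iff (pow_ne_zero q hc) hc]
      linear_combination h - hadd (v * c ^ q)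
    · rintro ⟨t, ht, rfl⟩
      rw [mul_pow, ht]
      linear_combination hadd (t * (c ^ q * c))
  have hC : q ≤ Nat.card T.ker := by
    have h := T.ker.card_mul_index
    rw [AddSubgroup.index_ker, Nat.card_eq_fintype_card (α := F), hF] at h
    have hle : T.range ≤ T.ker := by
      rintro _ ⟨a, rfl⟩
      show fv (fv a + a) + (fv a + a) = 0
      rw [map_add, hv, add_comm a (fv a), hadd]
    have := Nat.card_le_card_of_injective _ (AddSubgroup.inclusion_injective hle)
    by_contra hlt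
    nlinarith
  have hmemC : ∀ a, a ∈ T.ker ↔ fv a = a := fun a => CharTwo.add_eq_zero
  obtain ⟨c, hc0, hc⟩ : ∃ c, c ≠ 0 ∧ fv c = c := by
    by_contra hno
    push Not at hno
    have : T.ker = ⊥ := (AddSubgroup.eq_bot_iff_forall _).2 fun a ha => by
      by_contra h0; exact hno a h0 ((hmemC a).1 ha)
    rw [this, AddSubgroup.card_bot] at hC
    have : 2 ≤ q := by rw [hq]; exact (Nat.pow_le_pow_right (by norm_num) hn : 2 ^ 1 ≤ 2 ^ n)
    omega
  intro z hz
  by_cases hcase : ∀ w, fv w = w → w ∈ L c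
  · -- the fixed points form a line
    have hLle : (L c).card ≤ q := by
      have h := hfix ((L c).image fun v => v / c) (by
        intro t ht
        obtain ⟨v, hv, rfl⟩ := Finset.mem_image.1 ht
        obtain ⟨s, hs, rfl⟩ := (hL c hc0 v).1 hv
        rw [mul_div_cancel_right₀ _ hc0, hs])
      rwa [Finset.card_image_of_injective _ (fun a b h => by
        simpa [div_left_inj' hc0] using h)] at h
    have hsub : (Finset.univ.filter fun w => fv w = w) ⊆ L c := fun w hw =>
      hcase w (Finset.mem_filter.1 hw).2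
    have heq := Finset.eq_of_subset_of_card_le hsub (hLle.trans (hC.trans (le_of_eq (by
      rw [Nat.card_eq_fintype_card, Fintype.card_subtype]
      congr 1; ext w; simp [hmemC]))))
    obtain ⟨r, hr⟩ := FiniteField.isSquare_of_char_two (ringChar.eq F 2) (z / c ^ (q + 1))
    have hNc : (c ^ (q + 1)) ^ q = c ^ (q + 1) := by rw [pow_succ, mul_pow, hqq, mul_comm]
    have hrq : r ^ q = r := CharTwo.sq_injective (by
      show (r ^ q) ^ 2 = r ^ 2
      rw [← pow_mul, mul_comm, pow_mul, pow_two, ← hr, div_pow, hz, hNc])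
    have hz' : z = (r * c) ^ (q + 1) := by
      have h0 : c ^ (q + 1) ≠ 0 := pow_ne_zero _ hc0
      rw [eq_comm, eq_div_iff h0] at hr
      rw [← hr, mul_pow, pow_succ r, hrq]
    have hmem : r * c ∈ Finset.univ.filter fun w => fv w = w := heq ▸ (hL c hc0 _).2 ⟨r, hrq, rfl⟩
    rw [hz', hN, (Finset.mem_filter.1 hmem).2]
  · push Not at hcase
    obtain ⟨w, hw, hwL⟩ := hcase
    set e := c ^ q * w + w ^ q * c with he
    have he0 : e ≠ 0 := fun h => hwL (by simp [L, ← he, h])
    have hw0 : w ≠ 0 := fun h => he0 (by rw [he, h, zero_pow hq0]; ring)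
    have heq : e ^ q = e := by rw [he, hfq, mul_pow, mul_pow, hqq, hqq]; ring
    set σ : F → F := fun t => fg (t * e) / e with hσ
    have hσfix : ∀ t, t ^ q = t → σ t ^ q = σ t := fun t ht => by
      simp only [hσ]
      rw [div_pow, heq, hg _ (by rw [mul_pow, ht, heq])]
    have hσadd : ∀ s t, σ (s + t) = σ s + σ t := fun s t => by
      simp only [hσ]; rw [add_mul, map_add, add_div]
    have hσσ : ∀ t, t ^ q = t → σ (σ t) = t := fun t ht => by
      simp only [hσ]
      rw [div_mul_cancel₀ _ he0, hgg _ (by rw [mul_pow, ht, heq]), mul_div_cancel_right₀ _ he0]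
    have hfge : fg e = e := by
      have := hB c w; rwa [hc, hw, ← he] at this
    have hline : ∀ u, u ≠ 0 → fv u = u → ∀ t, t ^ q = t → ∃ s, s ^ q = s ∧ fv (t * u) = s * u := by
      intro u hu0 hu t ht
      have h := hB u (t * u)
      rw [hu, show u ^ q * (t * u) + (t * u) ^ q * u = 0 by
        rw [mul_pow, ht]; linear_combination hadd (t * (u ^ q * u)), map_zero] at h
      exact (hL u hu0 _).1 (by simp [L, ← h])
    have hvw : ∀ t, t ^ q = t → fv (t * w) = σ t * w := by
      intro t ht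
      obtain ⟨s, hs, hsv⟩ := hline w hw0 hw t ht
      have h := hB c (t * w)
      rw [hc, hsv, mul_pow, mul_pow, ht, hs,
        show c ^ q * (t * w) + t * w ^ q * c = t * e by rw [he]; ring,
        show c ^ q * (s * w) + s * w ^ q * c = s * e by rw [he]; ring] at h
      rw [hsv]; congr 1; simp only [hσ]; rw [h, mul_div_cancel_right₀ _ he0]
    have hvc : ∀ t, t ^ q = t → fv (t * c) = σ t * c := by
      intro t ht
      obtain ⟨s, hs, hsv⟩ := hline c hc0 hc t ht
      have h := hB w (t * c)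
      rw [hw, hsv, mul_pow, mul_pow, ht, hs,
        show w ^ q * (t * c) + t * c ^ q * w = t * e by rw [he]; ring,
        show w ^ q * (s * c) + s * c ^ q * w = s * e by rw [he]; ring] at h
      rw [hsv]; congr 1; simp only [hσ]; rw [h, mul_div_cancel_right₀ _ he0]
    have hσmul : ∀ s t, s ^ q = s → t ^ q = t → σ (s * t) = σ s * σ t := by
      intro s t hs ht
      have h := hB (s * c) (t * w)
      rw [hvc s hs, hvw t ht, mul_pow, mul_pow, mul_pow, mul_pow, hs, ht, hσfix s hs, hσfix t ht,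
        show s * c ^ q * (t * w) + t * w ^ q * (s * c) = s * t * e by rw [he]; ring,
        show σ s * c ^ q * (σ t * w) + σ t * w ^ q * (σ s * c) = σ s * σ t * e by rw [he]; ring] at h
      show fg (s * t * e) / e = _
      rw [h, mul_div_cancel_right₀ _ he0]
    have hσ1 : σ 1 = 1 := by simp only [hσ, one_mul, hfge]; exact div_self he0
    suffices hid : ∀ t, t ^ q = t → σ t = t by
      have h := hid (z / e) (by rw [div_pow, hz, heq])
      simp only [hσ] at h
      rwa [div_mul_cancel₀ _ he0, div_left_inj' he0] at h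
    by_contra hne
    push Not at hne
    obtain ⟨θ₀, hθ₀, hθ₀'⟩ := hne
    set δ := θ₀ + σ θ₀ with hδ
    have hδ0 : δ ≠ 0 := fun h => hθ₀' (CharTwo.add_eq_zero.1 h).symm
    have hδq : δ ^ q = δ := by rw [hδ, hfq, hθ₀, hσfix θ₀ hθ₀]
    have hδσ : σ δ = δ := by rw [hδ, hσadd, hσσ θ₀ hθ₀, add_comm]
    set θ := θ₀ / δ with hθdef
    have hθ : θ ^ q = θ := by rw [hθdef, div_pow, hθ₀, hδq]
    have hθσ : σ θ = θ + 1 := by
      have h := hσmul θ δ hθ hδq
      rw [hθdef, div_mul_cancel₀ _ hδ0, ← hθdef, hδσ] at h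
      rw [eq_comm, ← eq_div_iff hδ0] at h
      rw [h, hθdef, div_add_one hδ0]
      congr 1
      rw [hδ]; linear_combination -hadd θ₀
    -- fixed field
    let F0 : AddSubgroup F :=
      { carrier := {t | t ^ q = t ∧ σ t = t}
        zero_mem' := ⟨zero_pow hq0, by simp [hσ]⟩
        add_mem' := fun {a b} ha hb => ⟨by rw [hfq, ha.1, hb.1], by rw [hσadd, ha.2, hb.2]⟩
        neg_mem' := fun {a} ha => by rw [CharTwo.neg_eq]; exact ha }
    let Q : F0 →+ F0 := AddMonoidHom.mk' (fun t => ⟨t.1 * t.1 + t.1,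
        by rw [hfq, mul_pow, t.2.1], by rw [hσadd, hσmul _ _ t.2.1 t.2.1, t.2.2]⟩)
      (fun a b => Subtype.ext (by
        show (a.1 + b.1) * (a.1 + b.1) + (a.1 + b.1) = _
        simp only [AddSubgroup.coe_add]
        linear_combination hadd (a.1 * b.1)))
    have hidx : Q.range.index = 2 := by
      have hk : Nat.card Q.ker = 2 := by
        rw [Nat.card_eq_two_iff]
        refine ⟨0, ⟨⟨1, one_pow q, hσ1⟩, Subtype.ext (by show (1 : F) * 1 + 1 = 0; rw [one_mul, hadd])⟩,
          fun h => zero_ne_one (congrArg (fun x : Q.ker => ((x : F0) : F)) h), Set.eq_univ_of_forall fun x => ?_⟩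
        have hx : (x.1.1) * (x.1.1 + 1) = 0 := by
          have := congrArg Subtype.val (x.2 : Q x.1 = 0)
          change x.1.1 * x.1.1 + x.1.1 = 0 at this
          linear_combination this
        rcases mul_eq_zero.1 hx with h | h
        · exact Or.inl (Subtype.ext (Subtype.ext h))
        · exact Or.inr (Subtype.ext (Subtype.ext (CharTwo.add_eq_zero.1 h)))
      have h1 := Q.range.card_mul_index
      have h2 := Q.ker.card_mul_index
      rw [AddSubgroup.index_ker, hk] at h2
      rw [← h2, mul_comm 2] at h1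
      exact Nat.eq_of_mul_eq_mul_left Nat.card_pos h1
    have hk0 : θ * θ + θ ∈ F0 := by
      refine ⟨by rw [hfq, mul_pow, hθ], ?_⟩
      rw [hσadd, hσmul _ _ hθ hθ, hθσ]
      linear_combination hadd θ + hadd (1 : F)
    have hknot : (⟨θ * θ + θ, hk0⟩ : F0) ∉ Q.range := by
      rintro ⟨t, ht⟩
      have h := congrArg Subtype.val ht
      change t.1 * t.1 + t.1 = θ * θ + θ at h
      have h' : (θ + t.1) * (θ + t.1 + 1) = 0 := by
        linear_combination h + hadd (θ * θ + θ) + hadd (θ * t.1)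
      have hθF : σ θ = θ := by
        rcases mul_eq_zero.1 h' with h'' | h''
        · rw [CharTwo.add_eq_zero.1 h'']; exact t.2.2
        · rw [show θ = t.1 + 1 by linear_combination h'' - hadd t.1 - hadd (1 : F)]
          rw [hσadd, t.2.2, hσ1]
      exact one_ne_zero (α := F) (by linear_combination hθF - hθσ)
    set x := c ^ (q + 1) / e with hx
    set y := w ^ (q + 1) / e with hy
    have hNq : ∀ a : F, (a ^ (q + 1)) ^ q = a ^ (q + 1) := fun a => by
      rw [pow_succ, mul_pow, hqq, mul_comm]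
    have hxy : ∀ a : F, fv a = a → (a ^ (q + 1) / e) ^ q = a ^ (q + 1) / e ∧
        σ (a ^ (q + 1) / e) = a ^ (q + 1) / e := fun a ha =>
      ⟨by rw [div_pow, hNq, heq], by simp only [hσ]; rw [div_mul_cancel₀ _ he0, hN, ha]⟩
    have hxyF : x * y ∈ F0 :=
      ⟨by rw [mul_pow, (hxy c hc).1, (hxy w hw).1],
        by rw [hσmul _ _ (hxy c hc).1 (hxy w hw).1, (hxy c hc).2, (hxy w hw).2]⟩
    obtain ⟨s, hs, hsol⟩ : ∃ s : F, s ^ q = s ∧ s * s + s = x * y := by
      by_cases hin : (⟨x * y, hxyF⟩ : F0) ∈ Q.range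
      · obtain ⟨t, ht⟩ := hin
        exact ⟨t.1, t.2.1, congrArg Subtype.val ht⟩
      · obtain ⟨t, ht⟩ := (AddSubgroup.add_mem_iff_of_index_two hidx).2 (iff_of_false hin hknot)
        refine ⟨t.1 + θ, by rw [hfq, t.2.1, hθ], ?_⟩
        have h := congrArg Subtype.val ht
        change t.1 * t.1 + t.1 = x * y + (θ * θ + θ) at h
        linear_combination h + hadd (t.1 * θ) + hadd (θ * θ + θ)
    have hx0 : x ≠ 0 := div_ne_zero (pow_ne_zero _ hc0) he0
    have hsol' : (s / x) ^ (2 : ℕ) * x + s / x + y = 0 := by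
      field_simp
      linear_combination hsol + hadd (x * y)
    set t := s / x with ht
    have htq : t ^ q = t := by rw [ht, div_pow, hs, (hxy c hc).1]
    have hzero : (t * c + w) ^ (q + 1) = 0 := by
      have hxe : x * e = c ^ q * c := by rw [hx, div_mul_cancel₀ _ he0, pow_succ]
      have hye : y * e = w ^ q * w := by rw [hy, div_mul_cancel₀ _ he0, pow_succ]
      rw [pow_succ, hfq, mul_pow, htq]
      linear_combination e * hsol' - t ^ 2 * hxe - hye - t * he
    have h0 := pow_eq_zero_iff (by omega) |>.1 hzero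
    refine hwL ((hL c hc0 w).2 ⟨t, htq, ?_⟩)
    exact (CharTwo.add_eq_zero.1 h0).symm

end Field

section Group

variable {F : Type*} [Field F] [Fintype F] [CharP F 2] {n q : ℕ} {X : Type*} [Group X]

theorem SUCoords.at_one (C : SUCoords F q X) (hq0 : q ≠ 0) : C.α 1 = 0 ∧ C.γ 1 = 0 := by
  have h1 := C.add 1 1
  have h1' := C.mul 1 1
  rw [mul_one] at h1 h1'
  have h0 : C.α 1 = 0 := add_eq_left.1 h1.symm
  rw [h0, mul_zero, add_zero] at h1'
  exact ⟨h0, add_eq_left.1 h1'.symm⟩

theorem SUCoords.mem_center_iff (C : SUCoords F q X) (hn : 1 ≤ n) (hq : q = 2 ^ n)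
    (hF : Fintype.card F = q ^ 2) (hsur : ∀ a, ∃ x, C.α x = a) (x : X) :
    x ∈ Subgroup.center X ↔ C.α x = 0 := by
  classical
  obtain ⟨hfq, hqq, hfix⟩ := fix_facts hn hq hF
  have hq0 : q ≠ 0 := by rw [hq]; positivity
  rw [Subgroup.mem_center_iff]
  constructor
  · intro h
    by_contra ha
    have hcom : ∀ b : F, C.α x ^ q * b = b ^ q * C.α x := fun b => by
      obtain ⟨y, rfl⟩ := hsur b
      have h' := congrArg C.γ (h y)
      rw [C.mul, C.mul, add_comm (C.γ x) (C.γ y)] at h'
      exact (add_left_cancel h').symm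
    have h1 := hcom 1
    rw [one_pow, mul_one, one_mul] at h1
    have hall : ∀ b : F, b ^ q = b := fun b => by
      have := hcom b
      rw [h1, mul_comm (b ^ q)] at this
      exact (mul_left_cancel₀ ha this).symm
    have := hfix Finset.univ (fun b _ => hall b)
    rw [Finset.card_univ, hF] at this
    have : 2 ≤ q := by rw [hq]; exact (Nat.pow_le_pow_right (by norm_num) hn : 2 ^ 1 ≤ 2 ^ n)
    nlinarith
  · intro h y
    refine C.inj _ _ ?_ ?_
    · rw [C.add, C.add, add_comm]
    · rw [C.mul, C.mul, h, zero_pow hq0]; ring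

theorem SUCoords.exists_alpha (C : SUCoords F q X) (hn : 1 ≤ n) (hq : q = 2 ^ n)
    (hF : Fintype.card F = q ^ 2) (a : F) : ∃ x, C.α x = a := by
  classical
  obtain ⟨hfq, hqq, hfix⟩ := fix_facts hn hq hF
  let T : F →+ F := AddMonoidHom.mk' (fun c => c + c ^ q) fun a b => by rw [hfq]; ring
  let Fx : Finset F := Finset.univ.filter fun c => c ^ q = c
  have hle : Fx.card ≤ q := hfix Fx fun c hc => (Finset.mem_filter.1 hc).2
  have hker : Nat.card T.ker = Fx.card := by
    rw [Nat.card_eq_fintype_card, Fintype.card_subtype]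
    congr 1; ext c; simp only [Fx, Finset.mem_filter, Finset.mem_univ, true_and]
    show c + c ^ q = 0 ↔ c ^ q = c
    rw [CharTwo.add_eq_zero]; exact eq_comm
  have hsub : (Finset.univ.filter fun c => c ∈ T.range) ⊆ Fx := by
    intro z hz
    obtain ⟨c, rfl⟩ := (Finset.mem_filter.1 hz).2
    refine Finset.mem_filter.2 ⟨Finset.mem_univ _, ?_⟩
    show (c + c ^ q) ^ q = c + c ^ q
    rw [hfq, hqq, add_comm]
  have hr : Nat.card T.range = (Finset.univ.filter fun c => c ∈ T.range).card := by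
    rw [Nat.card_eq_fintype_card, Fintype.card_subtype]
  have hmul := T.ker.card_mul_index
  rw [AddSubgroup.index_ker, hker, hr, Nat.card_eq_fintype_card (α := F), hF] at hmul
  have heq := Finset.eq_of_subset_of_card_le hsub (by
    have := Finset.card_le_card hsub
    nlinarith)
  have hN : a ^ (q + 1) ∈ Fx := Finset.mem_filter.2 ⟨Finset.mem_univ _, by
    rw [pow_succ, mul_pow, hqq, mul_comm]⟩
  rw [← heq, Finset.mem_filter] at hN
  obtain ⟨c, hc⟩ := hN.2
  obtain ⟨x, hx, -⟩ := C.sur a c hc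
  exact ⟨x, hx⟩

/-- The pair of additive maps induced by an automorphism. -/
theorem SUCoords.exists_induced (C : SUCoords F q X) (hn : 1 ≤ n) (hq : q = 2 ^ n)
    (hF : Fintype.card F = q ^ 2) (f : MulAut X) :
    ∃ fv fg : F →+ F, (∀ x, fv (C.α x) = C.α (f x)) ∧
      (∀ x, C.α x = 0 → fg (C.γ x) = C.γ (f x)) ∧ (∀ z, z ^ q = z → fg z ^ q = fg z) ∧
      ∀ a, fg (a ^ (q + 1)) = fv a ^ (q + 1) := by
  classical
  obtain ⟨hfq, hqq, hfix⟩ := fix_facts hn hq hF
  have hq0 : q ≠ 0 := by rw [hq]; positivity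
  have hsur := C.exists_alpha hn hq hF
  have hcen := C.mem_center_iff hn hq hF hsur
  have hone := C.at_one hq0
  have hz : ∀ x, C.α x = 0 → C.α (f x) = 0 := fun x hx => by
    have h := ((Subgroup.characteristic_iff_map_eq.1 (inferInstance : (Subgroup.center X).Characteristic)) f)
    exact (hcen _).1 (h ▸ ⟨x, (hcen x).2 hx, rfl⟩)
  choose r hr using hsur
  have hwd : ∀ x y, C.α x = C.α y → C.α (f x) = C.α (f y) := fun x y h => by
    have h1 : C.α (x⁻¹ * y) = 0 := by
      have h2 := C.add x (x⁻¹ * y)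
      rw [mul_inv_cancel_left, ← h] at h2
      exact add_eq_left.1 h2.symm
    conv_rhs => rw [show y = x * (x⁻¹ * y) by group, map_mul, C.add, hz _ h1, add_zero]
  let fv : F →+ F := AddMonoidHom.mk' (fun a => C.α (f (r a))) fun a b => by
    rw [hwd (r (a + b)) (r a * r b) (by rw [C.add, hr, hr, hr]), map_mul, C.add]
  -- the fixed points of the q-power map
  let T : F →+ F := AddMonoidHom.mk' (fun c => c + c ^ q) fun a b => by rw [hfq]; ring
  have hzex : ∀ z, z ∈ T.ker → ∃ x, C.α x = 0 ∧ C.γ x = z := fun z hz' =>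
    C.sur 0 z (by rw [zero_pow (by omega)]; exact hz')
  choose s hs0 hsγ using hzex
  let g0 : T.ker →+ F := AddMonoidHom.mk' (fun z => C.γ (f (s z.1 z.2))) fun a b => by
    have h : s (a + b : T.ker).1 (a + b : T.ker).2 = s a.1 a.2 * s b.1 b.2 := C.inj _ _
      (by rw [C.add, hs0, hs0, hs0, add_zero])
      (by rw [C.mul, hsγ, hsγ, hsγ, hs0, hs0, mul_zero, add_zero]; rfl)
    rw [h, map_mul, C.mul, hz _ (hs0 _ _), hz _ (hs0 _ _), mul_zero, add_zero]
  have hext : ∃ G : F →+ F, ∀ z (h : z ∈ T.ker), G z = g0 ⟨z, h⟩ := by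
    letI : Algebra (ZMod 2) F := ZMod.algebra F 2
    let K : Submodule (ZMod 2) F := AddSubgroup.toZModSubmodule 2 T.ker
    let g1 : K →+ F := g0.comp ⟨⟨fun z => ⟨z.1, z.2⟩, rfl⟩, fun a b => rfl⟩
    obtain ⟨G, hG⟩ := LinearMap.exists_extend (g1.toZModLinearMap 2)
    exact ⟨G.toAddMonoidHom, fun z h => LinearMap.congr_fun hG ⟨z, h⟩⟩
  obtain ⟨fg, hfg⟩ := hext
  have hker : ∀ x, C.α x = 0 → C.γ x ∈ T.ker := fun x hx => by
    show C.γ x + C.γ x ^ q = 0
    rw [C.mem, hx, zero_pow (by omega)]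
  have hfgx : ∀ x, C.α x = 0 → fg (C.γ x) = C.γ (f x) := fun x hx => by
    rw [hfg _ (hker x hx)]
    show C.γ (f (s _ _)) = _
    rw [C.inj (s _ (hker x hx)) x (by rw [hs0, hx]) (hsγ _ _)]
  refine ⟨fv, fg, fun x => hwd _ x (hr _), hfgx, fun z hz' => ?_, fun a => ?_⟩
  · have hzk : z ∈ T.ker := by show z + z ^ q = 0; rw [hz', CharTwo.add_self_eq_zero]
    rw [← hsγ z hzk, hfgx _ (hs0 _ _)]
    have := hker _ (hz _ (hs0 z hzk))
    exact (CharTwo.add_eq_zero.1 this).symm
  · have h1 : C.α (r a * r a) = 0 := by rw [C.add, CharTwo.add_self_eq_zero]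
    have h2 : C.γ (r a * r a) = a ^ (q + 1) := by
      rw [C.mul, CharTwo.add_self_eq_zero, zero_add, hr, pow_succ]
    rw [← h2, hfgx _ h1, map_mul, C.mul, CharTwo.add_self_eq_zero, zero_add, pow_succ]
    rfl

/-- An automorphism whose square is trivial on the centre and modulo the centre fixes the centre. -/
theorem SUCoords.involution_center (C : SUCoords F q X) (hn : 1 ≤ n) (hq : q = 2 ^ n)
    (hF : Fintype.card F = q ^ 2) (f : MulAut X) (h1 : ∀ x, C.α (f (f x)) = C.α x)
    (h2 : ∀ x, C.α x = 0 → f (f x) = x) (x : X) (hx : C.α x = 0) : f x = x := by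
  obtain ⟨fv, fg, hv, hg, hgq, hN⟩ := C.exists_induced hn hq hF f
  have hq0 : q ≠ 0 := by rw [hq]; positivity
  have hsur := C.exists_alpha hn hq hF
  have hcen := C.mem_center_iff hn hq hF hsur
  have hfx0 : ∀ y, C.α y = 0 → C.α (f y) = 0 := fun y hy => by
    rw [← hv, hy, map_zero]
  have key := involution_fix hn hq hF fv fg
    (fun a => by obtain ⟨y, rfl⟩ := hsur a; rw [hv, hv, h1])
    hgq
    (fun z hz => by
      obtain ⟨y, hy, rfl⟩ := C.sur 0 z (by rw [zero_pow (by omega), hz, CharTwo.add_self_eq_zero])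
      rw [hg y hy, hg _ (hfx0 y hy), h2 y hy]) hN
  refine C.inj _ _ ((hfx0 x hx).trans hx.symm) ?_
  rw [← hg x hx, key]
  have := C.mem x
  rw [hx, zero_pow (by omega), CharTwo.add_eq_zero] at this
  exact this.symm

end Group

end Cfsg.Agent.Chars
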