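import Cfsg.Agent.KnownA.UnitaryCtx
import Cfsg.Agent.Forms.UnitaryOrder
import Mathlib.FieldTheory.Finite.Basic
import Mathlib.GroupTheory.Sylow

/-!
Coordinates on a Sylow 2-subgroup of `SU₃(q)` and `PSU₃(q)`, `q` even.
-/

set_option autoImplicit false

namespace Cfsg.Agent.Chars

open Cfsg.Agent.KnownA
open Cfsg.Agent.Forms (frobQ frobQ_apply)

/-- Coordinates of the unitary unipotent group on a group `X`. -/
structure SUCoords (F : Type*) [Field F] (q : ℕ) (X : Type*) [Group X] where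
  α : X → F
  γ : X → F
  inj : ∀ x y, α x = α y → γ x = γ y → x = y
  add : ∀ x y, α (x * y) = α x + α y
  mul : ∀ x y, γ (x * y) = γ x + γ y + (α x) ^ q * α y
  mem : ∀ x, γ x + γ x ^ q = α x ^ (q + 1)
  sur : ∀ a c, c + c ^ q = a ^ (q + 1) → ∃ x, α x = a ∧ γ x = c

/-- Transport coordinates along an isomorphism. -/
def SUCoords.congr {F : Type*} [Field F] {q : ℕ} {X Y : Type*} [Group X] [Group Y]
    (C : SUCoords F q X) (e : Y ≃* X) : SUCoords F q Y where
  α y := C.α (e y)
  γ y := C.γ (e y)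
  inj x y h h' := e.injective (C.inj _ _ h h')
  add x y := by rw [map_mul]; exact C.add _ _
  mul x y := by rw [map_mul]; exact C.mul _ _
  mem x := C.mem _
  sur a c h := by
    obtain ⟨x, hx⟩ := C.sur a c h
    exact ⟨e.symm x, by simpa using hx⟩

theorem card_of_coords {F : Type*} [Field F] [Fintype F] [CharP F 2] {n q : ℕ} (hn : 2 ≤ n)
    (hq : q = 2 ^ n) (hF : Fintype.card F = q ^ 2) {X : Type*} [Group X] [Finite X]
    (α γ : X → F) (hinj : ∀ x y, α x = α y → γ x = γ y → x = y)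
    (hα : ∀ x y, α (x * y) = α x + α y)
    (hγ : ∀ x y, γ (x * y) = γ x + γ y + (α x) ^ q * α y)
    (hmem : ∀ x, γ x + γ x ^ q = α x ^ (q + 1))
    (hsur : ∀ a c, c + c ^ q = a ^ (q + 1) → ∃ x, α x = a ∧ γ x = c) :
    Nat.card X = q ^ 3 := by
  subst hq
  classical
  set q := 2 ^ n with hq
  have hq4 : 4 ≤ q := le_trans (by norm_num) (Nat.pow_le_pow_right (by omega) hn : 2 ^ 2 ≤ q)
  have hadd : ∀ a : F, a + a = 0 := CharTwo.add_self_eq_zero
  have hqq : ∀ a : F, (a ^ q) ^ q = a := fun a => by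
    rw [← pow_mul, ← pow_two, ← hF]; exact FiniteField.pow_card a
  have hfq : ∀ a b : F, (a + b) ^ q = a ^ q + b ^ q := fun a b => add_pow_char_pow a b 2 n
  let T : F →+ F := AddMonoidHom.mk' (fun c => c + c ^ q) fun a b => by rw [hfq]; ring
  let Fix : Set F := {c | c ^ q = c}
  have hFixle : Nat.card Fix ≤ q := by
    have hsub : Fix.toFinset.val ≤ (Polynomial.X ^ q - Polynomial.X : Polynomial F).roots := by
      refine Finset.val_le_iff_val_subset.2 fun c hc => ?_
      rw [Finset.mem_val, Set.mem_toFinset] at hc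
      rw [Polynomial.mem_roots (FiniteField.X_pow_card_sub_X_ne_zero F (by omega))]
      simp [sub_eq_zero.2 (hc : c ^ q = c)]
    have h1 := Multiset.card_le_card hsub
    have h3 := Polynomial.card_roots' (Polynomial.X ^ q - Polynomial.X : Polynomial F)
    rw [FiniteField.X_pow_card_sub_X_natDegree_eq F (by omega : 1 < q)] at h3
    rw [Nat.card_eq_card_toFinset]
    exact h1.trans h3
  have hker : (T.ker : Set F) = Fix := by
    ext c
    show c + c ^ q = 0 ↔ c ^ q = c
    rw [CharTwo.add_eq_zero]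
    exact eq_comm
  have hrange : (T.range : Set F) ⊆ Fix := by
    rintro _ ⟨c, rfl⟩
    show (c + c ^ q) ^ q = c + c ^ q
    rw [hfq, hqq, add_comm]
  have hprod : Nat.card T.ker * Nat.card T.range = q ^ 2 := by
    rw [← AddSubgroup.index_ker, AddSubgroup.card_mul_index, Nat.card_eq_fintype_card, hF]
  have hkc : Nat.card T.ker = Nat.card Fix := Nat.card_congr (Equiv.setCongr hker)
  have hrle : Nat.card T.range ≤ Nat.card Fix := Nat.card_mono (Set.toFinite Fix) hrange
  have hFixc : Nat.card Fix = q := by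
    have h1 : q ^ 2 ≤ Nat.card Fix * Nat.card Fix := by
      rw [← hprod, hkc]; exact Nat.mul_le_mul_left _ hrle
    refine le_antisymm hFixle ?_
    by_contra hlt
    push Not at hlt
    nlinarith [Nat.mul_self_lt_mul_self hlt]
  have hTsur : ∀ z ∈ Fix, ∃ c, c + c ^ q = z := by
    intro z hz
    have : (T.range : Set F) = Fix := Set.eq_of_subset_of_ncard_le hrange (by
      rw [← Nat.card_coe_set_eq, ← Nat.card_coe_set_eq]
      refine Nat.le_of_mul_le_mul_left (a := Nat.card Fix) ?_ (lt_of_lt_of_eq (by omega : 0 < q) hFixc.symm)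
      rw [show Nat.card (T.range : Set F) = Nat.card T.range from rfl]
      rw [hkc] at hprod
      rw [hprod, hFixc, pow_two]) (Set.toFinite _)

    rw [← this] at hz
    exact hz
  have hN : ∀ a : F, a ^ (q + 1) ∈ Fix := fun a => by
    show (a ^ (q + 1)) ^ q = a ^ (q + 1)
    rw [pow_succ, mul_pow, hqq, mul_comm]
  choose s hs using fun a : F => hTsur _ (hN a)
  have hb : ∀ b : F, ∃ y, α y = b := fun b => by
    obtain ⟨y, hy, -⟩ := hsur b (s b) (hs b)
    exact ⟨y, hy⟩
  have hcard : Nat.card X = q ^ 3 := by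
    have : Nat.card X = Nat.card (F × Fix) := Nat.card_congr (Equiv.ofBijective
      (fun x => (α x, (⟨γ x + s (α x), by
        show (γ x + s (α x)) ^ q = γ x + s (α x)
        rw [hfq]
        exact CharTwo.add_eq_zero.1 (by linear_combination hmem x + hs (α x) + hadd (α x ^ (q + 1)))⟩ : Fix)))
      ⟨fun x y h => by
        have h' := Prod.mk.inj h
        have h'' : γ x + s (α x) = γ y + s (α y) := congrArg Subtype.val h'.2
        rw [h'.1] at h''
        exact hinj x y h'.1 (add_right_cancel h''),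
       fun ⟨a, z⟩ => by
        obtain ⟨x, hx, hx'⟩ := hsur a (z.1 + s a) (by
          rw [hfq, (show z.1 ^ q = z.1 from z.2)]
          linear_combination hadd z.1 + hs a)
        refine ⟨x, ?_⟩
        simp only [hx, hx']
        refine Prod.ext rfl (Subtype.ext ?_)
        show z.1 + s a + s a = z.1
        rw [add_assoc, hadd, add_zero]⟩)
    rw [this, Nat.card_prod, hFixc, Nat.card_eq_fintype_card, hF]; ring
  exact hcard

theorem exists_coords {F : Type*} [Field F] [Fintype F] {n q : ℕ} (hn : 2 ≤ n) (hq : q = 2 ^ n)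
    (hF : Fintype.card F = q ^ 2) :
    (∀ S : Sylow 2 (Cfsg.SU 3 F q), Nonempty (SUCoords F q ↥(S : Subgroup (Cfsg.SU 3 F q)))) ∧
      ∀ S : Sylow 2 (Cfsg.PSU 3 F q), Nonempty (SUCoords F q ↥(S : Subgroup (Cfsg.PSU 3 F q))) := by
  classical
  haveI : Fact (Nat.Prime 2) := ⟨Nat.prime_two⟩
  haveI : CharP F 2 := by
    have h : ((Fintype.card F : ℕ) : F) = 0 := Nat.cast_card_eq_zero F
    rw [hF, hq, ← pow_mul, Nat.cast_pow] at h
    exact CharTwo.of_one_ne_zero_of_two_eq_zero one_ne_zero (pow_eq_zero_iff (by omega) |>.1 h)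
  have h2 : (2 : F) = 0 := CharTwo.two_eq_zero
  have hq4 : 4 ≤ q := le_trans (by norm_num) ((Nat.pow_le_pow_right (by omega) hn : 2 ^ 2 ≤ 2 ^ n).trans_eq hq.symm)
  have hq0 : q ≠ 0 := by omega
  have hqq : ∀ a : F, (a ^ q) ^ q = a := fun a => by
    rw [← pow_mul, ← pow_two, ← hF]; exact FiniteField.pow_card a
  have hfq : ∀ a b : F, (a + b) ^ q = a ^ q + b ^ q := fun a b => hq ▸ add_pow_char_pow a b 2 n
  have hub : ∀ u v : Fin 3 → F, ub hF u v = v 0 * u 0 ^ q + v 1 * u 1 ^ q + v 2 * u 2 ^ q := fun u v => by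
    rw [ub, Forms.hermB_apply, Cfsg.hermForm, Fin.sum_univ_three]
  set e : Fin 3 → F := ![1, 1, 0] with he
  set d : Fin 3 → F := ![0, 0, 1] with hd
  have hee : ub hF e e = 0 := by rw [hub]; simp [he, hq0]; linear_combination h2
  have hed : ∀ a : F, ub hF e (a • d) = 0 := fun a => by rw [hub]; simp [he, hd, hq0]
  have hdd : ∀ a b : F, ub hF (a • d) (b • d) = a ^ q * b := fun a b => by
    rw [hub]; simp [hd, hq0]; ring
  have hiff : ∀ a c : F, c + c ^ q = a ^ (q + 1) ↔ c + frobQ hF c = -ub hF (a • d) (a • d) := fun a c => by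
    rw [hdd, frobQ_apply, CharTwo.neg_eq, pow_succ]
  let x0 : Fin 3 → F := ![1, 0, 0]
  let α : Cfsg.SU 3 F q → F := fun r => act r x0 2
  let γ : Cfsg.SU 3 F q → F := fun r => act r x0 1
  have hval : ∀ a c : F, c + c ^ q = a ^ (q + 1) →
      α (root hF e (a • d) c) = a ∧ γ (root hF e (a • d) c) = c := by
    intro a c h
    have h' : ub hF e x0 = 1 := by rw [hub]; simp [he, x0, hq0]
    have h'' : ub hF (a • d) x0 = 0 := by rw [hub]; simp [hd, x0, hq0]
    constructor <;>
      · simp only [α, γ, act_root hF hee (hed a) ((hiff a c).1 h), h', h'']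
        simp [he, hd, x0]
  have hmul : ∀ a c b c' : F, c + c ^ q = a ^ (q + 1) → c' + c' ^ q = b ^ (q + 1) →
      root hF e (a • d) c * root hF e (b • d) c' = root hF e ((a + b) • d) (c + c' + a ^ q * b) := by
    intro a c b c' h h'
    rw [root_mul hF hee (hed a) (hed b) ((hiff a c).1 h) ((hiff b c').1 h'), add_smul, hdd, CharTwo.sub_eq_add]
  have hclosed : ∀ a c b c' : F, c + c ^ q = a ^ (q + 1) → c' + c' ^ q = b ^ (q + 1) →
      (c + c' + a ^ q * b) + (c + c' + a ^ q * b) ^ q = (a + b) ^ (q + 1) := by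
    intro a c b c' h h'
    rw [pow_succ] at h h' ⊢
    rw [hfq, hfq, mul_pow, hqq, hfq]
    linear_combination h + h'
  have hone : root hF e ((0 : F) • d) 0 = 1 := by
    have h0 : (0 : F) + 0 ^ q = 0 ^ (q + 1) := by simp [hq0]
    refine su_ext fun x => ?_
    rw [act_root hF hee (hed 0) ((hiff 0 0).1 h0), zero_smul, ub_zero_left hF]
    simp [act_one]
  let R : Subgroup (Cfsg.SU 3 F q) :=
    { carrier := {r | ∃ a c, c + c ^ q = a ^ (q + 1) ∧ r = root hF e (a • d) c}
      mul_mem' := by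
        rintro _ _ ⟨a, c, h, rfl⟩ ⟨b, c', h', rfl⟩
        exact ⟨_, _, hclosed a c b c' h h', hmul a c b c' h h'⟩
      one_mem' := ⟨0, 0, by simp [hq0], hone.symm⟩
      inv_mem' := by
        rintro _ ⟨a, c, h, rfl⟩
        have h' : (c + a ^ (q + 1)) + (c + a ^ (q + 1)) ^ q = a ^ (q + 1) := by
          rw [hfq, show (a ^ (q + 1)) ^ q = a ^ (q + 1) by rw [pow_succ, mul_pow, hqq, mul_comm]]
          linear_combination h + a ^ (q + 1) * h2
        refine ⟨a, c + a ^ (q + 1), h', inv_eq_of_mul_eq_one_right ?_⟩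
        rw [hmul a c a _ h h', ← hone]
        congr 1
        · rw [CharTwo.add_self_eq_zero]
        · rw [pow_succ]
          linear_combination (c + a ^ q * a) * h2 }
  have hR : ∀ r : R, ∃ a c, c + c ^ q = a ^ (q + 1) ∧ (r : Cfsg.SU 3 F q) = root hF e (a • d) c := fun r => r.2
  have l1 : ∀ x y : R, α x = α y → γ x = γ y → x = y := by
    intro x y h1 h3
    obtain ⟨a, c, h, ex⟩ := hR x
    obtain ⟨b, c', h', ey⟩ := hR y
    refine Subtype.ext ?_
    rw [ex, ey] at h1 h3
    rw [(hval a c h).1, (hval b c' h').1] at h1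
    rw [(hval a c h).2, (hval b c' h').2] at h3
    rw [ex, ey, h1, h3]
  have l2 : ∀ x y : R, α (x * y : R) = α x + α y := by
    intro x y
    obtain ⟨a, c, h, ex⟩ := hR x
    obtain ⟨b, c', h', ey⟩ := hR y
    rw [Subgroup.coe_mul, ex, ey, hmul a c b c' h h', (hval _ _ (hclosed a c b c' h h')).1, (hval a c h).1,
      (hval b c' h').1]
  have l3 : ∀ x y : R, γ (x * y : R) = γ x + γ y + (α x) ^ q * α y := by
    intro x y
    obtain ⟨a, c, h, ex⟩ := hR x
    obtain ⟨b, c', h', ey⟩ := hR y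
    rw [Subgroup.coe_mul, ex, ey, hmul a c b c' h h', (hval _ _ (hclosed a c b c' h h')).2, (hval a c h).2,
      (hval b c' h').2, (hval a c h).1, (hval b c' h').1]
  have l4 : ∀ x : R, γ x + γ x ^ q = α x ^ (q + 1) := by
    intro x
    obtain ⟨a, c, h, ex⟩ := hR x
    rw [ex, (hval a c h).1, (hval a c h).2, h]
  have l5 : ∀ a c, c + c ^ q = a ^ (q + 1) → ∃ x : R, α x = a ∧ γ x = c :=
    fun a c h => ⟨⟨_, a, c, h, rfl⟩, hval a c h⟩
  have hRc : Nat.card R = q ^ 3 := card_of_coords hn hq hF (fun x : R => α x) (fun x : R => γ x) l1 l2 l3 l4 l5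
  -- pass to the quotient
  let π : Cfsg.SU 3 F q →* Cfsg.PSU 3 F q := QuotientGroup.mk' _
  have hπ : Function.Injective (π.comp R.subtype) := by
    rw [injective_iff_map_eq_one]
    intro r hr
    have hz : (r : Cfsg.SU 3 F q) ∈ Subgroup.center (Cfsg.SU 3 F q) := by
      rw [← QuotientGroup.eq_one_iff]; exact hr
    have h1 : orderOf r ∣ q ^ 3 := hRc ▸ orderOf_dvd_natCard r
    have h3 : orderOf r ∣ 3 := by
      rw [← Subgroup.orderOf_coe, ← Subgroup.orderOf_mk (r : Cfsg.SU 3 F q) hz]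
      refine (orderOf_dvd_natCard _).trans ?_
      rw [Forms.card_center_SU hF (by norm_num)]
      exact Nat.gcd_dvd_left _ _
    have hcop : Nat.Coprime (q ^ 3) 3 := by
      rw [hq, ← pow_mul]; exact Nat.Coprime.pow_left _ (by norm_num)
    exact orderOf_eq_one_iff.1 (Nat.eq_one_of_dvd_coprimes hcop h1 h3)
  have hmapc : Nat.card (R.map π) = q ^ 3 := by
    rw [← R.range_subtype, MonoidHom.map_range, ← Nat.card_congr (MonoidHom.ofInjective hπ).toEquiv, hRc]
  have hG := Forms.card_PSU hF (n := 3) (by norm_num)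
  simp only [Finset.prod_range_succ, Finset.prod_range_zero, one_mul] at hG
  norm_num [Nat.even_iff] at hG
  try rw [← Nat.card_eq_fintype_card] at hG
  have hindex : ¬ 2 ∣ (R.map π).index := by
    intro hdvd
    have h := (R.map π).card_mul_index
    rw [hmapc] at h
    change q ^ 3 * _ = Nat.card (Cfsg.SU 3 F q ⧸ Subgroup.center (Cfsg.SU 3 F q)) at h
    rw [← h] at hG
    obtain ⟨k, hk⟩ := hdvd
    rw [hk] at hG
    have h4 : 2 ∣ (q + 1) * ((q ^ 2 - 1) * (q ^ 3 + 1)) := by
      refine ⟨Nat.gcd 3 (q + 1) * ((q + 1) * k), ?_⟩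
      refine Nat.eq_of_mul_eq_mul_left (pow_pos (by omega : 0 < q) 3) ?_
      linarith
    have hev : Even q := by rw [hq]; exact (Nat.even_pow).2 ⟨even_two, by omega⟩
    have ho1 : Odd (q + 1) := hev.add_one
    have ho2 : Odd (q ^ 2 - 1) :=
      Nat.Even.sub_odd (Nat.one_le_iff_ne_zero.2 (pow_ne_zero _ hq0)) ((Nat.even_pow).2 ⟨hev, by omega⟩) odd_one
    have ho3 : Odd (q ^ 3 + 1) := ((Nat.even_pow).2 ⟨hev, by omega⟩).add_one
    exact (Nat.not_even_iff_odd.2 (ho1.mul (ho2.mul ho3))) (even_iff_two_dvd.2 h4)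
  let P : Sylow 2 (Cfsg.PSU 3 F q) :=
    (IsPGroup.of_card (n := n * 3) (by rw [hmapc, hq, pow_mul])).toSylow hindex
  have eR : R ≃* (R.map π : Subgroup (Cfsg.PSU 3 F q)) :=
    (MonoidHom.ofInjective hπ).trans (MulEquiv.subgroupCongr (by rw [← MonoidHom.map_range, R.range_subtype]))
  have C : SUCoords F q R :=
    ⟨fun x => α x, fun x => γ x, l1, l2, l3, l4, l5⟩
  refine ⟨fun S => ⟨C.congr ?_⟩, fun S =>
    ⟨C.congr ((Sylow.equiv S P).trans ((MulEquiv.subgroupCongr (IsPGroup.toSylow_coe _ _)).trans eR.symm))⟩⟩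
  have hnd : ¬ 2 ∣ R.index := fun h => by
    have h1 := R.card_mul_index
    have h2' := (R.map π).card_mul_index
    have h3 := (Subgroup.center (Cfsg.SU 3 F q)).card_mul_index
    rw [hRc] at h1
    rw [hmapc] at h2'
    change q ^ 3 * _ = (Subgroup.center (Cfsg.SU 3 F q)).index at h2'
    rw [← h2', Forms.card_center_SU hF (by norm_num), ← h1, ← mul_assoc, mul_comm (Nat.gcd _ _) (q ^ 3),
      mul_assoc] at h3
    rw [← Nat.eq_of_mul_eq_mul_left (pow_pos (by omega : 0 < q) 3) h3] at h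
    rcases (Nat.prime_two.dvd_mul).1 h with h' | h'
    · exact absurd (h'.trans (Nat.gcd_dvd_left 3 (q + 1))) (by norm_num)
    · exact hindex h'
  let P' : Sylow 2 (Cfsg.SU 3 F q) :=
    (IsPGroup.of_card (n := n * 3) (by rw [hRc, hq, pow_mul])).toSylow hnd
  exact (Sylow.equiv S P').trans (MulEquiv.subgroupCongr (IsPGroup.toSylow_coe _ _))

end Cfsg.Agent.Chars
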