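import Cfsg.Agent.Chars.DegreesBelowPrime

/-!
Sylow subgroups of prime order `p` of a simple group: a character of degree `p - 1` in the
principal block forces self-centralisation; restriction to a cyclic group of order `2p`.
-/

set_option autoImplicit false
set_option linter.style.haveILetI false
set_option linter.unusedSectionVars false

open Cfsg Cfsg.Agent Cfsg.Agent.Blocks
open scoped ComplexConjugate

namespace Cfsg.Agent.Chars.SelfCentralising

universe u

variable {G : Type u} [Group G] [Finite G] {p : ℕ} [hp : Fact p.Prime]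

/-- A faithful character of degree `p - 1` with value `-1` on `x y` forces `C_G(P) = P`. -/
theorem centralizer_eq_of_degree_pred [Fintype G] [IsSimpleGroup G] (hp3 : 3 ≤ p) (P : Sylow p G)
    (hsq : Nat.card P = p) {χ : IrrCharacter G} (hχd : charDegree (χ : G → ℂ) = p - 1)
    (hval : ∀ x : G, x ∈ (P : Subgroup G) → x ≠ 1 → ∀ y : G,
      y ∈ Subgroup.centralizer ((P : Subgroup G) : Set G) → ¬ p ∣ orderOf y →
      (χ : G → ℂ) (x * y) = -1) :
    Subgroup.centralizer ((P : Subgroup G) : Set G) = P := by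
  classical
  have hpp := (Fact.out : p.Prime)
  haveI : Fintype (P : Subgroup G) := Fintype.ofFinite _
  haveI : IsCyclic (P : Subgroup G) := isCyclic_of_prime_card hsq
  have hPab : ∀ x ∈ (P : Subgroup G), ∀ y ∈ (P : Subgroup G), x * y = y * x := fun x hx y hy =>
    congrArg Subtype.val ((IsCyclic.commGroup (α := (P : Subgroup G))).mul_comm ⟨x, hx⟩ ⟨y, hy⟩)
  have hdeg : (χ : G → ℂ) 1 = (charDegree (χ : G → ℂ) : ℂ) := (Blocks.charDegree_eq χ.2).1
  refine le_antisymm (fun y hy => ?_) fun x hx =>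
    Subgroup.mem_centralizer_iff.2 fun z hz => hPab z hz x hx
  obtain ⟨n, ρ, hi, hρ⟩ := χ.2
  have hfin : (Module.finrank ℂ (Fin n → ℂ) : ℂ) = ((p : ℂ) - 1) := by
    rw [← Representation.char_one ρ, hρ, hdeg, hχd, Nat.cast_sub hpp.one_le, Nat.cast_one]
  let E : Module.End ℂ (Fin n → ℂ) := (p : ℂ)⁻¹ • ∑ x : (P : Subgroup G), ρ (x : G)
  have hp0 : (p : ℂ) ≠ 0 := Nat.cast_ne_zero.2 hpp.ne_zero
  have hE : IsIdempotentElem E := by
    show E * E = E
    simp only [E]
    rw [smul_mul_assoc, mul_smul_comm, Finset.sum_mul]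
    rw [show ∑ x : (P : Subgroup G), ρ (x : G) * ∑ y : (P : Subgroup G), ρ (y : G) =
        ∑ _x : (P : Subgroup G), ∑ y : (P : Subgroup G), ρ (y : G) from
      Finset.sum_congr rfl fun x _ => by
        rw [Finset.mul_sum]
        exact Fintype.sum_equiv (Equiv.mulLeft x) _ _ fun y => by simp [map_mul]]
    rw [Finset.sum_const, Finset.card_univ, ← Nat.card_eq_fintype_card, hsq, ← Nat.cast_smul_eq_nsmul ℂ,
      smul_smul, smul_smul, mul_assoc, inv_mul_cancel₀ hp0, mul_one]
  have hsum : ∀ y : G, y ∈ Subgroup.centralizer ((P : Subgroup G) : Set G) → ¬ p ∣ orderOf y →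
      ∑ x : (P : Subgroup G), ρ.character ((x : G) * y) = ρ.character y - ((p : ℂ) - 1) := by
    intro y hy hyp
    rw [← Finset.add_sum_erase _ _ (Finset.mem_univ (1 : (P : Subgroup G))),
      Finset.sum_congr (g := fun _ : (P : Subgroup G) => (-1 : ℂ)) rfl (fun x hx => by
        rw [hρ]
        exact hval x x.2 (fun h' => Finset.ne_of_mem_erase hx (Subtype.ext h')) y hy hyp),
      Finset.sum_const, Finset.card_erase_of_mem (Finset.mem_univ _), Finset.card_univ,
      ← Nat.card_eq_fintype_card, hsq, nsmul_eq_mul, Nat.cast_sub hpp.one_le]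
    simp [sub_eq_add_neg, mul_comm]
  have htr : ∀ y : G, LinearMap.trace ℂ _ (E * ρ y) =
      (p : ℂ)⁻¹ * ∑ x : (P : Subgroup G), ρ.character ((x : G) * y) := fun y => by
    simp only [E, smul_mul_assoc, Finset.sum_mul, map_smul, map_sum, smul_eq_mul]
    exact congrArg _ (Finset.sum_congr rfl fun x _ => by rw [← map_mul]; rfl)
  have hE0 : E = 0 := by
    have h1 : LinearMap.trace ℂ _ E = 0 := by
      have := htr 1
      rw [map_one, mul_one, hsum 1 (one_mem _) (by rw [orderOf_one]; exact hpp.not_dvd_one),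
        Representation.char_one, hfin, sub_self, mul_zero] at this
      exact this
    have h2 := (LinearMap.IsIdempotentElem.isProj_range E hE).trace
    rw [h1] at h2
    have h3 : Module.finrank ℂ (LinearMap.range E) = 0 := by exact_mod_cast h2.symm
    exact LinearMap.range_eq_bot.1 (Submodule.finrank_eq_zero.1 h3)
  have hp' : ∀ z : G, z ∈ Subgroup.centralizer ((P : Subgroup G) : Set G) → ¬ p ∣ orderOf z →
      z = 1 := fun z hz hzp => by
    have h1 := htr z
    rw [hE0, zero_mul, map_zero, hsum z hz hzp] at h1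
    have h2 : ρ.character z = (p : ℂ) - 1 := by
      rcases mul_eq_zero.1 h1.symm with h' | h'
      · exact absurd (inv_eq_zero.1 h') hp0
      · exact sub_eq_zero.1 h'
    refine SimpleDeg.eq_one_of_apply_eq (χ := χ) ?_ ?_
    · rw [hdeg, hχd]; exact_mod_cast (by omega : p - 1 ≠ 1)
    · rw [← hρ, h2, Representation.char_one, hfin]
  have hyp : y ^ p = 1 := hp' _ (pow_mem hy p) fun hd => by
    have h1 : Nat.card G = p * (P : Subgroup G).index :=
      (P : Subgroup G).card_mul_index.symm.trans (congrArg (· * (P : Subgroup G).index) hsq)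
    have h2 : p * p ∣ Nat.card G := by
      refine dvd_trans ?_ (orderOf_dvd_natCard y)
      rw [orderOf_pow] at hd
      have hpd : p ∣ orderOf y := hd.trans (Nat.div_dvd_of_dvd (Nat.gcd_dvd_left _ _))
      rw [Nat.gcd_eq_right hpd] at hd
      obtain ⟨k, hk⟩ := hpd
      rw [hk, Nat.mul_div_cancel_left _ hpp.pos] at hd
      rw [hk]
      exact mul_dvd_mul_left p hd
    rw [h1] at h2
    exact P.not_dvd_index ((Nat.mul_dvd_mul_iff_left hpp.pos).1 h2)
  let R : Subgroup G := (P : Subgroup G) ⊔ Subgroup.zpowers y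
  have hR : IsPGroup p R := P.isPGroup'.to_sup_of_normal_left' (fun ⟨z, hz⟩ => ⟨1, Subtype.ext (by
      obtain ⟨k, rfl⟩ := Subgroup.mem_zpowers_iff.1 hz
      show (y ^ k) ^ p ^ 1 = 1
      rw [pow_one, ← zpow_natCast, ← zpow_mul, mul_comm, zpow_mul, zpow_natCast, hyp, one_zpow])⟩)
    ((Subgroup.zpowers_le.2 hy).trans (Subgroup.centralizer_le_normalizer _))
  rw [← P.is_maximal' hR le_sup_left]
  exact Subgroup.mem_sup_right (Subgroup.mem_zpowers y)

/-- An involution in a perfect group: `χ(t) = χ(1) - 4k`. -/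
theorem apply_involution [IsSimpleGroup G] (hna : ¬ ∀ a b : G, a * b = b * a) (χ : IrrCharacter G)
    {t : G} (ht : t ^ 2 = 1) :
    ∃ k : ℕ, 4 * k ≤ 2 * charDegree (χ : G → ℂ) ∧
      (χ : G → ℂ) t = (charDegree (χ : G → ℂ) : ℂ) - 4 * (k : ℂ) := by
  classical
  haveI := Fintype.ofFinite G
  have hdeg := (Blocks.charDegree_eq χ.2).1
  obtain ⟨n, ρ, hi, hρ⟩ := χ.2
  rw [← hρ, Representation.char_one] at hdeg
  have hd : Module.finrank ℂ (Fin n → ℂ) = charDegree (χ : G → ℂ) := by
    rw [← hρ]; exact_mod_cast hdeg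
  rw [← hd, ← hρ]
  obtain ⟨b, z, hb, hz⟩ := exists_eigenbasis ρ t
  have hz2 : ∀ i, z i = 1 ∨ z i = -1 := fun i => by
    refine sq_eq_one_iff.1 ?_
    obtain ⟨j, hj⟩ := orderOf_dvd_of_pow_eq_one ht
    rw [hj, pow_mul, hz i, one_pow]
  have hmat : LinearMap.toMatrix b b (ρ t) = Matrix.diagonal z := by
    ext i j
    rw [LinearMap.toMatrix_apply, hb, map_smul, Module.Basis.repr_self, Finsupp.smul_apply,
      Finsupp.single_apply, smul_eq_mul, Matrix.diagonal_apply]
    by_cases hij : i = j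
    · subst hij; simp
    · simp [hij, Ne.symm hij]
  let f : G →* ℂ := LinearMap.det.comp ρ
  have hf : f t = 1 := by
    let f' : G →* ℂˣ := f.toHomUnits
    rcases IsSimpleGroup.eq_bot_or_eq_top_of_normal f'.ker inferInstance with h | h
    · exact absurd (fun a c => (MonoidHom.ker_eq_bot_iff f').1 h (by rw [map_mul, map_mul, mul_comm]))
        hna
    · exact congrArg Units.val (MonoidHom.mem_ker.1 (h ▸ Subgroup.mem_top t))
  have hdet : ∏ i, z i = 1 := by
    rw [← Matrix.det_diagonal, ← hmat, LinearMap.det_toMatrix]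
    exact hf
  have htr : ρ.character t = ∑ i, z i := by
    rw [Representation.character, LinearMap.trace_eq_matrix_trace ℂ b, hmat, Matrix.trace_diagonal]
  set S := Finset.univ.filter fun i => z i = -1 with hS
  have hSc : ∀ i, i ∉ S → z i = 1 := fun i hi => (hz2 i).resolve_right fun h =>
    hi (Finset.mem_filter.2 ⟨Finset.mem_univ _, h⟩)
  rw [← Finset.prod_mul_prod_compl S, Finset.prod_congr rfl (fun i hi => (Finset.mem_filter.1 hi).2),
    Finset.prod_const, Finset.prod_eq_one (fun i hi => hSc i (Finset.mem_compl.1 hi)), mul_one,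
    neg_one_pow_eq_one_iff_even (by norm_num)] at hdet
  obtain ⟨k, hk⟩ := hdet
  have hcard : k + k ≤ Fintype.card (Fin (Module.finrank ℂ (Fin n → ℂ))) :=
    hk ▸ Finset.card_le_univ _
  rw [Fintype.card_fin] at hcard
  refine ⟨k, ?_, ?_⟩
  · omega
  · rw [htr, ← Finset.sum_add_sum_compl S, Finset.sum_congr rfl (fun i hi => (Finset.mem_filter.1 hi).2),
      Finset.sum_const, Finset.sum_congr rfl (fun i hi => hSc i (Finset.mem_compl.1 hi)),
      Finset.sum_const, Finset.card_compl, Fintype.card_fin, hk, nsmul_eq_mul, nsmul_eq_mul,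
      Nat.cast_sub hcard]
    push_cast
    ring

/-- A character vanishing on the `p`-singular elements, at an involution commuting with an element
of order `p`. -/
theorem exists_eq_sum_commute (χ : IrrCharacter G) {x t : G} (hx : orderOf x = p) (ht : orderOf t = 2)
    (hp2 : p ≠ 2) (hc : Commute x t)
    (hvan : ∀ g : G, p ∣ orderOf g → (χ : G → ℂ) g = 0) :
    ∃ k : ℕ, (charDegree (χ : G → ℂ) : ℂ) + (χ : G → ℂ) t = 2 * (p : ℂ) * (k : ℂ) := by
  classical
  haveI := Fintype.ofFinite G
  have hpp := (Fact.out : p.Prime)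
  have hcop : Nat.Coprime (orderOf x) (orderOf t) := by
    rw [hx, ht]; exact (Nat.coprime_primes hpp Nat.prime_two).2 hp2
  let R := Subgroup.zpowers (x * t)
  haveI : Fintype R := Fintype.ofFinite _
  have hord : orderOf (x * t) = 2 * p := by
    rw [hc.orderOf_mul_eq_mul_orderOf_of_coprime hcop, hx, ht, mul_comm]
  have hR : Nat.card R = 2 * p := by rw [Nat.card_zpowers, hord]
  have hxp : x ^ p = 1 := hx ▸ pow_orderOf_eq_one x
  have ht2 : t ^ 2 = 1 := ht ▸ pow_orderOf_eq_one t
  have hpo : Odd p := hpp.odd_of_ne_two hp2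
  have htR : t ∈ R := by
    obtain ⟨a, ha⟩ := hpo
    refine Subgroup.mem_zpowers_iff.2 ⟨(p : ℤ), ?_⟩
    rw [zpow_natCast, hc.mul_pow, hxp, one_mul, ha, pow_succ, pow_mul, ht2, one_pow, one_mul]
  obtain ⟨k, hk⟩ := exists_classInner_eq_nat (isCharacter_restrict (irr_isCharacter χ) R)
    (isCharacter_one (G := R))
  refine ⟨k, ?_⟩
  rw [classInner_def, hR, Finset.sum_eq_add (1 : R) (⟨t, htR⟩ : R)] at hk
  · simp only [map_one, mul_one, Subgroup.coe_one, (Blocks.charDegree_eq χ.2).1] at hk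
    rw [inv_mul_eq_iff_eq_mul₀ (Nat.cast_ne_zero.2 (by have := hpp.pos; omega))] at hk
    rw [hk]; push_cast; ring
  · intro h
    have h1 : t = 1 := (congrArg Subtype.val h).symm
    rw [h1, orderOf_one] at ht
    omega
  · rintro ⟨w, hw⟩ - ⟨h1, h2⟩
    rw [hvan w ?_, zero_mul]
    by_contra hnd
    obtain ⟨j, rfl⟩ := mem_powers_iff_mem_zpowers.2 hw
    simp only at hnd
    have hdvd : orderOf ((x * t) ^ j) ∣ 2 := by
      have h3 : orderOf ((x * t) ^ j) ∣ p * 2 := by
        rw [mul_comm, ← hord]; exact orderOf_pow_dvd j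
      exact ((Nat.coprime_comm.1 (hpp.coprime_iff_not_dvd.2 hnd))).dvd_of_dvd_mul_left h3
    have h4 : ((x * t) ^ j) ^ 2 = 1 := orderOf_dvd_iff_pow_eq_one.1 hdvd
    rw [← pow_mul, ← orderOf_dvd_iff_pow_eq_one, hord, mul_comm j 2] at h4
    obtain ⟨i, rfl⟩ := Nat.dvd_of_mul_dvd_mul_left two_pos h4
    have h5 : (x * t) ^ (p * i) = t ^ i := by
      rw [hc.mul_pow, pow_mul, hxp, one_pow, one_mul]
      obtain ⟨a, ha⟩ := hpo
      rw [ha, pow_mul, pow_succ, pow_mul, ht2, one_pow, one_mul]
    rcases Nat.even_or_odd' i with ⟨a, rfl | rfl⟩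
    · exact h1 (Subtype.ext (h5.trans (by rw [pow_mul, ht2, one_pow]; rfl)))
    · exact h2 (Subtype.ext (h5.trans (by rw [pow_succ, pow_mul, ht2, one_pow, one_mul])))
  · intro h; exact absurd (Finset.mem_univ _) h
  · intro h; exact absurd (Finset.mem_univ _) h

end Cfsg.Agent.Chars.SelfCentralising
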