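import Cfsg.Agent.Chars.CharEquiv
import Cfsg.Agent.Chars.Induced
import Cfsg.Agent.S0163
import Mathlib.FieldTheory.IntermediateField.Adjoin.Algebra
import Mathlib.RingTheory.RootsOfUnity.Complex

/-! Realisation of characters over a subfield of `ℂ`, and Brauer's splitting field theorem. -/

set_option autoImplicit false
set_option linter.style.haveILetI false
set_option linter.unusedSectionVars false

open Cfsg
open scoped ComplexConjugate

namespace Cfsg.Agent.Chars

universe u v

variable {G : Type u} [Group G] [Fintype G] {K : Subfield ℂ}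

/-- The function is the character of a representation over `K`. -/
def IsRealK (K : Subfield ℂ) (χ : G → ℂ) : Prop :=
  ∃ (n : ℕ) (R : Representation K G (Fin n → K)), ∀ g, ((R.character g : K) : ℂ) = χ g

theorem isRealK_of_rep {V : Type v} [AddCommGroup V] [Module K V] [FiniteDimensional K V]
    (R : Representation K G V) : IsRealK K fun g => ((R.character g : K) : ℂ) := by
  let e := (Module.finBasis K V).equivFun
  let S : Representation K G (Fin (Module.finrank K V) → K) :=
    { toFun := fun g => e.conj (R g)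
      map_one' := by
        rw [map_one]
        exact LinearMap.ext fun v => by simp [LinearEquiv.conj_apply]
      map_mul' := fun a b => by
        rw [map_mul]
        exact LinearMap.ext fun v => by simp [LinearEquiv.conj_apply] }
  refine ⟨_, S, fun g => ?_⟩
  show ((LinearMap.trace K _ (e.conj (R g)) : K) : ℂ) = _
  rw [LinearMap.trace_conj']
  rfl

theorem IsRealK.add {χ ψ : G → ℂ} (h₁ : IsRealK K χ) (h₂ : IsRealK K ψ) : IsRealK K (χ + ψ) := by
  obtain ⟨n, R, hR⟩ := h₁
  obtain ⟨m, S, hS⟩ := h₂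
  have := isRealK_of_rep (R.prod S)
  convert this using 1
  funext g
  rw [Pi.add_apply, ← hR, ← hS, ← Subfield.coe_add]
  congr 1
  exact (LinearMap.trace_prodMap' (R g) (S g)).symm

theorem isRealK_zero : IsRealK K (0 : G → ℂ) :=
  ⟨0, 1, fun g => by
    show ((LinearMap.trace K (Fin 0 → K) 1 : K) : ℂ) = 0
    rw [LinearMap.trace_one, Module.finrank_fin_fun]
    simp⟩

/-- Functions induced from linear characters with values in `K` are realised over `K`. -/
theorem isRealK_indFun (H : Subgroup G) [Fintype H] (l : H →* ℂˣ) (hl : ∀ h, (l h : ℂ) ∈ K) :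
    IsRealK K (indFun H fun h => (l h : ℂ)) := by
  classical
  haveI : Fintype (G ⧸ H) := Fintype.ofFinite _
  let lk : H →* K :=
    { toFun := fun h => ⟨(l h : ℂ), hl h⟩
      map_one' := Subtype.ext (by simp)
      map_mul' := fun a b => Subtype.ext (by simp) }
  obtain ⟨r, hr⟩ : ∃ r : G ⧸ H → G, ∀ a : G ⧸ H, ((r a : G) : G ⧸ H) = a :=
    ⟨fun a => a.out, fun a => Quotient.out_eq a⟩
  have hmem : ∀ (g : G) (a : G ⧸ H), (r a)⁻¹ * g * r (g⁻¹ • a) ∈ H := fun g a => by
    rw [mul_assoc, ← QuotientGroup.eq, hr]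
    show a = g • ((r (g⁻¹ • a) : G) : G ⧸ H)
    rw [hr, smul_inv_smul]
  let c : G → G ⧸ H → K := fun g a => lk ⟨_, hmem g a⟩
  have hc : ∀ g h a, c (g * h) a = c g a * c h (g⁻¹ • a) := fun g h a => by
    have e : (⟨_, hmem (g * h) a⟩ : H) = ⟨_, hmem g a⟩ * ⟨_, hmem h (g⁻¹ • a)⟩ := by
      apply Subtype.ext
      show (r a)⁻¹ * (g * h) * r ((g * h)⁻¹ • a) =
        (r a)⁻¹ * g * r (g⁻¹ • a) * ((r (g⁻¹ • a))⁻¹ * h * r (h⁻¹ • g⁻¹ • a))
      rw [mul_inv_rev g h, mul_smul]
      simp only [mul_assoc, mul_inv_cancel_left]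
    exact (congrArg lk e).trans (map_mul lk _ _)
  have hc1 : ∀ a, c 1 a = 1 := fun a => by
    have e : (⟨_, hmem 1 a⟩ : H) = 1 := Subtype.ext (by simp)
    exact (congrArg lk e).trans (map_one lk)
  let R : Representation K G (G ⧸ H → K) :=
    { toFun := fun g =>
        { toFun := fun f a => c g a * f (g⁻¹ • a)
          map_add' := fun f f' => funext fun a => mul_add (c g a) _ _
          map_smul' := fun t f => funext fun a => mul_left_comm (c g a) t _ }
      map_one' := LinearMap.ext fun f => funext fun a => by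
        show c 1 a * f ((1 : G)⁻¹ • a) = f a
        rw [hc1, inv_one, one_smul, one_mul]
      map_mul' := fun g h => LinearMap.ext fun f => funext fun a => by
        show c (g * h) a * f ((g * h)⁻¹ • a) = c g a * (c h (g⁻¹ • a) * f (h⁻¹ • g⁻¹ • a))
        rw [hc, mul_inv_rev, mul_smul, mul_assoc] }
  have hRap : ∀ g f a, R g f a = c g a * f (g⁻¹ • a) := fun _ _ _ => rfl
  convert isRealK_of_rep R using 1
  funext g
  have htr : R.character g = ∑ a : G ⧸ H, if g⁻¹ • a = a then c g a else 0 := by
    show LinearMap.trace K _ (R g) = _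
    rw [LinearMap.trace_eq_matrix_trace K (Pi.basisFun K (G ⧸ H)), Matrix.trace]
    refine Finset.sum_congr rfl fun a _ => ?_
    rw [Matrix.diag_apply, LinearMap.toMatrix_apply, Pi.basisFun_repr, Pi.basisFun_apply, hRap,
      Pi.single_apply, mul_ite, mul_one, mul_zero]
  have hθ : IsClassFunction H (fun h => (l h : ℂ)) :=
    isClassFunction_of_isCharacter (isCharacter_hom l)
  -- average over the coset representatives
  have key : indFun H (fun h => (l h : ℂ)) g =
      ∑ a : G ⧸ H, extendByZero H (fun h => (l h : ℂ)) ((r a)⁻¹ * g * r a) := by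
    rw [indFun_apply]
    have hbij : Function.Bijective fun x : (G ⧸ H) × H => r x.1 * (x.2 : G) := by
      refine ⟨fun ⟨a, h⟩ ⟨b, k⟩ e => ?_, fun x => ?_⟩
      · have ha : a = b := by
          have := congrArg (fun x : G => (x : G ⧸ H)) e
          simp only [QuotientGroup.mk_mul_of_mem _ h.2, QuotientGroup.mk_mul_of_mem _ k.2, hr] at this
          exact this
        subst ha
        exact Prod.ext rfl (Subtype.ext (mul_left_cancel e))
      · exact ⟨((x : G ⧸ H), ⟨(r x)⁻¹ * x, QuotientGroup.eq.1 (hr _)⟩),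
          mul_inv_cancel_left _ _⟩
    rw [← (Equiv.ofBijective _ hbij).sum_comp, Fintype.sum_prod_type, Finset.mul_sum]
    refine Finset.sum_congr rfl fun a _ => ?_
    have hh : ∀ h : H, extendByZero H (fun h => (l h : ℂ)) ((r a * h)⁻¹ * g * (r a * h)) =
        extendByZero H (fun h => (l h : ℂ)) ((r a)⁻¹ * g * r a) := fun h => by
      rw [show (r a * (h : G))⁻¹ * g * (r a * h) = (h : G)⁻¹ * ((r a)⁻¹ * g * r a) * h by group]
      by_cases hy : (r a)⁻¹ * g * r a ∈ H
      · rw [extendByZero_of_mem H _ (H.mul_mem (H.mul_mem (H.inv_mem h.2) hy) h.2),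
          extendByZero_of_mem H _ hy]
        have := hθ ⟨_, hy⟩ h⁻¹
        convert this using 3
        apply Subtype.ext
        simp [Subgroup.coe_mul]
      · rw [extendByZero_of_not_mem H _ hy, extendByZero_of_not_mem]
        intro h'
        apply hy
        have := H.mul_mem (H.mul_mem h.2 h') (H.inv_mem h.2)
        simpa [mul_assoc] using this
    simp only [Equiv.ofBijective_apply, hh, Finset.sum_const, Finset.card_univ, nsmul_eq_mul,
      ← Nat.card_eq_fintype_card]
    rw [← mul_assoc, inv_mul_cancel₀ (subgroup_card_ne_zero H), one_mul]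
  rw [key, htr]
  push_cast
  refine Finset.sum_congr rfl fun a _ => ?_
  by_cases ha : g⁻¹ • a = a
  · have hmem' : (r a)⁻¹ * g * r a ∈ H := by
      have := hmem g a
      rwa [ha] at this
    rw [extendByZero_of_mem H _ hmem', if_pos ha]
    show (l _ : ℂ) = (l _ : ℂ)
    congr 2
    exact Subtype.ext (by simp only [ha])
  · rw [if_neg ha, extendByZero_of_not_mem, ZeroMemClass.coe_zero]
    intro h'
    apply ha
    rw [inv_smul_eq_iff, ← hr a, MulAction.Quotient.smul_mk, QuotientGroup.eq, smul_eq_mul,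
      ← mul_assoc]
    exact h'

/-- The complex representation with the same matrices. -/
theorem exists_baseChange {n : ℕ} (R : Representation K G (Fin n → K)) :
    ∃ σ : Representation ℂ G (Fin n → ℂ),
      (∀ g, σ.character g = ((R.character g : K) : ℂ)) ∧
        ∀ g i j, LinearMap.toMatrix' (σ g) i j ∈ K := by
  let f : G →* Matrix (Fin n) (Fin n) ℂ :=
    (RingHom.mapMatrix K.subtype).toMonoidHom.comp
      ((LinearMap.toMatrixAlgEquiv' (R := K) (n := Fin n)).toMonoidHom.comp R)
  refine ⟨(Matrix.toLinAlgEquiv' (R := ℂ) (n := Fin n)).toMonoidHom.comp f, fun g => ?_,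
    fun g i j => ?_⟩
  · show LinearMap.trace ℂ _ (Matrix.toLin' ((LinearMap.toMatrix' (R g)).map K.subtype)) = _
    rw [Matrix.trace_toLin'_eq,
      show ((LinearMap.toMatrix' (R g)).map K.subtype).trace =
        K.subtype (LinearMap.toMatrix' (R g)).trace by simp [Matrix.trace, map_sum]]
    show ((LinearMap.toMatrix' (R g)).trace : ℂ) = _
    congr 1
    conv_lhs => rw [← Matrix.trace_toLin'_eq, Matrix.toLin'_toMatrix']
    rfl
  · show LinearMap.toMatrix' (Matrix.toLin' ((LinearMap.toMatrix' (R g)).map K.subtype)) i j ∈ K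
    rw [LinearMap.toMatrix'_toLin']
    exact (LinearMap.toMatrix' (R g) i j).2

theorem IsRealK.isCharacter {χ : G → ℂ} (h : IsRealK K χ) : IsCharacter G χ := by
  obtain ⟨n, R, hR⟩ := h
  obtain ⟨σ, hσ, -⟩ := exists_baseChange R
  rw [show χ = σ.character from funext fun g => ((hσ g).trans (hR g)).symm]
  exact isCharacter_of_rep σ

/-- Having no proper invariant subspace. -/
def IsSimpleK {V : Type v} [AddCommGroup V] [Module K V] (R : Representation K G V) : Prop :=
  Nontrivial V ∧ ∀ T : Submodule K V, (∀ g, ∀ v ∈ T, R g v ∈ T) → T = ⊥ ∨ T = ⊤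

/-- A character of a simple representation over `K`. -/
def IsIrrK (K : Subfield ℂ) (χ : G → ℂ) : Prop :=
  ∃ (n : ℕ) (R : Representation K G (Fin n → K)), IsSimpleK R ∧
    ∀ g, ((R.character g : K) : ℂ) = χ g

theorem exists_multiset_irrK : ∀ (n : ℕ) (V : Type) [AddCommGroup V] [Module K V]
    [FiniteDimensional K V] (R : Representation K G V), Module.finrank K V = n →
    ∃ s : Multiset (G → ℂ), (∀ ψ ∈ s, IsIrrK K ψ) ∧
      (fun g => ((R.character g : K) : ℂ)) = s.sum := by
  intro n
  induction n using Nat.strong_induction_on with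
  | _ n ih =>
  intro V _ _ _ R hn
  rcases subsingleton_or_nontrivial V with hV | hV
  · refine ⟨0, by simp, ?_⟩
    funext g
    rw [Multiset.sum_zero, Pi.zero_apply]
    show ((LinearMap.trace K V (R g) : K) : ℂ) = 0
    rw [Subsingleton.elim (R g) 0, map_zero, ZeroMemClass.coe_zero]
  by_cases hi : IsSimpleK R
  · let e := (Module.finBasis K V).equivFun
    let S : Representation K G (Fin (Module.finrank K V) → K) :=
      { toFun := fun g => e.conj (R g)
        map_one' := by
          rw [map_one]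
          exact LinearMap.ext fun v => by simp [LinearEquiv.conj_apply]
        map_mul' := fun a b => by
          rw [map_mul]
          exact LinearMap.ext fun v => by simp [LinearEquiv.conj_apply] }
    refine ⟨{fun g => ((R.character g : K) : ℂ)}, ?_, by simp⟩
    intro ψ hψ
    rw [Multiset.mem_singleton] at hψ
    subst hψ
    refine ⟨_, S, ⟨e.injective.nontrivial, fun T hT => ?_⟩, fun g => ?_⟩
    · have hinv : ∀ g, ∀ v ∈ T.comap e.toLinearMap, R g v ∈ T.comap e.toLinearMap := by
        intro g v hv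
        have := hT g (e v) hv
        simpa [S, LinearEquiv.conj_apply] using this
      rcases hi.2 (T.comap e.toLinearMap) hinv with h | h
      · left
        rw [eq_bot_iff]
        intro v hv
        have : e.symm v ∈ T.comap e.toLinearMap := by simpa using hv
        rw [h, Submodule.mem_bot, LinearEquiv.map_eq_zero_iff] at this
        simp [this]
      · right
        rw [eq_top_iff]
        intro v _
        have : e.symm v ∈ T.comap e.toLinearMap := by rw [h]; trivial
        simpa using this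
    · show ((LinearMap.trace K _ (e.conj (R g)) : K) : ℂ) = _
      rw [LinearMap.trace_conj']
      rfl
  · rw [IsSimpleK, and_iff_right hV] at hi
    push Not at hi
    obtain ⟨T, hT, hT0, hT1⟩ := hi
    let S : Subrepresentation R := ⟨T, fun g v hv => hT g v hv⟩
    haveI : NeZero (Nat.card G : K) := ⟨Nat.cast_ne_zero.2 Nat.card_pos.ne'⟩
    haveI : Representation.IsSemisimpleRepresentation R := inferInstance
    obtain ⟨C, hC⟩ := exists_isCompl S
    have hc : IsCompl S.toSubmodule C.toSubmodule := by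
      refine ⟨disjoint_iff.2 ?_, codisjoint_iff.2 ?_⟩
      · rw [← Subrepresentation.toSubmodule_inf, hC.inf_eq_bot]; rfl
      · rw [← Subrepresentation.toSubmodule_sup, hC.sup_eq_top]; rfl
    have hC1 : C.toSubmodule ≠ ⊤ := fun h => hT0 <| by
      have := hc.inf_eq_bot
      rwa [h, inf_top_eq] at this
    obtain ⟨s, hs, hse⟩ := ih _ (hn ▸ Submodule.finrank_lt hT1) _ S.toRepresentation rfl
    obtain ⟨t, ht, hte⟩ := ih _ (hn ▸ Submodule.finrank_lt hC1) _ C.toRepresentation rfl
    refine ⟨s + t, fun ψ hψ => (Multiset.mem_add.1 hψ).elim (hs ψ) (ht ψ), ?_⟩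
    rw [Multiset.sum_add, ← hse, ← hte]
    funext g
    rw [Pi.add_apply, ← Subfield.coe_add]
    congr 1
    let e := Submodule.prodEquivOfIsCompl _ _ hc
    have he : e.conj ((S.toRepresentation g).prodMap (C.toRepresentation g)) = R g := by
      refine LinearMap.ext fun v => ?_
      obtain ⟨⟨a, b⟩, rfl⟩ := e.surjective v
      simp [e, LinearEquiv.conj_apply, map_add, Subrepresentation.toRepresentation]
    show LinearMap.trace K V (R g) = _
    rw [← he, LinearMap.trace_conj', LinearMap.trace_prodMap']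
    rfl

theorem IsIrrK.isRealK {χ : G → ℂ} (h : IsIrrK K χ) : IsRealK K χ := by
  obtain ⟨n, R, -, hR⟩ := h; exact ⟨n, R, hR⟩

/-- Characters of simple representations over `K` are orthogonal. -/
theorem classInner_irrK {χ ψ : G → ℂ} (hχ : IsIrrK K χ) (hψ : IsIrrK K ψ) :
    (∃ c : ℕ, 0 < c ∧ classInner χ χ = c) ∧ (χ ≠ ψ → classInner χ ψ = 0) := by
  have key : ∀ {n m : ℕ} (R : Representation K G (Fin n → K))
      (S : Representation K G (Fin m → K)) {a b : G → ℂ}, (∀ g, ((R.character g : K) : ℂ) = a g) →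
      (∀ g, ((S.character g : K) : ℂ) = b g) →
      classInner a b = (Module.finrank K (S.IntertwiningMap R) : ℂ) := by
    intro n m R S a b ha hb
    haveI : Invertible (Nat.card G : K) := invertibleOfNonzero (Nat.cast_ne_zero.2 Nat.card_pos.ne')
    have hbC : IsCharacter G b := IsRealK.isCharacter ⟨m, S, hb⟩
    have h := congrArg K.subtype
      (Representation.card_inv_mul_sum_char_mul_char_eq_finrank S R)
    simp only [map_mul, map_sum, map_inv₀, map_natCast, Subfield.coe_subtype, ha, hb] at h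
    rw [classInner_def, ← h]
    congr 1
    exact Finset.sum_congr rfl fun g _ => by rw [char_inv_eq_conj hbC]
  obtain ⟨n, R, hR, hχe⟩ := hχ
  obtain ⟨m, S, hS, hψe⟩ := hψ
  refine ⟨⟨_, ?_, key R R hχe hχe⟩, fun hne => ?_⟩
  · haveI := hR.1
    rw [Module.finrank_pos_iff]
    refine ⟨⟨⟨LinearMap.id, fun g => rfl⟩, 0, fun h => ?_⟩⟩
    obtain ⟨v, hv⟩ := exists_ne (0 : Fin n → K)
    exact hv (congrArg (fun φ : R.IntertwiningMap R => φ.toLinearMap v) h)
  · rw [key R S hχe hψe, Nat.cast_eq_zero, finrank_zero_iff_forall_zero]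
    intro f
    by_contra hf
    have hfc : ∀ g v, f.toLinearMap (S g v) = R g (f.toLinearMap v) := fun g v =>
      LinearMap.congr_fun (f.isIntertwining' g) v
    have hinj : Function.Injective f.toLinearMap := by
      rw [← LinearMap.ker_eq_bot]
      refine (hS.2 _ fun g v hv => ?_).resolve_right fun htop => ?_
      · rw [LinearMap.mem_ker] at hv ⊢
        rw [hfc, hv, map_zero]
      · exact hf (Representation.IntertwiningMap.ext_iff.2 (LinearMap.ker_eq_top.1 htop))
    have hsurj : Function.Surjective f.toLinearMap := by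
      rw [← LinearMap.range_eq_top]
      refine (hR.2 _ fun g v hv => ?_).resolve_left fun hbot => ?_
      · obtain ⟨a, rfl⟩ := hv
        exact ⟨S g a, hfc g a⟩
      · exact hf (Representation.IntertwiningMap.ext_iff.2 (LinearMap.range_eq_bot.1 hbot))
    apply hne
    funext g
    let e := LinearEquiv.ofBijective f.toLinearMap ⟨hinj, hsurj⟩
    have he : e.conj (S g) = R g := by
      refine LinearMap.ext fun v => ?_
      obtain ⟨a, rfl⟩ := e.surjective v
      rw [LinearEquiv.conj_apply_apply, e.symm_apply_apply]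
      exact hfc g a
    rw [← hχe, ← hψe]
    congr 1
    show LinearMap.trace K _ (R g) = LinearMap.trace K _ (S g)
    rw [← he, LinearMap.trace_conj']

/-- An irreducible character which is a difference of realised characters is realised. -/
theorem isRealK_of_irr_diff {χ A B : G → ℂ} (hχ : IsIrrCharacter G χ) (hA : IsRealK K A)
    (hB : IsRealK K B) (h : χ + A = B) : IsRealK K χ := by
  classical
  obtain ⟨a, RA, hRA⟩ := hA
  obtain ⟨b, RB, hRB⟩ := hB
  obtain ⟨sA, hsA, hA'⟩ := exists_multiset_irrK a _ RA (Module.finrank_fin_fun _)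
  obtain ⟨sB, hsB, hB'⟩ := exists_multiset_irrK b _ RB (Module.finrank_fin_fun _)
  rw [funext hRA] at hA'
  rw [funext hRB] at hB'
  set T := (sA + sB).toFinset
  have hT : ∀ ψ ∈ T, IsIrrK K ψ := fun ψ hψ =>
    (Multiset.mem_add.1 (Multiset.mem_toFinset.1 hψ)).elim (hsA ψ) (hsB ψ)
  let z : (G → ℂ) → ℤ := fun ψ => (sB.count ψ : ℤ) - sA.count ψ
  have hexp : χ = ∑ ψ ∈ T, (z ψ : ℂ) • ψ := by
    have h1 : ∀ s : Multiset (G → ℂ), s ≤ sA + sB →
        s.sum = ∑ ψ ∈ T, (s.count ψ : ℂ) • ψ := fun s hs => by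
      rw [Finset.sum_multiset_count s]
      rw [Finset.sum_subset (Multiset.toFinset_subset.2 (Multiset.subset_of_le hs))
        fun ψ _ hψ => by
          rw [Multiset.count_eq_zero.2 (fun h => hψ (Multiset.mem_toFinset.2 h)), zero_smul]]
      exact Finset.sum_congr rfl fun ψ _ => (Nat.cast_smul_eq_nsmul ℂ _ _).symm
    have h2 : χ = sB.sum - sA.sum := by rw [← hB', ← hA', ← h, add_sub_cancel_right]
    rw [h2, h1 sB (Multiset.le_add_left _ _), h1 sA (Multiset.le_add_right _ _),
      ← Finset.sum_sub_distrib]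
    refine Finset.sum_congr rfl fun ψ _ => ?_
    rw [← sub_smul]
    simp [z]
  choose c hc0 hc using fun ψ : T => (classInner_irrK (hT ψ.1 ψ.2) (hT ψ.1 ψ.2)).1
  have hnorm : ∑ ψ : T, z ψ ^ 2 * (c ψ : ℤ) = 1 := by
    have h1 := classInner_self_irr hχ
    rw [hexp, ← Finset.sum_coe_sort T, classInner_sum_left] at h1
    simp only [classInner_sum_right, classInner_smul_left, classInner_smul_right,
      map_intCast] at h1
    rw [Finset.sum_congr rfl fun ψ _ => Finset.sum_eq_single ψ (fun φ _ hne => by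
        rw [(classInner_irrK (hT ψ.1 ψ.2) (hT φ.1 φ.2)).2 fun e => hne (Subtype.ext e.symm),
          mul_zero, mul_zero]) (fun h => absurd (Finset.mem_univ _) h)] at h1
    simp only [hc] at h1
    have h2 : ((∑ ψ : T, z ψ ^ 2 * (c ψ : ℤ) : ℤ) : ℂ) = ((1 : ℤ) : ℂ) := by
      push_cast
      rw [← h1]
      exact Finset.sum_congr rfl fun ψ _ => by ring
    exact_mod_cast h2
  obtain ⟨ψ, -, hψ⟩ := Finset.exists_ne_zero_of_sum_ne_zero (hnorm.trans_ne one_ne_zero)
  have hterm : ∀ φ : T, 0 ≤ z φ ^ 2 * (c φ : ℤ) := fun φ => by positivity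
  have hψ1 : z ψ ^ 2 * (c ψ : ℤ) = 1 := by
    have h1 : z ψ ^ 2 * (c ψ : ℤ) ≤ 1 := hnorm ▸
      Finset.single_le_sum (fun φ _ => hterm φ) (Finset.mem_univ ψ)
    have h2 := hterm ψ
    omega
  have hothers : ∀ φ : T, φ ≠ ψ → z φ = 0 := by
    intro φ hφ
    rw [← Finset.add_sum_erase _ _ (Finset.mem_univ ψ), hψ1] at hnorm
    have h0 := (Finset.sum_eq_zero_iff_of_nonneg fun x _ => hterm x).1 (by omega) φ
      (Finset.mem_erase.2 ⟨hφ, Finset.mem_univ _⟩)
    rcases mul_eq_zero.1 h0 with h1 | h1
    · exact eq_zero_of_pow_eq_zero h1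
    · exact absurd h1 (by exact_mod_cast (hc0 φ).ne')
  have heq : χ = (z ψ : ℂ) • (ψ : G → ℂ) := by
    rw [hexp, Finset.sum_eq_single (ψ : G → ℂ)]
    · intro φ hφ hne
      rw [hothers ⟨φ, hφ⟩ fun e => hne (congrArg Subtype.val e), Int.cast_zero, zero_smul]
    · exact fun h => absurd ψ.2 h
  have hz : z ψ = 1 := by
    have hsq : z ψ ^ 2 = 1 := Int.eq_one_of_dvd_one (sq_nonneg _) ⟨_, hψ1.symm⟩
    rcases sq_eq_one_iff.1 hsq with h1 | h1
    · exact h1
    exfalso
    obtain ⟨d, hd0, hd⟩ := exists_irr_apply_one_eq hχ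
    obtain ⟨e, he⟩ := exists_apply_one_eq (hT ψ.1 ψ.2).isRealK.isCharacter
    have := congrFun heq 1
    rw [Pi.smul_apply, hd, he, h1, smul_eq_mul, Int.cast_neg, Int.cast_one, neg_one_mul] at this
    have h2 : ((d + e : ℕ) : ℂ) = 0 := by push_cast; rw [this]; ring
    norm_cast at h2
    omega
  rw [heq, hz, Int.cast_one, one_smul]
  exact (hT ψ.1 ψ.2).isRealK

/-- Brauer's splitting field theorem for characters. -/
theorem isRealK_of_isCharacter (hK : ∀ z : ℂ, z ^ Monoid.exponent G = 1 → z ∈ K) {χ : G → ℂ}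
    (hχ : IsCharacter G χ) : IsRealK K χ := by
  classical
  have hirr : ∀ χ : G → ℂ, IsIrrCharacter G χ → IsRealK K χ := by
    intro χ hχ
    obtain ⟨l, -, hsum⟩ := Cfsg.Agent.S0163.result χ (isCharacter_of_isIrr hχ)
    suffices h : ∃ A B, IsRealK K A ∧ IsRealK K B ∧
        (l.map fun t => (t.2.2 : ℂ) • indFun t.1 (fun e => (t.2.1 e : ℂ))).sum + A = B by
      obtain ⟨A, B, hA, hB, h⟩ := h
      exact isRealK_of_irr_diff hχ hA hB (hsum ▸ h)
    clear hsum
    induction l with
    | nil => exact ⟨0, 0, isRealK_zero, isRealK_zero, by simp⟩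
    | cons t l ih =>
      obtain ⟨A, B, hA, hB, h⟩ := ih
      obtain ⟨E, lam, z⟩ := t
      haveI : Fintype E := Fintype.ofFinite E
      have hf : IsRealK K (indFun E fun e => (lam e : ℂ)) :=
        isRealK_indFun E lam fun e => hK _ (by
          rw [← Units.val_pow_eq_pow_val, ← map_pow,
            show e ^ Monoid.exponent G = 1 from Subtype.ext (by
              rw [Subgroup.coe_pow, Monoid.pow_exponent_eq_one, Subgroup.coe_one]),
            map_one, Units.val_one])
      have hmul : ∀ n : ℕ, IsRealK K ((n : ℂ) • indFun E fun e => (lam e : ℂ)) := by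
        intro n
        induction n with
        | zero => simpa using (isRealK_zero : IsRealK K (0 : G → ℂ))
        | succ n ih => rw [Nat.cast_succ, add_smul, one_smul]; exact ih.add hf
      refine ⟨A + (((-z).toNat : ℕ) : ℂ) • indFun E fun e => (lam e : ℂ),
        B + ((z.toNat : ℕ) : ℂ) • indFun E fun e => (lam e : ℂ), hA.add (hmul _),
        hB.add (hmul _), ?_⟩
      rw [List.map_cons, List.sum_cons, ← h]
      have hz : (z : ℂ) + (((-z).toNat : ℕ) : ℂ) = ((z.toNat : ℕ) : ℂ) := by
        have : z + ((-z).toNat : ℤ) = (z.toNat : ℤ) := by omega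
        exact_mod_cast this
      rw [← hz]
      dsimp only
      rw [add_smul]
      abel
  obtain ⟨m, -, hm⟩ := exists_eq_sum_nsmul hχ
  rw [hm]
  refine Finset.sum_induction _ (IsRealK K) (fun _ _ => IsRealK.add) isRealK_zero fun ψ _ => ?_
  induction m ψ with
  | zero => simpa using (isRealK_zero : IsRealK K (0 : G → ℂ))
  | succ n ih => rw [succ_nsmul]; exact ih.add (hirr _ ψ.2)

/-- Brauer's splitting field theorem. -/
theorem exists_cyclotomic_realisation (n : ℕ) (ρ : Representation ℂ G (Fin n → ℂ)) :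
    ∃ σ : Representation ℂ G (Fin n → ℂ), Nonempty (ρ.Equiv σ) ∧
      ∀ g : G, ∀ i j : Fin n, LinearMap.toMatrix' (σ g) i j ∈
        Algebra.adjoin ℚ
          ({Complex.exp (2 * Real.pi * Complex.I / (Monoid.exponent G : ℂ))} : Set ℂ) := by
  set m := Monoid.exponent G with hm
  have hm0 : m ≠ 0 := Monoid.exponent_ne_zero_of_finite
  set w := Complex.exp (2 * Real.pi * Complex.I / (m : ℂ))
  have hw : IsPrimitiveRoot w m := Complex.isPrimitiveRoot_exp m hm0
  haveI : NeZero m := ⟨hm0⟩
  let F : IntermediateField ℚ ℂ := IntermediateField.adjoin ℚ ({w} : Set ℂ)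
  have hF : F.toSubalgebra = Algebra.adjoin ℚ ({w} : Set ℂ) :=
    IntermediateField.adjoin_simple_toSubalgebra_of_isAlgebraic
      ((hw.isIntegral (Nat.pos_of_ne_zero hm0)).tower_top.isAlgebraic)
  obtain ⟨d, R, hR⟩ := isRealK_of_isCharacter (K := F.toSubfield) (fun z hz => by
    obtain ⟨i, -, rfl⟩ := hw.eq_pow_of_pow_eq_one hz
    exact pow_mem (IntermediateField.subset_adjoin ℚ _ (Set.mem_singleton w)) i)
    (isCharacter_of_rep ρ)
  obtain ⟨σ, hσ, hent⟩ := exists_baseChange R
  have hdn : d = n := by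
    have h1 := (hσ 1).trans (hR 1)
    rw [Representation.char_one, Representation.char_one, Module.finrank_fin_fun,
      Module.finrank_fin_fun] at h1
    exact_mod_cast h1
  subst hdn
  refine ⟨σ, equiv_of_char_eq ρ σ (funext fun g => ((hσ g).trans (hR g)).symm), fun g i j => ?_⟩
  rw [← hF]
  exact hent g i j

end Cfsg.Agent.Chars
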