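import Mathlib.GroupTheory.GroupAction.Quotient
import Mathlib.GroupTheory.Subgroup.Simple
import Mathlib.Algebra.Group.Subgroup.Map
import Mathlib.GroupTheory.SpecificGroups.Cyclic
import Mathlib.Algebra.Group.Subgroup.ZPowers.Basic

/-!
Criteria for an action on cosets to be, or not to be, binary.
-/

set_option autoImplicit false

namespace Cfsg.Agent.Chars.SzBinary

variable {G : Type*} [Group G]

/-- The action on the cosets is binary. -/
def Bin (H : Subgroup G) : Prop :=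
  ∀ (n : ℕ) (I J : Fin n → G ⧸ H), 2 ≤ n →
    (∀ i j : Fin n, i ≠ j → ∃ g : G, g • I i = J i ∧ g • I j = J j) → ∃ g : G, ∀ i, g • I i = J i

/-- The element is conjugate into the subgroup by the given element. -/
def At (H : Subgroup G) (e t : G) : Prop := t⁻¹ * e * t ∈ H

theorem smul_eq_iff (H : Subgroup G) (g t : G) :
    g • (t : G ⧸ H) = (t : G ⧸ H) ↔ At H g t := by
  rw [MulAction.Quotient.smul_coe, smul_eq_mul, QuotientGroup.eq]
  unfold At
  constructor
  · intro e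
    simpa [mul_assoc] using H.inv_mem e
  · intro e
    simpa [mul_assoc] using H.inv_mem e

theorem at_mul {H : Subgroup G} {a b t : G} (ha : At H a t) (hb : At H b t) : At H (a * b) t := by
  simpa [At, mul_assoc] using H.mul_mem ha hb

theorem at_inv {H : Subgroup G} {a t : G} (ha : At H a t) : At H a⁻¹ t := by
  simpa [At, mul_assoc] using H.inv_mem ha

theorem at_one (H : Subgroup G) (t : G) : At H 1 t := by simp [At]

theorem at_conj {H : Subgroup G} {a t : G} (c : G) (ha : At H a t) : At H (c * a * c⁻¹) (c * t) := by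
  simpa [At, mul_assoc] using ha

theorem at_zpow {H : Subgroup G} {a t : G} (ha : At H a t) (n : ℤ) : At H (a ^ n) t := by
  have : t⁻¹ * a ^ n * t = (t⁻¹ * a * t) ^ n := by
    have e := map_zpow (MulAut.conj t⁻¹) a n
    simpa using e
  rw [At, this]
  exact H.zpow_mem ha n

/-- The pointwise stabiliser of the points fixed by an element. -/
def rSub (H : Subgroup G) (x : G) : Subgroup G where
  carrier := {g | ∀ t, At H x t → At H g t}
  mul_mem' := fun ha hb t ht => at_mul (ha t ht) (hb t ht)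
  one_mem' := fun t _ => at_one H t
  inv_mem' := fun ha t ht => at_inv (ha t ht)

theorem mem_rSub_self (H : Subgroup G) (x : G) : x ∈ rSub H x := fun _ ht => ht

theorem rSub_conj {H : Subgroup G} {x g : G} (c : G) (hg : g ∈ rSub H x) :
    c * g * c⁻¹ ∈ rSub H (c * x * c⁻¹) := by
  intro t ht
  have h1 : At H x (c⁻¹ * t) := by simpa [mul_assoc] using at_conj c⁻¹ ht
  simpa [mul_assoc] using at_conj c (hg _ h1)

theorem rSub_mono {H : Subgroup G} {x y : G} (hy : y ∈ rSub H x) : rSub H y ≤ rSub H x :=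
  fun _ hg t ht => hg t (hy t ht)

theorem mem_rSub_of_zpowers {H : Subgroup G} {x y : G} (hy : y ∈ Subgroup.zpowers x) : y ∈ rSub H x := by
  obtain ⟨n, rfl⟩ := Subgroup.mem_zpowers_iff.1 hy
  exact fun t ht => at_zpow ht n

theorem conj_mem_rSub {H : Subgroup G} {x g c : G} (hc : c * x * c⁻¹ ∈ Subgroup.zpowers x)
    (hg : g ∈ rSub H x) : c * g * c⁻¹ ∈ rSub H x :=
  rSub_mono (mem_rSub_of_zpowers hc) (rSub_conj c hg)

theorem le_normalizer_rSub {H : Subgroup G} {x : G} {C : Subgroup G}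
    (hC : ∀ c ∈ C, c * x * c⁻¹ ∈ Subgroup.zpowers x) :
    C ≤ Subgroup.normalizer (rSub H x : Set G) := by
  intro c hc
  rw [Subgroup.mem_normalizer_iff]
  intro g
  refine ⟨conj_mem_rSub (hC c hc), fun hg => ?_⟩
  have := conj_mem_rSub (hC c⁻¹ (C.inv_mem hc)) hg
  simpa [mul_assoc] using this

theorem rSub_ne_top {H : Subgroup G} (hH : H ≠ ⊤) {x t : G} (ht : At H x t) : rSub H x ≠ ⊤ := by
  intro e
  refine hH ((Subgroup.eq_top_iff' H).2 fun g => ?_)
  have := (e ▸ Subgroup.mem_top (t * g * t⁻¹) : t * g * t⁻¹ ∈ rSub H x) t ht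
  simpa [At, mul_assoc] using this

theorem sup_ne_top [IsSimpleGroup G] {H : Subgroup G} (hH : H ≠ ⊤) {x t : G} (hx : x ≠ 1)
    (ht : At H x t) {C : Subgroup G} (hC : ∀ c ∈ C, c * x * c⁻¹ ∈ Subgroup.zpowers x) :
    rSub H x ⊔ C ≠ ⊤ := by
  intro e
  have hle : rSub H x ⊔ C ≤ Subgroup.normalizer (rSub H x : Set G) :=
    sup_le Subgroup.le_normalizer (le_normalizer_rSub hC)
  rw [e, top_le_iff, Subgroup.normalizer_eq_top_iff] at hle
  rcases hle.eq_bot_or_eq_top with h | h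
  · exact hx (Subgroup.mem_bot.1 (h ▸ mem_rSub_self H x))
  · exact rSub_ne_top hH ht h

/-- The triple criterion. -/
theorem not_bin [Finite G] (H : Subgroup G) (x y : G)
    (hcrit : ∀ g ∈ rSub H x, g ∈ rSub H (x * y) →
      ∃ t, At H y t ∧ ¬ At H x t ∧ ¬ At H (x⁻¹ * g) t) : ¬ Bin H := by
  classical
  intro hb
  let moves : G ⧸ H → Prop := fun p => y • p = p ∧ x • p ≠ p
  let f : G ⧸ H → G ⧸ H := fun p => if moves p then x • p else p
  let S : Finset (G ⧸ H) := by
    haveI : Fintype (G ⧸ H) := Fintype.ofFinite _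
    exact Finset.univ.filter (fun p => x • p = p ∨ y • p = p ∨ (x * y) • p = p)
  have hS : ∀ p, p ∈ S ↔ (x • p = p ∨ y • p = p ∨ (x * y) • p = p) := fun p => by simp [S]
  have hcase : ∀ p ∈ S, moves p ∨ (f p = p ∧ (x • p = p ∨ (x * y) • p = p)) := by
    intro p hp
    by_cases hm : moves p
    · exact Or.inl hm
    refine Or.inr ⟨if_neg hm, ?_⟩
    rcases (hS p).1 hp with e | e | e
    · exact Or.inl e
    · by_cases ex : x • p = p
      · exact Or.inl ex
      · exact absurd ⟨e, ex⟩ hm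
    · exact Or.inr e
  have hpair : ∀ p ∈ S, ∀ q ∈ S, ∃ g : G, g • p = f p ∧ g • q = f q := by
    have hx : ∀ p ∈ S, moves p → x • p = f p := fun p _ hm => (if_pos hm).symm
    have hz : ∀ p, moves p → (x * y) • p = f p := fun p hm => by
      rw [mul_smul, hm.1]; exact (if_pos hm).symm
    intro p hp q hq
    rcases hcase p hp with mp | ⟨ep, fp⟩ <;> rcases hcase q hq with mq | ⟨eq, fq⟩
    · exact ⟨x, hx p hp mp, hx q hq mq⟩
    · rcases fq with e | e
      · exact ⟨x, hx p hp mp, e.trans eq.symm⟩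
      · exact ⟨x * y, hz p mp, e.trans eq.symm⟩
    · rcases fp with e | e
      · exact ⟨x, e.trans ep.symm, hx q hq mq⟩
      · exact ⟨x * y, e.trans ep.symm, hz q mq⟩
    · exact ⟨1, by rw [one_smul, ep], by rw [one_smul, eq]⟩
  rcases S.eq_empty_or_nonempty with hemp | ⟨p₀, hp₀⟩
  · obtain ⟨t, ht, -, -⟩ := hcrit 1 (one_mem _) (one_mem _)
    have : (t : G ⧸ H) ∈ S := (hS _).2 (Or.inr (Or.inl ((smul_eq_iff H y t).2 ht)))
    rw [hemp] at this
    simp at this
  let I : Fin (S.card + 2) → G ⧸ H :=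
    fun i => if hi : i.1 < S.card then (S.equivFin.symm ⟨i.1, hi⟩ : G ⧸ H) else p₀
  have hI : ∀ i, I i ∈ S := fun i => by
    simp only [I]
    split
    · exact Finset.coe_mem _
    · exact hp₀
  obtain ⟨g, hg⟩ := hb (S.card + 2) I (f ∘ I) (by omega)
    (fun i j _ => hpair _ (hI i) _ (hI j))
  have hall : ∀ p ∈ S, g • p = f p := by
    intro p hp
    let k := S.equivFin ⟨p, hp⟩
    have := hg ⟨k.1, by omega⟩
    simpa [I, k, k.2] using this
  have hfix : ∀ t, (At H x t ∨ At H (x * y) t) → At H g t := by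
    intro t ht
    have hmem : (t : G ⧸ H) ∈ S := by
      rcases ht with e | e
      · exact (hS _).2 (Or.inl ((smul_eq_iff H x t).2 e))
      · exact (hS _).2 (Or.inr (Or.inr ((smul_eq_iff H _ t).2 e)))
    have hnm : ¬ moves (t : G ⧸ H) := by
      rintro ⟨h1, h2⟩
      rcases ht with e | e
      · exact h2 ((smul_eq_iff H x t).2 e)
      · exact h2 (by conv_lhs => rw [← h1, ← mul_smul, (smul_eq_iff H _ t).2 e])
    exact (smul_eq_iff H g t).1 ((hall _ hmem).trans (if_neg hnm))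
  obtain ⟨t, h1, h2, h3⟩ := hcrit g (fun t ht => hfix t (Or.inl ht)) (fun t ht => hfix t (Or.inr ht))
  have hm : moves (t : G ⧸ H) := ⟨(smul_eq_iff H y t).2 h1, fun e => h2 ((smul_eq_iff H x t).1 e)⟩
  refine h3 ((smul_eq_iff H _ t).1 ?_)
  rw [mul_smul, hall _ ((hS _).2 (Or.inr (Or.inl hm.1))), show f (t : G ⧸ H) = x • _ from if_pos hm,
    inv_smul_smul]

/-- A criterion for binary actions. -/
theorem bin_of_product (H : Subgroup G)
    (h3 : ∀ t₁ t₂ t₃ a b : G, At H a t₁ → At H b t₂ → At H (a * b) t₃ → a ≠ 1 → b ≠ 1 → a * b ≠ 1 →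
      ∀ c, At H c t₁ → At H c t₂)
    (hti : ∀ t₁ t₂ a : G, At H a t₁ → At H a t₂ → a ≠ 1 → ∀ c, At H c t₁ → At H c t₂) :
    Bin H := by
  intro n I J hn hpair
  let o : Fin n := ⟨0, by omega⟩
  obtain ⟨g0, hg0, -⟩ := hpair o ⟨1, by omega⟩ (by simp [o, Fin.ext_iff])
  suffices hs : ∃ g : G, ∀ i, g • I i = g0⁻¹ • J i by
    obtain ⟨g, hg⟩ := hs
    exact ⟨g0 * g, fun i => by rw [mul_smul, hg i, smul_inv_smul]⟩
  let K : Fin n → G ⧸ H := fun i => g0⁻¹ • J i
  have hK : ∀ i j, i ≠ j → ∃ g : G, g • I i = K i ∧ g • I j = K j := fun i j hij => by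
    obtain ⟨g, h1, h2⟩ := hpair i j hij
    exact ⟨g0⁻¹ * g, by rw [mul_smul, h1], by rw [mul_smul, h2]⟩
  have hK0 : K o = I o := by simp only [K]; rw [← hg0, inv_smul_smul]
  by_cases hall : ∀ i, I i = K i
  · exact ⟨1, fun i => by rw [one_smul]; exact hall i⟩
  push Not at hall
  obtain ⟨i, hi⟩ := hall
  choose rep hrep using fun j => QuotientGroup.mk_surjective (s := H) (I j)
  have hfix : ∀ (j : Fin n) (g : G), g • I j = I j ↔ At H g (rep j) := fun j g => by
    rw [← hrep j, smul_eq_iff]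
  have hoi : o ≠ i := fun e => hi (e ▸ hK0.symm)
  obtain ⟨gi, hgi0, hgi⟩ := hK o i hoi
  have hgi1 : gi ≠ 1 := fun e => hi (by rw [← hgi, e, one_smul])
  refine ⟨gi, fun j => ?_⟩
  show gi • I j = K j
  rcases eq_or_ne o j with rfl | hoj
  · exact hgi0
  rcases eq_or_ne i j with rfl | hij
  · exact hgi
  obtain ⟨gj, hgj0, hgj⟩ := hK o j hoj
  obtain ⟨gij, hgiji, hgijj⟩ := hK i j hij
  rw [hK0] at hgi0 hgj0
  have ha : At H (gi⁻¹ * gj) (rep o) := (hfix o _).1 (by rw [mul_smul, hgj0, inv_smul_eq_iff, hgi0])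
  have hsj : At H (gj⁻¹ * gij) (rep j) := (hfix j _).1 (by rw [mul_smul, hgijj, ← hgj, inv_smul_smul])
  have hsi : At H (gi⁻¹ * gij) (rep i) := (hfix i _).1 (by rw [mul_smul, hgiji, ← hgi, inv_smul_smul])
  suffices hgood : At H (gi⁻¹ * gj) (rep j) by
    rw [← hgj]
    have e := (hfix j _).2 hgood
    rw [mul_smul, inv_smul_eq_iff] at e
    exact e.symm
  by_cases a1 : gi⁻¹ * gj = 1
  · rw [a1]; exact at_one H _
  by_cases s1 : gj⁻¹ * gij = 1
  · exfalso
    have e : gij = gj := (inv_mul_eq_one.1 s1).symm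
    rw [e] at hsi
    have := hti _ _ _ ha hsi a1 gi ((hfix o gi).1 hgi0)
    exact hi (((hfix i gi).2 this).symm.trans hgi)
  by_cases p1 : gi⁻¹ * gij = 1
  · have e : gij = gi := (inv_mul_eq_one.1 p1).symm
    rw [e] at hsj
    simpa using at_inv hsj
  exact h3 _ _ (rep i) _ _ ha hsj (by simpa [mul_assoc] using hsi) a1 s1
    (by simpa [mul_assoc] using p1) _ ha

end Cfsg.Agent.Chars.SzBinary
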