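import Cfsg.Agent.Chars.Orth
import Cfsg.Agent.Chars.Induced
import Cfsg.Agent.Chars.Linear
import Cfsg.Agent.Chars.Transport

/-!
Irreducible characters on a self centralising abelian subgroup of index four in its normaliser:
either constant off the identity, or a dipole of norm two detects the character.
-/

set_option autoImplicit false
set_option linter.style.haveILetI false
set_option linter.unusedSectionVars false

namespace Cfsg.Agent.Chars.SzTorus

open Cfsg
open scoped ComplexConjugate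

universe u

variable {G : Type u} [Group G] [Fintype G]

open scoped Classical in
/-- The non-identity elements of a subgroup. -/
noncomputable def nonOne (K : Subgroup G) : Finset G :=
  Finset.univ.filter fun g => g ∈ K ∧ g ≠ 1

open scoped Classical in
/-- The conjugates of the non-identity elements of a subgroup. -/
noncomputable def conjSet (K : Subgroup G) : Finset G :=
  Finset.univ.filter fun g => g ≠ 1 ∧ ∃ t : G, t⁻¹ * g * t ∈ K

theorem mem_nonOne {K : Subgroup G} {g : G} : g ∈ nonOne K ↔ g ∈ K ∧ g ≠ 1 := by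
  simp [nonOne]

theorem mem_conjSet {K : Subgroup G} {g : G} :
    g ∈ conjSet K ↔ g ≠ 1 ∧ ∃ t : G, t⁻¹ * g * t ∈ K := by
  simp [conjSet]

theorem card_nonOne (K : Subgroup G) : (nonOne K).card + 1 = Nat.card K := by
  classical
  have e : Finset.univ.filter (fun g : G => g ∈ K) = insert 1 (nonOne K) := by
    ext g
    by_cases hg : g = 1 <;> simp [nonOne, hg]
  rw [← Finset.card_insert_of_notMem (s := nonOne K) (a := 1) (by simp [nonOne]), ← e,
    Nat.card_eq_fintype_card, Fintype.card_subtype]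

/-- A sum over a subgroup, split at the identity. -/
theorem sum_subgroup (K : Subgroup G) [Fintype K] (f : G → ℂ) :
    ∑ a : K, f a = f 1 + ∑ g ∈ nonOne K, f g := by
  classical
  rw [← Finset.sum_erase_add _ _ (Finset.mem_univ (1 : K)), add_comm]
  congr 1
  refine Finset.sum_nbij (fun a : K => (a : G)) ?_ ?_ ?_ (fun _ _ => rfl)
  · intro a ha
    exact mem_nonOne.2 ⟨a.2, fun e => (Finset.ne_of_mem_erase ha) (Subtype.ext e)⟩
  · intro a _ b _ e
    exact Subtype.ext e
  · intro g hg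
    exact ⟨⟨g, (mem_nonOne.1 hg).1⟩,
      by simp [(mem_nonOne.1 hg).2, Subtype.ext_iff], rfl⟩

/-- Summing a class function over the conjugates of a trivial intersection subgroup. -/
theorem sum_conjSet (K : Subgroup G)
    (hTI : ∀ t a : G, a ∈ K → a ≠ 1 → t * a * t⁻¹ ∈ K → t ∈ Subgroup.normalizer (K : Set G))
    {f : G → ℂ} (hf : IsClassFunction G f) :
    (Nat.card (Subgroup.normalizer (K : Set G)) : ℂ) * ∑ g ∈ conjSet K, f g =
      (Nat.card G : ℂ) * ∑ g ∈ nonOne K, f g := by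
  classical
  have h1 : ∑ p ∈ (Finset.univ : Finset G) ×ˢ nonOne K, f (p.1 * p.2 * p.1⁻¹) =
      (Nat.card G : ℂ) * ∑ g ∈ nonOne K, f g := by
    rw [Finset.sum_product,
      Finset.sum_congr rfl (g := fun _ : G => ∑ g ∈ nonOne K, f g)
        (fun t _ => Finset.sum_congr rfl fun a _ => hf a t), Finset.sum_const, Finset.card_univ,
      nsmul_eq_mul, Nat.card_eq_fintype_card]
  rw [← h1]
  have hm : ∀ p ∈ (Finset.univ : Finset G) ×ˢ nonOne K, p.1 * p.2 * p.1⁻¹ ∈ conjSet K := by
    intro p hp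
    obtain ⟨ha, ha1⟩ := mem_nonOne.1 (Finset.mem_product.1 hp).2
    exact mem_conjSet.2 ⟨fun e => ha1 (conj_eq_one_iff.1 e), p.1, by simpa [mul_assoc] using ha⟩
  rw [← Finset.sum_fiberwise_of_maps_to hm, Finset.mul_sum]
  refine Finset.sum_congr rfl fun g hg => ?_
  rw [Finset.sum_congr rfl (g := fun _ => f g) (fun p hp => by rw [(Finset.mem_filter.1 hp).2]),
    Finset.sum_const, nsmul_eq_mul]
  congr 2
  obtain ⟨hg1, t₀, ht₀⟩ := mem_conjSet.1 hg
  have ha0 : t₀⁻¹ * g * t₀ ≠ 1 := fun e => hg1 (by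
    have := congrArg (fun z => t₀ * z * t₀⁻¹) e
    simpa [mul_assoc] using this)
  rw [Nat.card_eq_fintype_card, ← Finset.card_univ]
  refine Finset.card_nbij (fun x : Subgroup.normalizer (K : Set G) =>
    (t₀ * (x : G), (x : G)⁻¹ * (t₀⁻¹ * g * t₀) * (x : G))) ?_ ?_ ?_
  · intro x _
    simp only [Finset.coe_filter, Finset.mem_product, Finset.mem_univ, true_and, Set.mem_ofPred_eq]
    refine ⟨mem_nonOne.2 ⟨?_, fun e => ha0 ?_⟩, by group⟩
    · simpa using (Subgroup.mem_normalizer_iff.1 (inv_mem x.2) (t₀⁻¹ * g * t₀)).1 ht₀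
    · have := congrArg (fun z => (x : G) * z * (x : G)⁻¹) e
      simpa [mul_assoc] using this
  · intro x _ y _ e
    exact Subtype.ext (mul_left_cancel (congrArg Prod.fst e))
  · rintro ⟨t, a⟩ hp
    simp only [Finset.coe_filter, Finset.mem_product, Finset.mem_univ, true_and,
      Set.mem_ofPred_eq] at hp
    obtain ⟨hp, he⟩ := hp
    obtain ⟨ha, ha1⟩ := mem_nonOne.1 hp
    have hx : t₀⁻¹ * t * a * (t₀⁻¹ * t)⁻¹ = t₀⁻¹ * g * t₀ := by rw [← he]; group
    refine ⟨⟨t₀⁻¹ * t, hTI _ a ha ha1 (hx ▸ ht₀)⟩, Finset.mem_univ _, ?_⟩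
    simp only [Prod.mk.injEq]
    exact ⟨by group, by rw [← hx]; group⟩

/-- The data of a self centralising abelian subgroup of index four in its normaliser. -/
structure TorusHyp (K : Subgroup G) (n : ℕ) : Prop where
  comm : ∀ a ∈ K, ∀ b ∈ K, a * b = b * a
  cent : ∀ a ∈ K, a ≠ 1 → Subgroup.centralizer ({a} : Set G) = K
  card : Nat.card K = 4 * n + 1
  norm : Nat.card (Subgroup.normalizer (K : Set G)) = 4 * (4 * n + 1)

variable {K : Subgroup G} {n : ℕ}

theorem TorusHyp.mem_iff (hK : TorusHyp K n) {a : G} (ha : a ∈ K) (ha1 : a ≠ 1) (x : G) :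
    x ∈ K ↔ x * a = a * x := by
  conv_lhs => rw [← hK.cent a ha ha1]
  exact Subgroup.mem_centralizer_singleton_iff

theorem TorusHyp.ti (hK : TorusHyp K n) (t a : G) (ha : a ∈ K) (ha1 : a ≠ 1)
    (h : t * a * t⁻¹ ∈ K) : t ∈ Subgroup.normalizer (K : Set G) := by
  have hb : t * a * t⁻¹ ≠ 1 := fun e => ha1 (conj_eq_one_iff.1 e)
  rw [Subgroup.mem_normalizer_iff]
  intro x
  rw [hK.mem_iff ha ha1, hK.mem_iff h hb]
  constructor
  · intro e
    calc t * x * t⁻¹ * (t * a * t⁻¹) = t * (x * a) * t⁻¹ := by group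
      _ = t * a * t⁻¹ * (t * x * t⁻¹) := by rw [e]; group
  · intro e
    calc x * a = t⁻¹ * (t * x * t⁻¹ * (t * a * t⁻¹)) * t := by group
      _ = a * x := by rw [e]; group

theorem TorusHyp.sum_conjSet (hK : TorusHyp K n) {f : G → ℂ} (hf : IsClassFunction G f) :
    (4 * (4 * n + 1) : ℂ) * ∑ g ∈ conjSet K, f g = (Nat.card G : ℂ) * ∑ g ∈ nonOne K, f g := by
  rw [← SzTorus.sum_conjSet K hK.ti hf, hK.norm]
  push_cast
  ring

/-- Some involution inverts the subgroup. -/
theorem TorusHyp.inverter (hK : TorusHyp K n) :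
    ∃ t : G, t * t = 1 ∧ t ∉ K ∧ ∀ a ∈ K, t * a * t⁻¹ = a⁻¹ := by
  classical
  obtain ⟨x, hx⟩ := exists_prime_orderOf_dvd_card' (G := Subgroup.normalizer (K : Set G)) 2
    (hp := ⟨Nat.prime_two⟩) (by rw [hK.norm]; exact dvd_mul_of_dvd_left (by norm_num) _)
  have hxx : (x : G) * x = 1 := by
    rw [← Subgroup.coe_mul, ← sq, ← hx, pow_orderOf_eq_one]; rfl
  have hxK : (x : G) ∉ K := fun hm => by
    have h1 := orderOf_dvd_natCard (⟨x, hm⟩ : K)
    rw [← Subgroup.orderOf_coe] at h1
    simp only [Subgroup.orderOf_coe] at h1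
    rw [hx, hK.card] at h1
    omega
  have hxi : (x : G)⁻¹ = x := inv_eq_of_mul_eq_one_right hxx
  refine ⟨x, hxx, hxK, fun a ha => ?_⟩
  by_cases ha1 : a = 1
  · simp [ha1]
  have hxa : (x : G) * a * (x : G)⁻¹ ∈ K := (Subgroup.mem_normalizer_iff.1 x.2 a).1 ha
  -- the product of `a` with its image is fixed, hence trivial
  rw [eq_inv_iff_mul_eq_one]
  by_contra hne
  apply hxK
  rw [hK.mem_iff (mul_mem hxa ha) hne]
  rw [hxi] at hxa ⊢
  calc (x : G) * (x * a * x * a) = (x : G) * x * (a * (x * a)) := by group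
    _ = a * (x * a) := by rw [hxx, one_mul]
    _ = a * (x * a * (x * x)) := by rw [hxx, mul_one]
    _ = a * (x * a * x) * x := by group
    _ = x * a * x * a * x := by rw [hK.comm a ha _ hxa]

/-- A class function takes equal values at inverse elements. -/
theorem TorusHyp.apply_inv (hK : TorusHyp K n) {f : G → ℂ} (hf : IsClassFunction G f) {a : G}
    (ha : a ∈ K) : f a⁻¹ = f a := by
  obtain ⟨t, -, -, ht⟩ := hK.inverter
  rw [← ht a ha, hf]

open scoped Classical in
/-- The number of involutions inverting a non-identity element. -/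
theorem TorusHyp.card_inverting (hK : TorusHyp K n) {g : G} (hg : g ∈ K) (hg1 : g ≠ 1) :
    (Finset.univ.filter fun x : G => x ≠ 1 ∧ x * x = 1 ∧ x * g * x⁻¹ = g⁻¹).card = 4 * n + 1 := by
  obtain ⟨t, htt, htK, ht⟩ := hK.inverter
  have hti : t⁻¹ = t := inv_eq_of_mul_eq_one_right htt
  rw [← hK.card, Nat.card_eq_fintype_card, ← Finset.card_univ]
  symm
  refine Finset.card_nbij (fun a : K => t * (a : G)) ?_ ?_ ?_
  · intro a _
    simp only [Finset.coe_filter, Finset.mem_univ, true_and, Set.mem_ofPred_eq]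
    refine ⟨fun e => htK ?_, ?_, ?_⟩
    · rw [eq_inv_of_mul_eq_one_left e]; exact inv_mem a.2
    · calc t * (a : G) * (t * a) = t * a * t⁻¹ * a := by rw [hti]; group
        _ = 1 := by rw [ht _ a.2, inv_mul_cancel]
    · calc t * (a : G) * g * (t * a)⁻¹ = t * ((a : G) * g * (a : G)⁻¹) * t⁻¹ := by group
        _ = g⁻¹ := by rw [hK.comm _ a.2 _ hg, mul_inv_cancel_right, ht _ hg]
  · intro a _ b _ e
    exact Subtype.ext (mul_left_cancel e)
  · intro x hx
    simp only [Finset.coe_filter, Finset.mem_univ, true_and, Set.mem_ofPred_eq] at hx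
    obtain ⟨-, -, hx⟩ := hx
    have hm : t * x ∈ K := by
      rw [hK.mem_iff hg hg1]
      have e : t * x * g * (t * x)⁻¹ = g := by
        calc t * x * g * (t * x)⁻¹ = t * (x * g * x⁻¹) * t⁻¹ := by group
          _ = g := by rw [hx, ht _ (inv_mem hg), inv_inv]
      exact mul_inv_eq_iff_eq_mul.1 e
    exact ⟨⟨t * x, hm⟩, Finset.mem_univ _, by simp [← mul_assoc, htt]⟩

/-- Conjugation by an element of the normaliser. -/
def conjK (K : Subgroup G) (x : Subgroup.normalizer (K : Set G)) : K ≃* K where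
  toFun a := ⟨(x : G) * a * (x : G)⁻¹, (Subgroup.mem_normalizer_iff.1 x.2 a).1 a.2⟩
  invFun a := ⟨(x : G)⁻¹ * a * x, by
    simpa using (Subgroup.mem_normalizer_iff.1 (inv_mem x.2) (a : G)).1 a.2⟩
  left_inv a := Subtype.ext (by simp [mul_assoc])
  right_inv a := Subtype.ext (by simp [mul_assoc])
  map_mul' a b := Subtype.ext (by simp [mul_assoc])

theorem conjK_apply (K : Subgroup G) (x : Subgroup.normalizer (K : Set G)) (a : K) :
    (conjK K x a : G) = (x : G) * a * (x : G)⁻¹ := rfl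

/-- The action of the normaliser on the characters of the subgroup. -/
noncomputable def tw (x : Subgroup.normalizer (K : Set G)) (φ : IrrCharacter K) : IrrCharacter K :=
  irrEquiv (conjK K x) φ

theorem tw_apply (x : Subgroup.normalizer (K : Set G)) (φ : IrrCharacter K) (a : K) :
    (tw x φ : K → ℂ) a = (φ : K → ℂ) (conjK K x a) := rfl

theorem tw_one (φ : IrrCharacter K) : tw (1 : Subgroup.normalizer (K : Set G)) φ = φ := by
  refine Subtype.ext (funext fun a => ?_)
  rw [tw_apply]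
  exact congrArg _ (Subtype.ext (by simp [conjK_apply]))

theorem tw_tw (x y : Subgroup.normalizer (K : Set G)) (φ : IrrCharacter K) :
    tw x (tw y φ) = tw (y * x) φ := by
  refine Subtype.ext (funext fun a => ?_)
  simp only [tw_apply]
  exact congrArg _ (Subtype.ext (by simp [conjK_apply, mul_assoc]))

theorem eq_tw_inv {x : Subgroup.normalizer (K : Set G)} {φ ψ : IrrCharacter K} (h : tw x φ = ψ) :
    tw x⁻¹ ψ = φ := by
  rw [← h, tw_tw, mul_inv_cancel, tw_one]

/-- The trivial character. -/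
noncomputable def trivK (K : Subgroup G) : IrrCharacter K := ⟨fun _ => 1, isIrrCharacter_one⟩

theorem TorusHyp.irr_one (hK : TorusHyp K n) (φ : IrrCharacter K) : (φ : K → ℂ) 1 = 1 :=
  irr_apply_one_of_comm (fun a b => Subtype.ext (hK.comm a a.2 b b.2)) φ.2

theorem TorusHyp.irr_mul (hK : TorusHyp K n) (φ : IrrCharacter K) (a b : K) :
    (φ : K → ℂ) (a * b) = (φ : K → ℂ) a * (φ : K → ℂ) b := by
  obtain ⟨l, hl⟩ := exists_hom_of_degree_one (irr_isCharacter φ) (hK.irr_one φ)
  simp [hl]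

/-- The action on non-trivial characters is free modulo the subgroup. -/
theorem TorusHyp.tw_eq_iff (hK : TorusHyp K n) {φ : IrrCharacter K} (hφ : φ ≠ trivK K)
    (x : Subgroup.normalizer (K : Set G)) : tw x φ = φ ↔ (x : G) ∈ K := by
  constructor
  · intro h
    by_contra hx
    apply hφ
    refine Subtype.ext (funext fun b => ?_)
    let f : K → K := fun a => conjK K x a * a⁻¹
    have hinj : Function.Injective f := by
      intro a c e
      have e' : (x : G) * a * (x : G)⁻¹ * (a : G)⁻¹ = (x : G) * c * (x : G)⁻¹ * (c : G)⁻¹ :=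
        congrArg Subtype.val e
      by_contra hne
      apply hx
      have hd : (c : G)⁻¹ * a ∈ K := mul_mem (inv_mem c.2) a.2
      have hd1 : (c : G)⁻¹ * a ≠ 1 := fun e1 => hne (Subtype.ext (inv_mul_eq_one.1 e1).symm)
      rw [hK.mem_iff hd hd1]
      have e2 : (x : G) * ((c : G)⁻¹ * a) * (x : G)⁻¹ = (c : G)⁻¹ * a := by
        calc (x : G) * ((c : G)⁻¹ * a) * (x : G)⁻¹
            = ((x : G) * c * (x : G)⁻¹)⁻¹ * ((x : G) * a * (x : G)⁻¹ * (a : G)⁻¹) * a := by group
          _ = (c : G)⁻¹ * a := by rw [e']; group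
      exact mul_inv_eq_iff_eq_mul.1 e2
    obtain ⟨a, rfl⟩ := Finite.injective_iff_surjective.1 hinj b
    show (φ : K → ℂ) (conjK K x a * a⁻¹) = 1
    rw [hK.irr_mul, ← tw_apply, h, ← hK.irr_mul, mul_inv_cancel, hK.irr_one]
  · intro hx
    refine Subtype.ext (funext fun a => ?_)
    rw [tw_apply]
    refine congrArg _ (Subtype.ext ?_)
    rw [conjK_apply, hK.comm _ hx _ a.2, mul_inv_cancel_right]

theorem tw_triv (x : Subgroup.normalizer (K : Set G)) : tw x (trivK K) = trivK K :=
  Subtype.ext rfl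

theorem tw_ne_triv {φ : IrrCharacter K} (hφ : φ ≠ trivK K)
    (x : Subgroup.normalizer (K : Set G)) : tw x φ ≠ trivK K := fun e =>
  hφ (by rw [← eq_tw_inv e, tw_triv])

/-- The multiplicity of a character of the subgroup in a restriction. -/
noncomputable def mult (χ : G → ℂ) (φ : IrrCharacter K) : ℕ :=
  letI := Fintype.ofFinite K
  ⌊(classInner (fun a : K => χ a) (φ : K → ℂ)).re⌋₊

theorem mult_spec [Fintype K] {χ : G → ℂ} (hχ : IsCharacter G χ) (φ : IrrCharacter K) :
    classInner (fun a : K => χ a) (φ : K → ℂ) = (mult χ φ : ℂ) := by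
  obtain ⟨N, hN⟩ := exists_classInner_eq_nat (isCharacter_restrict hχ K) (irr_isCharacter φ)
  simp only [mult]
  rw [classInner_congr_fintype (Fintype.ofFinite K) ‹_›, hN]
  simp

theorem restrict_eq [Fintype K] {χ : G → ℂ} (hχ : IsCharacter G χ) (a : K) :
    χ a = ∑ φ : IrrCharacter K, (mult χ φ : ℂ) * (φ : K → ℂ) a := by
  have h := congrFun (eq_sum_classInner
    (isClassFunction_of_isCharacter (isCharacter_restrict hχ K))) a
  simp only [Finset.sum_apply, Pi.smul_apply, smul_eq_mul, mult_spec hχ] at h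
  exact h

theorem mult_tw [Fintype K] {χ : G → ℂ} (hχ : IsCharacter G χ)
    (x : Subgroup.normalizer (K : Set G)) (φ : IrrCharacter K) :
    mult χ (tw x φ) = mult χ φ := by
  have h := classInner_comp_equiv (conjK K x) (fun a : K => χ a) (φ : K → ℂ)
  rw [show (fun a : K => χ (conjK K x a : G)) = fun a : K => χ a from
    funext fun a => isClassFunction_of_isCharacter hχ _ _] at h
  have e1 := mult_spec hχ (tw x φ)
  rw [show ((tw x φ : IrrCharacter K) : K → ℂ) = fun a => (φ : K → ℂ) (conjK K x a) from rfl,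
    h, mult_spec hχ] at e1
  exact_mod_cast e1.symm

/-- The generalised character induced from a difference of two characters. -/
noncomputable def alpha (φ ψ : IrrCharacter K) : G → ℂ :=
  indFun K ((φ : K → ℂ) - (ψ : K → ℂ))

theorem classInner_alpha [Fintype K] {χ : G → ℂ} (hχ : IsCharacter G χ) (φ ψ : IrrCharacter K) :
    classInner (alpha φ ψ) χ = ((mult χ φ : ℤ) - mult χ ψ : ℤ) := by
  rw [alpha, classInner_indFun K _ (isClassFunction_of_isCharacter hχ), classInner_sub_left,
    ← classInner_conj_symm _ (φ : K → ℂ), ← classInner_conj_symm _ (ψ : K → ℂ), mult_spec hχ,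
    mult_spec hχ]
  simp

theorem TorusHyp.alpha_one (hK : TorusHyp K n) (φ ψ : IrrCharacter K) : alpha φ ψ 1 = 0 := by
  rw [alpha, indFun_apply_one, Pi.sub_apply, hK.irr_one, hK.irr_one, sub_self, mul_zero]

theorem TorusHyp.alpha_supp (hK : TorusHyp K n) (φ ψ : IrrCharacter K) {g : G}
    (hg : g ∉ conjSet K) : alpha φ ψ g = 0 := by
  by_cases hg1 : g = 1
  · rw [hg1, hK.alpha_one]
  rw [alpha, indFun_apply, Finset.sum_eq_zero, mul_zero]
  intro x _
  exact extendByZero_of_not_mem K _ fun hm => hg (mem_conjSet.2 ⟨hg1, x, hm⟩)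

/-- The values of the induced difference on the subgroup. -/
theorem TorusHyp.alpha_apply (hK : TorusHyp K n) [Fintype K]
    [Fintype (Subgroup.normalizer (K : Set G))] (φ ψ : IrrCharacter K) (a : K) :
    alpha φ ψ a = (Nat.card K : ℂ)⁻¹ * ∑ x : Subgroup.normalizer (K : Set G),
      ((tw x φ : K → ℂ) a - (tw x ψ : K → ℂ) a) := by
  classical
  by_cases ha : a = 1
  · subst ha
    rw [OneMemClass.coe_one, hK.alpha_one, Finset.sum_eq_zero, mul_zero]
    intro x _
    rw [hK.irr_one, hK.irr_one, sub_self]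
  have ha1 : (a : G) ≠ 1 := fun e => ha (Subtype.ext e)
  rw [alpha, indFun_apply]
  congr 1
  refine Eq.symm (Finset.sum_of_injOn (fun x : Subgroup.normalizer (K : Set G) => (x : G)⁻¹)
    (fun x _ y _ e => Subtype.ext (inv_injective e)) (fun x _ => Finset.mem_coe.2 (Finset.mem_univ _))
    ?_ ?_)
  · intro g _ hg
    refine extendByZero_of_not_mem K _ fun hm => hg ?_
    exact ⟨⟨g⁻¹, hK.ti g⁻¹ a a.2 ha1 (by simpa using hm)⟩, Finset.mem_univ _, inv_inv g⟩
  · intro x _
    rw [inv_inv, ← conjK_apply, extendByZero_coe]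
    rfl

theorem TorusHyp.classInner_alpha_alpha (hK : TorusHyp K n) [Fintype K]
    [Fintype (Subgroup.normalizer (K : Set G))] [DecidableEq (IrrCharacter K)]
    (φ ψ φ' ψ' : IrrCharacter K) :
    classInner (alpha φ ψ) (alpha φ' ψ') = (Nat.card K : ℂ)⁻¹ *
      ∑ x : Subgroup.normalizer (K : Set G),
        ((if φ = tw x φ' then (1 : ℂ) else 0) - (if φ = tw x ψ' then 1 else 0)
          - ((if ψ = tw x φ' then 1 else 0) - (if ψ = tw x ψ' then 1 else 0))) := by
  have e : (fun a : K => alpha φ' ψ' a) = (Nat.card K : ℂ)⁻¹ •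
      ∑ x : Subgroup.normalizer (K : Set G), ((tw x φ' : K → ℂ) - (tw x ψ' : K → ℂ)) := by
    funext a
    rw [hK.alpha_apply]
    simp [Finset.sum_apply]
  rw [show classInner (alpha φ ψ) (alpha φ' ψ') = classInner ((φ : K → ℂ) - (ψ : K → ℂ)) (fun a : K => alpha φ' ψ' a) from classInner_indFun K _ (isClassFunction_indFun K _)]
  show classInner ((φ : K → ℂ) - (ψ : K → ℂ)) (fun a : K => alpha φ' ψ' a) = _
  rw [e, classInner_smul_right, classInner_sum_right, map_inv₀, map_natCast]
  congr 1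
  refine Finset.sum_congr rfl fun x _ => ?_
  simp only [classInner_sub_left, classInner_sub_right, classInner_irrCharacter]
  ring

theorem TorusHyp.alpha_norm (hK : TorusHyp K n) [Fintype K]
    [Fintype (Subgroup.normalizer (K : Set G))] {φ ψ : IrrCharacter K}
    (hφ : φ ≠ trivK K) (hψ : ψ ≠ trivK K)
    (hne : ∀ x : Subgroup.normalizer (K : Set G), tw x φ ≠ ψ) :
    classInner (alpha φ ψ) (alpha φ ψ) = 2 := by
  classical
  have hterm : ∀ x : Subgroup.normalizer (K : Set G),
      ((if φ = tw x φ then (1 : ℂ) else 0) - (if φ = tw x ψ then 1 else 0)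
          - ((if ψ = tw x φ then 1 else 0) - (if ψ = tw x ψ then 1 else 0))) =
        if (x : G) ∈ K then 2 else 0 := by
    intro x
    have e1 : ¬ φ = tw x ψ := fun e => hne x⁻¹ (eq_tw_inv e.symm)
    have e2 : ¬ ψ = tw x φ := fun e => hne x e.symm
    rw [if_neg e1, if_neg e2]
    by_cases hx : (x : G) ∈ K
    · rw [if_pos ((hK.tw_eq_iff hφ x).2 hx).symm, if_pos ((hK.tw_eq_iff hψ x).2 hx).symm,
        if_pos hx]
      ring
    · rw [if_neg (fun e => hx ((hK.tw_eq_iff hφ x).1 e.symm)),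
        if_neg (fun e => hx ((hK.tw_eq_iff hψ x).1 e.symm)), if_neg hx]
      ring
  rw [hK.classInner_alpha_alpha, Finset.sum_congr rfl (fun x _ => hterm x), ← Finset.sum_filter,
    Finset.sum_const, nsmul_eq_mul]
  have hc : (Finset.univ.filter fun x : Subgroup.normalizer (K : Set G) => (x : G) ∈ K).card =
      Nat.card K := by
    rw [Nat.card_eq_fintype_card, ← Finset.card_univ]
    refine Finset.card_nbij' (fun x => if h : (x : G) ∈ K then ⟨(x : G), h⟩ else 1)
      (fun a => ⟨(a : G), Subgroup.le_normalizer a.2⟩) ?_ ?_ ?_ ?_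
    · intro x _; exact Finset.mem_coe.2 (Finset.mem_univ _)
    · intro a _; simp
    · intro x hx
      simp only [Finset.coe_filter, Finset.mem_univ, true_and, Set.mem_ofPred_eq] at hx
      simp [hx]
    · intro a _; simp
  rw [hc, ← mul_assoc, inv_mul_cancel₀ (subgroup_card_ne_zero K), one_mul]

/-- A generalised character of norm two, vanishing at the identity and off the conjugates of the
subgroup, meeting a character and its conjugate once. -/
def Dipole (K : Subgroup G) (χ : G → ℂ) : Prop :=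
  ∃ α : G → ℂ, IsClassFunction G α ∧ α 1 = 0 ∧ (∀ g ∉ conjSet K, α g = 0) ∧
    classInner α α = 2 ∧ classInner α χ = 1 ∧ classInner α (fun g => conj (χ g)) = 1 ∧
    ∀ ψ : IrrCharacter G, ∃ d : ℤ, classInner α (ψ : G → ℂ) = d

/-- Being constant off the identity. -/
def ConstOn (K : Subgroup G) (χ : G → ℂ) (w : ℤ) : Prop :=
  ∀ a ∈ K, a ≠ 1 → χ a = w

/-- A dipole is a difference of two irreducible characters. -/
theorem dipole_eq {α : G → ℂ} (hα : IsClassFunction G α) (h1 : α 1 = 0)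
    (hn : classInner α α = 2) (hint : ∀ ψ : IrrCharacter G, ∃ d : ℤ, classInner α (ψ : G → ℂ) = d)
    (χ : IrrCharacter G) (hχ : classInner α (χ : G → ℂ) = 1) :
    ∃ χ' : IrrCharacter G, χ' ≠ χ ∧ α = (χ : G → ℂ) - (χ' : G → ℂ) := by
  classical
  choose d hd using hint
  have hsq : ∑ ψ : IrrCharacter G, d ψ * d ψ = 2 := by
    have h := classInner_eq_sum hα α
    rw [hn] at h
    have h2 : ((∑ ψ : IrrCharacter G, d ψ * d ψ : ℤ) : ℂ) = 2 := by
      rw [h]; push_cast
      refine Finset.sum_congr rfl fun ψ _ => ?_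
      rw [← classInner_conj_symm α (ψ : G → ℂ), hd]
      simp
    exact_mod_cast h2
  have hdχ : d χ = 1 := by
    have := (hd χ).symm.trans hχ
    exact_mod_cast this
  rw [← Finset.add_sum_erase _ _ (Finset.mem_univ χ), hdχ] at hsq
  have hrest : ∑ ψ ∈ Finset.univ.erase χ, d ψ * d ψ = 1 := by linarith
  obtain ⟨χ', hχ', hne⟩ := Finset.exists_ne_zero_of_sum_ne_zero (hrest.trans_ne one_ne_zero)
  have hle : d χ' * d χ' ≤ 1 := hrest ▸ Finset.single_le_sum (f := fun ψ => d ψ * d ψ)
    (fun ψ _ => mul_self_nonneg _) hχ'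
  have hd' : d χ' * d χ' = 1 := le_antisymm hle
    (by rcases (mul_self_nonneg (d χ')).lt_or_eq with h | h
        · omega
        · exact absurd h.symm hne)
  have hzero : ∀ ψ, ψ ≠ χ → ψ ≠ χ' → d ψ = 0 := by
    intro ψ hψ hψ'
    rw [← Finset.add_sum_erase _ _ hχ', hd', add_eq_left,
      Finset.sum_eq_zero_iff_of_nonneg (fun _ _ => mul_self_nonneg _)] at hrest
    exact mul_self_eq_zero.1 (hrest ψ (by simp [hψ, hψ']))
  have hχ'ne : χ' ≠ χ := Finset.ne_of_mem_erase hχ'
  have hα' : α = (χ : G → ℂ) + (d χ' : ℂ) • (χ' : G → ℂ) := by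
    conv_lhs => rw [eq_sum_classInner hα]
    rw [← Finset.sum_subset (Finset.subset_univ {χ, χ'}), Finset.sum_pair hχ'ne.symm, hd, hd,
      hdχ, Int.cast_one, one_smul]
    intro ψ _ hψ
    simp only [Finset.mem_insert, Finset.mem_singleton, not_or] at hψ
    rw [hd, hzero ψ hψ.1 hψ.2, Int.cast_zero, zero_smul]
  refine ⟨χ', hχ'ne, ?_⟩
  obtain ⟨a, ha, ea⟩ := exists_irr_apply_one_eq χ.2
  obtain ⟨b, hb, eb⟩ := exists_irr_apply_one_eq χ'.2
  rcases Int.eq_one_or_neg_one_of_mul_eq_one hd' with e | e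
  · exfalso
    rw [hα'] at h1
    simp only [Pi.add_apply, Pi.smul_apply, e, Int.cast_one, one_smul, ea, eb] at h1
    have : a + b = 0 := by exact_mod_cast h1
    omega
  · rw [hα', e]; simp [sub_eq_add_neg]

theorem dipole_real (χ : IrrCharacter G) (h : Dipole K (χ : G → ℂ)) :
    (fun g => conj ((χ : G → ℂ) g)) = (χ : G → ℂ) := by
  obtain ⟨α, hα, h1, -, hn, hc, hcc, hint⟩ := h
  obtain ⟨χ', -, e⟩ := dipole_eq hα h1 hn hint χ hc
  by_contra hne
  have hirr := isIrrCharacter_star χ.2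
  rw [e, classInner_sub_left, classInner_irr_of_ne χ.2 hirr (Ne.symm hne), classInner_irr χ'.2 hirr]
    at hcc
  split_ifs at hcc <;> norm_num at hcc

theorem dipole_not_both {K' : Subgroup G} (hdis : ∀ g ∈ conjSet K, g ∉ conjSet K')
    (χ : IrrCharacter G) (h : Dipole K (χ : G → ℂ)) (h' : Dipole K' (χ : G → ℂ)) : False := by
  obtain ⟨α, hα, h1, hs, hn, hc, -, hint⟩ := h
  obtain ⟨β, hβ, h1', hs', hn', hc', -, hint'⟩ := h'
  obtain ⟨χ', hne, e⟩ := dipole_eq hα h1 hn hint χ hc
  obtain ⟨χ'', hne', e'⟩ := dipole_eq hβ h1' hn' hint' χ hc'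
  have h0 : classInner α β = 0 := by
    rw [classInner_def, Finset.sum_eq_zero, mul_zero]
    intro g _
    by_cases hg : g ∈ conjSet K
    · rw [hs' g (hdis g hg), map_zero, mul_zero]
    · rw [hs g hg, zero_mul]
  classical
  rw [e, e'] at h0
  simp only [classInner_sub_left, classInner_sub_right, classInner_irrCharacter, if_neg hne,
    if_neg hne'.symm] at h0
  split_ifs at h0 <;> norm_num at h0

/-- The sum over the non-identity elements in terms of multiplicities. -/
theorem TorusHyp.sum_nonOne (hK : TorusHyp K n) [Fintype K] [DecidableEq (IrrCharacter K)]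
    {χ : G → ℂ} (hχ : IsCharacter G χ) :
    ∑ g ∈ nonOne K, χ g = (4 * n : ℂ) * mult χ (trivK K) -
      ∑ φ ∈ Finset.univ.erase (trivK K), (mult χ φ : ℂ) := by
  have h1 := mult_spec (K := K) hχ (trivK K)
  simp only [classInner_def, trivK, map_one, mul_one, sum_subgroup K χ] at h1
  rw [inv_mul_eq_iff_eq_mul₀ (subgroup_card_ne_zero K), hK.card] at h1
  have h2 := restrict_eq (K := K) hχ 1
  simp only [hK.irr_one, mul_one, OneMemClass.coe_one] at h2
  rw [← Finset.add_sum_erase _ _ (Finset.mem_univ (trivK K))] at h2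
  push_cast at h1
  simp only [trivK] at h2 ⊢
  linear_combination h1 - h2

theorem TorusHyp.card_irr (hK : TorusHyp K n) [Fintype K] :
    Fintype.card (IrrCharacter K) = 4 * n + 1 := by
  have h := sum_sq_apply_one (G := K)
  simp only [hK.irr_one, one_pow, Finset.sum_const, Finset.card_univ, nsmul_eq_mul, mul_one,
    hK.card] at h
  exact_mod_cast h

/-- The classification, with the sums of the values and of their squares. -/
theorem TorusHyp.classify_full (hK : TorusHyp K n) (χ : IrrCharacter G) :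
    (∃ w : ℤ, ConstOn K (χ : G → ℂ) w) ∨ (Dipole K (χ : G → ℂ) ∧ 2 ≤ n ∧
      ∃ u s : ℤ, (s = 1 ∨ s = -1) ∧
        ∑ g ∈ nonOne K, (χ : G → ℂ) g = ((4 * ((n : ℤ) * u - s) : ℤ) : ℂ) ∧
        ∑ g ∈ nonOne K, Complex.normSq ((χ : G → ℂ) g) =
          4 * (n : ℝ) * (u : ℝ) ^ 2 - 8 * (s : ℝ) * (u : ℝ) + 4 * (4 * (n : ℝ) + 1) - 16) := by
  classical
  haveI := Fintype.ofFinite K
  haveI := Fintype.ofFinite (Subgroup.normalizer (K : Set G))
  have hc := irr_isCharacter χ
  by_cases hconst : ∀ φ ψ : IrrCharacter K, φ ≠ trivK K → ψ ≠ trivK K →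
      mult (χ : G → ℂ) φ = mult (χ : G → ℂ) ψ
  · left
    obtain ⟨M, hM⟩ : ∃ M : ℕ, ∀ φ : IrrCharacter K, φ ≠ trivK K → mult (χ : G → ℂ) φ = M := by
      by_cases he : ∃ φ : IrrCharacter K, φ ≠ trivK K
      · obtain ⟨φ, hφ⟩ := he
        exact ⟨_, fun ψ hψ => hconst ψ φ hψ hφ⟩
      · exact ⟨0, fun φ hφ => absurd ⟨φ, hφ⟩ he⟩
    refine ⟨(mult (χ : G → ℂ) (trivK K) : ℤ) - M, fun a ha ha1 => ?_⟩
    have h0 := sum_apply_one_mul (G := K) ⟨a, ha⟩
    simp only [hK.irr_one, one_mul, if_neg (show (⟨a, ha⟩ : K) ≠ 1 by simpa [Subtype.ext_iff])] at h0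
    rw [← Finset.add_sum_erase _ _ (Finset.mem_univ (trivK K))] at h0
    have h1 := restrict_eq hc (⟨a, ha⟩ : K)
    rw [← Finset.add_sum_erase _ _ (Finset.mem_univ (trivK K)),
      Finset.sum_congr rfl (g := fun φ : IrrCharacter K => (M : ℂ) * (φ : K → ℂ) ⟨a, ha⟩)
        (fun φ hφ => by rw [hM φ (Finset.ne_of_mem_erase hφ)]), ← Finset.mul_sum] at h1
    push_cast
    simp only [trivK] at h0 h1 ⊢
    linear_combination h1 + (M : ℂ) * h0
  · right
    push Not at hconst
    obtain ⟨φ₀, ψ₀, hφ₀, hψ₀, hne₀⟩ := hconst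
    have hint : ∀ (φ ψ : IrrCharacter K) (θ : IrrCharacter G),
        ∃ d : ℤ, classInner (alpha φ ψ) (θ : G → ℂ) = d :=
      fun φ ψ θ => ⟨_, classInner_alpha (irr_isCharacter θ) φ ψ⟩
    -- multiplicities differ by at most one
    have hdiff : ∀ φ ψ : IrrCharacter K, φ ≠ trivK K → ψ ≠ trivK K →
        mult (χ : G → ℂ) φ ≤ mult (χ : G → ℂ) ψ + 1 := by
      intro φ ψ hφ hψ
      by_contra hlt
      push Not at hlt
      have hne : ∀ x : Subgroup.normalizer (K : Set G), tw x φ ≠ ψ := fun x e => by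
        rw [← e, mult_tw hc] at hlt; omega
      have h := classInner_eq_sum (isClassFunction_indFun K _) (alpha φ ψ)
        (f := alpha φ ψ)
      rw [hK.alpha_norm hφ hψ hne] at h
      choose d hd using hint φ ψ
      have h2 : ((∑ θ : IrrCharacter G, d θ * d θ : ℤ) : ℂ) = 2 := by
        rw [h]; push_cast
        refine Finset.sum_congr rfl fun θ _ => ?_
        rw [← classInner_conj_symm _ (θ : G → ℂ), hd]
        simp
      have h3 : ∑ θ : IrrCharacter G, d θ * d θ = 2 := by exact_mod_cast h2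
      have h4 : d χ * d χ ≤ 2 := h3 ▸ Finset.single_le_sum (f := fun θ => d θ * d θ)
        (fun θ _ => mul_self_nonneg _) (Finset.mem_univ χ)
      have h5 : d χ = (mult (χ : G → ℂ) φ : ℤ) - mult (χ : G → ℂ) ψ := by
        have := (hd χ).symm.trans (classInner_alpha hc φ ψ)
        exact_mod_cast this
      nlinarith [(by omega : (2 : ℤ) ≤ d χ)]
    obtain ⟨φ, ψ, hφ, hψ, hlt⟩ : ∃ φ ψ : IrrCharacter K, φ ≠ trivK K ∧ ψ ≠ trivK K ∧
        mult (χ : G → ℂ) ψ < mult (χ : G → ℂ) φ := by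
      rcases Nat.lt_or_gt_of_ne hne₀ with e | e
      · exact ⟨ψ₀, φ₀, hψ₀, hφ₀, e⟩
      · exact ⟨φ₀, ψ₀, hφ₀, hψ₀, e⟩
    obtain ⟨M, hM⟩ : ∃ M, mult (χ : G → ℂ) ψ = M := ⟨_, rfl⟩
    have hφM : mult (χ : G → ℂ) φ = M + 1 := by have := hdiff φ ψ hφ hψ; omega
    have hval : ∀ θ : IrrCharacter K, θ ≠ trivK K →
        mult (χ : G → ℂ) θ = M ∨ mult (χ : G → ℂ) θ = M + 1 := fun θ hθ => by
      have := hdiff θ ψ hθ hψ
      have := hdiff φ θ hφ hθ
      omega
    have hne : ∀ x : Subgroup.normalizer (K : Set G), tw x φ ≠ ψ := fun x e => by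
      rw [← e, mult_tw hc] at hlt; omega
    have hinner : ∀ φ' ψ' : IrrCharacter K, mult (χ : G → ℂ) φ' = M + 1 →
        mult (χ : G → ℂ) ψ' = M → classInner (alpha φ' ψ') (χ : G → ℂ) = 1 := by
      intro φ' ψ' e1 e2
      rw [classInner_alpha hc, e1, e2]; simp
    refine ⟨⟨alpha φ ψ, isClassFunction_indFun K _, hK.alpha_one φ ψ,
      fun g hg => hK.alpha_supp φ ψ hg, hK.alpha_norm hφ hψ hne, hinner φ ψ hφM hM, ?_, hint φ ψ⟩, ?_⟩
    · have hcs := isCharacter_star hc
      have e : classInner (alpha φ ψ) (fun g => conj ((χ : G → ℂ) g)) =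
          classInner (alpha φ ψ) (χ : G → ℂ) := by
        simp only [alpha]
        rw [classInner_indFun K _ (isClassFunction_of_isCharacter hcs),
          classInner_indFun K _ (isClassFunction_irr χ)]
        congr 1
        funext a
        rw [← char_inv_eq_conj hc, hK.apply_inv (isClassFunction_irr χ) a.2]
      rw [e, hinner φ ψ hφM hM]
    -- one of the two values is taken on a single orbit
    let P := (Finset.univ.erase (trivK K)).filter fun θ => mult (χ : G → ℂ) θ = M + 1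
    let Q := (Finset.univ.erase (trivK K)).filter fun θ => ¬ mult (χ : G → ℂ) θ = M + 1
    let orb : IrrCharacter K → Finset (IrrCharacter K) := fun θ =>
      Finset.univ.image fun x : Subgroup.normalizer (K : Set G) => tw x θ
    have horb : ∀ θ : IrrCharacter K, θ ≠ trivK K → (orb θ).card = 4 := by
      intro θ hθ
      have h := Finset.card_eq_sum_card_fiberwise
        (f := fun x : Subgroup.normalizer (K : Set G) => tw x θ)
        (s := Finset.univ) (t := orb θ) (fun x _ => Finset.mem_coe.2 (Finset.mem_image_of_mem _ (Finset.mem_univ x)))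
      rw [Finset.sum_congr rfl (g := fun _ => Nat.card K), Finset.sum_const, smul_eq_mul,
        Finset.card_univ, ← Nat.card_eq_fintype_card, hK.norm, hK.card] at h
      · exact (Nat.eq_of_mul_eq_mul_right (Nat.succ_pos (4 * n)) h).symm
      intro b hb
      obtain ⟨x₀, -, rfl⟩ := Finset.mem_image.1 hb
      rw [Nat.card_eq_fintype_card, ← Finset.card_univ]
      symm
      refine Finset.card_nbij (fun a : K =>
        (⟨(a : G), Subgroup.le_normalizer a.2⟩ : Subgroup.normalizer (K : Set G)) * x₀) ?_ ?_ ?_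
      · intro a _
        simp only [Finset.coe_filter, Finset.mem_univ, true_and, Set.mem_ofPred_eq]
        rw [← tw_tw, (hK.tw_eq_iff hθ _).2 a.2]
      · intro a _ b _ e
        exact Subtype.ext (congrArg Subtype.val (mul_right_cancel e) :)
      · intro x hx
        simp only [Finset.coe_filter, Finset.mem_univ, true_and, Set.mem_ofPred_eq] at hx
        have : tw (x * x₀⁻¹) θ = θ := by rw [← tw_tw, eq_tw_inv hx.symm]
        exact ⟨⟨_, (hK.tw_eq_iff hθ _).1 this⟩, Finset.mem_univ _, by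
          ext; simp⟩
    have horbP : ∀ θ ∈ P, orb θ ⊆ P := by
      intro θ hθ b hb
      simp only [P, Finset.mem_filter, Finset.mem_erase, Finset.mem_univ, and_true] at hθ ⊢
      obtain ⟨x, -, rfl⟩ := Finset.mem_image.1 hb
      exact ⟨tw_ne_triv hθ.1 x, by rw [mult_tw hc]; exact hθ.2⟩
    have horbQ : ∀ θ ∈ Q, orb θ ⊆ Q := by
      intro θ hθ b hb
      simp only [Q, Finset.mem_filter, Finset.mem_erase, Finset.mem_univ, and_true] at hθ ⊢
      obtain ⟨x, -, rfl⟩ := Finset.mem_image.1 hb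
      exact ⟨tw_ne_triv hθ.1 x, by rw [mult_tw hc]; exact hθ.2⟩
    have hsingle : P ⊆ orb φ ∨ Q ⊆ orb ψ := by
      by_contra hh
      simp only [not_or, Finset.not_subset] at hh
      obtain ⟨⟨φ', hφ', hφo⟩, ψ', hψ', hψo⟩ := hh
      simp only [P, Q, Finset.mem_filter, Finset.mem_erase, Finset.mem_univ, and_true] at hφ' hψ'
      have hψ'M : mult (χ : G → ℂ) ψ' = M := (hval ψ' hψ'.1).resolve_right hψ'.2
      have hne' : ∀ x : Subgroup.normalizer (K : Set G), tw x φ' ≠ ψ' := fun x e => by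
        have := mult_tw hc x φ'
        rw [e, hψ'M, hφ'.2] at this; omega
      have h0 : classInner (alpha φ ψ) (alpha φ' ψ') = 0 := by
        rw [hK.classInner_alpha_alpha, Finset.sum_eq_zero, mul_zero]
        intro x _
        have ha : ∀ θ θ' : IrrCharacter K, θ' ∉ orb θ → θ ≠ tw x θ' := fun θ θ' ho e =>
          ho (Finset.mem_image.2 ⟨x⁻¹, Finset.mem_univ _, eq_tw_inv e.symm⟩)
        have hb : ∀ θ θ' : IrrCharacter K, mult (χ : G → ℂ) θ ≠ mult (χ : G → ℂ) θ' →
            θ ≠ tw x θ' := fun θ θ' hm e => hm (by rw [e, mult_tw hc])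
        rw [if_neg (ha φ φ' hφo), if_neg (hb φ ψ' (by omega)), if_neg (hb ψ φ' (by omega)),
          if_neg (ha ψ ψ' hψo)]
        ring
      obtain ⟨χ', hne1, e⟩ := dipole_eq (isClassFunction_indFun K _) (hK.alpha_one φ ψ)
        (hK.alpha_norm hφ hψ hne) (hint φ ψ) χ (hinner φ ψ hφM hM)
      obtain ⟨χ'', hne2, e'⟩ := dipole_eq (isClassFunction_indFun K _) (hK.alpha_one φ' ψ')
        (hK.alpha_norm hφ'.1 hψ'.1 hne') (hint φ' ψ') χ (hinner φ' ψ' hφ'.2 hψ'M)
      simp only [alpha] at h0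
      rw [e, e'] at h0
      simp only [classInner_sub_left, classInner_sub_right, classInner_irrCharacter, if_neg hne1,
        if_neg hne2.symm] at h0
      split_ifs at h0 <;> norm_num at h0
    have hφP : φ ∈ P := by simp [P, hφ, hφM]
    have hψQ : ψ ∈ Q := by simp [Q, hψ, hM]
    have hPQ : P.card + Q.card = 4 * n := by
      rw [Finset.card_filter_add_card_filter_not, Finset.card_erase_of_mem (Finset.mem_univ _),
        Finset.card_univ, hK.card_irr]
      omega
    have hn2 : 2 ≤ n := by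
      have h1 := Finset.card_le_card (horbP φ hφP)
      have h2 := Finset.card_le_card (horbQ ψ hψQ)
      rw [horb φ hφ] at h1
      rw [horb ψ hψ] at h2
      omega
    refine ⟨hn2, ?_⟩
    obtain ⟨R, M0, σ, hσ, hR, hval'⟩ : ∃ (R : Finset (IrrCharacter K)) (M0 σ : ℤ),
        (σ = 1 ∨ σ = -1) ∧ R.card = 4 ∧ R ⊆ Finset.univ.erase (trivK K) ∧
        ∀ θ ∈ Finset.univ.erase (trivK K),
          (mult (χ : G → ℂ) θ : ℤ) = M0 + σ * (if θ ∈ R then 1 else 0) := by
      rcases hsingle with hP | hQ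
      · refine ⟨P, M, 1, Or.inl rfl, by rw [Finset.Subset.antisymm hP (horbP φ hφP), horb φ hφ],
          Finset.filter_subset _ _, fun θ hθ => ?_⟩
        by_cases e : mult (χ : G → ℂ) θ = M + 1
        · have hm : θ ∈ P := Finset.mem_filter.2 ⟨hθ, e⟩
          rw [if_pos hm, e]; push_cast; ring
        · have hm : θ ∉ P := fun h => e (Finset.mem_filter.1 h).2
          rw [if_neg hm, (hval θ (Finset.ne_of_mem_erase hθ)).resolve_right e]; ring
      · refine ⟨Q, (M : ℤ) + 1, -1, Or.inr rfl,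
          by rw [Finset.Subset.antisymm hQ (horbQ ψ hψQ), horb ψ hψ],
          Finset.filter_subset _ _, fun θ hθ => ?_⟩
        by_cases e : mult (χ : G → ℂ) θ = M + 1
        · have hm : θ ∉ Q := fun h => (Finset.mem_filter.1 h).2 e
          rw [if_neg hm, e]; push_cast; ring
        · have hm : θ ∈ Q := Finset.mem_filter.2 ⟨hθ, e⟩
          rw [if_pos hm, (hval θ (Finset.ne_of_mem_erase hθ)).resolve_right e]; ring
    obtain ⟨hsub, hval'⟩ := hval'
    have hσ2 : σ * σ = 1 := by rcases hσ with rfl | rfl <;> norm_num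
    have hcardE : ((Finset.univ.erase (trivK K)).card : ℤ) = 4 * n := by
      rw [Finset.card_erase_of_mem (Finset.mem_univ _), Finset.card_univ, hK.card_irr]
      push_cast [Nat.add_sub_cancel]; ring
    have hind : ∑ θ ∈ Finset.univ.erase (trivK K), (if θ ∈ R then (1 : ℤ) else 0) = 4 := by
      rw [Finset.sum_boole, Finset.filter_mem_eq_inter, Finset.inter_eq_right.2 hsub, hR]; norm_num
    have hs1 : ∑ θ ∈ Finset.univ.erase (trivK K), (mult (χ : G → ℂ) θ : ℤ) = 4 * n * M0 + 4 * σ := by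
      rw [Finset.sum_congr rfl hval', Finset.sum_add_distrib, Finset.sum_const, nsmul_eq_mul,
        hcardE, ← Finset.mul_sum, hind]
      ring
    have hs2 : ∑ θ ∈ Finset.univ.erase (trivK K),
        (mult (χ : G → ℂ) θ : ℤ) * mult (χ : G → ℂ) θ = 4 * n * (M0 * M0) + 8 * σ * M0 + 4 := by
      rw [Finset.sum_congr rfl (g := fun θ => M0 * M0 + (2 * σ * M0 + 1) * (if θ ∈ R then (1 : ℤ) else 0))
        (fun θ hθ => by rw [hval' θ hθ]; split_ifs <;> first | linear_combination hσ2 | ring),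
        Finset.sum_add_distrib, Finset.sum_const, nsmul_eq_mul, hcardE, ← Finset.mul_sum, hind]
      ring
    have hs1c : ∑ θ ∈ Finset.univ.erase (trivK K), (mult (χ : G → ℂ) θ : ℂ) =
        4 * (n : ℂ) * (M0 : ℂ) + 4 * (σ : ℂ) := by
      have e := congrArg (fun z : ℤ => (z : ℂ)) hs1
      push_cast at e
      exact e
    refine ⟨(mult (χ : G → ℂ) (trivK K) : ℤ) - M0, σ, hσ, ?_, ?_⟩
    · rw [hK.sum_nonOne hc, hs1c]
      push_cast
      ring
    · have h1 := classInner_eq_sum (isClassFunction_of_isCharacter (isCharacter_restrict hc K))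
        (fun a : K => (χ : G → ℂ) a)
      rw [classInner_def, sum_subgroup K (fun g => (χ : G → ℂ) g * conj ((χ : G → ℂ) g))] at h1
      rw [Finset.sum_congr rfl (g := fun θ : IrrCharacter K => (mult (χ : G → ℂ) θ : ℂ) * mult (χ : G → ℂ) θ)
        (fun θ _ => by
          rw [← classInner_conj_symm (fun a : K => (χ : G → ℂ) a) (θ : K → ℂ), mult_spec hc, map_natCast]),
        ← Finset.add_sum_erase _ _ (Finset.mem_univ (trivK K)),
        inv_mul_eq_iff_eq_mul₀ (subgroup_card_ne_zero K), hK.card, irr_apply_one_conj hc] at h1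
      have h2 := restrict_eq (K := K) hc 1
      simp only [hK.irr_one, mul_one, OneMemClass.coe_one] at h2
      rw [← Finset.add_sum_erase _ _ (Finset.mem_univ (trivK K)), hs1c] at h2
      have hs2c : ∑ θ ∈ Finset.univ.erase (trivK K),
          (mult (χ : G → ℂ) θ : ℂ) * mult (χ : G → ℂ) θ =
            4 * (n : ℂ) * ((M0 : ℂ) * M0) + 8 * (σ : ℂ) * M0 + 4 := by
        have e := congrArg (fun z : ℤ => (z : ℂ)) hs2
        push_cast at e
        exact e
      rw [hs2c, h2] at h1
      apply Complex.ofReal_injective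
      rw [Complex.ofReal_sum, Finset.sum_congr rfl
        (g := fun g => (χ : G → ℂ) g * conj ((χ : G → ℂ) g)) (fun g _ => (Complex.mul_conj _).symm)]
      have hσ2c : (σ : ℂ) * σ = 1 := by exact_mod_cast hσ2
      push_cast at h1 ⊢
      linear_combination h1 - (16 : ℂ) * hσ2c

/-- The classification. -/
theorem TorusHyp.classify (hK : TorusHyp K n) (χ : IrrCharacter G) :
    (∃ w : ℤ, ConstOn K (χ : G → ℂ) w) ∨ (Dipole K (χ : G → ℂ) ∧
      ∃ t s : ℤ, (s = 1 ∨ s = -1) ∧
        ∑ g ∈ nonOne K, (χ : G → ℂ) g = ((4 * ((n : ℤ) * t + s) : ℤ) : ℂ)) := by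
  rcases hK.classify_full χ with h | ⟨hd, -, u, s, hs, he, -⟩
  · exact Or.inl h
  · exact Or.inr ⟨hd, u, -s, by omega, by rw [he, ← sub_eq_add_neg]⟩

theorem TorusHyp.sum_const (hK : TorusHyp K n) {χ : G → ℂ} {w : ℤ} (h : ConstOn K χ w) :
    ∑ g ∈ nonOne K, χ g = ((4 * (n : ℤ) * w : ℤ) : ℂ) := by
  rw [Finset.sum_congr rfl (g := fun _ => (w : ℂ))
    (fun g hg => h g (mem_nonOne.1 hg).1 (mem_nonOne.1 hg).2), Finset.sum_const, nsmul_eq_mul]
  have := card_nonOne K
  rw [hK.card] at this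
  rw [show (nonOne K).card = 4 * n by omega]
  push_cast
  ring

theorem TorusHyp.dvd_sub_of_const (hK : TorusHyp K n) {χ : G → ℂ} (hχ : IsCharacter G χ) {w : ℤ}
    (h : ConstOn K χ w) {d : ℕ} (hd : χ 1 = d) : ((4 * n + 1 : ℕ) : ℤ) ∣ (d : ℤ) - w := by
  haveI := Fintype.ofFinite K
  have h1 := mult_spec (K := K) hχ (trivK K)
  simp only [classInner_def, trivK, map_one, mul_one, sum_subgroup K χ, hK.sum_const h, hd] at h1
  rw [inv_mul_eq_iff_eq_mul₀ (subgroup_card_ne_zero K), hK.card] at h1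
  refine ⟨(mult χ (trivK K) : ℤ) - w, ?_⟩
  simp only [trivK] at h1 ⊢
  have h2 : (d : ℤ) + 4 * (n : ℤ) * w =
      ((4 * n + 1 : ℕ) : ℤ) * (mult χ (⟨fun _ => 1, isIrrCharacter_one⟩ : IrrCharacter K) : ℤ) := by
    exact_mod_cast h1
  push_cast at h2 ⊢
  linear_combination h2

end Cfsg.Agent.Chars.SzTorus
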