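import Cfsg.Agent.Suzuki.SzToriCount
import Cfsg.Agent.Chars.SzTorusChars
import Cfsg.Agent.Chars.Eigen

/-!
Conjugacy facts and summation of class functions on the Suzuki groups.
-/

set_option autoImplicit false
set_option linter.style.haveILetI false
set_option linter.unusedSectionVars false

namespace Cfsg.Agent.Chars.SzD

open Cfsg Cfsg.Agent.Suzuki Cfsg.Agent.Chars.SzTorus
open scoped ComplexConjugate

/-- The field order. -/
abbrev qq (m : ℕ) : ℕ := 2 ^ (2 * m + 1)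

/-- A quarter of the larger torus order less one. -/
abbrev np (m : ℕ) : ℕ := 2 ^ (2 * m - 1) + 2 ^ (m - 1)

/-- A quarter of the smaller torus order less one. -/
abbrev nm (m : ℕ) : ℕ := 2 ^ (2 * m - 1) - 2 ^ (m - 1)

theorem arith {m : ℕ} (hm : 1 ≤ m) :
    4 * np m + 1 = qq m + 2 ^ (m + 1) + 1 ∧ 4 * nm m + 1 = qq m - 2 ^ (m + 1) + 1 ∧
      (4 * np m + 1) * (4 * nm m + 1) = qq m ^ 2 + 1 ∧
      (4 * np m + 1) + (4 * nm m + 1) = 2 * (qq m + 1) ∧ 4 ∣ qq m ∧ 8 ≤ qq m ∧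
      1 ≤ nm m ∧ nm m < np m := by
  obtain ⟨j, rfl⟩ : ∃ j, m = j + 1 := ⟨m - 1, by omega⟩
  have e1 : 2 * (j + 1) - 1 = 2 * j + 1 := by omega
  simp only [np, nm, qq, e1, Nat.add_sub_cancel]
  obtain ⟨x, hx⟩ : ∃ x, 2 ^ j = x := ⟨_, rfl⟩
  have hx1 : 1 ≤ x := hx ▸ Nat.one_le_two_pow
  have e2 : 2 ^ (2 * j + 1) = 2 * x ^ 2 := by rw [← hx, ← pow_mul, pow_succ', mul_comm j]
  have e3 : 2 ^ (2 * (j + 1) + 1) = 8 * x ^ 2 := by
    rw [← hx, ← pow_mul, show 2 * (j + 1) + 1 = j * 2 + 3 by ring, pow_add]; ring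
  have e4 : 2 ^ (j + 1 + 1) = 4 * x := by rw [← hx, pow_succ, pow_succ]; ring
  rw [e2, e3, e4, hx]
  have hxx : x ≤ x ^ 2 := Nat.le_self_pow two_ne_zero x
  have hd : 2 * x ^ 2 - x + x = 2 * x ^ 2 := by omega
  obtain ⟨d, hd'⟩ : ∃ d, 2 * x ^ 2 - x = d := ⟨_, rfl⟩
  rw [hd'] at hd ⊢
  refine ⟨by omega, by omega, ?_, by omega, ⟨2 * x ^ 2, by ring⟩, by nlinarith, by nlinarith,
    by omega⟩
  have h1 : (d : ℤ) = 2 * (x : ℤ) ^ 2 - x := by
    have := congrArg (fun n : ℕ => (n : ℤ)) hd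
    push_cast at this
    linarith
  have : (((4 * (2 * x ^ 2 + x) + 1) * (4 * d + 1) : ℕ) : ℤ) = (((8 * x ^ 2) ^ 2 + 1 : ℕ) : ℤ) := by
    push_cast
    rw [h1]
    ring
  exact_mod_cast this

theorem five_le_prime {m s : ℕ} (hs : s.Prime) (hd : s ∣ qq m ^ 2 + 1) :
    5 ≤ s ∧ ¬ s ∣ qq m ∧ ¬ s ∣ qq m - 1 := by
  have h5 : 5 ≤ s := five_le_of_dvd (m := m) hs.one_lt hd
  obtain ⟨h1, h2⟩ := q_facts (q := qq m) (Nat.le_self_pow (by omega) 2) hs (by omega) hd
  exact ⟨h5, h1, by simpa using h2 1 le_rfl (by omega)⟩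

theorem count_arith {a b Q f s t : ℕ}
    (h1 : 2 * f + (Q + 1) ^ 2 * (Q * (Q + 2)) = (Q + 1) ^ 2 * ((Q + 1) ^ 2 + 1) * Q)
    (c1 : 4 * (4 * a + 1) * s = (Q + 1) ^ 2 * ((Q + 1) ^ 2 + 1) * Q * (4 * a))
    (c2 : 4 * (4 * b + 1) * t = (Q + 1) ^ 2 * ((Q + 1) ^ 2 + 1) * Q * (4 * b))
    (hprod : (4 * a + 1) * (4 * b + 1) = (Q + 1) ^ 2 + 1)
    (hsum : (4 * a + 1) + (4 * b + 1) = 2 * (Q + 1 + 1)) : f = s + t := by
  refine Nat.eq_of_mul_eq_mul_left (show 0 < 8 * (4 * a + 1) * (4 * b + 1) by positivity) ?_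
  zify at *
  linear_combination (4 * (4 * (a : ℤ) + 1) * (4 * (b : ℤ) + 1)) * h1
    - 2 * (4 * (b : ℤ) + 1) * c1 - 2 * (4 * (a : ℤ) + 1) * c2
    + (2 * ((Q : ℤ) + 1) ^ 2 * (((Q : ℤ) + 1) ^ 2 + 1) * Q) * hsum
    - (4 * ((Q : ℤ) + 1) ^ 2 * Q * ((Q : ℤ) + 2)) * hprod

variable {F : Type*} [Field F] {m : ℕ} (h : Ctx F m)
include h

/-- The chosen involution. -/
def zEl : Cfsg.Sz F m := uEl h 0 1

/-- The chosen element of order four. -/
def yEl : Cfsg.Sz F m := uEl h 1 0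

theorem mul_th_surjective (b : F) : ∃ s : F, s * th m s = b := by
  have := h.finite
  have hinj : Function.Injective (fun s : F => s * th m s) := by
    intro x y exy
    simp only at exy
    by_cases hy : y = 0
    · subst hy
      simp at exy
      rcases exy with e | e
      · exact e
      · exact h.th_eq_zero.1 e
    · have : x / y = 1 := h.mul_th_eq_one (by
        rw [div_eq_mul_inv, th_mul, th_inv]
        have : th m y ≠ 0 := fun e => hy (h.th_eq_zero.1 e)
        field_simp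
        exact exy)
      exact (div_eq_one_iff_eq hy).1 this
  exact Finite.injective_iff_surjective.1 hinj b

/-- Class functions on central unipotent elements. -/
theorem apply_center {f : Cfsg.Sz F m → ℂ} (hf : IsClassFunction (Cfsg.Sz F m) f) {b : F}
    (hb : b ≠ 0) : f (uEl h 0 b) = f (zEl h) := by
  obtain ⟨s, hs⟩ := mul_th_surjective h b
  have hs0 : s ≠ 0 := fun e => hb (by rw [← hs, e, zero_mul])
  rw [← hf (zEl h) (hEl h (Units.mk0 s hs0)), zEl, hEl_conj]
  simp [hs]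

/-- The additive map whose image gives the classes inside a coset of the centre. -/
def lMap : F →+ F where
  toFun a := th m a + a
  map_zero' := by simp
  map_add' a b := by rw [h.th_add]; ring

theorem lMap_apply (a : F) : lMap h a = th m a + a := rfl

theorem one_not_mem_range : (1 : F) ∉ (lMap h).range := by
  rintro ⟨a, ha⟩
  rw [lMap_apply] at ha
  have e1 : th m a = a + 1 := by linear_combination ha - a * h.two_eq_zero
  have e2 := congrArg (th m) e1
  rw [h.th_th, h.th_add, th_one, e1] at e2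
  have e3 : a * (a - 1) = 0 := by linear_combination e2 + h.two_eq_zero
  rcases mul_eq_zero.1 e3 with e | e
  · rw [e] at ha; simp at ha
  · rw [sub_eq_zero.1 e, th_one, h.add_self] at ha; exact zero_ne_one ha

theorem index_range : (lMap h).range.index = 2 ∧ 2 * Nat.card (lMap h).range = qq m := by
  have := h.finite
  have hk : Nat.card (lMap h).ker = 2 := by
    have : ((lMap h).ker : Set F) = {0, 1} := by
      ext a
      simp only [SetLike.mem_coe, AddMonoidHom.mem_ker, lMap_apply, Set.mem_insert_iff,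
        Set.mem_singleton_iff]
      constructor
      · intro e
        exact h.th_fixed (by linear_combination e - a * h.two_eq_zero)
      · rintro (rfl | rfl) <;> simp [h.add_self]
    rw [← SetLike.coe_sort_coe, this, Nat.card_coe_set_eq, Set.ncard_pair zero_ne_one]
  have h2 : 2 * Nat.card (lMap h).range = qq m := by
    rw [← hk, ← AddSubgroup.index_ker, AddSubgroup.card_mul_index, h.card]
  refine ⟨?_, h2⟩
  have h3 := (lMap h).range.card_mul_index
  rw [h.card, show 2 ^ (2 * m + 1) = 2 * Nat.card (lMap h).range from h2.symm, mul_comm 2] at h3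
  exact Nat.eq_of_mul_eq_mul_left Nat.card_pos h3

open scoped Classical in
/-- Class functions on the cosets of the centre. -/
theorem apply_one_coset {f : Cfsg.Sz F m → ℂ} (hf : IsClassFunction (Cfsg.Sz F m) f) (d : F) :
    f (uEl h 1 d) = if d ∈ (lMap h).range then f (yEl h) else f (yEl h)⁻¹ := by
  have key : ∀ e a : F, f (uEl h 1 (e + lMap h a)) = f (uEl h 1 e) := by
    intro e a
    rw [← hf (uEl h 1 e) (uEl h a 0), uEl_inv, uEl_mul, uEl_mul, lMap_apply]
    congr 2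
    · linear_combination (-a) * h.two_eq_zero
    · simp only [h.th_add, th_one]
      linear_combination (-(th m a * a)) * h.two_eq_zero
  split_ifs with hd
  · obtain ⟨a, rfl⟩ := hd
    rw [show lMap h a = 0 + lMap h a from (zero_add _).symm, key]
    rfl
  · have hy : (yEl h)⁻¹ = uEl h 1 1 := by rw [yEl, uEl_inv]; simp
    have hmem : d + 1 ∈ (lMap h).range := by
      rw [AddSubgroup.add_mem_iff_of_index_two (index_range h).1]
      exact ⟨fun e => absurd e hd, fun e => absurd e (one_not_mem_range h)⟩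
    obtain ⟨a, ha⟩ := hmem
    rw [hy, ← key 1 a]
    congr 2
    linear_combination -ha - h.two_eq_zero

theorem sum_coset [Fintype F] {f : Cfsg.Sz F m → ℂ} (hf : IsClassFunction (Cfsg.Sz F m) f) {c : F}
    (hc : c ≠ 0) :
    ∑ d : F, f (uEl h c d) = ((qq m / 2 : ℕ) : ℂ) * (f (yEl h) + f (yEl h)⁻¹) := by
  classical
  have e : ∀ d : F, f (uEl h c (c * th m c * d)) = f (uEl h 1 d) := fun d => by
    rw [← hf (uEl h 1 d) (hEl h (Units.mk0 c hc)), hEl_conj]
    simp
  have hcc : c * th m c ≠ 0 := mul_ne_zero hc fun e => hc (h.th_eq_zero.1 e)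
  rw [← Equiv.sum_comp (Equiv.mulLeft₀ _ hcc) (fun d => f (uEl h c d))]
  simp only [Equiv.mulLeft₀_apply, e, apply_one_coset h hf]
  let R : Finset F := Finset.univ.filter fun d : F => d ∈ (lMap h).range
  let R' : Finset F := Finset.univ.filter fun d : F => ¬ d ∈ (lMap h).range
  rw [← Finset.sum_filter_add_sum_filter_not Finset.univ (fun d : F => d ∈ (lMap h).range),
    Finset.sum_congr (rfl : R = R) (g := fun _ => f (yEl h))
      (fun d hd => by simp [(Finset.mem_filter.1 hd).2]),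
    Finset.sum_congr (rfl : R' = R') (g := fun _ => f (yEl h)⁻¹)
      (fun d hd => by simp [(Finset.mem_filter.1 hd).2]),
    Finset.sum_const, Finset.sum_const, nsmul_eq_mul, nsmul_eq_mul]
  have hr : (Finset.univ.filter fun d : F => d ∈ (lMap h).range).card = qq m / 2 := by
    rw [← Fintype.card_subtype, ← Nat.card_eq_fintype_card, ← (index_range h).2,
      Nat.mul_div_cancel_left _ two_pos]
  have hr' : (Finset.univ.filter fun d : F => ¬ d ∈ (lMap h).range).card = qq m / 2 := by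
    have := Finset.card_filter_add_card_filter_not (s := (Finset.univ : Finset F))
      (fun d : F => d ∈ (lMap h).range)
    rw [hr, Finset.card_univ, ← Nat.card_eq_fintype_card, h.card] at this
    have h2 : 2 ∣ qq m := dvd_pow_self 2 (by omega)
    simp only [qq] at *
    omega
  rw [hr, hr']
  ring

theorem sum_uGrp [Fintype F] [Fintype (uGrp h)] {f : Cfsg.Sz F m → ℂ}
    (hf : IsClassFunction (Cfsg.Sz F m) f) :
    ∑ u : uGrp h, f u = f 1 + ((qq m : ℂ) - 1) * f (zEl h) +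
      ((qq m : ℂ) - 1) * (qq m / 2) * (f (yEl h) + f (yEl h)⁻¹) := by
  classical
  have hq : (Fintype.card F : ℕ) = qq m := by rw [← Nat.card_eq_fintype_card, h.card]
  rw [← Equiv.sum_comp (uEquiv h) (fun u => f u), Fintype.sum_prod_type,
    ← Finset.add_sum_erase _ _ (Finset.mem_univ (0 : F))]
  show (∑ b : F, f (uEl h 0 b)) + ∑ c ∈ Finset.univ.erase (0 : F), ∑ d : F, f (uEl h c d) = _
  rw [← Finset.add_sum_erase _ _ (Finset.mem_univ (0 : F)), uEl_zero,
    Finset.sum_congr rfl (g := fun _ => f (zEl h))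
      (fun b hb => apply_center h hf (Finset.ne_of_mem_erase hb)),
    Finset.sum_congr rfl (g := fun _ => ((qq m / 2 : ℕ) : ℂ) * (f (yEl h) + f (yEl h)⁻¹))
      (fun c hc => sum_coset h hf (Finset.ne_of_mem_erase hc)),
    Finset.sum_const, Finset.sum_const, Finset.card_erase_of_mem (Finset.mem_univ _),
    Finset.card_univ, hq, nsmul_eq_mul, nsmul_eq_mul,
    Nat.cast_sub (show 1 ≤ qq m from Nat.one_le_two_pow),
    Nat.cast_div (show 2 ∣ qq m from dvd_pow_self 2 (by omega)) (by norm_num)]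
  push_cast
  ring

theorem uh_conj (a b : F) {k : Fˣ} (hk : k ≠ 1) :
    ∃ t : Cfsg.Sz F m, t * (uEl h a b * hEl h k) * t⁻¹ = hEl h k := by
  obtain ⟨x, y, e⟩ := exists_second_fix h a b hk
  refine ⟨(uEl h x y)⁻¹, ?_⟩
  rw [inv_inv]
  obtain ⟨l, hl⟩ := fix_two h (g := (uEl h x y)⁻¹ * (uEl h a b * hEl h k) * uEl h x y)
    (by rw [mul_smul, mul_smul, uEl_smul_inf, uhEl_smul_inf, inv_smul_eq_iff, uEl_smul_inf])
    (by rw [mul_smul, mul_smul, uEl_smul_zero, e, inv_smul_eq_iff, uEl_smul_zero])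
  have e1 : uEl h a b * hEl h k * (uEl h x y * hEl h 1) =
      uEl h x y * hEl h 1 * (uEl h 0 0 * hEl h l) := by
    rw [hEl_one, mul_one, uEl_zero, one_mul, ← hl]; group
  rw [uhEl_mul, uhEl_mul] at e1
  have := (uhEl_inj h e1).2.2
  rw [mul_one, one_mul] at this
  rw [hl, this]

theorem sum_stab [Fintype F] [Fintype Fˣ] [Fintype (uGrp h)]
    [Fintype (MulAction.stabilizer (Cfsg.Sz F m) (inf' F m))] [DecidableEq Fˣ]
    {f : Cfsg.Sz F m → ℂ} (hf : IsClassFunction (Cfsg.Sz F m) f) :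
    ∑ b : MulAction.stabilizer (Cfsg.Sz F m) (inf' F m), f b =
      ∑ u : uGrp h, f u + (qq m : ℂ) ^ 2 * ∑ k ∈ Finset.univ.erase (1 : Fˣ), f (hEl h k) := by
  classical
  rw [← Equiv.sum_comp (stabEquiv h) (fun b => f b), Fintype.sum_prod_type_right,
    ← Finset.add_sum_erase _ _ (Finset.mem_univ (1 : Fˣ))]
  show (∑ p : F × F, f (uEl h p.1 p.2 * hEl h 1)) +
    ∑ k ∈ Finset.univ.erase (1 : Fˣ), ∑ p : F × F, f (uEl h p.1 p.2 * hEl h k) = _
  congr 1
  · rw [← Equiv.sum_comp (uEquiv h) (fun u => f u)]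
    refine Finset.sum_congr rfl fun p _ => ?_
    rw [hEl_one, mul_one]
    rfl
  · rw [Finset.mul_sum]
    refine Finset.sum_congr rfl fun k hk => ?_
    rw [Finset.sum_congr rfl (g := fun _ => f (hEl h k)) (fun p _ => by
      obtain ⟨t, ht⟩ := uh_conj h p.1 p.2 (Finset.ne_of_mem_erase hk)
      exact ((hf _ t).symm.trans (congrArg f ht))), Finset.sum_const, Finset.card_univ, ← Nat.card_eq_fintype_card,
      Nat.card_prod, h.card, nsmul_eq_mul]
    push_cast
    ring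

/-- The three kinds of non-identity elements. -/
theorem trichotomy {g : Cfsg.Sz F m} (hg : g ≠ 1) :
    (∃ (t : Cfsg.Sz F m) (a b : F), ¬(a = 0 ∧ b = 0) ∧ t * g * t⁻¹ = uEl h a b) ∨
      (∃ (t : Cfsg.Sz F m) (k : Fˣ), k ≠ 1 ∧ t * g * t⁻¹ = hEl h k) ∨ Fpf g := by
  by_cases hf : Fpf g
  · exact Or.inr (Or.inr hf)
  simp only [Fpf, not_forall, not_not] at hf
  obtain ⟨p, hp⟩ := hf
  by_cases hu : ∀ x, g • x = x → x = p
  · left
    obtain ⟨t, ht⟩ := exists_smul_inf h p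
    obtain ⟨a, b, e, hab⟩ := unipotent_of_unique h (g := t⁻¹ * g * t)
      (by rw [mul_smul, mul_smul, ht, hp, ← ht, inv_smul_smul])
      (fun x hx => smul_left_cancel t (by
        rw [ht]; exact hu _ (by rw [mul_smul, mul_smul, inv_smul_eq_iff] at hx; exact hx)))
    exact ⟨t⁻¹, a, b, hab, by rw [inv_inv]; exact e⟩
  · right; left
    push Not at hu
    obtain ⟨x, hx, hxp⟩ := hu
    obtain ⟨t, t1, t2⟩ := to_base h hxp.symm
    obtain ⟨k, hk⟩ := fix_two h (g := t * g * t⁻¹)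
      (by rw [mul_smul, mul_smul, inv_smul_eq_iff.2 t1.symm, hp, t1])
      (by rw [mul_smul, mul_smul, inv_smul_eq_iff.2 t2.symm, hx, t2])
    refine ⟨t, k, fun e => hg ?_, hk⟩
    rw [e, hEl_one] at hk
    exact conj_eq_one_iff.1 hk

omit h in
/-- The permutation character. -/
noncomputable def pi' (g : Cfsg.Sz F m) : ℕ :=
  Nat.card (MulAction.fixedBy (Cfsg.suzukiOvoid F m) g)

omit h in
theorem pi_conj (g t : Cfsg.Sz F m) : pi' (t * g * t⁻¹) = pi' g := by
  refine (Nat.card_congr (Equiv.subtypeEquiv (MulAction.toPerm t) fun p => ?_)).symm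
  simp only [MulAction.mem_fixedBy, MulAction.toPerm_apply, mul_smul, inv_smul_smul,
    smul_left_cancel_iff]

theorem uEl_fix {a b : F} (hab : ¬(a = 0 ∧ b = 0)) {p : Cfsg.suzukiOvoid F m}
    (hp : uEl h a b • p = p) : p = inf' F m := by
  rcases pt_cases p with rfl | ⟨x, y, rfl⟩
  · rfl
  rw [uEl_smul_pt] at hp
  obtain ⟨e1, e2⟩ := pt_inj hp
  have ha : a = 0 := by linear_combination e1
  subst ha
  exact absurd ⟨rfl, by rw [th_zero, zero_mul, add_zero] at e2; linear_combination e2⟩ hab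

theorem pi_uEl {a b : F} (hab : ¬(a = 0 ∧ b = 0)) : pi' (uEl h a b) = 1 := by
  have : MulAction.fixedBy (Cfsg.suzukiOvoid F m) (uEl h a b) = {inf' F m} := by
    ext p
    exact ⟨uEl_fix h hab, fun e => by rw [e]; exact uEl_smul_inf h a b⟩
  rw [pi', Nat.card_coe_set_eq, this, Set.ncard_singleton]

theorem pi_hEl {k : Fˣ} (hk : k ≠ 1) : pi' (hEl h k) = 2 := by
  have : MulAction.fixedBy (Cfsg.suzukiOvoid F m) (hEl h k) = {inf' F m, pt m 0 0} := by
    ext p
    constructor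
    · intro hp
      by_contra hne
      simp only [Set.mem_insert_iff, Set.mem_singleton_iff, not_or] at hne
      exact hk (hEl_inj h ((three_fixed h (inf_pt_zero_ne h) (Ne.symm hne.2) (Ne.symm hne.1)
        (hEl_smul_inf h k) (hEl_smul_zero h k) hp).trans (hEl_one h).symm))
    · rintro (rfl | rfl)
      · exact hEl_smul_inf h k
      · exact hEl_smul_zero h k
  rw [pi', Nat.card_coe_set_eq, this, Set.ncard_pair (inf_pt_zero_ne h)]

theorem pi_one : pi' (1 : Cfsg.Sz F m) = qq m ^ 2 + 1 := by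
  rw [pi', Nat.card_congr ((Equiv.setCongr (MulAction.fixedBy_one_eq_univ _ _)).trans
    (Equiv.Set.univ (Cfsg.suzukiOvoid F m))), card_ovoid' h]

theorem pi_fpf {g : Cfsg.Sz F m} (hg : Fpf g) : pi' g = 0 := by
  rw [pi', Nat.card_eq_zero]
  exact Or.inl ⟨fun p => hg p.1 p.2⟩

theorem fpf_iff {g : Cfsg.Sz F m} : Fpf g ↔ pi' g = 0 := by
  refine ⟨pi_fpf h, fun e p hp => ?_⟩
  have := finite_ovoid h
  rcases Nat.card_eq_zero.1 e with he | he
  · exact he.false ⟨p, hp⟩
  · exact absurd he (not_infinite_iff_finite.2 inferInstance)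

theorem uGrp_ti (t a : Cfsg.Sz F m) (ha : a ∈ uGrp h) (ha1 : a ≠ 1)
    (ht : t * a * t⁻¹ ∈ uGrp h) :
    t ∈ Subgroup.normalizer (uGrp h : Set (Cfsg.Sz F m)) := by
  obtain ⟨x, y, rfl⟩ := ha
  obtain ⟨x', y', e⟩ := ht
  rw [normalizer_uGrp, MulAction.mem_stabilizer_iff]
  have hxy' : ¬(x' = 0 ∧ y' = 0) := fun hh => ha1 (by
    rw [hh.1, hh.2, uEl_zero] at e; exact conj_eq_one_iff.1 e)
  refine uEl_fix h hxy' ?_
  rw [← e, mul_smul, mul_smul, inv_smul_smul, uEl_smul_inf]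

theorem mem_conjU_iff [Fintype (Cfsg.Sz F m)] {g : Cfsg.Sz F m} :
    g ∈ conjSet (uGrp h) ↔ pi' g = 1 := by
  rw [mem_conjSet]
  constructor
  · rintro ⟨hg1, t, a, b, e⟩
    rw [← pi_conj g t⁻¹, inv_inv, e]
    refine pi_uEl h fun hh => hg1 ?_
    rw [hh.1, hh.2, uEl_zero] at e
    have := congrArg (fun z => t * z * t⁻¹) e
    simpa [mul_assoc] using this
  · intro e
    have hg1 : g ≠ 1 := by
      rintro rfl
      rw [pi_one h] at e
      have : 0 < qq m ^ 2 := by positivity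
      omega
    refine ⟨hg1, ?_⟩
    rcases trichotomy h hg1 with ⟨t, a, b, -, ht⟩ | ⟨t, k, hk, ht⟩ | hf
    · exact ⟨t⁻¹, a, b, by rw [inv_inv]; exact ht⟩
    · rw [← pi_conj g t, ht, pi_hEl h hk] at e; omega
    · rw [pi_fpf h hf] at e; omega

/-- Summing against the permutation character. -/
theorem sum_pi_mul [Fintype (Cfsg.Sz F m)]
    [Fintype (MulAction.stabilizer (Cfsg.Sz F m) (inf' F m))]
    {f : Cfsg.Sz F m → ℂ} (hf : IsClassFunction (Cfsg.Sz F m) f) :
    ∑ g, (pi' g : ℂ) * f g =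
      ((qq m : ℂ) ^ 2 + 1) * ∑ b : MulAction.stabilizer (Cfsg.Sz F m) (inf' F m), f b := by
  classical
  have := finite_ovoid h
  let := Fintype.ofFinite (Cfsg.suzukiOvoid F m)
  have e : ∀ g : Cfsg.Sz F m, (pi' g : ℂ) * f g =
      ∑ p : Cfsg.suzukiOvoid F m, if g • p = p then f g else 0 := fun g => by
    rw [← Finset.sum_filter, Finset.sum_const, nsmul_eq_mul, pi', Nat.card_eq_fintype_card]
    congr 2
    rw [Fintype.card_of_subtype]
    simp
  rw [Finset.sum_congr rfl (fun g _ => e g), Finset.sum_comm]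
  rw [Finset.sum_congr rfl (g := fun _ => ∑ b : MulAction.stabilizer (Cfsg.Sz F m) (inf' F m), f b)
    fun p _ => ?_, Finset.sum_const, Finset.card_univ, ← Nat.card_eq_fintype_card, card_ovoid' h,
    nsmul_eq_mul]
  · push_cast; ring
  obtain ⟨t, ht⟩ := exists_smul_inf h p
  rw [← Finset.sum_filter]
  refine Finset.sum_bij' (fun g hg => (⟨t⁻¹ * g * t, ?_⟩ : MulAction.stabilizer (Cfsg.Sz F m) (inf' F m)))
    (fun b _ => t * (b : Cfsg.Sz F m) * t⁻¹) ?_ ?_ ?_ ?_ ?_
  · simp only [Finset.mem_filter, Finset.mem_univ, true_and] at hg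
    rw [MulAction.mem_stabilizer_iff, mul_smul, mul_smul, ht, hg, ← ht, inv_smul_smul]
  · intro g _; exact Finset.mem_univ _
  · intro b _
    simp only [Finset.mem_filter, Finset.mem_univ, true_and]
    rw [← ht, mul_smul, mul_smul, inv_smul_smul, b.2]
  · intro g _; group
  · intro b _; apply Subtype.ext; group
  · intro g _
    have := hf g t⁻¹
    rw [inv_inv] at this
    exact this.symm

/-- The fixed point free elements and those with two fixed points, in sums of class functions. -/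
theorem two_mul_sum [Fintype (Cfsg.Sz F m)] [Fintype F] [Fintype Fˣ] [Fintype (uGrp h)] [DecidableEq Fˣ]
    [DecidablePred (fun g : Cfsg.Sz F m => Fpf g)]
    {f : Cfsg.Sz F m → ℂ} (hf : IsClassFunction (Cfsg.Sz F m) f) :
    2 * ∑ g, f g = 2 * f 1 + 2 * ((qq m : ℂ) ^ 2 + 1) * ((∑ u : uGrp h, f u) - f 1) +
      ((qq m : ℂ) ^ 2 + 1) * (qq m : ℂ) ^ 2 * ∑ k ∈ Finset.univ.erase (1 : Fˣ), f (hEl h k) +
      2 * ∑ g ∈ Finset.univ.filter (fun g : Cfsg.Sz F m => Fpf g), f g := by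
  classical
  let := Fintype.ofFinite (MulAction.stabilizer (Cfsg.Sz F m) (inf' F m))
  have hU := SzTorus.sum_conjSet (uGrp h) (uGrp_ti h) hf
  rw [normalizer_uGrp, card_stab h, card_sz h] at hU
  have hU' : ∑ g ∈ conjSet (uGrp h), f g = ((qq m : ℂ) ^ 2 + 1) * ((∑ u : uGrp h, f u) - f 1) := by
    rw [sum_subgroup (uGrp h) f, add_sub_cancel_left]
    refine mul_left_cancel₀ (b := ∑ g ∈ conjSet (uGrp h), f g) ?_ (hU.trans ?_)
    · have h8 := (arith h.one_le).2.2.2.2.2.1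
      simp only [qq] at h8
      exact Nat.cast_ne_zero.2 (Nat.mul_ne_zero (by positivity) (by omega))
    · simp only [qq]; push_cast; ring
  have e : ∀ g, (pi' g : ℂ) * f g + 2 * (if Fpf g then f g else 0) =
      2 * f g + (if g = 1 then ((qq m : ℂ) ^ 2 + 1 - 2) * f g else 0) -
        (if g ∈ conjSet (uGrp h) then f g else 0) := by
    intro g
    by_cases hg : g = 1
    · subst hg
      rw [if_neg (fun hh : Fpf (1 : Cfsg.Sz F m) => hh.ne_one rfl), if_pos rfl,
        if_neg (fun hh => (mem_conjSet.1 hh).1 rfl), pi_one h]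
      push_cast; ring
    rw [if_neg hg]
    rcases trichotomy h hg with ⟨t, a, b, hab, ht⟩ | ⟨t, k, hk, ht⟩ | hfp
    · have h1 : pi' g = 1 := by rw [← pi_conj g t, ht, pi_uEl h hab]
      rw [if_neg (by rw [fpf_iff h, h1]; omega), if_pos ((mem_conjU_iff h).2 h1), h1]
      push_cast; ring
    · have h1 : pi' g = 2 := by rw [← pi_conj g t, ht, pi_hEl h hk]
      rw [if_neg (by rw [fpf_iff h, h1]; omega), if_neg (by rw [mem_conjU_iff h, h1]; omega), h1]
      push_cast; ring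
    · rw [if_pos hfp, if_neg (by rw [mem_conjU_iff h, pi_fpf h hfp]; omega), pi_fpf h hfp]
      push_cast; ring
  have hs := Finset.sum_congr (rfl : (Finset.univ : Finset (Cfsg.Sz F m)) = _) (fun g _ => e g)
  rw [Finset.sum_add_distrib, Finset.sum_sub_distrib, Finset.sum_add_distrib, ← Finset.mul_sum,
    ← Finset.mul_sum, ← Finset.sum_filter, Finset.sum_ite_eq' Finset.univ (1 : Cfsg.Sz F m),
    if_pos (Finset.mem_univ _), Finset.sum_ite_mem, Finset.univ_inter, sum_pi_mul h hf,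
    sum_stab h hf, hU'] at hs
  linear_combination -hs

theorem hEl_pow (k : Fˣ) (n : ℕ) : hEl h k ^ n = hEl h (k ^ n) := by
  induction n with
  | zero => simp [hEl_one]
  | succ n ih => rw [pow_succ, pow_succ, ih, hEl_mul]

/-- Elements of odd order dividing `q² + 1` are fixed point free. -/
theorem fpf_of_pow {g : Cfsg.Sz F m} (hg : g ≠ 1) {k : ℕ} (hk : k ∣ qq m ^ 2 + 1)
    (hpow : g ^ k = 1) : Fpf g := by
  classical
  have := h.finite
  let := Fintype.ofFinite F
  have hdvd : ∀ {x : Cfsg.Sz F m}, x ^ k = 1 → orderOf x ∣ qq m ^ 2 + 1 := fun hx =>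
    (orderOf_dvd_of_pow_eq_one hx).trans hk
  have hc : ∀ t : Cfsg.Sz F m, (t * g * t⁻¹) ^ k = 1 := fun t => by
    rw [conj_pow, hpow, mul_one, mul_inv_cancel]
  rcases trichotomy h hg with ⟨t, a, b, hab, ht⟩ | ⟨t, l, hl, ht⟩ | hf
  · exfalso
    apply hg
    have h1 : orderOf (t * g * t⁻¹) ∣ 4 := by rw [ht]; exact orderOf_dvd_of_pow_eq_one (uEl_pow_four h a b)
    have h2 := Nat.dvd_gcd h1 (hdvd (hc t))
    have h3 : Nat.gcd 4 (qq m ^ 2 + 1) = 1 := by
      have h2q : 4 ∣ qq m ^ 2 := (arith h.one_le).2.2.2.2.1.trans (dvd_pow_self _ two_ne_zero)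
      obtain ⟨j, hj⟩ := h2q
      rw [hj, Nat.gcd_mul_left_add_right]
      norm_num
    rw [h3, Nat.dvd_one, orderOf_eq_one_iff] at h2
    exact conj_eq_one_iff.1 h2
  · exfalso
    apply hg
    have h1 : orderOf (t * g * t⁻¹) ∣ qq m - 1 := by
      refine orderOf_dvd_of_pow_eq_one ?_
      rw [ht, hEl_pow, show qq m - 1 = Fintype.card Fˣ by
        rw [Fintype.card_units, ← Nat.card_eq_fintype_card, h.card], pow_card_eq_one, hEl_one]
    have h2 := Nat.dvd_gcd h1 (hdvd (hc t))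
    by_contra hne
    have hne' : Nat.gcd (qq m - 1) (qq m ^ 2 + 1) ≠ 1 := fun e => hne (conj_eq_one_iff.1
      (orderOf_eq_one_iff.1 (Nat.dvd_one.1 (e ▸ h2))))
    obtain ⟨p, hp, hpd⟩ := Nat.exists_prime_and_dvd hne'
    exact (five_le_prime hp (hpd.trans (Nat.gcd_dvd_right _ _))).2.2
      (hpd.trans (Nat.gcd_dvd_left _ _))
  · exact hf

/-- The involutions form one class. -/
theorem isConj_zEl {x : Cfsg.Sz F m} (hx : x ≠ 1) (hx2 : x * x = 1) : IsConj (zEl h) x := by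
  have hcj : ∀ t : Cfsg.Sz F m, t * x * t⁻¹ * (t * x * t⁻¹) = 1 := fun t => by
    rw [show t * x * t⁻¹ * (t * x * t⁻¹) = t * (x * x) * t⁻¹ by group, hx2, mul_one, mul_inv_cancel]
  rcases trichotomy h hx with ⟨t, a, b, hab, ht⟩ | ⟨t, k, hk, ht⟩ | hf
  · have h1 := hcj t
    rw [ht, uEl_sq, ← uEl_zero h] at h1
    have ha : a = 0 := by
      rcases mul_eq_zero.1 (uEl_inj h h1).2 with e | e
      · exact h.th_eq_zero.1 e
      · exact e
    obtain ⟨s, hs⟩ := mul_th_surjective h b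
    have hs0 : s ≠ 0 := fun e => hab ⟨ha, by rw [← hs, e, zero_mul]⟩
    refine IsConj.trans (b := t * x * t⁻¹) ?_ (isConj_iff.2 ⟨t⁻¹, by group⟩)
    rw [ht, ha]
    exact isConj_iff.2 ⟨hEl h (Units.mk0 s hs0), by rw [zEl, hEl_conj]; simp [hs]⟩
  · exfalso
    have h1 := hcj t
    rw [ht, ← hEl_mul, ← hEl_one h] at h1
    have h2 : (k : F) ^ 2 = 1 ^ 2 := by
      have := congrArg Units.val (hEl_inj h h1)
      simpa [sq] using this
    exact hk (Units.ext (h.sq_injective h2))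
  · exfalso
    have := finite_sz h
    have h1 := orderOf_dvd_natCard (⟨x, Subgroup.mem_centralizer_singleton_iff.2 rfl⟩ :
      Subgroup.centralizer ({x} : Set (Cfsg.Sz F m)))
    rw [← Subgroup.orderOf_coe] at h1
    have h3 : orderOf x = 2 := orderOf_eq_prime (by rw [sq]; exact hx2) hx
    have h4 := h1.trans (card_centralizer_dvd h hf)
    rw [show orderOf ((⟨x, Subgroup.mem_centralizer_singleton_iff.2 rfl⟩ :
      Subgroup.centralizer ({x} : Set (Cfsg.Sz F m))) : Cfsg.Sz F m) = 2 from h3] at h4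
    have h5 : 2 ∣ (2 ^ (2 * m + 1)) ^ 2 := dvd_pow (dvd_pow_self 2 (by omega)) two_ne_zero
    omega

theorem zEl_ne_one : zEl h ≠ 1 := fun e => one_ne_zero (uEl_inj h (e.trans (uEl_zero h).symm)).2

theorem zEl_sq : zEl h * zEl h = 1 := by rw [zEl, uEl_sq, th_zero, zero_mul, uEl_zero]

theorem yEl_sq : yEl h * yEl h = zEl h := by rw [yEl, uEl_sq, th_one, one_mul]; rfl

theorem not_conj_yEl_inv : ¬ IsConj (yEl h) (yEl h)⁻¹ := by
  intro hc
  obtain ⟨t, ht⟩ := isConj_iff.1 hc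
  rw [yEl, uEl_inv, th_one, mul_one, zero_add] at ht
  have h10 : ¬((1 : F) = 0 ∧ (0 : F) = 0) := fun e => one_ne_zero e.1
  have hti : t • inf' F m = inf' F m := by
    refine uEl_fix h (a := (1 : F)) (b := (1 : F)) (fun e => one_ne_zero e.1) ?_
    rw [← ht, mul_smul, mul_smul, inv_smul_smul, uEl_smul_inf]
  obtain ⟨a, b, k, rfl⟩ := fix_inf h hti
  have e : uEl h a b * hEl h k * (uEl h 1 0 * hEl h 1) =
      uEl h 1 1 * hEl h 1 * (uEl h a b * hEl h k) := by
    rw [hEl_one, mul_one, mul_one, ← ht]; group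
  rw [uhEl_mul, uhEl_mul] at e
  obtain ⟨e1, e2, -⟩ := uhEl_inj h e
  simp only [Units.val_one, one_mul, th_one, mul_one, mul_zero, add_zero] at e1 e2
  have hk : (k : F) = 1 := by linear_combination e1
  rw [hk] at e2
  exact one_not_mem_range h ⟨a, by
    rw [lMap_apply]; linear_combination e2 + a * h.two_eq_zero⟩

theorem card_centralizer_zEl :
    Nat.card (Subgroup.centralizer ({zEl h} : Set (Cfsg.Sz F m))) = qq m ^ 2 := by
  have : Subgroup.centralizer ({zEl h} : Set (Cfsg.Sz F m)) = uGrp h := by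
    ext c
    rw [Subgroup.mem_centralizer_singleton_iff]
    constructor
    · intro hc
      exact comm_uEl h (a := (0 : F)) (b := (1 : F)) (fun e => one_ne_zero e.2) hc
    · rintro ⟨a, b, rfl⟩
      rw [zEl, uEl_mul, uEl_mul]
      congr 1
      · ring
      · simp only [th_zero, zero_mul, mul_zero, add_zero]; ring
  rw [this, card_uGrp]

/-- The two classes of tori, covering the fixed point free elements. -/
theorem exists_tori [Fintype (Cfsg.Sz F m)] [DecidablePred (fun g : Cfsg.Sz F m => Fpf g)] :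
    ∃ Kp Km : Subgroup (Cfsg.Sz F m), TorusHyp Kp (np m) ∧ TorusHyp Km (nm m) ∧
      (∀ g ∈ conjSet Kp, g ∉ conjSet Km) ∧
      ∀ f : Cfsg.Sz F m → ℂ, ∑ g ∈ Finset.univ.filter (fun g : Cfsg.Sz F m => Fpf g), f g =
        ∑ g ∈ conjSet Kp, f g + ∑ g ∈ conjSet Km, f g := by
  classical
  obtain ⟨hp, hm, hprod, hsum, h4, h8, hm1, hlt⟩ := arith h.one_le
  obtain ⟨A, hAc, hA, hAC, hAN⟩ := exceptional_tori h (4 * np m + 1) (Or.inl hp)
  obtain ⟨B, hBc, hB, hBC, hBN⟩ := exceptional_tori h (4 * nm m + 1) (Or.inr hm)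
  have mk : ∀ (K : Subgroup (Cfsg.Sz F m)) (n : ℕ), IsCyclic K → Nat.card K = 4 * n + 1 →
      (∀ u ∈ K, u ≠ 1 → Subgroup.centralizer {u} = K) →
      Nat.card (Subgroup.normalizer (K : Set (Cfsg.Sz F m))) = 4 * (4 * n + 1) → TorusHyp K n :=
    fun K n hc h1 h2 h3 => ⟨fun a ha b hb => congrArg Subtype.val
      ((IsCyclic.isMulCommutative (α := K)).is_comm.comm ⟨a, ha⟩ ⟨b, hb⟩), h2, h1, h3⟩
  have tA := mk A _ hAc hA hAC hAN
  have tB := mk B _ hBc hB hBC hBN
  have hsub : ∀ (K : Subgroup (Cfsg.Sz F m)) (n : ℕ), TorusHyp K n → 4 * n + 1 ∣ qq m ^ 2 + 1 →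
      conjSet K ⊆ Finset.univ.filter (fun g : Cfsg.Sz F m => Fpf g) := by
    intro K n hK hd g hg
    obtain ⟨hg1, t, ht⟩ := mem_conjSet.1 hg
    refine Finset.mem_filter.2 ⟨Finset.mem_univ _, fpf_of_pow h hg1 hd ?_⟩
    have h1 : (t⁻¹ * g * t) ^ (4 * n + 1) = 1 := by
      rw [← hK.card]
      exact congrArg Subtype.val (pow_card_eq_one' (x := (⟨_, ht⟩ : K)))
    rw [show t⁻¹ * g * t = t⁻¹ * g * (t⁻¹)⁻¹ by rw [inv_inv], conj_pow] at h1
    exact conj_eq_one_iff.1 h1
  have hdis : ∀ g ∈ conjSet A, g ∉ conjSet B := by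
    intro g hg hg'
    obtain ⟨hg1, t, ht⟩ := mem_conjSet.1 hg
    obtain ⟨-, s, hs⟩ := mem_conjSet.1 hg'
    have hne : ∀ r : Cfsg.Sz F m, r⁻¹ * g * r ≠ 1 := fun r e => hg1 (by
      have := congrArg (fun z => r * z * r⁻¹) e
      simpa [mul_assoc] using this)
    have hcard : Nat.card A = Nat.card B := by
      refine Nat.card_congr (Equiv.subtypeEquiv (MulAut.conj (s⁻¹ * t)).toEquiv fun x => ?_)
      rw [tA.mem_iff ht (hne t), tB.mem_iff hs (hne s)]
      simp only [MulEquiv.toEquiv_eq_coe, EquivLike.coe_coe, MulAut.conj_apply]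
      constructor
      · intro e
        calc s⁻¹ * t * x * (s⁻¹ * t)⁻¹ * (s⁻¹ * g * s)
            = s⁻¹ * t * (x * (t⁻¹ * g * t)) * t⁻¹ * s := by group
          _ = s⁻¹ * g * s * (s⁻¹ * t * x * (s⁻¹ * t)⁻¹) := by rw [e]; group
      · intro e
        calc x * (t⁻¹ * g * t)
            = t⁻¹ * s * (s⁻¹ * t * x * (s⁻¹ * t)⁻¹ * (s⁻¹ * g * s)) * s⁻¹ * t := by group
          _ = t⁻¹ * g * t * x := by rw [e]; group
    omega
  have hd : Disjoint (conjSet A) (conjSet B) := Finset.disjoint_left.2 hdis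
  have hdA : 4 * np m + 1 ∣ qq m ^ 2 + 1 := hprod ▸ dvd_mul_right _ _
  have hdB : 4 * nm m + 1 ∣ qq m ^ 2 + 1 := hprod ▸ dvd_mul_left _ _
  have hU : Finset.univ.filter (fun g : Cfsg.Sz F m => Fpf g) = conjSet A ∪ conjSet B := by
    refine (Finset.eq_of_subset_of_card_le
      (Finset.union_subset (hsub A _ tA hdA) (hsub B _ tB hdB)) ?_).symm
    have h1 := two_mul_card_fpf h
    have e : Nat.card {g : Cfsg.Sz F m // Fpf g} =
        (Finset.univ.filter fun g : Cfsg.Sz F m => Fpf g).card := by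
      rw [Nat.card_eq_fintype_card, Fintype.card_subtype]
    rw [e] at h1
    have hcount : ∀ (K : Subgroup (Cfsg.Sz F m)) (n : ℕ), TorusHyp K n →
        4 * (4 * n + 1) * (conjSet K).card = Nat.card (Cfsg.Sz F m) * (4 * n) := by
      intro K n hK
      have hs := hK.sum_conjSet (f := fun _ => (1 : ℂ)) (fun _ _ => rfl)
      simp only [Finset.sum_const, nsmul_eq_mul, mul_one] at hs
      have h3 := card_nonOne K
      rw [hK.card] at h3
      rw [show (nonOne K).card = 4 * n by omega] at hs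
      exact_mod_cast hs
    have c1 := hcount A _ tA
    have c2 := hcount B _ tB
    rw [Finset.card_union_of_disjoint hd]
    have hG : Nat.card (Cfsg.Sz F m) = qq m ^ 2 * (qq m ^ 2 + 1) * (qq m - 1) := card_sz h
    refine le_of_eq ?_
    obtain ⟨Q, hQ⟩ : ∃ Q, qq m = Q + 1 := ⟨qq m - 1, by omega⟩
    have hQ2 : qq m ^ 2 - 1 = Q * (Q + 2) := by
      rw [hQ]; exact Nat.sub_eq_of_eq_add (by ring)
    have h1' : 2 * (Finset.univ.filter fun g : Cfsg.Sz F m => Fpf g).card +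
        qq m ^ 2 * (qq m ^ 2 - 1) = Nat.card (Cfsg.Sz F m) := h1
    rw [hQ2, hG, hQ, Nat.add_sub_cancel] at h1'
    rw [hG, hQ, Nat.add_sub_cancel] at c1 c2
    rw [hQ] at hprod hsum
    exact count_arith h1' c1 c2 hprod hsum
  exact ⟨A, B, tA, tB, hdis, fun f => by rw [hU, Finset.sum_union hd]⟩

end Cfsg.Agent.Chars.SzD
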