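import Cfsg.Agent.Chars.SzTypes

/-!
Every non-identity element of a Suzuki group is a product of two conjugates of a given element of
order greater than two.
-/

set_option autoImplicit false
set_option linter.style.haveILetI false
set_option linter.unusedSectionVars false

namespace Cfsg.Agent.Chars.SzD

open Cfsg Cfsg.Agent Cfsg.Agent.Suzuki Cfsg.Agent.Chars.SzTorus
open scoped ComplexConjugate

open scoped Classical in
/-- A non-vanishing class sum gives a product. -/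
theorem exists_product_of_sum_ne_zero {G : Type*} [Group G] [Fintype G] (x g : G)
    (hne : ∑ χ : IrrCharacter G, (χ : G → ℂ) x ^ 2 * conj ((χ : G → ℂ) g) / (χ : G → ℂ) 1 ≠ 0) :
    ∃ u v : G, g = u * x * u⁻¹ * (v * x * v⁻¹) := by
  by_contra hc
  push Not at hc
  apply hne
  have h0 : ∑ χ : IrrCharacter G,
      (∑ p ∈ Finset.univ.filter (fun p : G × G => IsConj x p.1 ∧ IsConj x p.2), (χ : G → ℂ) (p.1 * p.2)) *
        conj ((χ : G → ℂ) g) = 0 := by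
    simp only [Finset.sum_mul]
    rw [Finset.sum_comm]
    refine Finset.sum_eq_zero fun p hp => ?_
    rw [column_orth, if_neg]
    intro hpg
    obtain ⟨-, h1, h2⟩ := Finset.mem_filter.1 hp
    obtain ⟨a, ha⟩ := isConj_iff.1 h1
    obtain ⟨b, hb⟩ := isConj_iff.1 h2
    obtain ⟨c, hcg⟩ := isConj_iff.1 hpg
    refine hc (c * a) (c * b) ?_
    rw [← hcg, ← ha, ← hb]
    group
  have hC : ((Finset.univ.filter (IsConj x)).card : ℂ) ≠ 0 :=
    Nat.cast_ne_zero.2 (Finset.card_pos.2 ⟨x, Finset.mem_filter.2 ⟨Finset.mem_univ _, IsConj.refl x⟩⟩).ne'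
  suffices hs : ((Finset.univ.filter (IsConj x)).card : ℂ) ^ 2 *
      ∑ χ : IrrCharacter G, (χ : G → ℂ) x ^ 2 * conj ((χ : G → ℂ) g) / (χ : G → ℂ) 1 = 0 from
    (mul_eq_zero.1 hs).resolve_left (pow_ne_zero 2 hC)
  rw [Finset.mul_sum, ← h0]
  refine Finset.sum_congr rfl fun χ _ => ?_
  have e := Chars2.sum_class_class χ.2 x x
  have h1 := irr_apply_one_ne_zero χ.2
  rw [mul_div_assoc', div_eq_iff h1]
  calc _ = ((Finset.univ.filter (IsConj x)).card : ℂ) * ((Finset.univ.filter (IsConj x)).card : ℂ)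
        * (χ : G → ℂ) x * (χ : G → ℂ) x * conj ((χ : G → ℂ) g) := by ring
    _ = _ := by
      rw [mul_right_comm _ (conj ((χ : G → ℂ) g)) ((χ : G → ℂ) 1)]
      congr 1
      convert e.symm using 3 <;> congr!

/-- A lower bound for a term of a class sum. -/
theorem term_ge {a b : ℂ} {d : ℕ} {s t : ℝ} (ha : Complex.normSq a ≤ s) (hb : ‖b‖ ≤ t) (ht : 0 ≤ t) :
    -(s * t / d) ≤ (a ^ 2 * conj b / (d : ℂ)).re := by
  rw [Complex.div_natCast_re, ← neg_div]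
  refine div_le_div_of_nonneg_right ?_ (Nat.cast_nonneg d)
  have h1 := Complex.abs_re_le_norm (a ^ 2 * conj b)
  rw [norm_mul, norm_pow, Complex.sq_norm, Complex.norm_conj] at h1
  have h2 : Complex.normSq a * ‖b‖ ≤ s * t :=
    mul_le_mul ha hb (norm_nonneg _) ((Complex.normSq_nonneg a).trans ha)
  linarith [(abs_le.1 h1).1]

variable {F : Type*} [Field F] {m : ℕ} (h : Ctx F m)
include h

variable [Fintype (Cfsg.Sz F m)] [Fintype F] [Fintype Fˣ]

theorem ineq_split :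
    1 / (qq m : ℝ) ^ 2 + 8 * ((qq m : ℝ) - 1) / ((qq m : ℝ) ^ 2 + 1) < 1 := by
  have h8 : (8 : ℝ) ≤ (qq m : ℝ) := by exact_mod_cast (arith h.one_le).2.2.2.2.2.1
  generalize (qq m : ℝ) = q at h8 ⊢
  rw [div_add_div _ _ (by positivity) (by positivity), div_lt_one (by positivity)]
  nlinarith [mul_le_mul_of_nonneg_left h8 (show 0 ≤ q ^ 3 by positivity),
    mul_le_mul_of_nonneg_left h8 (show 0 ≤ q by linarith)]

/-- The numerical inequalities for the unipotent and torus cases. -/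
theorem ineq_torus :
    ((4 * np m + 1 : ℕ) : ℝ) - 4 < ((qq m : ℝ) - 1) * ((4 * nm m + 1 : ℕ) : ℝ) ∧
    2 / ((qq m : ℝ) - 1) + (((4 * np m + 1 : ℕ) : ℝ) - 4) * (((2 ^ (m + 1) : ℕ) : ℝ) + 1) /
        (((qq m : ℝ) - 1) * ((4 * np m + 1 : ℕ) : ℝ)) < 1 ∧
    1 / (qq m : ℝ) ^ 2 + 2 / (((qq m : ℝ) - 1) * ((2 ^ m : ℕ) : ℝ)) +
        (((4 * np m + 1 : ℕ) : ℝ) - 4) * (((2 ^ (m + 1) : ℕ) : ℝ) - 1) /
          (((qq m : ℝ) - 1) * ((4 * nm m + 1 : ℕ) : ℝ)) < 1 ∧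
    2 * ((2 ^ m : ℕ) : ℝ) / ((qq m : ℝ) - 1) < 1 ∧
    (((2 ^ (m + 1) : ℕ) : ℝ) + 1) / ((4 * np m + 1 : ℕ) : ℝ) < 1 ∧
    1 / ((4 * nm m + 1 : ℕ) : ℝ) < 1 ∧
    (((2 ^ (m + 1) : ℕ) : ℝ) - 1) ^ 2 ≥ ((4 * np m + 1 : ℕ) : ℝ) - 4 := by
  obtain ⟨y, hy1, -, -, h2m, hqy, hpy, hmy⟩ := arith_y h.one_le
  have hq : (qq m : ℝ) = 8 * (y : ℝ) ^ 2 := by exact_mod_cast hqy
  have h2 : ((2 ^ m : ℕ) : ℝ) = 2 * (y : ℝ) := by exact_mod_cast h2m
  have h3 : ((2 ^ (m + 1) : ℕ) : ℝ) = 4 * (y : ℝ) := by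
    rw [pow_succ, Nat.cast_mul, h2]; push_cast; ring
  have h4 : ((4 * np m + 1 : ℕ) : ℝ) = 8 * (y : ℝ) ^ 2 + 4 * y + 1 := by
    have : ((4 * np m + 1 : ℕ) : ℤ) = 8 * y ^ 2 + 4 * y + 1 := by
      rw [Nat.cast_add, Nat.cast_mul, hpy]; push_cast; ring
    exact_mod_cast this
  have h5 : ((4 * nm m + 1 : ℕ) : ℝ) = 8 * (y : ℝ) ^ 2 - 4 * y + 1 := by
    have : ((4 * nm m + 1 : ℕ) : ℤ) = 8 * y ^ 2 - 4 * y + 1 := by
      rw [Nat.cast_add, Nat.cast_mul, hmy]; push_cast; ring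
    exact_mod_cast this
  rw [hq, h2, h3, h4, h5]
  have hy : (1 : ℝ) ≤ (y : ℝ) := by exact_mod_cast hy1
  clear hq h2 h3 h4 h5
  generalize (y : ℝ) = t at hy ⊢
  obtain ⟨s, hs, rfl⟩ : ∃ s : ℝ, 0 ≤ s ∧ t = s + 1 := ⟨t - 1, by linarith, by ring⟩
  have hq1 : 0 < 8 * (s + 1) ^ 2 - 1 := by nlinarith
  have hm0 : 0 < 8 * (s + 1) ^ 2 - 4 * (s + 1) + 1 := by nlinarith
  have hp0 : 0 < 8 * (s + 1) ^ 2 + 4 * (s + 1) + 1 := by nlinarith
  refine ⟨?_, ?_, ?_, ?_, ?_, ?_, ?_⟩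
  · nlinarith [pow_nonneg hs 3, pow_nonneg hs 4]
  · rw [div_add_div _ _ hq1.ne' (mul_pos hq1 hp0).ne', div_lt_one (mul_pos hq1 (mul_pos hq1 hp0))]
    nlinarith [pow_nonneg hs 3, pow_nonneg hs 4, pow_nonneg hs 5, pow_nonneg hs 6]
  · have t1 : 1 / (8 * (s + 1) ^ 2) ^ 2 ≤ 1 / 64 := by
      refine one_div_le_one_div_of_le (by norm_num) ?_
      nlinarith [one_le_pow₀ (n := 4) (show (1 : ℝ) ≤ s + 1 by linarith)]
    have t2 : 2 / ((8 * (s + 1) ^ 2 - 1) * (2 * (s + 1))) ≤ 1 / 7 := by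
      rw [div_le_div_iff₀ (mul_pos hq1 (by linarith)) (by norm_num)]
      nlinarith [pow_nonneg hs 3]
    have t3 : (8 * (s + 1) ^ 2 + 4 * (s + 1) + 1 - 4) * (4 * (s + 1) - 1) /
        ((8 * (s + 1) ^ 2 - 1) * (8 * (s + 1) ^ 2 - 4 * (s + 1) + 1)) ≤ 4 / 5 := by
      rw [div_le_div_iff₀ (mul_pos hq1 hm0) (by norm_num)]
      nlinarith [pow_nonneg hs 3, pow_nonneg hs 4]
    linarith
  · rw [div_lt_one hq1]; nlinarith
  · rw [div_lt_one hp0]; nlinarith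
  · rw [div_lt_one hm0]; nlinarith
  · nlinarith

variable {Kp Km : Subgroup (Cfsg.Sz F m)} (T : Tori Kp Km)
include T

omit T [Fintype (Cfsg.Sz F m)] [Fintype F] in
theorem mu_normSq (μ : IrrCharacter Fˣ) (k : Fˣ) : Complex.normSq ((μ : Fˣ → ℂ) k) = 1 := by
  have e : (μ : Fˣ → ℂ) k * conj ((μ : Fˣ → ℂ) k) = 1 := by
    rw [← char_inv_eq_conj (irr_isCharacter μ), ← mu_mul h, mul_inv_cancel, mu_one h]
  rw [Complex.mul_conj] at e
  exact_mod_cast e

omit T in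
theorem other_hEl (χ : IrrCharacter (Cfsg.Sz F m)) (hO : Other h (χ : Cfsg.Sz F m → ℂ)) {k : Fˣ}
    (hk : k ≠ 1) : (χ : Cfsg.Sz F m → ℂ) (hEl h k) = 0 := by
  classical
  let := Fintype.ofFinite (bGrp F m)
  have h1 : ∀ μ : IrrCharacter Fˣ, classInner (ps h μ) (χ : Cfsg.Sz F m → ℂ) = 0 := by
    intro μ
    by_contra hne
    by_cases hμ : μ = one' F
    · subst hμ
      rcases constituent_one h χ hne with rfl | rfl
      · exact not_other_oneG h hO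
      · exact not_other_st h hO
    · have e : ps h μ = (χ : Cfsg.Sz F m → ℂ) := by
        by_contra hne'
        exact hne (classInner_irr_of_ne (ps_irr h μ hμ) χ.2 hne')
      rw [← e] at hO
      unfold Other at hO
      rw [← Finset.add_sum_erase _ _ (Finset.mem_univ ((0, 0) : F × F)), uEl_zero, ps_one h,
        Finset.sum_congr rfl (g := fun _ => (1 : ℂ))
          (fun p hp => ps_uEl h μ fun e => Finset.ne_of_mem_erase hp (Prod.ext e.1 e.2)),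
        Finset.sum_const, nsmul_one] at hO
      have hnat : ((qq m ^ 2 + 1 + (Finset.univ.erase ((0, 0) : F × F)).card : ℕ) : ℂ) = ((0 : ℕ) : ℂ) := by
        simp only [qq] at hO ⊢
        push_cast
        push_cast at hO
        exact hO
      have := Nat.cast_injective hnat
      omega
  have hall : ∀ μ : IrrCharacter Fˣ, ∑ l : Fˣ, (μ : Fˣ → ℂ) l *
      conj (∑ p : F × F, (χ : Cfsg.Sz F m → ℂ) (uEl h p.1 p.2 * hEl h l)) = 0 := by
    intro μ
    have e := h1 μ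
    rw [ps, classInner_indFun _ _ (isClassFunction_irr χ), classInner_def, mul_eq_zero,
      or_iff_right (inv_ne_zero (subgroup_card_ne_zero _)), ← Equiv.sum_comp (stabEquiv h),
      Fintype.sum_prod_type_right] at e
    rw [← e]
    refine Finset.sum_congr rfl fun l _ => ?_
    rw [map_sum, Finset.mul_sum]
    refine Finset.sum_congr rfl fun p _ => ?_
    rw [kHom_equiv]
    rfl
  have hsum : ∑ μ : IrrCharacter Fˣ, (conj ((μ : Fˣ → ℂ) k) *
      ∑ l : Fˣ, (μ : Fˣ → ℂ) l *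
        conj (∑ p : F × F, (χ : Cfsg.Sz F m → ℂ) (uEl h p.1 p.2 * hEl h l))) = 0 :=
    Finset.sum_eq_zero fun μ _ => by rw [hall μ, mul_zero]
  simp only [Finset.mul_sum] at hsum
  rw [Finset.sum_comm] at hsum
  simp only [← mul_assoc, ← Finset.sum_mul] at hsum
  have hd : ∀ l : Fˣ, ∑ μ : IrrCharacter Fˣ, conj ((μ : Fˣ → ℂ) k) * (μ : Fˣ → ℂ) l =
      if l = k then (Nat.card Fˣ : ℂ) else 0 := fun l => by
    have := sum_apply_one_mul (k⁻¹ * l)
    simp only [mu_one h, one_mul, inv_mul_eq_one] at this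
    rw [Finset.sum_congr rfl (g := fun μ : IrrCharacter Fˣ => (μ : Fˣ → ℂ) (k⁻¹ * l))
      (fun μ _ => by rw [mu_mul h, char_inv_eq_conj (irr_isCharacter μ)]), this]
    simp only [eq_comm]
  simp only [hd, ite_mul, zero_mul, Finset.sum_ite_eq', Finset.mem_univ, if_true, mul_eq_zero,
    or_iff_right card_ne_zero, map_eq_zero] at hsum
  rw [Finset.sum_congr rfl (g := fun _ => (χ : Cfsg.Sz F m → ℂ) (hEl h k)) fun p _ => ?_,
    Finset.sum_const, nsmul_eq_mul, mul_eq_zero] at hsum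
  · exact hsum.resolve_left (Nat.cast_ne_zero.2 (Finset.card_pos.2 ⟨(0, 0), Finset.mem_univ _⟩).ne')
  · obtain ⟨t, ht⟩ := uh_conj h p.1 p.2 hk
    exact (isClassFunction_irr χ _ t).symm.trans (congrArg _ ht)

omit T in
/-- The principal series characters. -/
theorem ps_of_mem {χ : IrrCharacter (Cfsg.Sz F m)} (hχ : ¬ Other h (χ : Cfsg.Sz F m → ℂ))
    (h1 : χ ≠ oneG F m) (h2 : χ ≠ st h) :
    ∃ μ : IrrCharacter Fˣ, (χ : Cfsg.Sz F m → ℂ) = ps h μ := by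
  rcases not_other_cases h χ hχ with e | e | ⟨μ, -, e⟩
  · exact absurd e h1
  · exact absurd e h2
  · exact ⟨μ, e⟩

theorem typeE_ne_typeN {χ : Cfsg.Sz F m → ℂ} {K₀ : Subgroup (Cfsg.Sz F m)} {n₀ : ℕ}
    (he : TypeE h K₀ n₀ χ) : ¬ TypeN h Kp Km χ := by
  intro hn
  have := hn.one.symm.trans he.one
  have hh : (qq m - 1) * 2 ^ m = (qq m - 1) * (4 * n₀ + 1) := by exact_mod_cast this
  have h8 := (arith h.one_le).2.2.2.2.2.1
  have h2 := Nat.eq_of_mul_eq_mul_left (by omega) hh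
  have : 2 ∣ 2 ^ m := dvd_pow_self 2 (by have := h.one_le; omega)
  omega

section cases

/-- The characters without fixed vector. -/
noncomputable def oSet : Finset (IrrCharacter (Cfsg.Sz F m)) :=
  open scoped Classical in
  Finset.univ.filter fun χ : IrrCharacter (Cfsg.Sz F m) => Other h (χ : Cfsg.Sz F m → ℂ)

/-- The two characters of small degree. -/
noncomputable def nSet (Kp Km : Subgroup (Cfsg.Sz F m)) : Finset (IrrCharacter (Cfsg.Sz F m)) :=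
  open scoped Classical in
  (oSet h).filter fun χ : IrrCharacter (Cfsg.Sz F m) => TypeN h Kp Km (χ : Cfsg.Sz F m → ℂ)

/-- The exceptional characters. -/
noncomputable def eSet (Kp Km : Subgroup (Cfsg.Sz F m)) : Finset (IrrCharacter (Cfsg.Sz F m)) :=
  open scoped Classical in
  (oSet h).filter fun χ : IrrCharacter (Cfsg.Sz F m) => ¬ TypeN h Kp Km (χ : Cfsg.Sz F m → ℂ)

/-- The principal series. -/
noncomputable def pSet : Finset (IrrCharacter (Cfsg.Sz F m)) :=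
  open scoped Classical in
  Finset.univ.filter fun χ : IrrCharacter (Cfsg.Sz F m) =>
    ¬ Other h (χ : Cfsg.Sz F m → ℂ) ∧ χ ≠ oneG F m ∧ χ ≠ st h

omit T in
theorem mem_pSet {χ : IrrCharacter (Cfsg.Sz F m)} (hχ : χ ∈ pSet h) :
    ∃ μ : IrrCharacter Fˣ, (χ : Cfsg.Sz F m → ℂ) = ps h μ := by
  simp only [pSet, Finset.mem_filter, Finset.mem_univ, true_and] at hχ
  exact ps_of_mem h hχ.1 hχ.2.1 hχ.2.2

omit T in
theorem mem_oSet {χ : IrrCharacter (Cfsg.Sz F m)} (hχ : χ ∈ oSet h) :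
    Other h (χ : Cfsg.Sz F m → ℂ) := by
  simpa [oSet] using hχ

theorem mem_nSet {χ : IrrCharacter (Cfsg.Sz F m)} (hχ : χ ∈ nSet h Kp Km) :
    TypeN h Kp Km (χ : Cfsg.Sz F m → ℂ) := by
  simp only [nSet, Finset.mem_filter] at hχ
  exact hχ.2

theorem mem_eSet {χ : IrrCharacter (Cfsg.Sz F m)} (hχ : χ ∈ eSet h Kp Km) :
    TypeE h Km (nm m) (χ : Cfsg.Sz F m → ℂ) ∨ TypeE h Kp (np m) (χ : Cfsg.Sz F m → ℂ) := by
  simp only [eSet, Finset.mem_filter] at hχ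
  exact (classify_other h T χ (mem_oSet h hχ.1)).resolve_left hχ.2

theorem sum_split (Φ : IrrCharacter (Cfsg.Sz F m) → ℂ) :
    ∑ χ, Φ χ = Φ (oneG F m) + Φ (st h) + ∑ χ ∈ pSet h, Φ χ + ∑ χ ∈ nSet h Kp Km, Φ χ +
      ∑ χ ∈ eSet h Kp Km, Φ χ := by
  classical
  rw [← Finset.sum_filter_add_sum_filter_not Finset.univ
    (fun χ : IrrCharacter (Cfsg.Sz F m) => Other h (χ : Cfsg.Sz F m → ℂ))]
  have h1 : ∑ χ ∈ Finset.univ.filter (fun χ : IrrCharacter (Cfsg.Sz F m) => Other h (χ : Cfsg.Sz F m → ℂ)), Φ χ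
      = ∑ χ ∈ nSet h Kp Km, Φ χ + ∑ χ ∈ eSet h Kp Km, Φ χ := by
    simp only [nSet, eSet]
    rw [Finset.sum_filter_add_sum_filter_not]
    refine Finset.sum_congr ?_ fun _ _ => rfl
    ext χ; simp [oSet]
  have h2 : ∑ χ ∈ Finset.univ.filter (fun χ : IrrCharacter (Cfsg.Sz F m) => ¬ Other h (χ : Cfsg.Sz F m → ℂ)), Φ χ
      = Φ (oneG F m) + Φ (st h) + ∑ χ ∈ pSet h, Φ χ := by
    rw [← Finset.sum_sdiff (s₁ := {oneG F m, st h}) ?_, Finset.sum_pair (st_ne_oneG h).symm, add_comm]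
    · congr 1
      refine Finset.sum_congr ?_ fun _ _ => rfl
      ext χ
      simp [pSet, not_or]
    · intro χ hχ
      simp only [Finset.mem_insert, Finset.mem_singleton] at hχ
      refine Finset.mem_filter.2 ⟨Finset.mem_univ _, ?_⟩
      rcases hχ with rfl | rfl
      · exact not_other_oneG h
      · exact not_other_st h
  rw [h1, h2]
  ring

theorem fpf_of_mem {g : Cfsg.Sz F m} (hg : g ∈ Kp ∨ g ∈ Km) (hg1 : g ≠ 1) : Fpf g := by
  obtain ⟨-, -, hprod, -, -, -, -, -⟩ := arith h.one_le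
  rcases hg with hg | hg
  · refine fpf_of_pow h hg1 (k := 4 * np m + 1) (hprod ▸ dvd_mul_right _ _) ?_
    rw [← T.hp.card]
    exact congrArg Subtype.val (pow_card_eq_one' (x := (⟨g, hg⟩ : Kp)))
  · refine fpf_of_pow h hg1 (k := 4 * nm m + 1) (hprod ▸ dvd_mul_left _ _) ?_
    rw [← T.hm.card]
    exact congrArg Subtype.val (pow_card_eq_one' (x := (⟨g, hg⟩ : Km)))

/-- Being one of the two elements of order four. -/
def IsY (e : Cfsg.Sz F m) : Prop := e = yEl h ∨ e = (yEl h)⁻¹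

omit T in
theorem st_y {e : Cfsg.Sz F m} (he : IsY h e) : (st h : Cfsg.Sz F m → ℂ) e = 0 := by
  rcases he with rfl | rfl
  · exact st_uEl h fun e => one_ne_zero e.1
  · rw [yEl, uEl_inv]; exact st_uEl h fun e => one_ne_zero e.1

omit T in
theorem ps_y {χ : IrrCharacter (Cfsg.Sz F m)} (hχ : χ ∈ pSet h) {e : Cfsg.Sz F m} (he : IsY h e) :
    (χ : Cfsg.Sz F m → ℂ) e = 1 := by
  obtain ⟨μ, hμ⟩ := mem_pSet h hχ
  rw [hμ]
  rcases he with rfl | rfl
  · exact ps_uEl h μ fun e => one_ne_zero e.1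
  · rw [yEl, uEl_inv]; exact ps_uEl h μ fun e => one_ne_zero e.1

theorem n_y {χ : IrrCharacter (Cfsg.Sz F m)} (hχ : χ ∈ nSet h Kp Km) {e : Cfsg.Sz F m}
    (he : IsY h e) : ((χ : Cfsg.Sz F m → ℂ) e).re = 0 ∧
      Complex.normSq ((χ : Cfsg.Sz F m → ℂ) e) ≤ ((2 ^ m : ℕ) : ℝ) ^ 2 := by
  have hN := mem_nSet h T hχ
  rcases he with rfl | rfl
  · exact ⟨hN.y, hN.ynorm⟩
  · rw [char_inv_eq_conj (irr_isCharacter χ), Complex.conj_re, Complex.normSq_conj]
    exact ⟨hN.y, hN.ynorm⟩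

theorem e_y {χ : IrrCharacter (Cfsg.Sz F m)} (hχ : χ ∈ eSet h Kp Km) {e : Cfsg.Sz F m}
    (he : IsY h e) : (χ : Cfsg.Sz F m → ℂ) e = -1 := by
  have hy : (χ : Cfsg.Sz F m → ℂ) (yEl h) = -1 := by
    rcases mem_eSet h T hχ with e | e <;> exact e.y
  rcases he with rfl | rfl
  · exact hy
  · rw [char_inv_eq_conj (irr_isCharacter χ), hy, map_neg, map_one]

theorem n_torus {χ : IrrCharacter (Cfsg.Sz F m)} (hχ : χ ∈ nSet h Kp Km) {g : Cfsg.Sz F m}
    (hg : g ∈ Kp ∨ g ∈ Km) (hg1 : g ≠ 1) :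
    ∃ w : ℤ, (w = 1 ∨ w = -1) ∧ (χ : Cfsg.Sz F m → ℂ) g = w := by
  have hN := mem_nSet h T hχ
  rcases hg with hg | hg
  · exact ⟨1, Or.inl rfl, hN.plus g hg hg1⟩
  · exact ⟨-1, Or.inr rfl, hN.minus g hg hg1⟩

theorem card_nSet : (nSet h Kp Km).card = 2 := by
  classical
  obtain ⟨-, -, -, -, -, -, hm1, hlt⟩ := arith h.one_le
  have hex : ∀ {K : Subgroup (Cfsg.Sz F m)} {n : ℕ}, TorusHyp K n → 1 ≤ n →
      ∃ a ∈ K, a ≠ 1 := by
    intro K n hK hn
    haveI : Nontrivial K := Finite.one_lt_card_iff_nontrivial.1 (by rw [hK.card]; omega)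
    obtain ⟨a, ha⟩ := exists_ne (1 : K)
    exact ⟨a, a.2, fun e => ha (Subtype.ext e)⟩
  obtain ⟨a, ha, ha1⟩ := hex T.hp (by omega)
  obtain ⟨c, hc, hc1⟩ := hex T.hm hm1
  have hnc : ¬ IsConj a c := by
    intro hac
    obtain ⟨t, ht⟩ := isConj_iff.1 hac
    exact T.dis a (mem_conjSet.2 ⟨ha1, 1, by simpa using ha⟩)
      (mem_conjSet.2 ⟨ha1, t⁻¹, by rw [inv_inv, ht]; exact hc⟩)
  have e := column_orth a c
  rw [if_neg hnc, sum_split h T] at e
  have fa := fpf_of_mem h T (Or.inl ha) ha1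
  have fc := fpf_of_mem h T (Or.inr hc) hc1
  rw [st_fpf h fa, st_fpf h fc, Finset.sum_eq_zero (s := pSet h) (fun χ hχ => by
      obtain ⟨μ, hμ⟩ := mem_pSet h hχ
      rw [hμ, ps_fpf h μ fa, zero_mul]),
    Finset.sum_congr rfl (g := fun _ => (-1 : ℂ)) (s₁ := nSet h Kp Km) (fun χ hχ => by
      rw [(mem_nSet h T hχ).plus a ha ha1, (mem_nSet h T hχ).minus c hc hc1]; simp),
    Finset.sum_eq_zero (s := eSet h Kp Km) (fun χ hχ => by
      rcases mem_eSet h T hχ with e | e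
      · rw [e.zero c hc hc1]; simp
      · rw [e.zero a ha ha1]; simp)] at e
  simp only [oneG, map_one, mul_one, map_neg, mul_neg, neg_neg, Finset.sum_const, nsmul_eq_mul] at e
  have : ((nSet h Kp Km).card : ℂ) = ((2 : ℕ) : ℂ) := by push_cast; linear_combination -e
  exact_mod_cast this

theorem sum_eSet_normSq {K : Subgroup (Cfsg.Sz F m)} {n : ℕ} (hK : TorusHyp K n)
    (hKK : K = Kp ∨ K = Km) {g : Cfsg.Sz F m} (hg : g ∈ K) (hg1 : g ≠ 1) :
    ∑ χ ∈ eSet h Kp Km, Complex.normSq ((χ : Cfsg.Sz F m → ℂ) g) = ((4 * n + 1 : ℕ) : ℝ) - 4 := by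
  classical
  have hgK : g ∈ Kp ∨ g ∈ Km := by rcases hKK with rfl | rfl <;> simp [hg]
  have fg := fpf_of_mem h T hgK hg1
  have e := column_orth g g
  rw [if_pos (IsConj.refl g), sum_split h T, st_fpf h fg, hK.cent g hg hg1, hK.card,
    Finset.sum_eq_zero (s := pSet h) (fun χ hχ => by
      obtain ⟨μ, hμ⟩ := mem_pSet h hχ
      rw [hμ, ps_fpf h μ fg, zero_mul]),
    Finset.sum_congr rfl (g := fun _ => (1 : ℂ)) (s₁ := nSet h Kp Km) (fun χ hχ => by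
      obtain ⟨w, hw, e⟩ := n_torus h T hχ hgK hg1
      rcases hw with rfl | rfl <;> rw [e] <;> simp),
    Finset.sum_congr rfl (g := fun χ : IrrCharacter (Cfsg.Sz F m) =>
      ((Complex.normSq ((χ : Cfsg.Sz F m → ℂ) g) : ℝ) : ℂ)) (s₁ := eSet h Kp Km)
      (fun χ _ => Complex.mul_conj _)] at e
  simp only [oneG, map_one, mul_one, map_neg, mul_neg, neg_neg, Finset.sum_const, nsmul_eq_mul,
    card_nSet h T, add_zero, ← Complex.ofReal_sum] at e
  apply Complex.ofReal_injective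
  push_cast at e ⊢
  linear_combination e

theorem card_bound : (pSet h).card + (eSet h Kp Km).card + 1 ≤ qq m := by
  classical
  have e := column_orth (yEl h) (yEl h)⁻¹
  rw [if_neg (not_conj_yEl_inv h), sum_split h T] at e
  simp only [char_inv_eq_conj (irr_isCharacter _), Complex.conj_conj] at e
  rw [st_y h (Or.inl rfl),
    Finset.sum_congr rfl (g := fun _ => (1 : ℂ)) (s₁ := pSet h)
      (fun χ hχ => by rw [ps_y h hχ (Or.inl rfl), mul_one]),
    Finset.sum_congr rfl (g := fun χ : IrrCharacter (Cfsg.Sz F m) =>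
      ((-(Complex.normSq ((χ : Cfsg.Sz F m → ℂ) (yEl h))) : ℝ) : ℂ)) (s₁ := nSet h Kp Km)
      (fun χ hχ => by
        have hre := (mem_nSet h T hχ).y
        apply Complex.ext <;> simp [Complex.normSq_apply, hre]),
    Finset.sum_congr rfl (g := fun _ => (1 : ℂ)) (s₁ := eSet h Kp Km)
      (fun χ hχ => by rw [e_y h T hχ (Or.inl rfl)]; norm_num)] at e
  simp only [oneG, mul_one, mul_zero, add_zero, Finset.sum_const, nsmul_eq_mul,
    ← Complex.ofReal_sum] at e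
  have e' := congrArg Complex.re e
  simp only [Complex.add_re, Complex.one_re, Complex.natCast_re, Complex.ofReal_re, Complex.zero_re] at e'
  rw [Finset.sum_neg_distrib] at e'
  have hle := Finset.sum_le_sum (f := fun χ : IrrCharacter (Cfsg.Sz F m) =>
    Complex.normSq ((χ : Cfsg.Sz F m → ℂ) (yEl h))) (g := fun _ => ((2 ^ m : ℕ) : ℝ) ^ 2)
    (s := nSet h Kp Km) (fun χ hχ => (mem_nSet h T hχ).ynorm)
  rw [Finset.sum_const, card_nSet h T, nsmul_eq_mul] at hle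
  have hq : (qq m : ℝ) = 2 * ((2 ^ m : ℕ) : ℝ) ^ 2 := by
    simp only [qq]; push_cast; rw [← pow_mul, pow_succ', mul_comm m]
  have : (((pSet h).card + (eSet h Kp Km).card + 1 : ℕ) : ℝ) ≤ (qq m : ℝ) := by
    push_cast at hle ⊢
    simp only [qq] at hq
    push_cast at hq
    linarith
  exact_mod_cast this

theorem sum_eSet_re {g : Cfsg.Sz F m} (hg : g ∈ Kp ∨ g ∈ Km) (hg1 : g ≠ 1) :
    ∑ χ ∈ eSet h Kp Km, ((χ : Cfsg.Sz F m → ℂ) g).re = 1 := by
  classical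
  have fg := fpf_of_mem h T hg hg1
  have hne : ¬ IsConj g (yEl h) := by
    intro hc
    obtain ⟨c, hc⟩ := isConj_iff.1 hc
    exact (fg.conj c) _ (by rw [hc]; exact uEl_smul_inf h 1 0)
  have e := column_orth g (yEl h)
  rw [if_neg hne, sum_split h T, st_y h (Or.inl rfl),
    Finset.sum_eq_zero (s := pSet h) (fun χ hχ => by
      obtain ⟨μ, hμ⟩ := mem_pSet h hχ
      rw [hμ, ps_fpf h μ fg, zero_mul]),
    Finset.sum_congr rfl (g := fun χ : IrrCharacter (Cfsg.Sz F m) => -(χ : Cfsg.Sz F m → ℂ) g)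
      (s₁ := eSet h Kp Km) (fun χ hχ => by rw [e_y h T hχ (Or.inl rfl)]; simp)] at e
  simp only [oneG, map_one, mul_one, map_zero, mul_zero, add_zero, Finset.sum_neg_distrib] at e
  have e' := congrArg Complex.re e
  rw [Complex.add_re, Complex.add_re, Complex.one_re, Complex.neg_re, Complex.re_sum,
    Complex.re_sum, Complex.zero_re, Finset.sum_eq_zero (s := nSet h Kp Km) (fun χ hχ => ?_)] at e'
  · linarith
  · obtain ⟨w, -, ew⟩ := n_torus h T hχ hg hg1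
    rw [ew]
    simp [(mem_nSet h T hχ).y]

/-- The representatives of the non-identity classes. -/
def Rep (Kp Km : Subgroup (Cfsg.Sz F m)) (e : Cfsg.Sz F m) : Prop :=
  e = zEl h ∨ IsY h e ∨ (∃ k : Fˣ, k ≠ 1 ∧ e = hEl h k) ∨ ((e ∈ Kp ∨ e ∈ Km) ∧ e ≠ 1)

theorem st_bound {e : Cfsg.Sz F m} (he : Rep h Kp Km e) :
    Complex.normSq ((st h : Cfsg.Sz F m → ℂ) e) ≤ 1 := by
  rcases he with rfl | he | ⟨k, hk, rfl⟩ | ⟨he, he1⟩
  · rw [zEl, st_uEl h (fun e => one_ne_zero e.2)]; simp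
  · rw [st_y h he]; simp
  · simp only [st, stFun, Pi.sub_apply, ps_hEl h _ hk, one']
    norm_num
  · rw [st_fpf h (fpf_of_mem h T he he1)]; simp

theorem ps_bound {χ : IrrCharacter (Cfsg.Sz F m)} (hχ : χ ∈ pSet h) {e : Cfsg.Sz F m}
    (he : Rep h Kp Km e) : ‖(χ : Cfsg.Sz F m → ℂ) e‖ ≤ 2 := by
  obtain ⟨μ, hμ⟩ := mem_pSet h hχ
  rw [hμ]
  rcases he with rfl | he | ⟨k, hk, rfl⟩ | ⟨he, he1⟩
  · rw [zEl, ps_uEl h μ (fun e => one_ne_zero e.2)]; norm_num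
  · rw [← hμ, ps_y h hχ he]; norm_num
  · rw [ps_hEl h μ hk]
    have hn : ∀ l : Fˣ, ‖(μ : Fˣ → ℂ) l‖ = 1 := fun l => by
      rw [Complex.norm_def, mu_normSq h μ l, Real.sqrt_one]
    refine (norm_add_le _ _).trans ?_
    rw [hn, hn]; norm_num
  · rw [ps_fpf h μ (fpf_of_mem h T he he1)]; norm_num

theorem split_case {x g : Cfsg.Sz F m} (hx : Rep h Kp Km x) (hg : Rep h Kp Km g)
    (hh : (∃ k : Fˣ, k ≠ 1 ∧ x = hEl h k) ∨ ∃ k : Fˣ, k ≠ 1 ∧ g = hEl h k) :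
    0 < (∑ χ : IrrCharacter (Cfsg.Sz F m), (χ : Cfsg.Sz F m → ℂ) x ^ 2 *
      conj ((χ : Cfsg.Sz F m → ℂ) g) / (χ : Cfsg.Sz F m → ℂ) 1).re := by
  have hzero : ∀ χ : IrrCharacter (Cfsg.Sz F m), Other h (χ : Cfsg.Sz F m → ℂ) →
      (χ : Cfsg.Sz F m → ℂ) x ^ 2 * conj ((χ : Cfsg.Sz F m → ℂ) g) / (χ : Cfsg.Sz F m → ℂ) 1 = 0 := by
    intro χ hO
    rcases hh with ⟨k, hk, rfl⟩ | ⟨k, hk, rfl⟩ <;> simp [other_hEl h χ hO hk]
  rw [sum_split h T, Finset.sum_eq_zero (s := nSet h Kp Km) (fun χ hχ => hzero χ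
    (mem_oSet h (by simp only [nSet, Finset.mem_filter] at hχ; exact hχ.1))),
    Finset.sum_eq_zero (s := eSet h Kp Km) (fun χ hχ => hzero χ
    (mem_oSet h (by simp only [eSet, Finset.mem_filter] at hχ; exact hχ.1)))]
  simp only [add_zero, oneG, one_pow, map_one, mul_one, div_one, Complex.add_re, Complex.one_re,
    Complex.re_sum]
  have hst : -(1 / (qq m : ℝ) ^ 2) ≤ ((st h : Cfsg.Sz F m → ℂ) x ^ 2 *
      conj ((st h : Cfsg.Sz F m → ℂ) g) / (st h : Cfsg.Sz F m → ℂ) 1).re := by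
    have hn : ‖(st h : Cfsg.Sz F m → ℂ) g‖ ≤ 1 := by
      rw [Complex.norm_def]
      exact Real.sqrt_le_one.2 (st_bound h T hg)
    have t := term_ge (d := qq m ^ 2) (st_bound h T hx) hn zero_le_one
    rw [one_mul] at t
    rw [st_one h]
    simpa [qq] using t
  have hps : ∀ χ ∈ pSet h, -(8 / ((qq m : ℝ) ^ 2 + 1)) ≤ ((χ : Cfsg.Sz F m → ℂ) x ^ 2 *
      conj ((χ : Cfsg.Sz F m → ℂ) g) / (χ : Cfsg.Sz F m → ℂ) 1).re := by
    intro χ hχ
    have hn : Complex.normSq ((χ : Cfsg.Sz F m → ℂ) x) ≤ 4 := by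
      rw [← Complex.sq_norm]
      nlinarith [norm_nonneg ((χ : Cfsg.Sz F m → ℂ) x), ps_bound h T hχ hx]
    have t := term_ge (d := qq m ^ 2 + 1) hn (ps_bound h T hχ hg) zero_le_two
    obtain ⟨μ, hμ⟩ := mem_pSet h hχ
    rw [show (χ : Cfsg.Sz F m → ℂ) 1 = ((qq m ^ 2 + 1 : ℕ) : ℂ) by rw [hμ, ps_one h]; simp [qq]]
    norm_num [qq] at t ⊢
    linarith
  have h1 := Finset.sum_le_sum hps
  rw [Finset.sum_const, nsmul_eq_mul] at h1
  have hc : ((pSet h).card : ℝ) ≤ (qq m : ℝ) - 1 := by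
    rw [le_sub_iff_add_le]
    exact_mod_cast (by have := card_bound h T; omega : (pSet h).card + 1 ≤ qq m)
  have h2 := mul_le_mul_of_nonneg_right hc (show 0 ≤ 8 / ((qq m : ℝ) ^ 2 + 1) by positivity)
  have h3 := ineq_split h
  rw [mul_div_assoc', mul_div_assoc'] at h2
  rw [mul_neg, mul_div_assoc'] at h1
  rw [mul_comm (8 : ℝ)] at h3
  linarith

theorem degE {χ : IrrCharacter (Cfsg.Sz F m)} (hχ : χ ∈ eSet h Kp Km) :
    ∃ a : ℕ, (a = 4 * nm m + 1 ∨ a = 4 * np m + 1) ∧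
      (χ : Cfsg.Sz F m → ℂ) 1 = (((qq m - 1) * a : ℕ) : ℂ) ∧
      (χ : Cfsg.Sz F m → ℂ) (zEl h) = (qq m : ℂ) - (a : ℂ) := by
  rcases mem_eSet h T hχ with e | e
  · exact ⟨_, Or.inl rfl, e.one, e.z⟩
  · exact ⟨_, Or.inr rfl, e.one, e.z⟩

theorem real_z_term {a : ℕ} (ha : a = 4 * nm m + 1 ∨ a = 4 * np m + 1) {c : ℂ} {s : ℝ}
    (hc : Complex.normSq c ≤ s) :
    -(s * (((2 ^ (m + 1) : ℕ) : ℝ) + 1) / (((qq m : ℝ) - 1) * ((4 * np m + 1 : ℕ) : ℝ))) ≤
      Complex.normSq c * ((qq m : ℝ) - (a : ℝ)) / (((qq m : ℝ) - 1) * (a : ℝ)) := by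
  obtain ⟨hpe, hme, -, -, -, h8, -, -⟩ := arith h.one_le
  have hq1 : (0 : ℝ) < (qq m : ℝ) - 1 := by
    have : (8 : ℝ) ≤ (qq m : ℝ) := by exact_mod_cast h8
    linarith
  have hs : 0 ≤ s := (Complex.normSq_nonneg c).trans hc
  have hle : 2 ^ (m + 1) ≤ qq m := Nat.pow_le_pow_right (by norm_num) (by have := h.one_le; omega)
  rcases ha with rfl | rfl
  · refine le_trans (neg_nonpos.2 (by positivity)) (div_nonneg (mul_nonneg (Complex.normSq_nonneg c) ?_) (by positivity))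
    have : 4 * nm m + 1 ≤ qq m := by
      have : 2 ≤ 2 ^ (m + 1) := Nat.le_self_pow (by omega) 2
      omega
    rw [sub_nonneg]
    exact_mod_cast this
  · rw [← neg_div]
    refine div_le_div_of_nonneg_right ?_ (by positivity)
    have e : (qq m : ℝ) - ((4 * np m + 1 : ℕ) : ℝ) = -(((2 ^ (m + 1) : ℕ) : ℝ) + 1) := by
      rw [hpe]; push_cast; ring
    rw [e, mul_neg, neg_le_neg_iff]
    exact mul_le_mul_of_nonneg_right hc (by positivity)

theorem y_case {x g : Cfsg.Sz F m} (hx : IsY h x)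
    (hg : g = zEl h ∨ IsY h g ∨ ((g ∈ Kp ∨ g ∈ Km) ∧ g ≠ 1)) :
    0 < (∑ χ : IrrCharacter (Cfsg.Sz F m), (χ : Cfsg.Sz F m → ℂ) x ^ 2 *
      conj ((χ : Cfsg.Sz F m → ℂ) g) / (χ : Cfsg.Sz F m → ℂ) 1).re := by
  obtain ⟨i1, i2, i3, i4, i5, i6, i7⟩ := ineq_torus h
  obtain ⟨-, -, -, -, -, h8, -, hlt⟩ := arith h.one_le
  have hq1 : (0 : ℝ) < (qq m : ℝ) - 1 := by
    have : (8 : ℝ) ≤ (qq m : ℝ) := by exact_mod_cast h8
    linarith
  have hcE : ((eSet h Kp Km).card : ℝ) ≤ (qq m : ℝ) - 1 := by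
    rw [le_sub_iff_add_le]
    exact_mod_cast (by have := card_bound h T; omega : (eSet h Kp Km).card + 1 ≤ qq m)
  rw [sum_split h T, st_y h hx]
  simp only [oneG, one_pow, map_one, mul_one, div_one, ne_eq, OfNat.ofNat_ne_zero, not_false_eq_true,
    zero_pow, zero_mul, zero_div, add_zero, Complex.add_re, Complex.one_re, Complex.re_sum]
  have hden : ∀ X : ℕ, (((qq m - 1) * X : ℕ) : ℝ) = ((qq m : ℝ) - 1) * (X : ℝ) := fun X => by
    rw [Nat.cast_mul, Nat.cast_sub (by omega : 1 ≤ qq m), Nat.cast_one]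
  have hsqN : ∀ χ ∈ nSet h Kp Km, (χ : Cfsg.Sz F m → ℂ) x ^ 2 =
      ((-(Complex.normSq ((χ : Cfsg.Sz F m → ℂ) x)) : ℝ) : ℂ) := by
    intro χ hχ
    have hre := (n_y h T hχ hx).1
    apply Complex.ext <;> simp [sq, Complex.normSq_apply, hre]
  rcases hg with rfl | hg | ⟨hg, hg1⟩
  · have hP : ∀ χ ∈ pSet h, 0 ≤ ((χ : Cfsg.Sz F m → ℂ) x ^ 2 *
        conj ((χ : Cfsg.Sz F m → ℂ) (zEl h)) / (χ : Cfsg.Sz F m → ℂ) 1).re := by
      intro χ hχ
      obtain ⟨μ, hμ⟩ := mem_pSet h hχ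
      rw [ps_y h hχ hx, show (χ : Cfsg.Sz F m → ℂ) (zEl h) = 1 by
        rw [hμ, zEl, ps_uEl h μ (fun e => one_ne_zero e.2)],
        show (χ : Cfsg.Sz F m → ℂ) 1 = ((qq m ^ 2 + 1 : ℕ) : ℂ) by rw [hμ, ps_one h]; simp [qq]]
      simp only [one_pow, map_one, mul_one, Complex.div_natCast_re, Complex.one_re]
      positivity
    have hN : ∀ χ ∈ nSet h Kp Km, 0 ≤ ((χ : Cfsg.Sz F m → ℂ) x ^ 2 *
        conj ((χ : Cfsg.Sz F m → ℂ) (zEl h)) / (χ : Cfsg.Sz F m → ℂ) 1).re := by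
      intro χ hχ
      rw [hsqN χ hχ, (mem_nSet h T hχ).z, (mem_nSet h T hχ).one, map_neg, map_natCast,
        Complex.div_natCast_re, Complex.re_ofReal_mul, Complex.neg_re, Complex.natCast_re, neg_mul_neg]
      exact div_nonneg (mul_nonneg (Complex.normSq_nonneg _) (Nat.cast_nonneg _)) (Nat.cast_nonneg _)
    have hE : ∀ χ ∈ eSet h Kp Km, -((1 : ℝ) * (((2 ^ (m + 1) : ℕ) : ℝ) + 1) /
        (((qq m : ℝ) - 1) * ((4 * np m + 1 : ℕ) : ℝ))) ≤ ((χ : Cfsg.Sz F m → ℂ) x ^ 2 *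
        conj ((χ : Cfsg.Sz F m → ℂ) (zEl h)) / (χ : Cfsg.Sz F m → ℂ) 1).re := by
      intro χ hχ
      obtain ⟨a, ha, e1, ez⟩ := degE h T hχ
      have t := real_z_term h T ha (c := (1 : ℂ)) (s := 1) (by simp)
      rw [map_one, one_mul (_ - _)] at t
      rw [e_y h T hχ hx, e1, ez, Complex.div_natCast_re, hden,
        show ((-1 : ℂ) ^ 2 * conj ((qq m : ℂ) - (a : ℂ))).re = (qq m : ℝ) - (a : ℝ) by
          rw [map_sub, map_natCast, map_natCast, neg_one_sq, one_mul, Complex.sub_re,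
            Complex.natCast_re, Complex.natCast_re]]
      exact t
    have hs := Finset.sum_le_sum hE
    rw [Finset.sum_const, nsmul_eq_mul, one_mul] at hs
    have hp0 := Finset.sum_nonneg hP
    have hn0 := Finset.sum_nonneg hN
    have key : ((eSet h Kp Km).card : ℝ) * ((((2 ^ (m + 1) : ℕ) : ℝ) + 1) /
        (((qq m : ℝ) - 1) * ((4 * np m + 1 : ℕ) : ℝ))) < 1 := by
      refine lt_of_le_of_lt ?_ i5
      rw [mul_div_assoc', div_le_div_iff₀ (by positivity) (by positivity)]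
      have := mul_le_mul_of_nonneg_right hcE
        (show 0 ≤ (((2 ^ (m + 1) : ℕ) : ℝ) + 1) * ((4 * np m + 1 : ℕ) : ℝ) by positivity)
      linarith
    rw [mul_neg] at hs
    linarith
  · have hP : ∀ χ ∈ pSet h, 0 ≤ ((χ : Cfsg.Sz F m → ℂ) x ^ 2 *
        conj ((χ : Cfsg.Sz F m → ℂ) g) / (χ : Cfsg.Sz F m → ℂ) 1).re := by
      intro χ hχ
      obtain ⟨μ, hμ⟩ := mem_pSet h hχ
      rw [ps_y h hχ hx, ps_y h hχ hg,
        show (χ : Cfsg.Sz F m → ℂ) 1 = ((qq m ^ 2 + 1 : ℕ) : ℂ) by rw [hμ, ps_one h]; simp [qq]]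
      simp only [one_pow, map_one, mul_one, Complex.div_natCast_re, Complex.one_re]
      positivity
    have hN : ∀ χ ∈ nSet h Kp Km, ((χ : Cfsg.Sz F m → ℂ) x ^ 2 *
        conj ((χ : Cfsg.Sz F m → ℂ) g) / (χ : Cfsg.Sz F m → ℂ) 1).re = 0 := by
      intro χ hχ
      rw [hsqN χ hχ, (mem_nSet h T hχ).one, Complex.div_natCast_re, Complex.re_ofReal_mul,
        Complex.conj_re, (n_y h T hχ hg).1, mul_zero, zero_div]
    have hE : ∀ χ ∈ eSet h Kp Km, -(1 / (((qq m : ℝ) - 1) * ((4 * nm m + 1 : ℕ) : ℝ))) ≤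
        ((χ : Cfsg.Sz F m → ℂ) x ^ 2 * conj ((χ : Cfsg.Sz F m → ℂ) g) / (χ : Cfsg.Sz F m → ℂ) 1).re := by
      intro χ hχ
      obtain ⟨a, ha, e1, -⟩ := degE h T hχ
      rw [e_y h T hχ hx, e_y h T hχ hg, e1, Complex.div_natCast_re, hden,
        show ((-1 : ℂ) ^ 2 * conj (-1 : ℂ)).re = -1 by simp, neg_div, neg_le_neg_iff]
      refine one_div_le_one_div_of_le (by positivity) (mul_le_mul_of_nonneg_left ?_ hq1.le)
      rcases ha with rfl | rfl
      · exact le_refl _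
      · exact_mod_cast (by omega : 4 * nm m + 1 ≤ 4 * np m + 1)
    have hs := Finset.sum_le_sum hE
    rw [Finset.sum_const, nsmul_eq_mul] at hs
    have hp0 := Finset.sum_nonneg hP
    have key : ((eSet h Kp Km).card : ℝ) * (1 / (((qq m : ℝ) - 1) * ((4 * nm m + 1 : ℕ) : ℝ))) < 1 := by
      refine lt_of_le_of_lt ?_ i6
      rw [mul_div_assoc', mul_one, div_le_div_iff₀ (by positivity) (by positivity), one_mul]
      exact mul_le_mul_of_nonneg_right hcE (by positivity)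
    rw [Finset.sum_eq_zero hN]
    rw [mul_neg] at hs
    linarith
  · have fg := fpf_of_mem h T hg hg1
    have hP : ∀ χ ∈ pSet h, ((χ : Cfsg.Sz F m → ℂ) x ^ 2 *
        conj ((χ : Cfsg.Sz F m → ℂ) g) / (χ : Cfsg.Sz F m → ℂ) 1).re = 0 := by
      intro χ hχ
      obtain ⟨μ, hμ⟩ := mem_pSet h hχ
      rw [hμ, ps_fpf h μ fg]; simp
    have hN : ∀ χ ∈ nSet h Kp Km, -(((2 ^ m : ℕ) : ℝ) / ((qq m : ℝ) - 1)) ≤ ((χ : Cfsg.Sz F m → ℂ) x ^ 2 *
        conj ((χ : Cfsg.Sz F m → ℂ) g) / (χ : Cfsg.Sz F m → ℂ) 1).re := by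
      intro χ hχ
      obtain ⟨w, hw, ew⟩ := n_torus h T hχ hg hg1
      rw [(mem_nSet h T hχ).one]
      refine le_trans (le_of_eq ?_) (term_ge (n_y h T hχ hx).2 (t := 1) ?_ zero_le_one)
      · rw [hden, mul_one]
        field_simp
      · rw [ew]; rcases hw with rfl | rfl <;> simp
    obtain ⟨X, hXpos, hXall⟩ : ∃ X : ℕ, 0 < X ∧ ∀ χ ∈ eSet h Kp Km,
        ((χ : Cfsg.Sz F m → ℂ) x ^ 2 * conj ((χ : Cfsg.Sz F m → ℂ) g) / (χ : Cfsg.Sz F m → ℂ) 1).re =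
          ((χ : Cfsg.Sz F m → ℂ) g).re / (X : ℝ) := by
      rcases hg with hg | hg
      · refine ⟨(qq m - 1) * (4 * nm m + 1), Nat.mul_pos (by omega) (by omega), fun χ hχ => ?_⟩
        rw [e_y h T hχ hx, show ((-1 : ℂ) ^ 2) = 1 by norm_num, one_mul]
        rcases mem_eSet h T hχ with e | e
        · rw [e.one, Complex.div_natCast_re, Complex.conj_re]
        · rw [e.zero g hg hg1]; simp
      · refine ⟨(qq m - 1) * (4 * np m + 1), Nat.mul_pos (by omega) (by omega), fun χ hχ => ?_⟩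
        rw [e_y h T hχ hx, show ((-1 : ℂ) ^ 2) = 1 by norm_num, one_mul]
        rcases mem_eSet h T hχ with e | e
        · rw [e.zero g hg hg1]; simp
        · rw [e.one, Complex.div_natCast_re, Complex.conj_re]
    rw [Finset.sum_eq_zero hP, Finset.sum_congr rfl hXall, ← Finset.sum_div, sum_eSet_re h T hg hg1]
    have hs := Finset.sum_le_sum hN
    rw [Finset.sum_const, card_nSet h T, nsmul_eq_mul] at hs
    have hX : (0 : ℝ) < 1 / (X : ℝ) := by positivity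
    rw [mul_div_assoc] at i4
    push_cast at hs i4
    linarith

theorem torus_case {x g : Cfsg.Sz F m} (hx : x ∈ Kp ∨ x ∈ Km) (hx1 : x ≠ 1)
    (hg : g = zEl h ∨ IsY h g ∨ ((g ∈ Kp ∨ g ∈ Km) ∧ g ≠ 1)) :
    0 < (∑ χ : IrrCharacter (Cfsg.Sz F m), (χ : Cfsg.Sz F m → ℂ) x ^ 2 *
      conj ((χ : Cfsg.Sz F m → ℂ) g) / (χ : Cfsg.Sz F m → ℂ) 1).re := by
  obtain ⟨i1, i2, i3, i4, i5, i6, i7⟩ := ineq_torus h
  obtain ⟨-, -, -, -, -, h8, -, hlt⟩ := arith h.one_le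
  have hq1 : (0 : ℝ) < (qq m : ℝ) - 1 := by
    have : (8 : ℝ) ≤ (qq m : ℝ) := by exact_mod_cast h8
    linarith
  have fx := fpf_of_mem h T hx hx1
  have hlast : ∀ {e : Cfsg.Sz F m}, (e ∈ Kp ∨ e ∈ Km) → e ≠ 1 →
      ∑ χ ∈ eSet h Kp Km, Complex.normSq ((χ : Cfsg.Sz F m → ℂ) e) ≤ ((4 * np m + 1 : ℕ) : ℝ) - 4 := by
    intro e he he1
    rcases he with he | he
    · rw [sum_eSet_normSq h T T.hp (Or.inl rfl) he he1]
    · rw [sum_eSet_normSq h T T.hm (Or.inr rfl) he he1]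
      exact sub_le_sub_right (by exact_mod_cast (by omega : 4 * nm m + 1 ≤ 4 * np m + 1)) _
  have hsqN : ∀ χ ∈ nSet h Kp Km, (χ : Cfsg.Sz F m → ℂ) x ^ 2 = 1 := by
    intro χ hχ
    obtain ⟨w, hw, ew⟩ := n_torus h T hχ hx hx1
    rw [ew]; rcases hw with rfl | rfl <;> simp
  rw [sum_split h T, Finset.sum_eq_zero (s := pSet h) (fun χ hχ => by
      obtain ⟨μ, hμ⟩ := mem_pSet h hχ
      rw [hμ, ps_fpf h μ fx]; simp), st_fpf h fx]
  simp only [oneG, one_pow, map_one, mul_one, div_one, neg_one_sq, one_mul, add_zero, Complex.add_re,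
    Complex.one_re, Complex.re_sum]
  have hden : ∀ X : ℕ, (((qq m - 1) * X : ℕ) : ℝ) = ((qq m : ℝ) - 1) * (X : ℝ) := fun X => by
    rw [Nat.cast_mul, Nat.cast_sub (by omega : 1 ≤ qq m), Nat.cast_one]
  rcases hg with rfl | hg | ⟨hg, hg1⟩
  · rw [show (st h : Cfsg.Sz F m → ℂ) (zEl h) = 0 from st_uEl h fun e => one_ne_zero e.2]
    simp only [map_zero, zero_div, Complex.zero_re, add_zero]
    have hN : ∀ χ ∈ nSet h Kp Km, ((χ : Cfsg.Sz F m → ℂ) x ^ 2 *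
        conj ((χ : Cfsg.Sz F m → ℂ) (zEl h)) / (χ : Cfsg.Sz F m → ℂ) 1).re = -(1 / ((qq m : ℝ) - 1)) := by
      intro χ hχ
      rw [hsqN χ hχ, (mem_nSet h T hχ).z, (mem_nSet h T hχ).one, one_mul, map_neg, map_natCast,
        Complex.div_natCast_re, Complex.neg_re, Complex.natCast_re, hden]
      field_simp
    have hE : ∀ χ ∈ eSet h Kp Km, -(Complex.normSq ((χ : Cfsg.Sz F m → ℂ) x) *
        ((((2 ^ (m + 1) : ℕ) : ℝ) + 1) / (((qq m : ℝ) - 1) * ((4 * np m + 1 : ℕ) : ℝ)))) ≤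
        ((χ : Cfsg.Sz F m → ℂ) x ^ 2 *
        conj ((χ : Cfsg.Sz F m → ℂ) (zEl h)) / (χ : Cfsg.Sz F m → ℂ) 1).re := by
      intro χ hχ
      obtain ⟨a, ha, e1, ez⟩ := degE h T hχ
      have hreal : conj ((χ : Cfsg.Sz F m → ℂ) x) = (χ : Cfsg.Sz F m → ℂ) x := by
        rw [← char_inv_eq_conj (irr_isCharacter χ)]
        rcases hx with hx | hx
        · exact T.hp.apply_inv (isClassFunction_irr χ) hx
        · exact T.hm.apply_inv (isClassFunction_irr χ) hx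
      have esq : (χ : Cfsg.Sz F m → ℂ) x ^ 2 =
          ((Complex.normSq ((χ : Cfsg.Sz F m → ℂ) x) : ℝ) : ℂ) := by
        rw [← Complex.mul_conj, hreal, sq]
      rw [esq, e1, ez, Complex.div_natCast_re, hden, Complex.re_ofReal_mul,
        show (conj ((qq m : ℂ) - (a : ℂ))).re = (qq m : ℝ) - (a : ℝ) by
          rw [map_sub, map_natCast, map_natCast, Complex.sub_re, Complex.natCast_re, Complex.natCast_re], mul_div_assoc']
      exact real_z_term h T ha le_rfl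
    rw [Finset.sum_congr rfl hN, Finset.sum_const, card_nSet h T, nsmul_eq_mul]
    have hs := Finset.sum_le_sum hE
    rw [Finset.sum_neg_distrib, ← Finset.sum_mul] at hs
    have h2 := mul_le_mul_of_nonneg_right (hlast hx hx1)
      (show 0 ≤ (((2 ^ (m + 1) : ℕ) : ℝ) + 1) / (((qq m : ℝ) - 1) * ((4 * np m + 1 : ℕ) : ℝ)) by positivity)
    rw [mul_div_assoc] at i2
    have e2 : ((2 : ℕ) : ℝ) * -(1 / ((qq m : ℝ) - 1)) = -(2 / ((qq m : ℝ) - 1)) := by push_cast; ring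
    rw [e2]
    linarith
  · rw [st_y h hg]
    simp only [map_zero, zero_div, Complex.zero_re, add_zero]
    have hN : ∀ χ ∈ nSet h Kp Km, ((χ : Cfsg.Sz F m → ℂ) x ^ 2 *
        conj ((χ : Cfsg.Sz F m → ℂ) g) / (χ : Cfsg.Sz F m → ℂ) 1).re = 0 := by
      intro χ hχ
      rw [hsqN χ hχ, one_mul, (mem_nSet h T hχ).one, Complex.div_natCast_re, Complex.conj_re,
        (n_y h T hχ hg).1, zero_div]
    have hE : ∀ χ ∈ eSet h Kp Km, -(Complex.normSq ((χ : Cfsg.Sz F m → ℂ) x) /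
        (((qq m : ℝ) - 1) * ((4 * nm m + 1 : ℕ) : ℝ))) ≤ ((χ : Cfsg.Sz F m → ℂ) x ^ 2 *
        conj ((χ : Cfsg.Sz F m → ℂ) g) / (χ : Cfsg.Sz F m → ℂ) 1).re := by
      intro χ hχ
      obtain ⟨a, ha, e1, -⟩ := degE h T hχ
      rw [e1]
      refine le_trans ?_ (term_ge le_rfl (t := 1) (by rw [e_y h T hχ hg]; simp) zero_le_one)
      rw [mul_one, hden, neg_le_neg_iff]
      refine div_le_div_of_nonneg_left (Complex.normSq_nonneg _) (by positivity)
        (mul_le_mul_of_nonneg_left ?_ hq1.le)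
      rcases ha with rfl | rfl
      · exact le_refl _
      · exact_mod_cast (by omega : 4 * nm m + 1 ≤ 4 * np m + 1)
    rw [Finset.sum_eq_zero hN]
    have hs := Finset.sum_le_sum hE
    rw [Finset.sum_neg_distrib, ← Finset.sum_div] at hs
    have key : (∑ χ ∈ eSet h Kp Km, Complex.normSq ((χ : Cfsg.Sz F m → ℂ) x)) /
        (((qq m : ℝ) - 1) * ((4 * nm m + 1 : ℕ) : ℝ)) < 1 := by
      rw [div_lt_one (by positivity)]
      exact lt_of_le_of_lt (hlast hx hx1) i1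
    linarith
  · have fg := fpf_of_mem h T hg hg1
    rw [st_fpf h fg, st_one h]
    have hst : (conj (-1 : ℂ) / (qq m : ℂ) ^ 2).re = -(1 / (qq m : ℝ) ^ 2) := by
      rw [show (qq m : ℂ) ^ 2 = ((qq m ^ 2 : ℕ) : ℂ) by simp [qq], Complex.div_natCast_re]
      simp [qq, neg_div]
    rw [hst]
    have hN : ∀ χ ∈ nSet h Kp Km, -(1 / (((qq m : ℝ) - 1) * ((2 ^ m : ℕ) : ℝ))) ≤
        ((χ : Cfsg.Sz F m → ℂ) x ^ 2 *
        conj ((χ : Cfsg.Sz F m → ℂ) g) / (χ : Cfsg.Sz F m → ℂ) 1).re := by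
      intro χ hχ
      obtain ⟨v, hv, ev⟩ := n_torus h T hχ hx hx1
      obtain ⟨w, hw, ew⟩ := n_torus h T hχ hg hg1
      rw [(mem_nSet h T hχ).one]
      refine le_trans (le_of_eq ?_) (term_ge (s := 1) (t := 1) ?_ ?_ zero_le_one)
      · rw [hden, one_mul]
      · rw [ev]; rcases hv with rfl | rfl <;> simp
      · rw [ew]; rcases hw with rfl | rfl <;> simp
    have hE : ∀ χ ∈ eSet h Kp Km, -(Complex.normSq ((χ : Cfsg.Sz F m → ℂ) x) *
        ((((2 ^ (m + 1) : ℕ) : ℝ) - 1) / (((qq m : ℝ) - 1) * ((4 * nm m + 1 : ℕ) : ℝ)))) ≤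
        ((χ : Cfsg.Sz F m → ℂ) x ^ 2 *
        conj ((χ : Cfsg.Sz F m → ℂ) g) / (χ : Cfsg.Sz F m → ℂ) 1).re := by
      intro χ hχ
      obtain ⟨a, ha, e1, -⟩ := degE h T hχ
      have hr1 : (0 : ℝ) ≤ ((2 ^ (m + 1) : ℕ) : ℝ) - 1 := by
        rw [sub_nonneg]; exact_mod_cast Nat.one_le_two_pow
      have hn : ‖(χ : Cfsg.Sz F m → ℂ) g‖ ≤ ((2 ^ (m + 1) : ℕ) : ℝ) - 1 := by
        rw [← pow_le_pow_iff_left₀ (norm_nonneg _) hr1 two_ne_zero, Complex.sq_norm]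
        exact le_trans (Finset.single_le_sum (f := fun ψ : IrrCharacter (Cfsg.Sz F m) =>
          Complex.normSq ((ψ : Cfsg.Sz F m → ℂ) g)) (fun ψ _ => Complex.normSq_nonneg _) hχ)
          ((hlast hg hg1).trans i7)
      rw [e1]
      refine le_trans ?_ (term_ge le_rfl hn hr1)
      rw [hden, mul_div_assoc', neg_le_neg_iff]
      refine div_le_div_of_nonneg_left (mul_nonneg (Complex.normSq_nonneg _) hr1) (by positivity)
        (mul_le_mul_of_nonneg_left ?_ hq1.le)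
      rcases ha with rfl | rfl
      · exact le_refl _
      · exact_mod_cast (by omega : 4 * nm m + 1 ≤ 4 * np m + 1)
    have hsn := Finset.sum_le_sum hN
    rw [Finset.sum_const, card_nSet h T, nsmul_eq_mul] at hsn
    have hs := Finset.sum_le_sum hE
    rw [Finset.sum_neg_distrib, ← Finset.sum_mul] at hs
    have hr1 : (0 : ℝ) ≤ ((2 ^ (m + 1) : ℕ) : ℝ) - 1 := by
      rw [sub_nonneg]; exact_mod_cast Nat.one_le_two_pow
    have h2 := mul_le_mul_of_nonneg_right (hlast hx hx1)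
      (show 0 ≤ (((2 ^ (m + 1) : ℕ) : ℝ) - 1) / (((qq m : ℝ) - 1) * ((4 * nm m + 1 : ℕ) : ℝ)) from
        div_nonneg hr1 (by positivity))
    rw [mul_div_assoc (((4 * np m + 1 : ℕ) : ℝ) - 4)] at i3
    have e2 : ((2 : ℕ) : ℝ) * -(1 / (((qq m : ℝ) - 1) * ((2 ^ m : ℕ) : ℝ))) =
        -(2 / (((qq m : ℝ) - 1) * ((2 ^ m : ℕ) : ℝ))) := by push_cast; ring
    rw [e2] at hsn
    linarith

theorem exists_rep {g : Cfsg.Sz F m} (hg : g ≠ 1) :
    ∃ e : Cfsg.Sz F m, IsConj g e ∧ Rep h Kp Km e := by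
  classical
  rcases trichotomy h hg with ⟨t, a, b, hab, ht⟩ | ⟨t, k, hk, ht⟩ | hf
  · have h1 : IsConj g (uEl h a b) := isConj_iff.2 ⟨t, ht⟩
    let f : Cfsg.Sz F m → ℂ := fun e => if IsConj e (uEl h a b) then 1 else 0
    have hf : IsClassFunction (Cfsg.Sz F m) f := fun e c => by
      have hc : IsConj e (c * e * c⁻¹) := isConj_iff.2 ⟨c, rfl⟩
      simp only [f]
      exact if_congr ⟨fun e' => hc.trans e', fun e' => hc.symm.trans e'⟩ rfl rfl
    have hfu : f (uEl h a b) = 1 := if_pos (IsConj.refl _)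
    have key : ∀ e : Cfsg.Sz F m, f e = 1 → Rep h Kp Km e → ∃ e, IsConj g e ∧ Rep h Kp Km e := by
      intro e he hre
      refine ⟨e, h1.trans (IsConj.symm ?_), hre⟩
      by_contra hne
      exact zero_ne_one ((if_neg hne).symm.trans he)
    by_cases ha : a = 0
    · subst ha
      rw [apply_center h hf (fun hb => hab ⟨rfl, hb⟩)] at hfu
      exact key _ hfu (Or.inl rfl)
    · have e : f (uEl h a b) = f (uEl h 1 (b / (a * th m a))) := by
        rw [← hf (uEl h 1 (b / (a * th m a))) (hEl h (Units.mk0 a ha)), hEl_conj]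
        congr 2
        · simp
        · simp only [Units.val_mk0]
          have : th m a ≠ 0 := fun e => ha (h.th_eq_zero.1 e)
          field_simp
      rw [e, apply_one_coset h hf] at hfu
      split_ifs at hfu with hd
      · exact key _ hfu (Or.inr (Or.inl (Or.inl rfl)))
      · exact key _ hfu (Or.inr (Or.inl (Or.inr rfl)))
  · exact ⟨_, isConj_iff.2 ⟨t, ht⟩, Or.inr (Or.inr (Or.inl ⟨k, hk, rfl⟩))⟩
  · have e := T.cover (fun x => if x = g then (1 : ℂ) else 0)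
    simp only [Finset.sum_ite_eq', Finset.mem_filter, Finset.mem_univ, true_and, hf, if_true] at e
    by_cases hp : g ∈ conjSet Kp
    · obtain ⟨-, t, ht⟩ := mem_conjSet.1 hp
      refine ⟨t⁻¹ * g * t, isConj_iff.2 ⟨t⁻¹, by rw [inv_inv]⟩, Or.inr (Or.inr (Or.inr ⟨Or.inl ht, fun e' => hg ?_⟩))⟩
      have := congrArg (fun z => t * z * t⁻¹) e'
      simpa [mul_assoc] using this
    · by_cases hq : g ∈ conjSet Km
      · obtain ⟨-, t, ht⟩ := mem_conjSet.1 hq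
        refine ⟨t⁻¹ * g * t, isConj_iff.2 ⟨t⁻¹, by rw [inv_inv]⟩, Or.inr (Or.inr (Or.inr ⟨Or.inr ht, fun e' => hg ?_⟩))⟩
        have := congrArg (fun z => t * z * t⁻¹) e'
        simpa [mul_assoc] using this
      · exfalso
        simp [hp, hq] at e

omit T in
/-- Every non-identity element is a product of two conjugates of an element of order above two. -/
theorem covering {x g : Cfsg.Sz F m} (hx : 2 < orderOf x) (hg : g ≠ 1) :
    ∃ u v : Cfsg.Sz F m, g = u * x * u⁻¹ * (v * x * v⁻¹) := by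
  obtain ⟨Kp, Km, T⟩ := exists_tori' h
  obtain ⟨x', hxc, hx'⟩ := exists_rep h T (g := x) (fun e => by rw [e, orderOf_one] at hx; omega)
  obtain ⟨g', hgc, hg'⟩ := exists_rep h T hg
  obtain ⟨a, ha⟩ := isConj_iff.1 hxc
  obtain ⟨c, hc⟩ := isConj_iff.1 hgc
  have hxz : x' ≠ zEl h := by
    intro e
    have h2 : orderOf x' = orderOf x := by
      rw [← ha]
      exact orderOf_injective (MulAut.conj a).toMonoidHom (MulAut.conj a).injective x
    have h3 : orderOf x' ≤ 2 := by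
      rw [e]
      exact orderOf_le_of_pow_eq_one two_pos (by rw [sq]; exact zEl_sq h)
    omega
  have hpos : 0 < (∑ χ : IrrCharacter (Cfsg.Sz F m), (χ : Cfsg.Sz F m → ℂ) x' ^ 2 *
      conj ((χ : Cfsg.Sz F m → ℂ) g') / (χ : Cfsg.Sz F m → ℂ) 1).re := by
    rcases hx' with e | hy | hh | ⟨hk, hk1⟩
    · exact absurd e hxz
    · rcases hg' with e | hy' | hh | hk'
      · exact y_case h T hy (Or.inl e)
      · exact y_case h T hy (Or.inr (Or.inl hy'))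
      · exact split_case h T (Or.inr (Or.inl hy)) (Or.inr (Or.inr (Or.inl hh))) (Or.inr hh)
      · exact y_case h T hy (Or.inr (Or.inr hk'))
    · exact split_case h T (Or.inr (Or.inr (Or.inl hh))) hg' (Or.inl hh)
    · rcases hg' with e | hy' | hh | hk'
      · exact torus_case h T hk hk1 (Or.inl e)
      · exact torus_case h T hk hk1 (Or.inr (Or.inl hy'))
      · exact split_case h T (Or.inr (Or.inr (Or.inr ⟨hk, hk1⟩))) (Or.inr (Or.inr (Or.inl hh))) (Or.inr hh)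
      · exact torus_case h T hk hk1 (Or.inr (Or.inr hk'))
  obtain ⟨u, v, huv⟩ := exists_product_of_sum_ne_zero x' g' (fun e => by rw [e] at hpos; simp at hpos)
  refine ⟨c⁻¹ * u * a, c⁻¹ * v * a, ?_⟩
  have e : g = c⁻¹ * g' * c := by rw [← hc]; group
  rw [e, huv, ← ha]
  group

end cases

end Cfsg.Agent.Chars.SzD
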