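import Cfsg.Agent.Chars.SzClasses
import Cfsg.Agent.Chars2.ClassSum
import Cfsg.Agent.Blocks.Orth
import Mathlib.Algebra.BigOperators.Group.Finset.Basic

/-!
Degrees of the irreducible characters of the Suzuki groups: divisibility by pairs of primes.
-/

set_option autoImplicit false
set_option linter.style.haveILetI false
set_option linter.unusedSectionVars false

namespace Cfsg.Agent.Chars.SzD

open Cfsg Cfsg.Agent Cfsg.Agent.Suzuki Cfsg.Agent.Chars.SzTorus
open scoped ComplexConjugate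

variable {F : Type*} [Field F] {m : ℕ} (h : Ctx F m)
include h

omit h in
/-- The point stabiliser. -/
abbrev bGrp (F : Type*) [Field F] (m : ℕ) : Subgroup (Cfsg.Sz F m) :=
  MulAction.stabilizer (Cfsg.Sz F m) (inf' F m)

theorem stabEquiv_apply (p : (F × F) × Fˣ) :
    ((stabEquiv h p : bGrp F m) : Cfsg.Sz F m) = uEl h p.1.1 p.1.2 * hEl h p.2 := rfl

/-- The torus coordinate of an element of the point stabiliser. -/
noncomputable def kHom : bGrp F m →* Fˣ :=
  MonoidHom.mk' (fun x => ((stabEquiv h).symm x).2) fun x y => by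
    obtain ⟨⟨⟨a, b⟩, k⟩, rfl⟩ := (stabEquiv h).surjective x
    obtain ⟨⟨⟨c, d⟩, l⟩, rfl⟩ := (stabEquiv h).surjective y
    have : stabEquiv h ((a, b), k) * stabEquiv h ((c, d), l) = stabEquiv h
        ((a + (k : F) * c, b + (k : F) * th m (k : F) * d + th m a * ((k : F) * c)), k * l) :=
      Subtype.ext (uhEl_mul h a b c d k l)
    rw [this]
    simp only [Equiv.symm_apply_apply]

theorem kHom_equiv (p : (F × F) × Fˣ) : kHom h (stabEquiv h p) = p.2 := by
  simp [kHom]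

theorem kHom_uEl (a b : F) (hmem : uEl h a b ∈ bGrp F m) : kHom h ⟨uEl h a b, hmem⟩ = 1 := by
  have : (⟨uEl h a b, hmem⟩ : bGrp F m) = stabEquiv h ((a, b), 1) :=
    Subtype.ext (by rw [stabEquiv_apply, hEl_one, mul_one])
  rw [this, kHom_equiv]

theorem kHom_hEl (k : Fˣ) (hmem : hEl h k ∈ bGrp F m) : kHom h ⟨hEl h k, hmem⟩ = k := by
  have : (⟨hEl h k, hmem⟩ : bGrp F m) = stabEquiv h ((0, 0), k) :=
    Subtype.ext (by rw [stabEquiv_apply, uEl_zero, one_mul])
  rw [this, kHom_equiv]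

theorem mu_one (μ : IrrCharacter Fˣ) : (μ : Fˣ → ℂ) 1 = 1 := by
  have := h.finite
  exact irr_apply_one_of_comm mul_comm μ.2

theorem mu_mul (μ : IrrCharacter Fˣ) (a b : Fˣ) :
    (μ : Fˣ → ℂ) (a * b) = (μ : Fˣ → ℂ) a * (μ : Fˣ → ℂ) b := by
  obtain ⟨l, hl⟩ := exists_hom_of_degree_one (irr_isCharacter μ) (mu_one h μ)
  simp [hl]

section gfin

variable [Fintype (Cfsg.Sz F m)]

/-- The principal series. -/
noncomputable def ps (μ : IrrCharacter Fˣ) : Cfsg.Sz F m → ℂ :=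
  indFun (bGrp F m) (fun b => (μ : Fˣ → ℂ) (kHom h b))

theorem ps_isCharacter (μ : IrrCharacter Fˣ) : IsCharacter (Cfsg.Sz F m) (ps h μ) :=
  isCharacter_indFun _ (isCharacter_comp (irr_isCharacter μ) (kHom h))

theorem index_bGrp : ((bGrp F m).index : ℂ) = (qq m : ℂ) ^ 2 + 1 := by
  have := pretransitive h
  rw [MulAction.index_stabilizer_of_transitive, card_ovoid' h]
  push_cast
  rfl

theorem ps_one (μ : IrrCharacter Fˣ) : ps h μ 1 = (qq m : ℂ) ^ 2 + 1 := by
  rw [ps, indFun_apply_one, map_one, mu_one h, mul_one, index_bGrp h]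

theorem ps_fpf (μ : IrrCharacter Fˣ) {g : Cfsg.Sz F m} (hg : Fpf g) : ps h μ g = 0 := by
  rw [ps, indFun_apply, Finset.sum_eq_zero, mul_zero]
  intro x _
  refine extendByZero_of_not_mem _ _ fun hm => hg (x • inf' F m) ?_
  rw [MulAction.mem_stabilizer_iff, mul_smul, mul_smul, inv_smul_eq_iff] at hm
  exact hm

theorem ps_uEl (μ : IrrCharacter Fˣ) {a b : F} (hab : ¬(a = 0 ∧ b = 0)) :
    ps h μ (uEl h a b) = 1 := by
  classical
  rw [ps, indFun_apply, ← Finset.sum_filter_add_sum_filter_not Finset.univ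
    (fun x : Cfsg.Sz F m => x ∈ bGrp F m),
    Finset.sum_congr rfl (g := fun _ => (1 : ℂ)) fun x hx => ?_,
    Finset.sum_eq_zero (s := Finset.univ.filter fun x : Cfsg.Sz F m => ¬ x ∈ bGrp F m) fun x hx => ?_,
    add_zero, Finset.sum_const, nsmul_eq_mul, mul_one]
  · rw [Nat.card_eq_fintype_card, Fintype.card_subtype]
    refine inv_mul_cancel₀ (Nat.cast_ne_zero.2 (Finset.card_pos.2 ⟨1, ?_⟩).ne')
    simp
  · refine extendByZero_of_not_mem _ _ fun hm => (Finset.mem_filter.1 hx).2 ?_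
    rw [MulAction.mem_stabilizer_iff, mul_smul, mul_smul, inv_smul_eq_iff] at hm
    exact uEl_fix h hab hm
  · have hxm : x ∈ bGrp F m := (Finset.mem_filter.1 hx).2
    have humem : uEl h a b ∈ bGrp F m := uEl_smul_inf h a b
    have e : x⁻¹ * uEl h a b * x =
        (((⟨x, hxm⟩ : bGrp F m)⁻¹ * ⟨uEl h a b, humem⟩ * ⟨x, hxm⟩ : bGrp F m) : Cfsg.Sz F m) := rfl
    rw [e, extendByZero_coe, map_mul, map_mul, map_inv, kHom_uEl, mul_one, inv_mul_cancel, mu_one h]

theorem ps_hEl (μ : IrrCharacter Fˣ) {k : Fˣ} (hk : k ≠ 1) :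
    ps h μ (hEl h k) = (μ : Fˣ → ℂ) k + (μ : Fˣ → ℂ) k⁻¹ := by
  classical
  have hkm : hEl h k ∈ bGrp F m := hEl_smul_inf h k
  have hne : inf' F m ≠ pt m (0 : F) 0 := inf_pt_zero_ne h
  let s : Finset (Cfsg.Sz F m) := Finset.univ.filter fun x => x • inf' F m = inf' F m
  let t : Finset (Cfsg.Sz F m) := Finset.univ.filter fun x => x • inf' F m = pt m 0 0
  have hst : Disjoint s t := Finset.disjoint_filter.2 fun x _ e1 e2 => hne (e1.symm.trans e2)
  have hs : s.card = Nat.card (bGrp F m) := by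
    rw [Nat.card_eq_fintype_card, Fintype.card_subtype]
    rfl
  have ht : t.card = Nat.card (bGrp F m) := by
    rw [← hs]
    refine Finset.card_nbij' (fun x => wEl h * x) (fun x => wEl h * x) ?_ ?_ ?_ ?_
    · intro x hx
      simp only [t, Finset.coe_filter, Finset.mem_univ, true_and, Set.mem_ofPred_eq] at hx
      simp only [s, Finset.coe_filter, Finset.mem_univ, true_and, Set.mem_ofPred_eq]
      rw [mul_smul, hx, wEl_smul_zero]
    · intro x hx
      simp only [s, Finset.coe_filter, Finset.mem_univ, true_and, Set.mem_ofPred_eq] at hx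
      simp only [t, Finset.coe_filter, Finset.mem_univ, true_and, Set.mem_ofPred_eq]
      rw [mul_smul, hx, wEl_smul_inf]
    · intro x _
      show wEl h * (wEl h * x) = x
      rw [← mul_assoc, wEl_sq, one_mul]
    · intro x _
      show wEl h * (wEl h * x) = x
      rw [← mul_assoc, wEl_sq, one_mul]
  rw [ps, indFun_apply, ← Finset.sum_subset (Finset.subset_univ (s ∪ t)) fun x _ hx => ?_,
    Finset.sum_union hst,
    Finset.sum_congr rfl (g := fun _ => (μ : Fˣ → ℂ) k) (s₁ := s) fun x hx => ?_,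
    Finset.sum_congr rfl (g := fun _ => (μ : Fˣ → ℂ) k⁻¹) (s₁ := t) fun x hx => ?_,
    Finset.sum_const, Finset.sum_const, hs, ht, nsmul_eq_mul, nsmul_eq_mul]
  · rw [← mul_add, ← mul_assoc, inv_mul_cancel₀ (subgroup_card_ne_zero (bGrp F m)), one_mul]
  · simp only [t, Finset.mem_filter, Finset.mem_univ, true_and] at hx
    have hb : wEl h * x ∈ bGrp F m := by
      rw [MulAction.mem_stabilizer_iff, mul_smul, hx, wEl_smul_zero]
    have hkm' : hEl h k⁻¹ ∈ bGrp F m := hEl_smul_inf h k⁻¹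
    have e : x⁻¹ * hEl h k * x = (((⟨_, hb⟩ : bGrp F m)⁻¹ * ⟨hEl h k⁻¹, hkm'⟩ * ⟨_, hb⟩ : bGrp F m) :
        Cfsg.Sz F m) := by
      show _ = (wEl h * x)⁻¹ * hEl h k⁻¹ * (wEl h * x)
      rw [← hEl_inv, ← wEl_conj]
      have hw : (wEl h)⁻¹ = wEl h := inv_eq_of_mul_eq_one_right (wEl_sq h)
      calc x⁻¹ * hEl h k * x = x⁻¹ * ((wEl h * wEl h) * hEl h k * (wEl h * wEl h)) * x := by
            rw [wEl_sq, one_mul, mul_one]
        _ = (wEl h * x)⁻¹ * (wEl h * hEl h k * wEl h) * (wEl h * x) := by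
            rw [mul_inv_rev, hw]; group
    rw [e, extendByZero_coe, map_mul, map_mul, map_inv, kHom_hEl, mul_comm (_⁻¹ : Fˣ),
      inv_mul_cancel_right]
  · simp only [s, Finset.mem_filter, Finset.mem_univ, true_and] at hx
    have e : x⁻¹ * hEl h k * x = (((⟨x, hx⟩ : bGrp F m)⁻¹ * ⟨hEl h k, hkm⟩ * ⟨x, hx⟩ : bGrp F m) :
        Cfsg.Sz F m) := rfl
    rw [e, extendByZero_coe, map_mul, map_mul, map_inv, kHom_hEl, mul_comm (_⁻¹ : Fˣ),
      inv_mul_cancel_right]
  · refine extendByZero_of_not_mem _ _ fun hm => ?_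
    rw [MulAction.mem_stabilizer_iff, mul_smul, mul_smul, inv_smul_eq_iff] at hm
    simp only [s, t, Finset.mem_union, Finset.mem_filter, Finset.mem_univ, true_and, not_or] at hx
    exact hk (hEl_inj h ((three_fixed h hne (Ne.symm hx.2) (Ne.symm hx.1) (hEl_smul_inf h k)
      (hEl_smul_zero h k) hm).trans (hEl_one h).symm))

variable [Fintype F] [Fintype Fˣ]

theorem qq_cast_card : (Fintype.card F : ℂ) = (qq m : ℂ) := by
  rw [← Nat.card_eq_fintype_card, h.card]

theorem card_units_cast : (Nat.card Fˣ : ℂ) = (qq m : ℂ) - 1 := by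
  rw [Nat.card_units, h.card, Nat.cast_sub Nat.one_le_two_pow]
  simp [qq]

open scoped Classical in
theorem classInner_ps (μ ν : IrrCharacter Fˣ) :
    classInner (ps h μ) (ps h ν) = (if (μ : Fˣ → ℂ) = (ν : Fˣ → ℂ) then 1 else 0) +
      (if (μ : Fˣ → ℂ) = (fun k => conj ((ν : Fˣ → ℂ) k)) then 1 else 0) := by
  let := Fintype.ofFinite (bGrp F m)
  rw [show classInner (ps h μ) (ps h ν) = classInner (fun b : bGrp F m => (μ : Fˣ → ℂ) (kHom h b))
    (fun b : bGrp F m => ps h ν b) from classInner_indFun _ _ (isClassFunction_indFun _ _)]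
  rw [classInner_def, ← Equiv.sum_comp (stabEquiv h), Fintype.sum_prod_type_right]
  show (Nat.card (bGrp F m) : ℂ)⁻¹ * ∑ k : Fˣ, ∑ p : F × F,
    (μ : Fˣ → ℂ) (kHom h (stabEquiv h (p, k))) * conj (ps h ν (uEl h p.1 p.2 * hEl h k)) = _
  simp only [kHom_equiv, ← Finset.mul_sum]
  have hinner : ∀ k : Fˣ, ∑ p : F × F, conj (ps h ν (uEl h p.1 p.2 * hEl h k)) =
      (qq m : ℂ) ^ 2 * conj ((ν : Fˣ → ℂ) k + (ν : Fˣ → ℂ) k⁻¹) := by
    intro k
    by_cases hk : k = 1
    · subst hk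
      simp only [hEl_one, mul_one, inv_one, mu_one h]
      rw [← Finset.add_sum_erase _ _ (Finset.mem_univ ((0, 0) : F × F)),
        Finset.sum_congr rfl (g := fun _ => (1 : ℂ)) fun p hp => ?_, Finset.sum_const,
        Finset.card_erase_of_mem (Finset.mem_univ _), Finset.card_univ, Fintype.card_prod,
        uEl_zero, ps_one h, nsmul_eq_mul,
        Nat.cast_sub (Nat.one_le_iff_ne_zero.2 (Nat.mul_ne_zero Fintype.card_ne_zero Fintype.card_ne_zero))]
      · simp only [map_add, map_one, map_pow, map_natCast, qq_cast_card h]; push_cast [qq_cast_card h]; ring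
      · rw [ps_uEl h ν fun e => Finset.ne_of_mem_erase hp (Prod.ext e.1 e.2), map_one]
    · rw [Finset.sum_congr rfl (g := fun _ => conj ((ν : Fˣ → ℂ) k + (ν : Fˣ → ℂ) k⁻¹)) fun p _ => ?_,
        Finset.sum_const, Finset.card_univ, Fintype.card_prod, nsmul_eq_mul, Nat.cast_mul,
        qq_cast_card h, sq]
      obtain ⟨t, ht⟩ := uh_conj h p.1 p.2 hk
      rw [← isClassFunction_of_isCharacter (ps_isCharacter h ν) _ t, ht, ps_hEl h ν hk]
  have hB : (Nat.card (bGrp F m) : ℂ) = (qq m : ℂ) ^ 2 * (Nat.card Fˣ : ℂ) := by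
    rw [card_stab h, Nat.card_units, h.card, Nat.cast_mul, Nat.cast_pow]
  rw [Finset.sum_congr rfl fun k _ => by rw [hinner k]]
  have hq0 : (qq m : ℂ) ≠ 0 := Nat.cast_ne_zero.2 (by positivity)
  have e1 := classInner_irrCharacter μ ν
  have e2 := classInner_irr μ.2 (isIrrCharacter_star ν.2)
  simp only [classInner_def, Complex.conj_conj] at e1 e2
  simp only [Subtype.ext_iff] at e1
  rw [← e1, ← e2, ← mul_add, ← Finset.sum_add_distrib, hB, Finset.mul_sum, Finset.mul_sum]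
  refine Finset.sum_congr rfl fun k _ => ?_
  rw [map_add, char_inv_eq_conj (irr_isCharacter ν), Complex.conj_conj]
  field_simp [card_ne_zero (G := Fˣ)]

omit h [Fintype (Cfsg.Sz F m)] [Fintype F] [Fintype Fˣ] in
/-- The trivial character of the multiplicative group. -/
noncomputable def one' (F : Type*) [Field F] : IrrCharacter Fˣ := ⟨fun _ => 1, isIrrCharacter_one⟩

theorem eq_one_of_real (μ : IrrCharacter Fˣ)
    (hμ : (μ : Fˣ → ℂ) = fun k => conj ((μ : Fˣ → ℂ) k)) : μ = one' F := by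
  refine Subtype.ext (funext fun k => ?_)
  have hinj : Function.Injective (fun x : Fˣ => x * x) := fun x y e => by
    refine Units.ext (h.sq_injective ?_)
    have := congrArg Units.val e
    simpa [sq] using this
  obtain ⟨l, rfl⟩ := Finite.injective_iff_surjective.1 hinj k
  show (μ : Fˣ → ℂ) (l * l) = 1
  rw [mu_mul h]
  nth_rewrite 2 [congrFun hμ l]
  rw [← char_inv_eq_conj (irr_isCharacter μ), ← mu_mul h, mul_inv_cancel, mu_one h]

theorem ps_irr (μ : IrrCharacter Fˣ) (hμ : μ ≠ one' F) :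
    IsIrrCharacter (Cfsg.Sz F m) (ps h μ) := by
  classical
  refine isIrrCharacter_of_norm_one (ps_isCharacter h μ) ?_
  rw [classInner_ps h, if_pos rfl, if_neg fun e => hμ (eq_one_of_real h μ e), add_zero]

theorem exists_ne_one' : ∃ μ : IrrCharacter Fˣ, μ ≠ one' F := by
  by_contra hc
  push Not at hc
  have h1 := sum_sq_apply_one (G := Fˣ)
  rw [Finset.sum_eq_single (one' F) (fun μ _ hne => absurd (hc μ) hne)
    (fun hne => absurd (Finset.mem_univ _) hne), mu_one h, one_pow, card_units_cast h] at h1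
  have h8 := (arith h.one_le).2.2.2.2.2.1
  have : (qq m : ℂ) = ((2 : ℕ) : ℂ) := by
    simp only [qq] at h1 ⊢; push_cast at h1 ⊢; linear_combination -h1
  have := Nat.cast_injective this
  omega

theorem classInner_ps_one :
    classInner (ps h (one' F)) (fun _ => (1 : ℂ)) = 1 := by
  let := Fintype.ofFinite (bGrp F m)
  rw [ps, classInner_indFun _ _ (fun _ _ => rfl), classInner_def]
  simp only [one', map_one, mul_one, Finset.sum_const, Finset.card_univ, nsmul_eq_mul,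
    ← Nat.card_eq_fintype_card]
  exact inv_mul_cancel₀ (subgroup_card_ne_zero _)

/-- The function of degree `q²`. -/
noncomputable def stFun : Cfsg.Sz F m → ℂ := ps h (one' F) - fun _ => 1

theorem stFun_irr : IsIrrCharacter (Cfsg.Sz F m) (stFun h) := by
  classical
  have hcf : IsClassFunction (Cfsg.Sz F m) (stFun h) :=
    isClassFunction_sub (isClassFunction_of_isCharacter (ps_isCharacter h _)) fun _ _ => rfl
  refine isIrrCharacter_of_norm_one (isCharacter_of_classInner_nat hcf fun χ hχ => ?_) ?_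
  · rw [stFun, classInner_sub_left, classInner_irr isIrrCharacter_one hχ]
    split_ifs with e
    · exact ⟨0, by rw [← e, classInner_ps_one h]; simp⟩
    · obtain ⟨n, hn⟩ := exists_classInner_eq_nat (ps_isCharacter h (one' F)) (isCharacter_of_isIrr hχ)
      exact ⟨n, by rw [hn, sub_zero]⟩
  · rw [stFun, classInner_sub_left, classInner_sub_right, classInner_sub_right,
      classInner_ps_one h, classInner_self_irr isIrrCharacter_one,
      ← classInner_conj_symm (ps h (one' F)) (fun _ => (1 : ℂ)), classInner_ps_one h, classInner_ps h,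
      if_pos rfl, if_pos (show (one' F : Fˣ → ℂ) = fun k => conj ((one' F : Fˣ → ℂ) k) from
        funext fun k => (map_one _).symm), map_one]
    norm_num

/-- The character of degree `q²`. -/
noncomputable def st : IrrCharacter (Cfsg.Sz F m) := ⟨stFun h, stFun_irr h⟩

omit h [Fintype (Cfsg.Sz F m)] [Fintype F] [Fintype Fˣ] in
/-- The trivial character. -/
noncomputable def oneG (F : Type*) [Field F] (m : ℕ) : IrrCharacter (Cfsg.Sz F m) :=
  ⟨fun _ => 1, isIrrCharacter_one⟩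

theorem st_one : (st h : Cfsg.Sz F m → ℂ) 1 = (qq m : ℂ) ^ 2 := by
  simp [st, stFun, ps_one h]

theorem st_uEl {a b : F} (hab : ¬(a = 0 ∧ b = 0)) :
    (st h : Cfsg.Sz F m → ℂ) (uEl h a b) = 0 := by
  simp [st, stFun, ps_uEl h _ hab]

theorem st_fpf {g : Cfsg.Sz F m} (hg : Fpf g) : (st h : Cfsg.Sz F m → ℂ) g = -1 := by
  simp [st, stFun, ps_fpf h _ hg]

/-- No fixed vector for the unipotent subgroup. -/
def Other (χ : Cfsg.Sz F m → ℂ) : Prop := ∑ p : F × F, χ (uEl h p.1 p.2) = 0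

theorem not_other_oneG : ¬ Other h (oneG F m : Cfsg.Sz F m → ℂ) := by
  simp only [Other, oneG, Finset.sum_const, Finset.card_univ, nsmul_eq_mul, mul_one]
  exact Nat.cast_ne_zero.2 Fintype.card_ne_zero

theorem not_other_st : ¬ Other h (st h : Cfsg.Sz F m → ℂ) := by
  classical
  unfold Other
  rw [Finset.sum_eq_single ((0, 0) : F × F), uEl_zero, st_one h]
  · have : 0 < qq m := Nat.two_pow_pos _
    exact pow_ne_zero 2 (Nat.cast_ne_zero.2 this.ne')
  · intro p _ hp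
    exact st_uEl h fun e => hp (Prod.ext e.1 e.2)
  · intro hn
    exact absurd (Finset.mem_univ _) hn

theorem st_ne_oneG : st h ≠ oneG F m := by
  intro e
  have h1 := st_one h
  rw [e] at h1
  simp only [oneG] at h1
  have h8 := (arith h.one_le).2.2.2.2.2.1
  have h2 : 1 = qq m ^ 2 := by exact_mod_cast (show ((1 : ℕ) : ℂ) = ((qq m ^ 2 : ℕ) : ℂ) by
    push_cast; simpa [qq] using h1)
  nlinarith

theorem constituent_one (χ : IrrCharacter (Cfsg.Sz F m))
    (hne : classInner (ps h (one' F)) (χ : Cfsg.Sz F m → ℂ) ≠ 0) :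
    χ = oneG F m ∨ χ = st h := by
  classical
  by_contra hc
  push Not at hc
  apply hne
  have e : ps h (one' F) = (st h : Cfsg.Sz F m → ℂ) + (oneG F m : Cfsg.Sz F m → ℂ) := by
    funext g; simp [st, stFun, oneG]
  rw [e, classInner_add_left, classInner_irrCharacter, classInner_irrCharacter, if_neg hc.2.symm,
    if_neg hc.1.symm, add_zero]

/-- The characters with a fixed vector for the unipotent subgroup. -/
theorem not_other_cases (χ : IrrCharacter (Cfsg.Sz F m))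
    (hχ : ¬ Other h (χ : Cfsg.Sz F m → ℂ)) :
    χ = oneG F m ∨ χ = st h ∨ ∃ μ : IrrCharacter Fˣ, μ ≠ one' F ∧
      (χ : Cfsg.Sz F m → ℂ) = ps h μ := by
  classical
  let := Fintype.ofFinite (bGrp F m)
  obtain ⟨μ, hμ⟩ : ∃ μ : IrrCharacter Fˣ, classInner (ps h μ) (χ : Cfsg.Sz F m → ℂ) ≠ 0 := by
    by_contra hc
    push Not at hc
    apply hχ
    have h0 : ∑ μ : IrrCharacter Fˣ, classInner (ps h μ) (χ : Cfsg.Sz F m → ℂ) = 0 :=
      Finset.sum_eq_zero fun μ _ => hc μ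
    simp only [ps, classInner_indFun _ _ (isClassFunction_irr χ), classInner_def] at h0
    rw [← Finset.mul_sum, mul_eq_zero, or_iff_right (inv_ne_zero (subgroup_card_ne_zero _)),
      Finset.sum_comm] at h0
    simp only [← Finset.sum_mul] at h0
    have hd : ∀ k : Fˣ, ∑ μ : IrrCharacter Fˣ, (μ : Fˣ → ℂ) k =
        if k = 1 then (Nat.card Fˣ : ℂ) else 0 := fun k => by
      have := sum_apply_one_mul k
      simp only [mu_one h, one_mul] at this
      convert this using 2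
    simp only [hd] at h0
    rw [← Equiv.sum_comp (stabEquiv h), Fintype.sum_prod_type] at h0
    simp only [kHom_equiv, stabEquiv_apply, ite_mul, zero_mul, Finset.sum_ite_eq', Finset.mem_univ,
      if_true, hEl_one, mul_one] at h0
    rw [← Finset.mul_sum, mul_eq_zero, or_iff_right card_ne_zero, ← map_sum,
      map_eq_zero] at h0
    exact h0
  by_cases h1 : μ = one' F
  · subst h1
    rcases constituent_one h χ hμ with e | e
    · exact Or.inl e
    · exact Or.inr (Or.inl e)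
  · refine Or.inr (Or.inr ⟨μ, h1, ?_⟩)
    by_contra hne
    exact hμ (classInner_irr_of_ne (ps_irr h μ h1) χ.2 (Ne.symm hne))

theorem real_at_yEl_of_not_other (χ : IrrCharacter (Cfsg.Sz F m))
    (hχ : ¬ Other h (χ : Cfsg.Sz F m → ℂ)) :
    conj ((χ : Cfsg.Sz F m → ℂ) (yEl h)) = (χ : Cfsg.Sz F m → ℂ) (yEl h) := by
  have hab : ¬((1 : F) = 0 ∧ (0 : F) = 0) := fun e => one_ne_zero e.1
  rcases not_other_cases h χ hχ with rfl | rfl | ⟨μ, -, e⟩
  · simp [oneG]
  · rw [yEl, st_uEl h hab, map_zero]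
  · rw [e, yEl, ps_uEl h μ hab, map_one]

theorem fpf_zero_of_not_other (χ : IrrCharacter (Cfsg.Sz F m))
    (hχ : ¬ Other h (χ : Cfsg.Sz F m → ℂ)) (h1 : χ ≠ oneG F m) (h2 : χ ≠ st h)
    {g : Cfsg.Sz F m} (hg : Fpf g) : (χ : Cfsg.Sz F m → ℂ) g = 0 := by
  rcases not_other_cases h χ hχ with e | e | ⟨μ, -, e⟩
  · exact absurd e h1
  · exact absurd e h2
  · rw [e, ps_fpf h μ hg]

/-- Half traces of eigenvalues of an element of order dividing four. -/
theorem eigen_data {χ : Cfsg.Sz F m → ℂ} (hχ : IsCharacter (Cfsg.Sz F m) χ) :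
    ∃ (n : ℕ) (e : Fin n → ℤ), χ 1 = n ∧
      χ (yEl h) + conj (χ (yEl h)) = 2 * ((∑ i, e i : ℤ) : ℂ) ∧
      χ (zEl h) = ((∑ i, (2 * e i * e i - 1) : ℤ) : ℂ) := by
  obtain ⟨N, ρ, rfl⟩ := hχ
  obtain ⟨z, hz, hp, -, -⟩ := exists_eigenvalues ρ (yEl h)
  have hord : orderOf (yEl h) ∣ 4 := orderOf_dvd_of_pow_eq_one (uEl_pow_four h 1 0)
  have key : ∀ i, ∃ e : ℤ, z i + conj (z i) = 2 * (e : ℂ) ∧ z i ^ 2 = ((2 * e * e - 1 : ℤ) : ℂ) := by
    intro i
    obtain ⟨c, hc⟩ := hord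
    have h4 : z i ^ 4 = 1 := by rw [hc, pow_mul, hz, one_pow]
    have h5 : (z i - 1) * ((z i + 1) * ((z i - Complex.I) * (z i + Complex.I))) = 0 := by
      linear_combination h4 - (z i ^ 2 - 1) * Complex.I_sq
    simp only [mul_eq_zero, sub_eq_zero, add_eq_zero_iff_eq_neg] at h5
    rcases h5 with e | e | e | e
    · exact ⟨1, by rw [e]; simp; norm_num, by rw [e]; norm_num⟩
    · exact ⟨-1, by rw [e]; simp; norm_num, by rw [e]; norm_num⟩
    · exact ⟨0, by rw [e]; simp, by rw [e]; simp⟩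
    · exact ⟨0, by rw [e]; simp, by rw [e]; simp⟩
  choose e he1 he2 using key
  refine ⟨_, e, ?_, ?_, ?_⟩
  · rw [Representation.char_one]
  · have h1 := hp 1
    simp only [pow_one] at h1
    rw [h1, map_sum, ← Finset.sum_add_distrib, Finset.sum_congr rfl fun i _ => he1 i,
      ← Finset.mul_sum]
    push_cast
    rfl
  · have h2 := hp 2
    rw [sq, yEl_sq] at h2
    rw [h2, Finset.sum_congr rfl fun i _ => he2 i]
    push_cast
    rfl

/-- The parameters of a character without fixed vector for the unipotent subgroup. -/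
theorem other_params (χ : IrrCharacter (Cfsg.Sz F m)) (hO : Other h (χ : Cfsg.Sz F m → ℂ)) :
    ∃ x b : ℕ, 0 < x ∧ (χ : Cfsg.Sz F m → ℂ) 1 = (((qq m - 1) * x : ℕ) : ℂ) ∧
      (χ : Cfsg.Sz F m → ℂ) (zEl h) = (qq m : ℂ) * b - x ∧
      (χ : Cfsg.Sz F m → ℂ) (yEl h) + conj ((χ : Cfsg.Sz F m → ℂ) (yEl h)) = -2 * (b : ℂ) ∧
      2 ∣ x + b := by
  classical
  let := Fintype.ofFinite (uGrp h)
  set f : Cfsg.Sz F m → ℂ := (χ : Cfsg.Sz F m → ℂ) with hfdef
  have hf : IsClassFunction (Cfsg.Sz F m) f := isClassFunction_irr χ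
  have hinv : f (yEl h)⁻¹ = conj (f (yEl h)) := char_inv_eq_conj (irr_isCharacter χ) _
  have h0 : f 1 + ((qq m : ℂ) - 1) * f (zEl h) +
      ((qq m : ℂ) - 1) * (qq m / 2) * (f (yEl h) + conj (f (yEl h))) = 0 := by
    rw [← hinv, ← sum_uGrp h hf, ← Equiv.sum_comp (uEquiv h) (fun u => f u)]
    exact hO
  -- a linear character of the unipotent subgroup
  obtain ⟨ψ, hψ⟩ : ∃ ψ : IrrCharacter (Multiplicative F), (ψ : Multiplicative F → ℂ) ≠ fun _ => 1 := by
    by_contra hc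
    push Not at hc
    have h1 := sum_sq_apply_one (G := Multiplicative F)
    rw [Finset.sum_eq_single (⟨fun _ => 1, isIrrCharacter_one⟩ : IrrCharacter (Multiplicative F))
      (fun μ _ hne => absurd (Subtype.ext (hc μ)) hne)
      (fun hne => absurd (Finset.mem_univ _) hne), one_pow] at h1
    rw [Nat.card_congr (Multiplicative.toAdd), h.card] at h1
    have h8 := (arith h.one_le).2.2.2.2.2.1
    have : (1 : ℕ) = 2 ^ (2 * m + 1) := by exact_mod_cast h1
    simp only [qq] at h8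
    omega
  let proj : uGrp h →* Multiplicative F :=
    MonoidHom.mk' (fun u => Multiplicative.ofAdd ((uEquiv h).symm u).1) fun u v => by
      obtain ⟨⟨a, b⟩, rfl⟩ := (uEquiv h).surjective u
      obtain ⟨⟨c, d⟩, rfl⟩ := (uEquiv h).surjective v
      have : uEquiv h (a, b) * uEquiv h (c, d) = uEquiv h (a + c, b + d + th m a * c) :=
        Subtype.ext (uEl_mul h a b c d)
      rw [this]
      simp only [Equiv.symm_apply_apply, ofAdd_add]
  obtain ⟨b, hb⟩ := exists_classInner_eq_nat (isCharacter_restrict (irr_isCharacter χ) (uGrp h))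
    (isCharacter_comp (irr_isCharacter ψ) proj)
  have hψ1 : (ψ : Multiplicative F → ℂ) 1 = 1 := irr_apply_one_of_comm mul_comm ψ.2
  have hψ0 : ∑ c ∈ Finset.univ.erase (0 : F), conj ((ψ : Multiplicative F → ℂ) (Multiplicative.ofAdd c)) = -1 := by
    have h1 := classInner_irr_of_ne isIrrCharacter_one ψ.2 (Ne.symm hψ)
    simp only [classInner_def, one_mul, mul_eq_zero, inv_eq_zero, card_ne_zero, false_or] at h1
    rw [← Equiv.sum_comp Multiplicative.ofAdd] at h1
    rw [← Finset.add_sum_erase _ _ (Finset.mem_univ (0 : F)), ofAdd_zero, hψ1, map_one] at h1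
    linear_combination h1
  rw [classInner_def, card_uGrp, inv_mul_eq_iff_eq_mul₀ (Nat.cast_ne_zero.2 (by positivity)),
    ← Equiv.sum_comp (uEquiv h), Fintype.sum_prod_type] at hb
  have hproj : ∀ p : F × F, proj (uEquiv h p) = Multiplicative.ofAdd p.1 := fun p => by simp [proj]
  beta_reduce at hb
  simp only [Function.comp_apply, hproj, ← hfdef] at hb
  simp only [← Finset.sum_mul] at hb
  rw [← Finset.add_sum_erase _ _ (Finset.mem_univ (0 : F)), ofAdd_zero, hψ1, map_one, mul_one,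
    Finset.sum_congr rfl (g := fun c => ((qq m / 2 : ℕ) : ℂ) * (f (yEl h) + f (yEl h)⁻¹) *
      conj ((ψ : Multiplicative F → ℂ) (Multiplicative.ofAdd c))) (fun c hc => congrArg (· * _) ?_),
    ← Finset.mul_sum, hψ0] at hb
  swap
  · exact sum_coset h hf (Finset.ne_of_mem_erase hc)
  have hz0 : ∑ d : F, f (uEquiv h (0, d) : Cfsg.Sz F m) = f 1 + ((qq m : ℂ) - 1) * f (zEl h) := by
    show ∑ d : F, f (uEl h 0 d) = _
    rw [← Finset.add_sum_erase _ _ (Finset.mem_univ (0 : F)), uEl_zero,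
      Finset.sum_congr rfl (g := fun _ => f (zEl h))
        (fun d hd => apply_center h hf (Finset.ne_of_mem_erase hd)), Finset.sum_const,
      Finset.card_erase_of_mem (Finset.mem_univ _), Finset.card_univ, nsmul_eq_mul,
      Nat.cast_sub Fintype.card_pos, qq_cast_card h, Nat.cast_one]
  rw [hz0, hinv, Nat.cast_div (show 2 ∣ qq m from dvd_pow_self 2 (by omega)) (by norm_num)] at hb
  push_cast at hb
  have hq0 : (qq m : ℂ) ≠ 0 := Nat.cast_ne_zero.2 (by positivity)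
  have hy : f (yEl h) + conj (f (yEl h)) = -2 * (b : ℂ) :=
    mul_left_cancel₀ (pow_ne_zero 2 hq0) (by
      simp only [qq] at hb h0 ⊢
      push_cast at hb h0 ⊢
      linear_combination (-2) * hb + 2 * h0)
  obtain ⟨N, e, hN, hye, hze⟩ := eigen_data h (χ := f) (irr_isCharacter χ)
  obtain ⟨Z, hZ⟩ : ∃ Z : ℤ, (∑ i, (2 * e i * e i - 1)) = Z := ⟨_, rfl⟩
  rw [hy] at h0 hye
  rw [hZ] at hze
  rw [hze, hN] at h0
  have hq2 : (2 : ℂ) ≠ 0 := two_ne_zero
  have hNI : (N : ℤ) = ((qq m : ℤ) - 1) * ((qq m : ℤ) * b - Z) := by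
    have : ((N : ℤ) : ℂ) = ((((qq m : ℤ) - 1) * ((qq m : ℤ) * b - Z) : ℤ) : ℂ) := by
      push_cast
      simp only [qq] at h0 ⊢
      push_cast at h0 ⊢
      linear_combination h0
    exact_mod_cast this
  have hNpos : 0 < N := by
    obtain ⟨n', hn', e'⟩ := exists_irr_apply_one_eq χ.2
    have : N = n' := by exact_mod_cast hN.symm.trans e'
    omega
  obtain ⟨-, -, -, -, h4, h8, -, -⟩ := arith h.one_le
  have hxpos : 0 < (qq m : ℤ) * b - Z := by
    by_contra hle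
    push Not at hle
    have h7 : (0 : ℤ) ≤ (qq m : ℤ) - 1 := by omega
    nlinarith
  obtain ⟨x, hx⟩ : ∃ x : ℕ, (qq m : ℤ) * b - Z = x :=
    ⟨((qq m : ℤ) * b - Z).toNat, (Int.toNat_of_nonneg hxpos.le).symm⟩
  refine ⟨x, b, by omega, ?_, ?_, hy, ?_⟩
  · rw [hN]
    have : (N : ℤ) = (((qq m - 1) * x : ℕ) : ℤ) := by
      rw [hNI, hx, Nat.cast_mul, Nat.cast_sub (by omega : 1 ≤ qq m), Nat.cast_one]
    exact_mod_cast this
  · rw [hze, show Z = (qq m : ℤ) * b - x by omega]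
    push_cast; rfl
  · -- parity
    have hse : (∑ i, e i) = -(b : ℤ) := by
      have : (((∑ i, e i : ℤ)) : ℂ) = ((-(b : ℤ) : ℤ) : ℂ) := by
        push_cast at hye ⊢
        linear_combination (-1 / 2 : ℂ) * hye
      exact_mod_cast this
    have h2s : 2 * (∑ i, e i * e i) = (N : ℤ) + Z := by
      rw [← hZ, Finset.sum_sub_distrib, Finset.sum_const, Finset.card_univ, Fintype.card_fin,
        nsmul_eq_mul, mul_one, Finset.mul_sum]
      simp only [mul_assoc]
      push_cast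
      ring
    have hev : (2 : ℤ) ∣ ∑ i, (e i * e i - e i) := Finset.dvd_sum fun i _ => by
      rcases Int.even_or_odd (e i) with ⟨k, hk⟩ | ⟨k, hk⟩
      · exact ⟨k * (2 * k - 1), by rw [hk]; ring⟩
      · exact ⟨k * (2 * k + 1), by rw [hk]; ring⟩
    rw [Finset.sum_sub_distrib, hse] at hev
    obtain ⟨j, hj⟩ := h4
    obtain ⟨k, hk⟩ := hev
    have hjz : (qq m : ℤ) = 4 * j := by exact_mod_cast hj
    rw [hNI, hx, show Z = (qq m : ℤ) * b - x by omega, hjz] at h2s
    have : (2 : ℤ) ∣ (x : ℤ) + b := ⟨(j : ℤ) * x + j * b + b - k, by nlinarith⟩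
    exact_mod_cast this

theorem other_sum_hEl [DecidableEq Fˣ] (χ : IrrCharacter (Cfsg.Sz F m))
    (hO : Other h (χ : Cfsg.Sz F m → ℂ)) :
    ∑ k ∈ Finset.univ.erase (1 : Fˣ), (χ : Cfsg.Sz F m → ℂ) (hEl h k) = 0 := by
  classical
  let := Fintype.ofFinite (bGrp F m)
  let := Fintype.ofFinite (uGrp h)
  have h1 : classInner (ps h (one' F)) (χ : Cfsg.Sz F m → ℂ) = 0 := by
    by_contra hne
    rcases constituent_one h χ hne with rfl | rfl
    · exact not_other_oneG h hO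
    · exact not_other_st h hO
  rw [ps, classInner_indFun _ _ (isClassFunction_irr χ), classInner_def, mul_eq_zero,
    or_iff_right (inv_ne_zero (subgroup_card_ne_zero _))] at h1
  simp only [one', one_mul] at h1
  rw [← map_sum, map_eq_zero, sum_stab h (isClassFunction_irr χ),
    ← Equiv.sum_comp (uEquiv h) (fun u => (χ : Cfsg.Sz F m → ℂ) u)] at h1
  rw [show ∑ p : F × F, (χ : Cfsg.Sz F m → ℂ) (uEquiv h p : Cfsg.Sz F m) = 0 from hO, zero_add,
    mul_eq_zero, or_iff_right (pow_ne_zero 2 (Nat.cast_ne_zero.2 (by positivity)))] at h1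
  exact h1

theorem other_torus_sum {Kp Km : Subgroup (Cfsg.Sz F m)} (hp : TorusHyp Kp (np m))
    (hm : TorusHyp Km (nm m))
    (hcover : ∀ [DecidablePred (fun g : Cfsg.Sz F m => Fpf g)] (f : Cfsg.Sz F m → ℂ),
      ∑ g ∈ Finset.univ.filter (fun g : Cfsg.Sz F m => Fpf g), f g =
        ∑ g ∈ conjSet Kp, f g + ∑ g ∈ conjSet Km, f g)
    (χ : IrrCharacter (Cfsg.Sz F m)) (hO : Other h (χ : Cfsg.Sz F m → ℂ)) {x : ℕ}
    (hx : (χ : Cfsg.Sz F m → ℂ) 1 = (((qq m - 1) * x : ℕ) : ℂ)) {Np Nm : ℤ}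
    (hNp : ∑ g ∈ nonOne Kp, (χ : Cfsg.Sz F m → ℂ) g = ((4 * Np : ℤ) : ℂ))
    (hNm : ∑ g ∈ nonOne Km, (χ : Cfsg.Sz F m → ℂ) g = ((4 * Nm : ℤ) : ℂ)) :
    (x : ℤ) = Np * (4 * (nm m : ℤ) + 1) + Nm * (4 * (np m : ℤ) + 1) := by
  classical
  let := Fintype.ofFinite (uGrp h)
  obtain ⟨-, -, hprod, -, -, h8, -, -⟩ := arith h.one_le
  set f : Cfsg.Sz F m → ℂ := (χ : Cfsg.Sz F m → ℂ) with hfdef
  have hf : IsClassFunction (Cfsg.Sz F m) f := isClassFunction_irr χ
  have e := two_mul_sum h hf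
  have hU : ∑ u : uGrp h, f u = 0 := by
    rw [← Equiv.sum_comp (uEquiv h) (fun u => f u)]; exact hO
  have hG0 : ∑ g, f g = 0 := by
    have hne : (χ : Cfsg.Sz F m → ℂ) ≠ fun _ => 1 := fun e => not_other_oneG h (by
      rw [show (oneG F m : Cfsg.Sz F m → ℂ) = fun _ => 1 from rfl, ← e]; exact hO)
    have := classInner_irr_of_ne χ.2 isIrrCharacter_one hne
    simp only [classInner_def, map_one, mul_one, mul_eq_zero, inv_eq_zero, card_ne_zero,
      false_or] at this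
    exact this
  rw [hU, hG0, other_sum_hEl h χ hO, hcover f] at e
  have hp' := hp.sum_conjSet hf
  have hm' := hm.sum_conjSet hf
  rw [hfdef] at hp' hm'
  rw [hNp] at hp'
  rw [hNm] at hm'
  rw [card_sz h] at hp' hm'
  rw [hx] at e
  have hne : ((qq m : ℂ) ^ 2 * ((qq m : ℂ) - 1)) * ((qq m : ℂ) ^ 2 + 1) ≠ 0 := by
    have h1 : (qq m : ℂ) ≠ 0 := Nat.cast_ne_zero.2 (by omega)
    have h2 : (qq m : ℂ) - 1 ≠ 0 := sub_ne_zero.2 fun e => by
      have : qq m = 1 := by exact_mod_cast e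
      omega
    have h3 : (qq m : ℂ) ^ 2 + 1 ≠ 0 := by
      exact_mod_cast (by positivity : (qq m ^ 2 + 1) ≠ 0)
    exact mul_ne_zero (mul_ne_zero (pow_ne_zero 2 h1) h2) h3
  have hprodC : (4 * (np m : ℂ) + 1) * (4 * (nm m : ℂ) + 1) = (qq m : ℂ) ^ 2 + 1 := by
    exact_mod_cast hprod
  have hG : ((qq m ^ 2 * (qq m ^ 2 + 1) * (qq m - 1) : ℕ) : ℂ) =
      (qq m : ℂ) ^ 2 * ((qq m : ℂ) ^ 2 + 1) * ((qq m : ℂ) - 1) := by
    rw [Nat.cast_mul, Nat.cast_mul, Nat.cast_sub (by omega : 1 ≤ qq m)]; push_cast; ring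
  rw [hG] at hp' hm'
  rw [Nat.cast_mul, Nat.cast_sub (by omega : 1 ≤ qq m)] at e
  simp only [Int.cast_mul, Int.cast_ofNat, Nat.cast_one] at e hp' hm'
  have : ((x : ℤ) : ℂ) =
      ((Np * (4 * (nm m : ℤ) + 1) + Nm * (4 * (np m : ℤ) + 1) : ℤ) : ℂ) := by
    apply mul_left_cancel₀ hne
    simp only [Int.cast_add, Int.cast_mul, Int.cast_natCast, Int.cast_ofNat, Int.cast_one]
    generalize (∑ g ∈ conjSet Kp, f g) = Sp at e hp'
    generalize (∑ g ∈ conjSet Km, f g) = Sm at e hm'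
    generalize (qq m : ℂ) = q at *
    generalize (4 * (nm m : ℂ) + 1) = am at *
    generalize (4 * (np m : ℂ) + 1) = ap at *
    linear_combination (ap * am / 2) * e + (am / 4) * hp' + (ap / 4) * hm'
      + (-(q ^ 2 * (q - 1) * (x : ℂ))) * hprodC
  exact_mod_cast this

/-- The lower bound for the norm. -/
theorem other_norm {Kp Km : Subgroup (Cfsg.Sz F m)} (hp : TorusHyp Kp (np m))
    (hm : TorusHyp Km (nm m))
    (hcover : ∀ [DecidablePred (fun g : Cfsg.Sz F m => Fpf g)] (f : Cfsg.Sz F m → ℂ),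
      ∑ g ∈ Finset.univ.filter (fun g : Cfsg.Sz F m => Fpf g), f g =
        ∑ g ∈ conjSet Kp, f g + ∑ g ∈ conjSet Km, f g)
    (χ : IrrCharacter (Cfsg.Sz F m)) {x b : ℕ}
    (hx : (χ : Cfsg.Sz F m → ℂ) 1 = (((qq m - 1) * x : ℕ) : ℂ))
    (hz : (χ : Cfsg.Sz F m → ℂ) (zEl h) = (qq m : ℂ) * b - x)
    (hy : (χ : Cfsg.Sz F m → ℂ) (yEl h) + conj ((χ : Cfsg.Sz F m → ℂ) (yEl h)) = -2 * (b : ℂ)) :
    ((qq m : ℝ) + 1) * (x : ℝ) ^ 2 - 2 * ((qq m : ℝ) ^ 2 + 1) * b * x +
        ((qq m : ℝ) ^ 2 + 1) * ((qq m : ℝ) + 1) * (b : ℝ) ^ 2 +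
        ((qq m : ℝ) ^ 2 + 1) * ((χ : Cfsg.Sz F m → ℂ) (yEl h)).im ^ 2 +
        (qq m : ℝ) * (4 * (nm m : ℝ) + 1) *
          ((∑ g ∈ nonOne Kp, Complex.normSq ((χ : Cfsg.Sz F m → ℂ) g)) / 4) +
        (qq m : ℝ) * (4 * (np m : ℝ) + 1) *
          ((∑ g ∈ nonOne Km, Complex.normSq ((χ : Cfsg.Sz F m → ℂ) g)) / 4) ≤
      (qq m : ℝ) * ((qq m : ℝ) ^ 2 + 1) := by
  classical
  let := Fintype.ofFinite (uGrp h)
  obtain ⟨-, -, hprod, -, -, h8, -, -⟩ := arith h.one_le
  set c : Cfsg.Sz F m → ℂ := (χ : Cfsg.Sz F m → ℂ) with hcdef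
  let f : Cfsg.Sz F m → ℂ := fun g => (Complex.normSq (c g) : ℂ)
  have hf : IsClassFunction (Cfsg.Sz F m) f := fun g t => by
    simp only [f, hcdef, isClassFunction_irr χ g t]
  have hG : ∑ g, f g = (Nat.card (Cfsg.Sz F m) : ℂ) := by
    have h1 := classInner_self_irr χ.2
    rw [classInner_def, inv_mul_eq_iff_eq_mul₀ card_ne_zero, mul_one] at h1
    rw [← h1]
    exact Finset.sum_congr rfl fun g _ => by simp [f, hcdef, Complex.mul_conj]
  have e := two_mul_sum h hf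
  rw [hG, sum_uGrp h hf, hcover f] at e
  have hp' := hp.sum_conjSet hf
  have hm' := hm.sum_conjSet hf
  simp only [f] at e hp' hm'
  rw [card_sz h] at e hp' hm'
  rw [← Complex.ofReal_sum] at hp' hm'
  rw [← Complex.ofReal_sum] at hp' hm'
  rw [← Complex.ofReal_sum, ← Complex.ofReal_sum, ← Complex.ofReal_sum] at e
  have hcast : ((qq m ^ 2 * (qq m ^ 2 + 1) * (qq m - 1) : ℕ) : ℂ) =
      (((qq m : ℝ) ^ 2 * ((qq m : ℝ) ^ 2 + 1) * ((qq m : ℝ) - 1) : ℝ) : ℂ) := by
    rw [Nat.cast_mul, Nat.cast_mul, Nat.cast_sub (by omega : 1 ≤ qq m)]; push_cast; ring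
  rw [hcast] at e hp' hm'
  have hinv : c (yEl h)⁻¹ = conj (c (yEl h)) := char_inv_eq_conj (irr_isCharacter χ) _
  have n1 : Complex.normSq (c 1) = ((qq m : ℝ) - 1) ^ 2 * (x : ℝ) ^ 2 := by
    rw [hx, Complex.normSq_natCast, Nat.cast_mul, Nat.cast_sub (by omega : 1 ≤ qq m),
      Nat.cast_one]; ring
  have n2 : Complex.normSq (c (zEl h)) = ((qq m : ℝ) * b - x) ^ 2 := by
    rw [hz, show (qq m : ℂ) * b - x = (((qq m : ℝ) * b - x : ℝ) : ℂ) by push_cast; ring,
      Complex.normSq_ofReal, sq]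
  have hre : (c (yEl h)).re = -(b : ℝ) := by
    have := congrArg Complex.re hy
    simp at this
    linarith
  have n3 : Complex.normSq (c (yEl h)) = (b : ℝ) ^ 2 + (c (yEl h)).im ^ 2 := by
    rw [Complex.normSq_apply, hre]; ring
  rw [n1, n2, hinv, Complex.normSq_conj, n3] at e
  generalize hH : (∑ k ∈ Finset.univ.erase (1 : Fˣ), Complex.normSq (c (hEl h k))) = H at e
  have hH0 : 0 ≤ H := hH ▸ Finset.sum_nonneg fun k _ => Complex.normSq_nonneg _
  generalize (∑ g ∈ conjSet Kp, Complex.normSq (c g)) = Sp at e hp'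
  generalize (∑ g ∈ conjSet Km, Complex.normSq (c g)) = Sm at e hm'
  generalize (∑ g ∈ nonOne Kp, Complex.normSq (c g)) = Pp at hp' ⊢
  generalize (∑ g ∈ nonOne Km, Complex.normSq (c g)) = Pm at hm' ⊢
  generalize (c (yEl h)).im = I at e ⊢
  have hprodR : (4 * (np m : ℝ) + 1) * (4 * (nm m : ℝ) + 1) = (qq m : ℝ) ^ 2 + 1 := by
    exact_mod_cast hprod
  have h8R : (8 : ℝ) ≤ (qq m : ℝ) := by exact_mod_cast h8
  have hap : (0 : ℝ) < 4 * (np m : ℝ) + 1 := by positivity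
  have ham : (0 : ℝ) < 4 * (nm m : ℝ) + 1 := by positivity
  have hpR : 4 * (4 * (np m : ℝ) + 1) * Sp =
      (qq m : ℝ) ^ 2 * ((qq m : ℝ) ^ 2 + 1) * ((qq m : ℝ) - 1) * Pp := by exact_mod_cast hp'
  have hmR : 4 * (4 * (nm m : ℝ) + 1) * Sm =
      (qq m : ℝ) ^ 2 * ((qq m : ℝ) ^ 2 + 1) * ((qq m : ℝ) - 1) * Pm := by exact_mod_cast hm'
  have eR : 2 * ((qq m : ℝ) ^ 2 * ((qq m : ℝ) ^ 2 + 1) * ((qq m : ℝ) - 1)) =
      2 * (((qq m : ℝ) - 1) ^ 2 * (x : ℝ) ^ 2) + 2 * ((qq m : ℝ) ^ 2 + 1) *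
        ((((qq m : ℝ) - 1) ^ 2 * (x : ℝ) ^ 2 + ((qq m : ℝ) - 1) * ((qq m : ℝ) * b - x) ^ 2 +
          ((qq m : ℝ) - 1) * ((qq m : ℝ) / 2) * ((b : ℝ) ^ 2 + I ^ 2 + ((b : ℝ) ^ 2 + I ^ 2))) -
          ((qq m : ℝ) - 1) ^ 2 * (x : ℝ) ^ 2) +
      ((qq m : ℝ) ^ 2 + 1) * (qq m : ℝ) ^ 2 * H + 2 * (Sp + Sm) := by
    apply Complex.ofReal_injective
    simp only [Complex.ofReal_add, Complex.ofReal_sub, Complex.ofReal_mul, Complex.ofReal_pow,
      Complex.ofReal_div, Complex.ofReal_natCast, Complex.ofReal_ofNat, Complex.ofReal_one] at e ⊢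
    linear_combination e
  clear e hp' hm'
  rename' eR => e, hpR => hp', hmR => hm'
  generalize (qq m : ℝ) = q at *
  generalize (4 * (np m : ℝ) + 1) = ap at *
  generalize (4 * (nm m : ℝ) + 1) = am at *
  have hSp : Sp = q ^ 2 * (q - 1) * am * (Pp / 4) := by
    apply mul_left_cancel₀ (mul_pos (by norm_num : (0 : ℝ) < 4) hap).ne'
    rw [hp', ← hprodR]; ring
  have hSm : Sm = q ^ 2 * (q - 1) * ap * (Pm / 4) := by
    apply mul_left_cancel₀ (mul_pos (by norm_num : (0 : ℝ) < 4) ham).ne'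
    rw [hm', ← hprodR]; ring
  rw [hSp, hSm] at e
  have hH1 : 0 ≤ (q ^ 2 + 1) * q ^ 2 * H := by positivity
  have hfac : 0 < q * (q - 1) := mul_pos (by linarith) (by linarith)
  refine le_of_mul_le_mul_left ?_ hfac
  nlinarith [e, hH1]

/-- A character not real at the elements of order four exists. -/
theorem exists_nonreal :
    ∃ χ : IrrCharacter (Cfsg.Sz F m),
      conj ((χ : Cfsg.Sz F m → ℂ) (yEl h)) ≠ (χ : Cfsg.Sz F m → ℂ) (yEl h) := by
  classical
  by_contra hc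
  push Not at hc
  have h1 := column_orth (yEl h) (yEl h)
  have h2 := column_orth (yEl h) (yEl h)⁻¹
  rw [if_pos (IsConj.refl _)] at h1
  rw [if_neg (not_conj_yEl_inv h)] at h2
  rw [Finset.sum_congr rfl (fun χ _ => ?_)] at h2
  · rw [h2] at h1
    exact (card_ne_zero (G := (Subgroup.centralizer ({yEl h} : Set (Cfsg.Sz F m))))) h1.symm
  · show _ = (χ : Cfsg.Sz F m → ℂ) (yEl h) * conj ((χ : Cfsg.Sz F m → ℂ) (yEl h))
    rw [char_inv_eq_conj (irr_isCharacter χ), hc χ, hc χ]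

theorem normSq_const {K : Subgroup (Cfsg.Sz F m)} {n : ℕ} (hK : TorusHyp K n)
    {χ : Cfsg.Sz F m → ℂ} {w : ℤ} (hw : ConstOn K χ w) :
    ∑ g ∈ nonOne K, Complex.normSq (χ g) = 4 * (n : ℝ) * (w : ℝ) ^ 2 := by
  rw [Finset.sum_congr rfl (g := fun _ => (w : ℝ) ^ 2) fun g hg => ?_, Finset.sum_const,
    nsmul_eq_mul]
  · have := card_nonOne K
    rw [hK.card] at this
    rw [show (nonOne K).card = 4 * n by omega]
    push_cast
    ring
  · rw [hw g (mem_nonOne.1 hg).1 (mem_nonOne.1 hg).2,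
      show ((w : ℂ)) = ((w : ℝ) : ℂ) by simp, Complex.normSq_ofReal, sq]

end gfin

end Cfsg.Agent.Chars.SzD
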