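import Cfsg.Agent.Chars.SzDegrees
import Cfsg.Prelude.Def_DegreeGraph

/-!
The degree graph data of the Suzuki groups.
-/

set_option autoImplicit false
set_option linter.style.haveILetI false
set_option linter.unusedSectionVars false

namespace Cfsg.Agent.Chars.SzD

open Cfsg Cfsg.Agent Cfsg.Agent.Suzuki Cfsg.Agent.Chars.SzTorus
open scoped ComplexConjugate

open scoped Classical in
/-- Counting products of two involutions by characters. -/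
theorem involution_products {G : Type*} [Group G] [Fintype G] (z : G) (hz2 : z * z = 1)
    (hz1 : z ≠ 1) (hall : ∀ x : G, x ≠ 1 → x * x = 1 → IsConj z x) (g : G) (S : Finset G)
    (hS : ∀ x, x ∈ S ↔ x ≠ 1 ∧ x * x = 1 ∧ x * g * x⁻¹ = g⁻¹ ∧ x ≠ g) :
    ∑ χ : IrrCharacter G, ((Finset.univ.filter (IsConj z)).card : ℂ) ^ 2 * (χ : G → ℂ) z ^ 2 *
        (χ : G → ℂ) g / (χ : G → ℂ) 1 =
      (Nat.card G : ℂ) * (S.card : ℂ) := by
  set C := Finset.univ.filter (IsConj z) with hCdef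
  have hC : ∀ x, x ∈ C ↔ x ≠ 1 ∧ x * x = 1 := by
    intro x
    simp only [hCdef, Finset.mem_filter, Finset.mem_univ, true_and]
    refine ⟨fun hx => ?_, fun hx => hall x hx.1 hx.2⟩
    obtain ⟨c, rfl⟩ := isConj_iff.1 hx
    exact ⟨fun e => hz1 (conj_eq_one_iff.1 e),
      by rw [show c * z * c⁻¹ * (c * z * c⁻¹) = c * (z * z) * c⁻¹ by group, hz2, mul_one,
        mul_inv_cancel]⟩
  let P : G → Finset (G × G) := fun t => (C ×ˢ C).filter fun p => p.1 * p.2 = t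
  let N : G → ℂ := fun t => ((P t).card : ℂ)
  have hN : IsClassFunction G N := by
    intro t c
    simp only [N, Nat.cast_inj]
    have hmem : ∀ x, x ∈ C → c * x * c⁻¹ ∈ C := fun x hx => by
      simp only [hCdef, Finset.mem_filter, Finset.mem_univ, true_and] at hx ⊢
      exact hx.trans (isConj_iff.2 ⟨c, rfl⟩)
    have hmem' : ∀ x, x ∈ C → c⁻¹ * x * c ∈ C := fun x hx => by
      simp only [hCdef, Finset.mem_filter, Finset.mem_univ, true_and] at hx ⊢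
      exact hx.trans (isConj_iff.2 ⟨c⁻¹, by rw [inv_inv]⟩)
    refine Finset.card_nbij' (fun p => (c⁻¹ * p.1 * c, c⁻¹ * p.2 * c))
      (fun p => (c * p.1 * c⁻¹, c * p.2 * c⁻¹)) ?_ ?_ ?_ ?_
    · intro p hp
      simp only [P, Finset.coe_filter, Finset.mem_product, Set.mem_ofPred_eq] at hp ⊢
      refine ⟨⟨hmem' _ hp.1.1, hmem' _ hp.1.2⟩, ?_⟩
      rw [show c⁻¹ * p.1 * c * (c⁻¹ * p.2 * c) = c⁻¹ * (p.1 * p.2) * c by group, hp.2]; group
    · intro p hp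
      simp only [P, Finset.coe_filter, Finset.mem_product, Set.mem_ofPred_eq] at hp ⊢
      refine ⟨⟨hmem _ hp.1.1, hmem _ hp.1.2⟩, ?_⟩
      rw [show c * p.1 * c⁻¹ * (c * p.2 * c⁻¹) = c * (p.1 * p.2) * c⁻¹ by group, hp.2]
    · intro p _; simp [mul_assoc]
    · intro p _; simp [mul_assoc]
  have hinner : ∀ χ : IrrCharacter G, classInner N (χ : G → ℂ) * (χ : G → ℂ) 1 =
      (Nat.card G : ℂ)⁻¹ * ((C.card : ℂ) ^ 2 * (χ : G → ℂ) z ^ 2) := by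
    intro χ
    have hreal : conj ((χ : G → ℂ) z) = (χ : G → ℂ) z := by
      rw [← char_inv_eq_conj (irr_isCharacter χ), inv_eq_of_mul_eq_one_right hz2]
    have h1 : ∑ t, N t * conj ((χ : G → ℂ) t) =
        conj (∑ p ∈ C ×ˢ C, (χ : G → ℂ) (p.1 * p.2)) := by
      rw [map_sum, ← Finset.sum_fiberwise (C ×ˢ C) (fun p : G × G => p.1 * p.2)]
      refine Finset.sum_congr rfl fun t _ => ?_
      rw [Finset.sum_congr rfl (g := fun _ => conj ((χ : G → ℂ) t))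
        (fun p hp => by rw [(Finset.mem_filter.1 hp).2]), Finset.sum_const, nsmul_eq_mul]
    have h2 := Chars2.sum_class_class χ.2 z z
    rw [Finset.sum_congr (show _ = C ×ˢ C by ext p; simp [hCdef]) (fun _ _ => rfl)] at h2
    rw [classInner_def, h1, mul_assoc]
    congr 1
    rw [← irr_apply_one_conj (irr_isCharacter χ), ← map_mul, h2]
    simp only [map_mul, map_natCast, hreal,
      show ∀ i : DecidablePred (IsConj z), (@Finset.filter G (IsConj z) i Finset.univ).card = C.card from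
        fun i => by rw [hCdef]; congr 1; ext; simp]
    ring
  have hg := congrFun (eq_sum_classInner hN) g
  simp only [Finset.sum_apply, Pi.smul_apply, smul_eq_mul] at hg
  have hP : (P g).card = S.card := by
    refine Finset.card_nbij' (fun p => p.1) (fun x => (x, x * g)) ?_ ?_ ?_ ?_
    · intro p hp
      simp only [P, Finset.coe_filter, Finset.mem_product, Set.mem_ofPred_eq, hC] at hp
      rw [Finset.mem_coe, hS]
      obtain ⟨⟨⟨h1, h2⟩, h3, h4⟩, h5⟩ := hp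
      refine ⟨h1, h2, ?_, fun e => h3 ?_⟩
      · rw [← h5, inv_eq_of_mul_eq_one_right h2, eq_inv_iff_mul_eq_one]
        calc p.1 * (p.1 * p.2) * p.1 * (p.1 * p.2) = p.1 * p.1 * (p.2 * (p.1 * p.1) * p.2) := by group
          _ = 1 := by rw [h2, mul_one, h4, one_mul]
      · rw [← e] at h5
        exact mul_left_cancel (h5.trans (mul_one _).symm)
    · intro x hx
      rw [Finset.mem_coe, hS] at hx
      obtain ⟨h1, h2, h3, h4⟩ := hx
      simp only [P, Finset.coe_filter, Finset.mem_product, Set.mem_ofPred_eq, hC]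
      refine ⟨⟨⟨h1, h2⟩, fun e => h4 ?_, ?_⟩, by rw [← mul_assoc, h2, one_mul]⟩
      · rw [← inv_eq_of_mul_eq_one_right e, inv_eq_of_mul_eq_one_right h2]
      · rw [inv_eq_of_mul_eq_one_right h2] at h3
        rw [← mul_assoc, h3, inv_mul_cancel]
    · intro p hp
      simp only [P, Finset.coe_filter, Finset.mem_product, Set.mem_ofPred_eq, hC] at hp
      refine Prod.ext rfl ?_
      show p.1 * g = p.2
      rw [← hp.2, ← mul_assoc, hp.1.1.2, one_mul]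
    · intro x _; rfl
  rw [← hP, show ((P g).card : ℂ) = N g from rfl, hg, Finset.mul_sum]
  refine Finset.sum_congr rfl fun χ _ => ?_
  rw [div_eq_iff (irr_apply_one_ne_zero χ.2)]
  have e := hinner χ
  have hG : (Nat.card G : ℂ) ≠ 0 := card_ne_zero
  rw [eq_inv_mul_iff_mul_eq₀ hG] at e
  linear_combination (-((χ : G → ℂ) g)) * e

variable {F : Type*} [Field F] {m : ℕ} (h : Ctx F m)
include h

section gfin

variable [Fintype (Cfsg.Sz F m)] [Fintype F] [Fintype Fˣ]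

/-- The tori of the Suzuki group. -/
structure Tori (Kp Km : Subgroup (Cfsg.Sz F m)) : Prop where
  hp : TorusHyp Kp (np m)
  hm : TorusHyp Km (nm m)
  dis : ∀ g ∈ conjSet Kp, g ∉ conjSet Km
  cover : ∀ [DecidablePred (fun g : Cfsg.Sz F m => Fpf g)] (f : Cfsg.Sz F m → ℂ),
    ∑ g ∈ Finset.univ.filter (fun g : Cfsg.Sz F m => Fpf g), f g =
      ∑ g ∈ conjSet Kp, f g + ∑ g ∈ conjSet Km, f g

theorem exists_tori' : ∃ Kp Km : Subgroup (Cfsg.Sz F m), Tori Kp Km := by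
  classical
  obtain ⟨Kp, Km, hp, hm, hd, hc⟩ := exists_tori h
  refine ⟨Kp, Km, hp, hm, hd, fun {i} f => ?_⟩
  convert hc f using 3

variable {Kp Km : Subgroup (Cfsg.Sz F m)} (T : Tori Kp Km)
include T

/-- The torus behaviour of a character. -/
theorem other_shape (χ : IrrCharacter (Cfsg.Sz F m)) (hO : Other h (χ : Cfsg.Sz F m → ℂ)) :
    ∃ (x b : ℕ) (Np Nm : ℤ), 0 < x ∧
      (χ : Cfsg.Sz F m → ℂ) 1 = (((qq m - 1) * x : ℕ) : ℂ) ∧
      (χ : Cfsg.Sz F m → ℂ) (zEl h) = (qq m : ℂ) * b - x ∧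
      (χ : Cfsg.Sz F m → ℂ) (yEl h) + conj ((χ : Cfsg.Sz F m → ℂ) (yEl h)) = -2 * (b : ℂ) ∧
      2 ∣ x + b ∧ (x : ℤ) = Np * (4 * (nm m : ℤ) + 1) + Nm * (4 * (np m : ℤ) + 1) ∧
      ((∃ w, ConstOn Kp (χ : Cfsg.Sz F m → ℂ) w ∧ Np = np m * w) ∨
        (Dipole Kp (χ : Cfsg.Sz F m → ℂ) ∧ ∃ t s : ℤ, (s = 1 ∨ s = -1) ∧ Np = np m * t + s)) ∧
      ((∃ w, ConstOn Km (χ : Cfsg.Sz F m → ℂ) w ∧ Nm = nm m * w) ∨
        (Dipole Km (χ : Cfsg.Sz F m → ℂ) ∧ ∃ t s : ℤ, (s = 1 ∨ s = -1) ∧ Nm = nm m * t + s)) := by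
  obtain ⟨x, b, hx, h1, hz, hy, hpar⟩ := other_params h χ hO
  have aux : ∀ {K : Subgroup (Cfsg.Sz F m)} {n : ℕ}, TorusHyp K n → ∃ N : ℤ,
      (∑ g ∈ nonOne K, (χ : Cfsg.Sz F m → ℂ) g = ((4 * N : ℤ) : ℂ)) ∧
      ((∃ w, ConstOn K (χ : Cfsg.Sz F m → ℂ) w ∧ N = n * w) ∨
        (Dipole K (χ : Cfsg.Sz F m → ℂ) ∧ ∃ t s : ℤ, (s = 1 ∨ s = -1) ∧ N = n * t + s)) := by
    intro K n hK
    rcases hK.classify χ with ⟨w, hw⟩ | ⟨hd, t, s, hs, he⟩
    · exact ⟨n * w, by rw [hK.sum_const hw, mul_assoc], Or.inl ⟨w, hw, rfl⟩⟩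
    · exact ⟨n * t + s, he, Or.inr ⟨hd, t, s, hs, rfl⟩⟩
  obtain ⟨Np, hNp, hsp⟩ := aux T.hp
  obtain ⟨Nm, hNm, hsm⟩ := aux T.hm
  exact ⟨x, b, Np, Nm, hx, h1, hz, hy, hpar,
    other_torus_sum h T.hp T.hm T.cover χ hO h1 hNp hNm, hsp, hsm⟩

theorem quad_bound {χ : IrrCharacter (Cfsg.Sz F m)} {x b : ℕ}
    (hx : (χ : Cfsg.Sz F m → ℂ) 1 = (((qq m - 1) * x : ℕ) : ℂ))
    (hz : (χ : Cfsg.Sz F m → ℂ) (zEl h) = (qq m : ℂ) * b - x)
    (hy : (χ : Cfsg.Sz F m → ℂ) (yEl h) + conj ((χ : Cfsg.Sz F m → ℂ) (yEl h)) = -2 * (b : ℂ)) :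
    2 * x ^ 2 ≤ (qq m ^ 2 + 1) * (qq m + 1) ∧
      ((qq m : ℝ) + 1) * (x : ℝ) ^ 2 - 2 * ((qq m : ℝ) ^ 2 + 1) * b * x +
        ((qq m : ℝ) ^ 2 + 1) * ((qq m : ℝ) + 1) * (b : ℝ) ^ 2 ≤
          (qq m : ℝ) * ((qq m : ℝ) ^ 2 + 1) := by
  have hn := other_norm h T.hp T.hm T.cover χ hx hz hy
  have h8 : (8 : ℝ) ≤ (qq m : ℝ) := by exact_mod_cast (arith h.one_le).2.2.2.2.2.1
  have p1 : (0 : ℝ) ≤ ∑ g ∈ nonOne Kp, Complex.normSq ((χ : Cfsg.Sz F m → ℂ) g) :=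
    Finset.sum_nonneg fun g _ => Complex.normSq_nonneg _
  have p2 : (0 : ℝ) ≤ ∑ g ∈ nonOne Km, Complex.normSq ((χ : Cfsg.Sz F m → ℂ) g) :=
    Finset.sum_nonneg fun g _ => Complex.normSq_nonneg _
  generalize hP : (∑ g ∈ nonOne Kp, Complex.normSq ((χ : Cfsg.Sz F m → ℂ) g)) = P at hn p1
  generalize hM : (∑ g ∈ nonOne Km, Complex.normSq ((χ : Cfsg.Sz F m → ℂ) g)) = M at hn p2
  generalize ((χ : Cfsg.Sz F m → ℂ) (yEl h)).im = I at hn
  have hF : ((qq m : ℝ) + 1) * (x : ℝ) ^ 2 - 2 * ((qq m : ℝ) ^ 2 + 1) * b * x +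
        ((qq m : ℝ) ^ 2 + 1) * ((qq m : ℝ) + 1) * (b : ℝ) ^ 2 ≤
          (qq m : ℝ) * ((qq m : ℝ) ^ 2 + 1) := by
    have t1 : (0 : ℝ) ≤ ((qq m : ℝ) ^ 2 + 1) * I ^ 2 := by positivity
    have t2 : (0 : ℝ) ≤ (qq m : ℝ) * (4 * (nm m : ℝ) + 1) * (P / 4) := by positivity
    have t3 : (0 : ℝ) ≤ (qq m : ℝ) * (4 * (np m : ℝ) + 1) * (M / 4) := by positivity
    linarith
  refine ⟨?_, hF⟩
  have key : ((2 * x ^ 2 : ℕ) : ℝ) ≤ (((qq m ^ 2 + 1) * (qq m + 1) : ℕ) : ℝ) := by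
    obtain ⟨Q, hQ⟩ : ∃ Q, qq m = Q := ⟨_, rfl⟩
    rw [hQ] at hF h8 ⊢
    push_cast
    generalize (Q : ℝ) = q at *
    refine le_of_mul_le_mul_left ?_ (show (0 : ℝ) < q by linarith)
    nlinarith [mul_le_mul_of_nonneg_left hF (show (0 : ℝ) ≤ q + 1 by linarith),
      mul_nonneg (show (0 : ℝ) ≤ q ^ 2 + 1 by positivity) (sq_nonneg ((q + 1) * (b : ℝ) - x))]
  exact_mod_cast key

theorem const_bound {χ : IrrCharacter (Cfsg.Sz F m)} {x b : ℕ}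
    (hx : (χ : Cfsg.Sz F m → ℂ) 1 = (((qq m - 1) * x : ℕ) : ℂ))
    (hz : (χ : Cfsg.Sz F m → ℂ) (zEl h) = (qq m : ℂ) * b - x)
    (hy : (χ : Cfsg.Sz F m → ℂ) (yEl h) + conj ((χ : Cfsg.Sz F m → ℂ) (yEl h)) = -2 * (b : ℂ))
    {wp wm : ℤ} (hwp : ConstOn Kp (χ : Cfsg.Sz F m → ℂ) wp)
    (hwm : ConstOn Km (χ : Cfsg.Sz F m → ℂ) wm) :
    wp ^ 2 ≤ 5 ∧ wm ^ 2 ≤ 5 ∧
      ((qq m : ℝ) + 1) * (x : ℝ) ^ 2 - 2 * ((qq m : ℝ) ^ 2 + 1) * b * x +
        ((qq m : ℝ) ^ 2 + 1) * ((qq m : ℝ) + 1) * (b : ℝ) ^ 2 +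
        ((qq m : ℝ) ^ 2 + 1) * ((χ : Cfsg.Sz F m → ℂ) (yEl h)).im ^ 2 +
        (qq m : ℝ) * (4 * (nm m : ℝ) + 1) * ((np m : ℝ) * (wp : ℝ) ^ 2) +
        (qq m : ℝ) * (4 * (np m : ℝ) + 1) * ((nm m : ℝ) * (wm : ℝ) ^ 2) ≤
          (qq m : ℝ) * ((qq m : ℝ) ^ 2 + 1) := by
  have hn := other_norm h T.hp T.hm T.cover χ hx hz hy
  rw [normSq_const h T.hp hwp, normSq_const h T.hm hwm] at hn
  obtain ⟨-, -, hprod, -, -, h8, hm1, hlt⟩ := arith h.one_le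
  have hp1 : (1 : ℝ) ≤ (np m : ℝ) := by exact_mod_cast (by omega : 1 ≤ np m)
  have hm1' : (1 : ℝ) ≤ (nm m : ℝ) := by exact_mod_cast hm1
  have h8' : (8 : ℝ) ≤ (qq m : ℝ) := by exact_mod_cast h8
  have hprodR : (4 * (np m : ℝ) + 1) * (4 * (nm m : ℝ) + 1) = (qq m : ℝ) ^ 2 + 1 := by
    exact_mod_cast hprod
  generalize ((χ : Cfsg.Sz F m → ℂ) (yEl h)).im = I at hn ⊢
  generalize (qq m : ℝ) = q at *
  generalize (np m : ℝ) = A at *
  generalize (nm m : ℝ) = B at *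
  have hF : 0 ≤ (q + 1) * (x : ℝ) ^ 2 - 2 * (q ^ 2 + 1) * b * x + (q ^ 2 + 1) * (q + 1) * (b : ℝ) ^ 2 := by
    have h1 : 0 ≤ (q + 1) * ((q + 1) * (x : ℝ) ^ 2 - 2 * (q ^ 2 + 1) * b * x +
        (q ^ 2 + 1) * (q + 1) * (b : ℝ) ^ 2) := by
      nlinarith [mul_nonneg (show (0 : ℝ) ≤ q ^ 2 + 1 by positivity) (sq_nonneg ((q + 1) * (b : ℝ) - x)),
        mul_nonneg (show (0 : ℝ) ≤ q by linarith) (sq_nonneg (x : ℝ))]
    exact nonneg_of_mul_nonneg_right h1 (by linarith)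
  have tI : 0 ≤ (q ^ 2 + 1) * I ^ 2 := by positivity
  have tp : 0 ≤ q * (4 * B + 1) * (A * (wp : ℝ) ^ 2) := by positivity
  have tm : 0 ≤ q * (4 * A + 1) * (B * (wm : ℝ) ^ 2) := by positivity
  have hp2 : A * (wp : ℝ) ^ 2 ≤ 4 * A + 1 := by
    refine le_of_mul_le_mul_left ?_ (show (0 : ℝ) < q * (4 * B + 1) by positivity)
    rw [show q * (4 * B + 1) * (4 * A + 1) = q * (q ^ 2 + 1) by rw [← hprodR]; ring]
    linarith
  have hm2 : B * (wm : ℝ) ^ 2 ≤ 4 * B + 1 := by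
    refine le_of_mul_le_mul_left ?_ (show (0 : ℝ) < q * (4 * A + 1) by positivity)
    rw [show q * (4 * A + 1) * (4 * B + 1) = q * (q ^ 2 + 1) by rw [← hprodR]; ring]
    linarith
  have e1 : (wp : ℝ) ^ 2 ≤ 5 := by nlinarith
  have e2 : (wm : ℝ) ^ 2 ≤ 5 := by nlinarith
  refine ⟨by exact_mod_cast e1, by exact_mod_cast e2, ?_⟩
  linarith

theorem degree_eq {χ : IrrCharacter (Cfsg.Sz F m)} {d : ℕ}
    (hd : (χ : Cfsg.Sz F m → ℂ) 1 = (d : ℂ)) : charDegree (χ : Cfsg.Sz F m → ℂ) = d := by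
  simp [charDegree, hd]

/-- A degree divisible by `2 (q - 1)`. -/
theorem exists_even :
    ∃ d ∈ charDegrees (Cfsg.Sz F m), 2 * (qq m - 1) ∣ d := by
  obtain ⟨χ, hχ⟩ := exists_nonreal h
  have hO : Other h (χ : Cfsg.Sz F m → ℂ) := by
    by_contra hc
    exact hχ (real_at_yEl_of_not_other h χ hc)
  obtain ⟨x, b, Np, Nm, hx0, h1, hz, hy, hpar, hxN, hsp, hsm⟩ := other_shape h T χ hO
  rcases hsp with ⟨wp, hwp, rfl⟩ | ⟨hd, -⟩
  swap
  · exact absurd (congrFun (dipole_real χ hd) _) hχ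
  rcases hsm with ⟨wm, hwm, rfl⟩ | ⟨hd, -⟩
  swap
  · exact absurd (congrFun (dipole_real χ hd) _) hχ
  suffices hx2 : 2 ∣ x by
    refine ⟨_, ⟨χ, degree_eq h T h1⟩, ?_⟩
    obtain ⟨y, rfl⟩ := hx2
    exact ⟨y, by ring⟩
  rcases (show m = 1 ∨ 2 ≤ m by have := h.one_le; omega) with hm | hm
  · obtain ⟨hw1, hw2, hb⟩ := const_bound h T h1 hz hy hwp hwm
    have hI : (0 : ℝ) < ((χ : Cfsg.Sz F m → ℂ) (yEl h)).im ^ 2 := by
      refine lt_of_le_of_ne (sq_nonneg _) fun e => hχ ?_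
      exact Complex.conj_eq_iff_im.2 (pow_eq_zero_iff two_ne_zero |>.1 e.symm)
    generalize ((χ : Cfsg.Sz F m → ℂ) (yEl h)).im = I at hI hb
    subst hm
    norm_num [qq, np, nm] at hb hxN
    have hlt : ((9 * (x : ℤ) ^ 2 - 130 * b * x + 585 * (b : ℤ) ^ 2 + 120 * wp ^ 2 + 104 * wm ^ 2 : ℤ) : ℝ)
        < ((520 : ℤ) : ℝ) := by
      push_cast; nlinarith
    have hlt' := Int.cast_lt.1 hlt
    have hwp1 : -2 ≤ wp ∧ wp ≤ 2 := ⟨by nlinarith, by nlinarith⟩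
    have hwm1 : -2 ≤ wm ∧ wm ≤ 2 := ⟨by nlinarith, by nlinarith⟩
    by_contra hodd
    obtain ⟨a1, a2⟩ := hwp1
    obtain ⟨a3, a4⟩ := hwm1
    have hx56 : x ≤ 56 := by omega
    have hb10 : b ≤ 15 := by
      by_contra hb'
      push Not at hb'
      have hx56' : (x : ℤ) ≤ 56 := by exact_mod_cast hx56
      have hb'' : (16 : ℤ) ≤ (b : ℤ) := by exact_mod_cast hb'
      nlinarith [mul_le_mul_of_nonneg_left hx56' (show (0 : ℤ) ≤ (b : ℤ) by positivity),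
        mul_le_mul_of_nonneg_left hb'' (show (0 : ℤ) ≤ (b : ℤ) by positivity)]
    interval_cases wp <;> interval_cases wm <;>
      (first
        | omega
        | (norm_num at hxN
           subst_vars
           first
             | omega
             | (interval_cases b <;> first | omega | (rw [hxN] at hlt'; norm_num at hlt'))))
  · have h2 : ∀ i : ℤ, ∀ j : ℤ, 2 ∣ (np m : ℤ) * i + (nm m : ℤ) * j := by
      intro i j
      have e1 : 2 ∣ np m := Nat.dvd_add (dvd_pow_self 2 (by omega)) (dvd_pow_self 2 (by omega))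
      have e2 : 2 ∣ nm m := Nat.dvd_sub (dvd_pow_self 2 (by omega)) (dvd_pow_self 2 (by omega))
      exact dvd_add ((Int.natCast_dvd_natCast.2 e1).mul_right i)
        ((Int.natCast_dvd_natCast.2 e2).mul_right j)
    have : (2 : ℤ) ∣ (x : ℤ) := by
      rw [hxN]
      have := h2 (wp * (4 * (nm m : ℤ) + 1)) (wm * (4 * (np m : ℤ) + 1))
      rwa [← mul_assoc, ← mul_assoc] at this
    exact_mod_cast this

/-- No degree is divisible by `2` and a prime divisor of `q² + 1`. -/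
theorem no_even {s : ℕ} (hs : s.Prime) (hsd : s ∣ qq m ^ 2 + 1)
    {d : ℕ} (hd : d ∈ charDegrees (Cfsg.Sz F m)) : ¬ (2 ∣ d ∧ s ∣ d) := by
  rintro ⟨h2, hsd'⟩
  obtain ⟨h5, hsq, hsq1⟩ := five_le_prime hs hsd
  obtain ⟨χ, rfl⟩ := hd
  obtain ⟨hap, -, hprod, hsum, h4, h8, hm1, hlt⟩ := arith h.one_le
  have h2q : 2 ∣ qq m := dvd_pow_self 2 (by omega)
  by_cases hO : Other h (χ : Cfsg.Sz F m → ℂ)
  swap
  · rcases not_other_cases h χ hO with rfl | rfl | ⟨μ, -, e⟩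
    · rw [show charDegree (oneG F m : Cfsg.Sz F m → ℂ) = 1 from degree_eq h T (by simp [oneG])] at h2
      omega
    · rw [degree_eq h T (d := qq m ^ 2) (by rw [st_one h]; push_cast; rfl)] at hsd'
      exact hsq (hs.dvd_of_dvd_pow hsd')
    · rw [degree_eq h T (d := qq m ^ 2 + 1) (by rw [e, ps_one h]; push_cast; rfl)] at h2
      have : 2 ∣ qq m ^ 2 := h2q.trans (dvd_pow_self _ two_ne_zero)
      omega
  obtain ⟨x, b, Np, Nm, hx0, h1, hz, hy, hpar, hxN, hsp, hsm⟩ := other_shape h T χ hO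
  rw [degree_eq h T h1] at h2 hsd'
  have hx2 : 2 ∣ x := by
    rcases (Nat.Prime.dvd_mul Nat.prime_two).1 h2 with e | e
    · omega
    · exact e
  have hsx : s ∣ x := by
    rcases hs.dvd_mul.1 hsd' with e | e
    · exact absurd e hsq1
    · exact e
  rcases (show m = 1 ∨ 2 ≤ m by have := h.one_le; omega) with hm | hm
  · obtain ⟨hq, hF⟩ := quad_bound h T h1 hz hy
    subst hm
    norm_num [qq] at hq hF hsd
    have hx17 : x ≤ 17 := by nlinarith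
    have hs' : s = 5 ∨ s = 13 := by
      rcases hs.dvd_mul.1 (show s ∣ 5 * 13 by norm_num; exact hsd) with e | e
      · exact Or.inl ((Nat.prime_dvd_prime_iff_eq hs (by norm_num)).1 e)
      · exact Or.inr ((Nat.prime_dvd_prime_iff_eq hs (by norm_num)).1 e)
    have hx10 : x = 10 := by rcases hs' with rfl | rfl <;> omega
    subst hx10
    rcases Nat.eq_zero_or_pos b with rfl | hb
    · norm_num at hF
    · have : (2 : ℝ) ≤ (b : ℝ) := by exact_mod_cast (by omega : 2 ≤ b)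
      push_cast at hF
      nlinarith
  obtain ⟨i, hi⟩ : 2 ∣ np m := Nat.dvd_add (dvd_pow_self 2 (by omega)) (dvd_pow_self 2 (by omega))
  obtain ⟨j, hj⟩ : 2 ∣ nm m := Nat.dvd_sub (dvd_pow_self 2 (by omega)) (dvd_pow_self 2 (by omega))
  have hiz : (np m : ℤ) = 2 * i := by exact_mod_cast hi
  have hjz : (nm m : ℤ) = 2 * j := by exact_mod_cast hj
  have hx2z : (2 : ℤ) ∣ (x : ℤ) := by exact_mod_cast hx2
  rcases hsp with ⟨wp, hwp, rfl⟩ | ⟨hdp, t, σ, hσ, rfl⟩ <;>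
    rcases hsm with ⟨wm, hwm, rfl⟩ | ⟨hdm, t', σ', hσ', rfl⟩
  rotate_left
  · rw [hiz, hjz] at hxN
    have e : (x : ℤ) - σ' = 2 * (i * wp * (4 * (2 * j) + 1) + (j : ℤ) * t' * (4 * (2 * i) + 1) + 4 * σ' * i) := by
      rw [hxN]; ring
    omega
  · rw [hiz, hjz] at hxN
    have e : (x : ℤ) - σ = 2 * (i * t * (4 * (2 * j) + 1) + (j : ℤ) * wm * (4 * (2 * i) + 1) + 4 * σ * j) := by
      rw [hxN]; ring
    omega
  · exact dipole_not_both T.dis χ hdp hdm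
  -- both constant
  obtain ⟨hq, -⟩ := quad_bound h T h1 hz hy
  obtain ⟨hw1, hw2, -⟩ := const_bound h T h1 hz hy hwp hwm
  have hsd1 : (s : ℤ) ∣ (((qq m - 1) * x : ℕ) : ℤ) := Int.natCast_dvd_natCast.2 hsd'
  have hzero : ∀ w : ℤ, w ^ 2 ≤ 5 → (s : ℤ) ∣ w → w = 0 := by
    intro w hw hd
    have : |w| < (s : ℤ) := by
      have h3 : |w| ≤ 2 := by nlinarith [abs_nonneg w, sq_abs w]
      have : (5 : ℤ) ≤ (s : ℤ) := by exact_mod_cast h5
      omega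
    exact Int.eq_zero_of_abs_lt_dvd hd this
  have hqz : 2 * (x : ℤ) ^ 2 ≤ ((4 * (np m : ℤ) + 1) * (4 * (nm m : ℤ) + 1)) * ((qq m : ℤ) + 1) := by
    have : ((2 * x ^ 2 : ℕ) : ℤ) ≤ (((4 * np m + 1) * (4 * nm m + 1) * (qq m + 1) : ℕ) : ℤ) := by
      exact_mod_cast (hprod ▸ hq)
    exact_mod_cast this
  have hsumz : (4 * (np m : ℤ) + 1) + (4 * (nm m : ℤ) + 1) = 2 * ((qq m : ℤ) + 1) := by
    exact_mod_cast hsum
  have hsize : 10 ≤ np m ∧ 6 ≤ nm m ∧ np m ≤ 3 * nm m := by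
    obtain ⟨k, rfl⟩ : ∃ k, m = k + 2 := ⟨m - 2, by omega⟩
    have e1 : 2 * (k + 2) - 1 = 2 * k + 3 := by omega
    have e2 : k + 2 - 1 = k + 1 := by omega
    simp only [np, nm, e1, e2]
    obtain ⟨y, hy'⟩ : ∃ y, 2 ^ k = y := ⟨_, rfl⟩
    have hy1 : 1 ≤ y := hy' ▸ Nat.one_le_two_pow
    rw [show 2 ^ (2 * k + 3) = 8 * y ^ 2 by rw [← hy', ← pow_mul, mul_comm k, pow_add]; ring,
      show 2 ^ (k + 1) = 2 * y by rw [← hy', pow_succ]; ring]
    have : y ≤ y ^ 2 := Nat.le_self_pow two_ne_zero y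
    omega
  obtain ⟨c1, c2, c3⟩ := hsize
  have c1' : (10 : ℤ) ≤ (np m : ℤ) := by exact_mod_cast c1
  have c2' : (6 : ℤ) ≤ (nm m : ℤ) := by exact_mod_cast c2
  have c3' : (np m : ℤ) ≤ 3 * (nm m : ℤ) := by exact_mod_cast c3
  have c4' : (nm m : ℤ) < (np m : ℤ) := by exact_mod_cast hlt
  have hxpos : (0 : ℤ) < (x : ℤ) := by exact_mod_cast hx0
  generalize (qq m : ℤ) = q at hqz hsumz
  rcases hs.dvd_mul.1 (hprod ▸ hsd) with hdiv | hdiv
  · have e := (Int.natCast_dvd_natCast.2 hdiv).trans (T.hp.dvd_sub_of_const (irr_isCharacter χ) hwp h1)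
    have hw0 : wp = 0 := hzero wp hw1 (by simpa using dvd_sub hsd1 e)
    subst hw0
    generalize (np m : ℤ) = A at *
    generalize (nm m : ℤ) = B at *
    simp only [mul_zero, zero_mul, zero_add] at hxN
    have hwne : wm ≠ 0 := fun e => by subst e; simp at hxN; omega
    have hw : (1 : ℤ) ≤ wm ^ 2 := by
      have : (0 : ℤ) < wm ^ 2 := by positivity
      omega
    rw [hxN] at hqz
    have k1 : 2 * (B * (4 * A + 1)) ^ 2 ≤ 2 * (B * wm * (4 * A + 1)) ^ 2 := by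
      nlinarith [mul_le_mul_of_nonneg_left hw (sq_nonneg (B * (4 * A + 1)))]
    have k2 : 2 * B ^ 2 * (4 * A + 1) ≤ (4 * B + 1) * (q + 1) := by
      refine le_of_mul_le_mul_left ?_ (show (0 : ℤ) < 4 * A + 1 by omega)
      linarith
    nlinarith
  · have e := (Int.natCast_dvd_natCast.2 hdiv).trans (T.hm.dvd_sub_of_const (irr_isCharacter χ) hwm h1)
    have hw0 : wm = 0 := hzero wm hw2 (by simpa using dvd_sub hsd1 e)
    subst hw0
    generalize (np m : ℤ) = A at *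
    generalize (nm m : ℤ) = B at *
    simp only [mul_zero, zero_mul, add_zero] at hxN
    have hwne : wp ≠ 0 := fun e => by subst e; simp at hxN; omega
    have hw : (1 : ℤ) ≤ wp ^ 2 := by
      have : (0 : ℤ) < wp ^ 2 := by positivity
      omega
    rw [hxN] at hqz
    have k1 : 2 * (A * (4 * B + 1)) ^ 2 ≤ 2 * (A * wp * (4 * B + 1)) ^ 2 := by
      nlinarith [mul_le_mul_of_nonneg_left hw (sq_nonneg (A * (4 * B + 1)))]
    have k2 : 2 * A ^ 2 * (4 * B + 1) ≤ (4 * A + 1) * (q + 1) := by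
      refine le_of_mul_le_mul_left ?_ (show (0 : ℤ) < 4 * B + 1 by omega)
      linarith
    nlinarith

/-- A degree divisible by `q - 1` and a prime divisor of a torus order. -/
theorem exists_prime_mul {K : Subgroup (Cfsg.Sz F m)} {n a s : ℕ} (hK : TorusHyp K n) (hn : 1 ≤ n)
    (hprod : (4 * n + 1) * a = qq m ^ 2 + 1) (hs : s.Prime) (hsa : s ∣ a) :
    ∃ d ∈ charDegrees (Cfsg.Sz F m), (qq m - 1) * s ∣ d := by
  classical
  obtain ⟨-, -, -, -, -, h8, -, -⟩ := arith h.one_le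
  haveI : Nontrivial K := Finite.one_lt_card_iff_nontrivial.1 (by rw [hK.card]; omega)
  obtain ⟨g0, hg0⟩ := exists_ne (1 : K)
  obtain ⟨g, hgK, hg1, hgf⟩ : ∃ g : Cfsg.Sz F m, g ∈ K ∧ g ≠ 1 ∧ Fpf g := by
    refine ⟨g0, g0.2, fun e => hg0 (Subtype.ext e), fpf_of_pow h (fun e => hg0 (Subtype.ext e))
      (k := 4 * n + 1) (hprod ▸ dvd_mul_right _ _) ?_⟩
    rw [← hK.card]
    exact congrArg Subtype.val (pow_card_eq_one' (x := g0))
  have hdata : ∀ χ : IrrCharacter (Cfsg.Sz F m), ∃ x b : ℕ, Other h (χ : Cfsg.Sz F m → ℂ) →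
      0 < x ∧ (χ : Cfsg.Sz F m → ℂ) 1 = (((qq m - 1) * x : ℕ) : ℂ) ∧
      (χ : Cfsg.Sz F m → ℂ) (zEl h) = (qq m : ℂ) * b - x := fun χ => by
    by_cases hO : Other h (χ : Cfsg.Sz F m → ℂ)
    · obtain ⟨x, b, h1, h2, h3, -, -⟩ := other_params h χ hO
      exact ⟨x, b, fun _ => ⟨h1, h2, h3⟩⟩
    · exact ⟨0, 0, fun e => absurd e hO⟩
  choose X B hXB using hdata
  let O := Finset.univ.filter fun χ : IrrCharacter (Cfsg.Sz F m) => Other h (χ : Cfsg.Sz F m → ℂ)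
  suffices hX : ∃ χ ∈ O, s ∣ X χ by
    obtain ⟨χ, hχ, hd⟩ := hX
    exact ⟨_, ⟨χ, degree_eq h T (hXB χ (Finset.mem_filter.1 hχ).2).2.1⟩, mul_dvd_mul_left _ hd⟩
  -- sums over the characters vanishing nowhere at `g`
  have hsplit : ∀ Φ : IrrCharacter (Cfsg.Sz F m) → ℂ,
      (∀ χ : IrrCharacter (Cfsg.Sz F m), (χ : Cfsg.Sz F m → ℂ) g = 0 → Φ χ = 0) →
      ∑ χ, Φ χ = Φ (oneG F m) + Φ (st h) + ∑ χ ∈ O, Φ χ := by
    intro Φ hΦ
    rw [← Finset.sum_filter_add_sum_filter_not Finset.univ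
      (fun χ : IrrCharacter (Cfsg.Sz F m) => Other h (χ : Cfsg.Sz F m → ℂ)), add_comm]
    congr 1
    rw [← Finset.sum_pair (f := Φ) (st_ne_oneG h).symm]
    refine (Finset.sum_subset ?_ ?_).symm
    · intro χ hχ
      simp only [Finset.mem_insert, Finset.mem_singleton] at hχ
      refine Finset.mem_filter.2 ⟨Finset.mem_univ _, ?_⟩
      rcases hχ with rfl | rfl
      · exact not_other_oneG h
      · exact not_other_st h
    · intro χ hχ hne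
      simp only [Finset.mem_insert, Finset.mem_singleton, not_or] at hne
      exact hΦ χ (fpf_zero_of_not_other h χ (Finset.mem_filter.1 hχ).2 hne.1 hne.2 hgf)
  have hab : ¬((0 : F) = 0 ∧ (1 : F) = 0) := fun e => one_ne_zero e.2
  have hst0 : (st h : Cfsg.Sz F m → ℂ) (zEl h) = 0 := st_uEl h hab
  have hzg : ¬ IsConj g (zEl h) := by
    intro hc
    obtain ⟨c, hc⟩ := isConj_iff.1 hc
    exact (hgf.conj c) _ (by rw [hc]; exact uEl_smul_inf h 0 1)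
  have hzr : ∀ χ : IrrCharacter (Cfsg.Sz F m),
      conj ((χ : Cfsg.Sz F m → ℂ) (zEl h)) = (χ : Cfsg.Sz F m → ℂ) (zEl h) := fun χ => by
    rw [← char_inv_eq_conj (irr_isCharacter χ), inv_eq_of_mul_eq_one_right (zEl_sq h)]
  have hq0 : (qq m : ℂ) ≠ 0 := Nat.cast_ne_zero.2 (by omega)
  have hq1 : (qq m : ℂ) - 1 ≠ 0 := sub_ne_zero.2 fun e => by
    have : qq m = 1 := by exact_mod_cast e
    omega
  have c1 : (qq m : ℂ) ^ 2 - 1 =
      ∑ χ ∈ O, ((qq m : ℂ) - 1) * (X χ : ℂ) * (χ : Cfsg.Sz F m → ℂ) g := by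
    have e := sum_apply_one_mul g
    rw [if_neg hg1, hsplit _ (fun χ e => by rw [e, mul_zero]),
      st_one h, st_fpf h hgf] at e
    simp only [oneG, mul_one] at e
    rw [Finset.sum_congr rfl (g := fun χ : IrrCharacter (Cfsg.Sz F m) =>
      ((qq m : ℂ) - 1) * (X χ : ℂ) * (χ : Cfsg.Sz F m → ℂ) g) fun χ hχ => ?_] at e
    · linear_combination -e
    · rw [(hXB χ (Finset.mem_filter.1 hχ).2).2.1, Nat.cast_mul, Nat.cast_sub (by omega : 1 ≤ qq m),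
        Nat.cast_one]
  have c2 : (-1 : ℂ) = ∑ χ ∈ O, ((qq m : ℂ) * (B χ : ℂ) - (X χ : ℂ)) * (χ : Cfsg.Sz F m → ℂ) g := by
    have e := column_orth g (zEl h)
    rw [if_neg hzg, hsplit _ (fun χ e => by rw [e, zero_mul]), hst0] at e
    simp only [oneG, map_one, mul_one, map_zero, mul_zero, add_zero] at e
    rw [Finset.sum_congr rfl (g := fun χ : IrrCharacter (Cfsg.Sz F m) =>
      ((qq m : ℂ) * (B χ : ℂ) - (X χ : ℂ)) * (χ : Cfsg.Sz F m → ℂ) g) fun χ hχ => ?_] at e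
    · linear_combination -e
    · rw [hzr χ, (hXB χ (Finset.mem_filter.1 hχ).2).2.2]; ring
  have hC : ∀ i : DecidablePred (IsConj (zEl h)),
      ((@Finset.filter (Cfsg.Sz F m) (IsConj (zEl h)) i Finset.univ).card : ℂ) =
      ((qq m : ℂ) ^ 2 + 1) * ((qq m : ℂ) - 1) := by
    intro i
    rw [show (@Finset.filter (Cfsg.Sz F m) (IsConj (zEl h)) i Finset.univ).card =
      (Subgroup.centralizer ({zEl h} : Set (Cfsg.Sz F m))).index from by
      convert card_filter_isConj (zEl h)]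
    have e := (Subgroup.centralizer ({zEl h} : Set (Cfsg.Sz F m))).card_mul_index
    rw [card_centralizer_zEl h, card_sz h, mul_assoc] at e
    rw [Nat.eq_of_mul_eq_mul_left (pow_pos (Nat.two_pow_pos _) 2) e, Nat.cast_mul,
      Nat.cast_sub Nat.one_le_two_pow]
    simp [qq]
  have hgg : g ^ 2 ≠ 1 := fun e => hgf (inf' F m) (by
    exfalso
    have h2 : orderOf g ∣ 2 := orderOf_dvd_of_pow_eq_one e
    have h3 : orderOf g ∣ 4 * n + 1 := by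
      refine orderOf_dvd_of_pow_eq_one ?_
      rw [← hK.card]
      exact congrArg Subtype.val (pow_card_eq_one' (x := (⟨g, hgK⟩ : K)))
    have : orderOf g ∣ 1 := by
      have e4 : Nat.gcd 2 (4 * n + 1) = 1 := by
        rw [show 4 * n + 1 = 2 * (2 * n) + 1 by ring, Nat.gcd_mul_left_add_right]; norm_num
      exact e4 ▸ Nat.dvd_gcd h2 h3
    exact hg1 (orderOf_eq_one_iff.1 (Nat.dvd_one.1 this)))
  have c3 : ((qq m : ℂ) - 1) * (qq m : ℂ) ^ 2 * (((qq m : ℂ) ^ 2 + 1) * ((4 * n + 1 : ℕ) : ℂ)) =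
      (((qq m : ℂ) ^ 2 + 1) * ((qq m : ℂ) - 1)) ^ 2 * (1 + ∑ χ ∈ O,
        ((qq m : ℂ) * (B χ : ℂ) - (X χ : ℂ)) ^ 2 * (χ : Cfsg.Sz F m → ℂ) g /
          (((qq m : ℂ) - 1) * (X χ : ℂ))) := by
    obtain ⟨Sg, hSg, hcard⟩ : ∃ Sg : Finset (Cfsg.Sz F m),
        (∀ x, x ∈ Sg ↔ x ≠ 1 ∧ x * x = 1 ∧ x * g * x⁻¹ = g⁻¹ ∧ x ≠ g) ∧ Sg.card = 4 * n + 1 := by
      refine ⟨_, fun x => ?_, hK.card_inverting hgK hg1⟩
      simp only [Finset.mem_filter, Finset.mem_univ, true_and]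
      exact ⟨fun hh => ⟨hh.1, hh.2.1, hh.2.2, fun e => hgg (by rw [← e, sq]; exact hh.2.1)⟩,
        fun hh => ⟨hh.1, hh.2.1, hh.2.2.1⟩⟩
    have e := involution_products (zEl h) (zEl_sq h) (zEl_ne_one h) (fun x hx hx2 => isConj_zEl h hx hx2) g
      Sg hSg
    rw [hsplit _ (fun χ e => by rw [e, mul_zero, zero_div]), hst0, hC, card_sz h, hcard] at e
    simp only [oneG, one_pow, mul_one, div_one, mul_zero, zero_mul, zero_div, add_zero,
      ne_eq, OfNat.ofNat_ne_zero, not_false_eq_true, zero_pow] at e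
    rw [Finset.sum_congr rfl (g := fun χ : IrrCharacter (Cfsg.Sz F m) =>
      (((qq m : ℂ) ^ 2 + 1) * ((qq m : ℂ) - 1)) ^ 2 *
        (((qq m : ℂ) * (B χ : ℂ) - (X χ : ℂ)) ^ 2 * (χ : Cfsg.Sz F m → ℂ) g /
          (((qq m : ℂ) - 1) * (X χ : ℂ)))) fun χ hχ => ?_, ← Finset.mul_sum,
      Nat.cast_mul ((2 ^ (2 * m + 1)) ^ 2 * ((2 ^ (2 * m + 1)) ^ 2 + 1) : ℕ),
      Nat.cast_sub (show 1 ≤ 2 ^ (2 * m + 1) from Nat.one_le_two_pow)] at e
    · simp only [qq] at e ⊢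
      push_cast at e ⊢
      linear_combination -e
    · obtain ⟨hx0, hx1, hx2⟩ := hXB χ (Finset.mem_filter.1 hχ).2
      rw [hx1, hx2, Nat.cast_mul, Nat.cast_sub (show 1 ≤ qq m by omega), Nat.cast_one]
      ring
  -- the sum of `b² χ(g) / x`
  have key : ∑ χ ∈ O, (B χ : ℂ) ^ 2 * (χ : Cfsg.Sz F m → ℂ) g / (X χ : ℂ) = 1 / (a : ℂ) := by
    have hsum : ∑ χ ∈ O, ((qq m : ℂ) * (B χ : ℂ) - (X χ : ℂ)) ^ 2 * (χ : Cfsg.Sz F m → ℂ) g /
          (((qq m : ℂ) - 1) * (X χ : ℂ)) =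
        ∑ χ ∈ O, (((qq m : ℂ) ^ 2 / ((qq m : ℂ) - 1)) * ((B χ : ℂ) ^ 2 * (χ : Cfsg.Sz F m → ℂ) g / (X χ : ℂ))
          - (2 / ((qq m : ℂ) - 1)) * (((qq m : ℂ) * (B χ : ℂ) - (X χ : ℂ)) * (χ : Cfsg.Sz F m → ℂ) g)
          - (1 / ((qq m : ℂ) - 1) ^ 2) * (((qq m : ℂ) - 1) * (X χ : ℂ) * (χ : Cfsg.Sz F m → ℂ) g)) := by
      refine Finset.sum_congr rfl fun χ hχ => ?_
      have hx : (X χ : ℂ) ≠ 0 := Nat.cast_ne_zero.2 (hXB χ (Finset.mem_filter.1 hχ).2).1.ne'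
      field_simp
      ring
    rw [hsum, Finset.sum_sub_distrib, Finset.sum_sub_distrib, ← Finset.mul_sum, ← Finset.mul_sum,
      ← Finset.mul_sum, ← c1, ← c2] at c3
    have hM : ((4 * n + 1 : ℕ) : ℂ) * (a : ℂ) = (qq m : ℂ) ^ 2 + 1 := by exact_mod_cast hprod
    have ha : (a : ℂ) ≠ 0 := by
      refine Nat.cast_ne_zero.2 fun e => ?_
      rw [e, mul_zero] at hprod; omega
    have hM0 : (qq m : ℂ) ^ 2 + 1 ≠ 0 := by exact_mod_cast (by positivity : qq m ^ 2 + 1 ≠ 0)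
    have ha4 : ((4 * n + 1 : ℕ) : ℂ) ≠ 0 := Nat.cast_ne_zero.2 (by omega)
    generalize ((4 * n + 1 : ℕ) : ℂ) = A at *
    generalize (∑ χ ∈ O, (B χ : ℂ) ^ 2 * (χ : Cfsg.Sz F m → ℂ) g / (X χ : ℂ)) = S at *
    generalize (qq m : ℂ) = q at *
    rw [eq_div_iff ha]
    have c3' : (q - 1) * q ^ 2 * ((q ^ 2 + 1) * A) = (q ^ 2 + 1) ^ 2 * (q - 1) * (q ^ 2 * S) := by
      rw [c3]; field_simp; ring
    have c4 : q ^ 2 * A = (q ^ 2 + 1) * (q ^ 2 * S) := by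
      apply mul_left_cancel₀ (mul_ne_zero hM0 hq1)
      linear_combination c3'
    apply mul_left_cancel₀ (mul_ne_zero (mul_ne_zero (pow_ne_zero 2 hq0) hM0) (pow_ne_zero 2 hM0))
    rw [mul_one]
    linear_combination (-(q ^ 2 + 1) ^ 2 * (a : ℂ)) * c4 + (q ^ 2 * (q ^ 2 + 1) ^ 2) * hM
  by_contra hno
  push Not at hno
  have hint : IsIntegral ℤ (((∏ χ ∈ O, X χ : ℕ) : ℂ) / (a : ℂ)) := by
    rw [div_eq_mul_one_div, ← key, Finset.mul_sum]
    refine IsIntegral.sum _ fun χ hχ => ?_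
    have hx : (X χ : ℂ) ≠ 0 := Nat.cast_ne_zero.2 (hXB χ (Finset.mem_filter.1 hχ).2).1.ne'
    rw [← Finset.mul_prod_erase _ _ hχ, Nat.cast_mul,
      show (X χ : ℂ) * ((∏ ψ ∈ O.erase χ, X ψ : ℕ) : ℂ) * ((B χ : ℂ) ^ 2 * (χ : Cfsg.Sz F m → ℂ) g / (X χ : ℂ)) =
        (((∏ ψ ∈ O.erase χ, X ψ) * B χ ^ 2 : ℕ) : ℂ) * (χ : Cfsg.Sz F m → ℂ) g by
        push_cast; field_simp]
    exact (isIntegral_algebraMap (R := ℤ) (x := (((∏ ψ ∈ O.erase χ, X ψ) * B χ ^ 2 : ℕ) : ℤ))).mul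
      (isIntegral_of_isCharacter (irr_isCharacter χ) g)
  have ha0 : 0 < a := Nat.pos_of_ne_zero fun e => by rw [e, mul_zero] at hprod; omega
  have hL := hsa.trans (dvd_of_isIntegral_div ha0 hint)
  obtain ⟨χ, hχ, hd⟩ := (hs.prime.dvd_finsetProd_iff _).1 hL
  exact hno χ hχ hd

omit T in
theorem succ_mem : qq m ^ 2 + 1 ∈ charDegrees (Cfsg.Sz F m) := by
  obtain ⟨μ, hμ⟩ := exists_ne_one' h
  refine ⟨⟨ps h μ, ps_irr h μ hμ⟩, ?_⟩
  show ⌊(ps h μ 1).re⌋₊ = _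
  rw [ps_one h]
  rw [show (qq m : ℂ) ^ 2 + 1 = ((qq m ^ 2 + 1 : ℕ) : ℂ) by simp [qq], Complex.natCast_re, Nat.floor_natCast]

omit T in
theorem degree_facts :
    qq m ^ 2 + 1 ∈ charDegrees (Cfsg.Sz F m) ∧
      (∃ d ∈ charDegrees (Cfsg.Sz F m), 2 * (qq m - 1) ∣ d) ∧
      (∀ s : ℕ, s.Prime → s ∣ qq m ^ 2 + 1 →
        ∃ d ∈ charDegrees (Cfsg.Sz F m), (qq m - 1) * s ∣ d) ∧
      (∀ s d : ℕ, s.Prime → s ∣ qq m ^ 2 + 1 → d ∈ charDegrees (Cfsg.Sz F m) →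
        ¬ (2 ∣ d ∧ s ∣ d)) := by
  obtain ⟨Kp, Km, T⟩ := exists_tori' h
  obtain ⟨-, -, hprod, -, -, -, hm1, hlt⟩ := arith h.one_le
  refine ⟨succ_mem h, exists_even h T, fun s hs hsd => ?_, fun s d hs hsd hd => no_even h T hs hsd hd⟩
  rcases hs.dvd_mul.1 (hprod ▸ hsd) with e | e
  · exact exists_prime_mul h T T.hm hm1 (by rw [mul_comm]; exact hprod) hs e
  · exact exists_prime_mul h T T.hp (by omega) hprod hs e

end gfin

end Cfsg.Agent.Chars.SzD
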