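import Cfsg.Agent.Chars.SzGraph

/-!
The three types of irreducible characters of a Suzuki group without fixed vector for the unipotent
subgroup: their degrees and values on involutions, elements of order four and tori.
-/

set_option autoImplicit false
set_option linter.style.haveILetI false
set_option linter.unusedSectionVars false

namespace Cfsg.Agent.Chars.SzD

open Cfsg Cfsg.Agent Cfsg.Agent.Suzuki Cfsg.Agent.Chars.SzTorus
open scoped ComplexConjugate

/-- The part of the norm inequality not involving the tori. -/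
def normForm (q M x b : ℤ) : ℤ := (q + 1) * x ^ 2 - 2 * M * b * x + M * (q + 1) * b ^ 2

theorem normForm_pos {q M x b : ℤ} (hq : 0 < q) (hM : M = q ^ 2 + 1) (hx : 0 < x) :
    0 < normForm q M x b := by
  have hM0 : 0 ≤ M := by rw [hM]; positivity
  have h1 : 0 < (q + 1) * normForm q M x b := by
    have e : (q + 1) * normForm q M x b = 2 * q * x ^ 2 + M * ((q + 1) * b - x) ^ 2 := by
      simp only [normForm, hM]; ring
    rw [e]
    have := mul_nonneg hM0 (sq_nonneg ((q + 1) * b - x))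
    have : 0 < 2 * q * x ^ 2 := by positivity
    linarith
  exact (mul_pos_iff_of_pos_left (by linarith)).1 h1

/-- The arithmetic of a character constant on both tori. -/
theorem arith_const {y wp wm x b : ℤ} (hy : 1 ≤ y) (hx : 0 < x) (hb : 0 ≤ b) (hpar : 2 ∣ x + b)
    (hxw : x = (2 * y ^ 2 + y) * wp * (4 * (2 * y ^ 2 - y) + 1) +
      (2 * y ^ 2 - y) * wm * (4 * (2 * y ^ 2 + y) + 1))
    (hE : normForm (8 * y ^ 2) (64 * y ^ 4 + 1) x b +
        8 * y ^ 2 * (4 * (2 * y ^ 2 - y) + 1) * ((2 * y ^ 2 + y) * wp ^ 2) +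
        8 * y ^ 2 * (4 * (2 * y ^ 2 + y) + 1) * ((2 * y ^ 2 - y) * wm ^ 2) ≤
      8 * y ^ 2 * (64 * y ^ 4 + 1)) :
    (wp = 1 ∧ wm = -1 ∧ x = 2 * y ∧ b = 0) ∨ (y = 1 ∧ wp = 0 ∧ wm = 1 ∧ x = 13 ∧ b = 1) := by
  have hF := normForm_pos (q := 8 * y ^ 2) (M := 64 * y ^ 4 + 1) (x := x) (b := b) (by positivity)
    (by ring) hx
  have hy2 : y ≤ y ^ 2 := by nlinarith
  have hA : 0 ≤ (2 * y ^ 2 + y) := by nlinarith
  have hB : 0 < (2 * y ^ 2 - y) := by nlinarith
  rcases (show y = 1 ∨ 2 ≤ y by omega) with rfl | hy'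
  · norm_num [normForm] at hE hxw hF
    have hw1 : wp ^ 2 ≤ 4 := by nlinarith
    have hw2 : wm ^ 2 ≤ 4 := by nlinarith
    have hx17 : x ≤ 17 := by nlinarith [sq_nonneg (9 * b - x)]
    have hb8 : b ≤ 8 := by
      by_contra hb'
      push Not at hb'
      nlinarith
    have a1 : -2 ≤ wp := by nlinarith
    have a2 : wp ≤ 2 := by nlinarith
    have a3 : -2 ≤ wm := by nlinarith
    have a4 : wm ≤ 2 := by nlinarith
    interval_cases wp <;> interval_cases wm <;>
      (first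
        | omega
        | (norm_num at hxw
           subst hxw
           interval_cases b <;> first | omega | (norm_num at hE)))
  -- the sum of the two values vanishes
  have hs : wp + wm = 0 := by
    by_contra hne
    have hq2 : 2 * x ^ 2 ≤ (64 * y ^ 4 + 1) * (8 * y ^ 2 + 1) := by
      have e : (8 * y ^ 2 + 1) * normForm (8 * y ^ 2) (64 * y ^ 4 + 1) x b =
          16 * y ^ 2 * x ^ 2 + (64 * y ^ 4 + 1) * ((8 * y ^ 2 + 1) * b - x) ^ 2 := by
        simp only [normForm]; ring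
      have t1 : 0 ≤ 8 * y ^ 2 * (4 * (2 * y ^ 2 - y) + 1) * ((2 * y ^ 2 + y) * wp ^ 2) := by
        have : 0 ≤ (4 * (2 * y ^ 2 - y) + 1) := by linarith
        positivity
      have t2 : 0 ≤ 8 * y ^ 2 * (4 * (2 * y ^ 2 + y) + 1) * ((2 * y ^ 2 - y) * wm ^ 2) := by
        have := hB.le
        positivity
      refine le_of_mul_le_mul_left ?_ (show 0 < 8 * y ^ 2 by positivity)
      nlinarith [mul_nonneg (show 0 ≤ 64 * y ^ 4 + 1 by positivity)
        (sq_nonneg ((8 * y ^ 2 + 1) * b - x))]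
    have hwp : wp ^ 2 ≤ 4 := by
      by_contra hw
      push Not at hw
      have t2 : 0 ≤ 8 * y ^ 2 * (4 * (2 * y ^ 2 + y) + 1) * ((2 * y ^ 2 - y) * wm ^ 2) := by
        have := hB.le
        positivity
      have t1 : (2 * y ^ 2 + y) * 5 ≤ (2 * y ^ 2 + y) * wp ^ 2 :=
        mul_le_mul_of_nonneg_left (by omega) hA
      have t3 := mul_le_mul_of_nonneg_left t1
        (show 0 ≤ 8 * y ^ 2 * (4 * (2 * y ^ 2 - y) + 1) by
          have : 0 ≤ (4 * (2 * y ^ 2 - y) + 1) := by linarith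
          positivity)
      nlinarith
    have hwm : wm ^ 2 ≤ 4 := by
      by_contra hw
      push Not at hw
      have t1 : 0 ≤ 8 * y ^ 2 * (4 * (2 * y ^ 2 - y) + 1) * ((2 * y ^ 2 + y) * wp ^ 2) := by
        have : 0 ≤ (4 * (2 * y ^ 2 - y) + 1) := by linarith
        positivity
      have t2 : (2 * y ^ 2 - y) * 5 ≤ (2 * y ^ 2 - y) * wm ^ 2 :=
        mul_le_mul_of_nonneg_left (by omega) hB.le
      have t3 := mul_le_mul_of_nonneg_left t2
        (show 0 ≤ 8 * y ^ 2 * (4 * (2 * y ^ 2 + y) + 1) by positivity)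
      nlinarith
    have e : x = (wp + wm) * (16 * y ^ 4 - 2 * y ^ 2) + y * (wp - wm) := by rw [hxw]; ring
    have d1 : -4 ≤ wp - wm ∧ wp - wm ≤ 4 := by
      have : -2 ≤ wp := by nlinarith
      have : wp ≤ 2 := by nlinarith
      have : -2 ≤ wm := by nlinarith
      have : wm ≤ 2 := by nlinarith
      omega
    have h12 : 12 * y ^ 4 ≤ x := by
      rcases (show 1 ≤ wp + wm ∨ wp + wm ≤ -1 by omega) with h | h
      · rw [e]
        have t1 : 1 * (16 * y ^ 4 - 2 * y ^ 2) ≤ (wp + wm) * (16 * y ^ 4 - 2 * y ^ 2) :=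
          mul_le_mul_of_nonneg_right h (by nlinarith)
        have t2 : y * (-4) ≤ y * (wp - wm) := mul_le_mul_of_nonneg_left d1.1 (by linarith)
        nlinarith
      · exfalso
        have t1 : (wp + wm) * (16 * y ^ 4 - 2 * y ^ 2) ≤ (-1) * (16 * y ^ 4 - 2 * y ^ 2) :=
          mul_le_mul_of_nonneg_right h (by nlinarith)
        have t2 : y * (wp - wm) ≤ y * 4 := mul_le_mul_of_nonneg_left d1.2 (by linarith)
        nlinarith
    have h4 : (4 : ℤ) ≤ y ^ 2 := by nlinarith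
    have e1 : (12 * y ^ 4) ^ 2 ≤ x ^ 2 := pow_le_pow_left₀ (by positivity) h12 2
    have e2 : (0 : ℤ) < y ^ 2 := by positivity
    nlinarith [mul_le_mul_of_nonneg_left h4 (show (0 : ℤ) ≤ y ^ 6 by positivity),
      mul_le_mul_of_nonneg_left h4 (show (0 : ℤ) ≤ y ^ 4 by positivity)]
  obtain rfl : wm = -wp := by linarith
  have ex : x = 2 * y * wp := by rw [hxw]; ring
  have hwpos : 0 < wp := by
    by_contra hle
    push Not at hle
    nlinarith
  have hw1 : wp = 1 := by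
    by_contra hne
    have h4 : 4 ≤ wp ^ 2 := by nlinarith [(by omega : 2 ≤ wp)]
    have t := mul_le_mul_of_nonneg_left h4
      (show 0 ≤ 32 * y ^ 4 - 4 * y ^ 2 by nlinarith)
    have e : 8 * y ^ 2 * (4 * (2 * y ^ 2 - y) + 1) * ((2 * y ^ 2 + y) * wp ^ 2) +
        8 * y ^ 2 * (4 * (2 * y ^ 2 + y) + 1) * ((2 * y ^ 2 - y) * (-wp) ^ 2) =
        8 * y ^ 2 * ((32 * y ^ 4 - 4 * y ^ 2) * wp ^ 2) := by ring
    have hh : 64 * y ^ 4 + 1 < (32 * y ^ 4 - 4 * y ^ 2) * wp ^ 2 := by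
      have h16 : y ^ 2 ≤ y ^ 4 := by nlinarith
      nlinarith
    linarith [mul_lt_mul_of_pos_left hh (show (0 : ℤ) < 8 * y ^ 2 by positivity)]
  subst hw1
  rw [mul_one] at ex
  refine Or.inl ⟨rfl, rfl, ex, ?_⟩
  by_contra hne
  obtain ⟨c, hc⟩ := hpar
  have hb2 : 2 ≤ b := by omega
  subst ex
  simp only [normForm] at hE
  have t1 : (8 * y ^ 2 + 1) * 2 ≤ (8 * y ^ 2 + 1) * b := mul_le_mul_of_nonneg_left hb2 (by positivity)
  have t2 := mul_le_mul_of_nonneg_left t1 (show 0 ≤ (64 * y ^ 4 + 1) * b by positivity)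
  have t3 : 2 * ((64 * y ^ 4 + 1) * (16 * y ^ 2 + 2 - 4 * y)) ≤
      b * ((64 * y ^ 4 + 1) * (16 * y ^ 2 + 2 - 4 * y)) :=
    mul_le_mul_of_nonneg_right hb2 (mul_nonneg (by positivity) (by nlinarith))
  nlinarith [mul_nonneg (show 0 ≤ 64 * y ^ 4 + 1 by positivity) (show 0 ≤ 8 * y ^ 2 - 4 * y by nlinarith)]

/-- The arithmetic of a character constant on exactly one torus. -/
theorem arith_mixed {A B q u σ w x b : ℤ} (hA : 6 ≤ A) (hB : 1 ≤ B) (hBA : B ≤ 2 * A)
    (hM : q ^ 2 + 1 = (4 * A + 1) * (4 * B + 1)) (hq : 2 * (q + 1) = 4 * A + 1 + (4 * B + 1))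
    (hσ : σ = 1 ∨ σ = -1) (hx : 0 < x) (hb : 0 ≤ b) (hpar : 2 ∣ x + b)
    (hxw : x = (A * u - σ) * (4 * B + 1) + B * w * (4 * A + 1))
    (hE : normForm q (q ^ 2 + 1) x b + q * (4 * B + 1) * (A * u ^ 2 - 2 * σ * u + (4 * A + 1) - 4) +
        q * (4 * A + 1) * (B * w ^ 2) ≤ q * (q ^ 2 + 1)) :
    w = 0 ∧ x = 4 * B + 1 ∧ b = 1 ∧
      normForm q (q ^ 2 + 1) x b + q * (4 * B + 1) * (A * u ^ 2 - 2 * σ * u + (4 * A + 1) - 4) +
        q * (4 * A + 1) * (B * w ^ 2) = q * (q ^ 2 + 1) := by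
  have hq0 : 0 < q := by linarith
  have hF := normForm_pos (b := b) hq0 rfl hx
  have hL : (4 * B + 1) * (A * u ^ 2 - 2 * σ * u - 4) + (4 * A + 1) * (B * w ^ 2) < 0 := by
    by_contra hge
    push Not at hge
    have t := mul_nonneg hq0.le hge
    have e : q * (4 * B + 1) * (A * u ^ 2 - 2 * σ * u + (4 * A + 1) - 4) +
        q * (4 * A + 1) * (B * w ^ 2) = q * (q ^ 2 + 1) +
        q * ((4 * B + 1) * (A * u ^ 2 - 2 * σ * u - 4) + (4 * A + 1) * (B * w ^ 2)) := by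
      rw [hM]; ring
    linarith
  have hBw : 0 ≤ (4 * A + 1) * (B * w ^ 2) :=
    mul_nonneg (by linarith) (mul_nonneg (by linarith) (sq_nonneg w))
  have hu : u = 0 := by
    by_contra hne
    have hu2 : 1 ≤ u ^ 2 := by
      have : 0 < u ^ 2 := by positivity
      omega
    have hsu : 2 * σ * u ≤ 2 * u ^ 2 := by
      rcases hσ with rfl | rfl <;> rcases (show 1 ≤ u ∨ u ≤ -1 by omega) with h | h <;> nlinarith
    have h1 : 0 ≤ A * u ^ 2 - 2 * σ * u - 4 := by
      nlinarith [mul_le_mul_of_nonneg_left hu2 (show 0 ≤ A - 2 by linarith)]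
    nlinarith [mul_nonneg (show 0 ≤ 4 * B + 1 by linarith) h1]
  subst hu
  have hw : w = 0 := by
    by_contra hne
    have hw2 : 1 ≤ w ^ 2 := by
      have : 0 < w ^ 2 := by positivity
      omega
    nlinarith [mul_le_mul_of_nonneg_left hw2 (show 0 ≤ (4 * A + 1) * B by positivity),
      mul_le_mul_of_nonneg_right hA (show 0 ≤ B by linarith)]
  subst hw
  have ex : x = -σ * (4 * B + 1) := by rw [hxw]; ring
  obtain rfl : σ = -1 := by
    rcases hσ with rfl | rfl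
    · linarith
    · rfl
  obtain rfl : x = 4 * B + 1 := by rw [ex]; ring
  have hb1 : b = 1 := by
    by_contra hne
    obtain ⟨c, hc⟩ := hpar
    have hb3 : 3 ≤ b := by omega
    have h2 : 3 * (4 * B + 1) ≤ 4 * (q + 1) := by linarith
    simp only [normForm] at hE
    have e : q * (4 * B + 1) * (A * (0 : ℤ) ^ 2 - 2 * (-1) * 0 + (4 * A + 1) - 4) +
        q * (4 * A + 1) * (B * (0 : ℤ) ^ 2) = q * (q ^ 2 + 1) - 4 * q * (4 * B + 1) := by
      rw [hM]; ring
    have t1 : (q + 1) * 3 ≤ (q + 1) * b := mul_le_mul_of_nonneg_left hb3 (by linarith)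
    have t2 := mul_le_mul_of_nonneg_left t1 (show 0 ≤ (q ^ 2 + 1) * b by positivity)
    have t3 := mul_le_mul_of_nonneg_left h2 (show 0 ≤ (q ^ 2 + 1) * b by positivity)
    have t4 : 3 * ((q ^ 2 + 1) * (q + 1)) ≤ b * ((q ^ 2 + 1) * (q + 1)) :=
      mul_le_mul_of_nonneg_right hb3 (by positivity)
    have t5 : 4 * q * (4 * B + 1) < (q ^ 2 + 1) * (q + 1) := by
      rw [hM]
      have : 4 * q < (4 * A + 1) * (q + 1) := by nlinarith
      nlinarith [mul_lt_mul_of_pos_left this (show (0 : ℤ) < 4 * B + 1 by linarith)]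
    nlinarith [sq_nonneg (4 * B + 1)]
  subst hb1
  refine ⟨rfl, rfl, rfl, ?_⟩
  simp only [normForm]
  linear_combination (-(4 * B + 1) * (q + 1)) * hq + hM

/-- The exceptional case of the smallest group. -/
theorem arith_mixed_eight {u σ w x b : ℤ} (hσ : σ = 1 ∨ σ = -1) (hx : 0 < x) (hb : 0 ≤ b)
    (hpar : 2 ∣ x + b) (hxw : x = (3 * u - σ) * 5 + w * 13)
    (hE : normForm 8 65 x b + 40 * (3 * u ^ 2 - 2 * σ * u + 9) + 104 * w ^ 2 ≤ 520) :
    w = 0 ∧ x = 5 ∧ b = 1 ∧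
      normForm 8 65 x b + 40 * (3 * u ^ 2 - 2 * σ * u + 9) + 104 * w ^ 2 = 520 := by
  simp only [normForm] at hE ⊢
  have hF := normForm_pos (q := 8) (M := 65) (b := b) (by norm_num) (by norm_num) hx
  simp only [normForm] at hF
  have u1 : -1 ≤ u := by rcases hσ with rfl | rfl <;> nlinarith
  have u2 : u ≤ 1 := by rcases hσ with rfl | rfl <;> nlinarith
  have w1 : -1 ≤ w := by rcases hσ with rfl | rfl <;> nlinarith
  have w2 : w ≤ 1 := by rcases hσ with rfl | rfl <;> nlinarith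
  have hx33 : x ≤ 33 := by rcases hσ with rfl | rfl <;> omega
  have hb8 : b ≤ 8 := by
    by_contra hb'
    push Not at hb'
    nlinarith
  rcases hσ with rfl | rfl <;> interval_cases u <;> interval_cases w <;>
    (first
      | omega
      | (norm_num at hxw
         subst hxw
         interval_cases b <;> first | omega | (norm_num at hE) | norm_num))

theorem arith_y {m : ℕ} (hm : 1 ≤ m) :
    ∃ y : ℤ, 1 ≤ y ∧ (m = 1 → y = 1) ∧ (y = 1 → m = 1) ∧ ((2 ^ m : ℕ) : ℤ) = 2 * y ∧ (qq m : ℤ) = 8 * y ^ 2 ∧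
      (np m : ℤ) = 2 * y ^ 2 + y ∧ (nm m : ℤ) = 2 * y ^ 2 - y := by
  obtain ⟨j, rfl⟩ : ∃ j, m = j + 1 := ⟨m - 1, by omega⟩
  refine ⟨((2 ^ j : ℕ) : ℤ), by exact_mod_cast Nat.one_le_two_pow, fun e => ?_, fun e => ?_, ?_, ?_, ?_, ?_⟩
  · rw [show j = 0 by omega]; rfl
  · have e' : 2 ^ j = 1 := by exact_mod_cast e
    have := Nat.pow_eq_one.1 e'
    omega
  · push_cast; ring
  · simp only [qq]; push_cast; rw [← pow_mul, show 2 * (j + 1) + 1 = j * 2 + 3 by ring, pow_add]; ring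
  · simp only [np, show 2 * (j + 1) - 1 = j * 2 + 1 by omega, Nat.add_sub_cancel]
    push_cast; rw [← pow_mul, pow_add]; ring
  · simp only [nm, show 2 * (j + 1) - 1 = j * 2 + 1 by omega, Nat.add_sub_cancel]
    rw [Nat.cast_sub (Nat.pow_le_pow_right (by norm_num) (by omega))]
    push_cast; rw [← pow_mul, pow_add]; ring

variable {F : Type*} [Field F] {m : ℕ} (h : Ctx F m)
include h

variable [Fintype (Cfsg.Sz F m)] [Fintype F] [Fintype Fˣ]

/-- The two conjugate characters of small degree. -/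
structure TypeN (Kp Km : Subgroup (Cfsg.Sz F m)) (χ : Cfsg.Sz F m → ℂ) : Prop where
  one : χ 1 = (((qq m - 1) * 2 ^ m : ℕ) : ℂ)
  z : χ (zEl h) = -((2 ^ m : ℕ) : ℂ)
  y : (χ (yEl h)).re = 0
  ynorm : Complex.normSq (χ (yEl h)) ≤ ((2 ^ m : ℕ) : ℝ) ^ 2
  plus : ConstOn Kp χ 1
  minus : ConstOn Km χ (-1)

/-- The characters exceptional at one torus, vanishing on the other torus `K₀`. -/
structure TypeE (K₀ : Subgroup (Cfsg.Sz F m)) (n₀ : ℕ) (χ : Cfsg.Sz F m → ℂ) : Prop where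
  one : χ 1 = (((qq m - 1) * (4 * n₀ + 1) : ℕ) : ℂ)
  z : χ (zEl h) = (qq m : ℂ) - ((4 * n₀ + 1 : ℕ) : ℂ)
  y : χ (yEl h) = -1
  zero : ConstOn K₀ χ 0

variable {Kp Km : Subgroup (Cfsg.Sz F m)} (T : Tori Kp Km)
include T

theorem classify_other (χ : IrrCharacter (Cfsg.Sz F m)) (hO : Other h (χ : Cfsg.Sz F m → ℂ)) :
    TypeN h Kp Km (χ : Cfsg.Sz F m → ℂ) ∨ TypeE h Km (nm m) (χ : Cfsg.Sz F m → ℂ) ∨
      TypeE h Kp (np m) (χ : Cfsg.Sz F m → ℂ) := by
  obtain ⟨x, b, hx, h1, hz, hy, hpar⟩ := other_params h χ hO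
  have hn := other_norm h T.hp T.hm T.cover χ h1 hz hy
  obtain ⟨-, -, hprod, hsum, -, h8, hm1, hlt⟩ := arith h.one_le
  obtain ⟨y, hy1, hmy, hym, h2m, hqy, hpy, hmy'⟩ := arith_y h.one_le
  have hxz : (0 : ℤ) < (x : ℤ) := by exact_mod_cast hx
  have hparz : (2 : ℤ) ∣ (x : ℤ) + (b : ℤ) := by exact_mod_cast hpar
  have hre : ((χ : Cfsg.Sz F m → ℂ) (yEl h)).re = -(b : ℝ) := by
    have := congrArg Complex.re hy
    simp at this
    linarith
  have hI0 : (0 : ℝ) ≤ ((qq m : ℝ) ^ 2 + 1) * ((χ : Cfsg.Sz F m → ℂ) (yEl h)).im ^ 2 := by positivity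
  have hyval : b = 1 → ((χ : Cfsg.Sz F m → ℂ) (yEl h)).im = 0 → (χ : Cfsg.Sz F m → ℂ) (yEl h) = -1 := by
    intro hb hi
    apply Complex.ext
    · rw [hre, hb]; simp
    · rw [hi]; simp
  rcases T.hp.classify_full χ with ⟨wp, hwp⟩ | ⟨hdp, hnp, u, σ, hσ, hsp, hqp⟩ <;>
    rcases T.hm.classify_full χ with ⟨wm, hwm⟩ | ⟨hdm, hnm, u', σ', hσ', hsm, hqm⟩
  · -- constant on both tori
    have hxN := other_torus_sum h T.hp T.hm T.cover χ hO h1 (Np := (np m : ℤ) * wp) (Nm := (nm m : ℤ) * wm)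
      (by rw [T.hp.sum_const hwp, mul_assoc]) (by rw [T.hm.sum_const hwm, mul_assoc])
    rw [normSq_const h T.hp hwp, normSq_const h T.hm hwm] at hn
    have hE : normForm (qq m : ℤ) ((qq m : ℤ) ^ 2 + 1) x b +
        (qq m : ℤ) * (4 * (nm m : ℤ) + 1) * ((np m : ℤ) * wp ^ 2) +
        (qq m : ℤ) * (4 * (np m : ℤ) + 1) * ((nm m : ℤ) * wm ^ 2) ≤
        (qq m : ℤ) * ((qq m : ℤ) ^ 2 + 1) := by
      rw [← Int.cast_le (R := ℝ)]
      simp only [normForm, Int.cast_add, Int.cast_mul, Int.cast_sub, Int.cast_pow, Int.cast_natCast,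
        Int.cast_ofNat, Int.cast_one]
      linarith
    rw [hqy, hpy, hmy', show (8 * y ^ 2) ^ 2 + 1 = 64 * y ^ 4 + 1 by ring] at hE
    rw [hpy, hmy'] at hxN
    rcases arith_const hy1 hxz (Int.natCast_nonneg b) hparz hxN hE with ⟨rfl, rfl, ex, eb⟩ | ⟨rfl, rfl, rfl, ex, eb⟩
    · left
      obtain rfl : b = 0 := by exact_mod_cast eb
      have exn : x = 2 ^ m := by exact_mod_cast ex.trans h2m.symm
      subst exn
      refine ⟨h1, by rw [hz]; push_cast; ring, by rw [hre]; simp, ?_, hwp, hwm⟩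
      rw [Complex.normSq_apply, hre]
      have hq2 : (qq m : ℝ) = 2 * ((2 ^ m : ℕ) : ℝ) ^ 2 := by
        simp only [qq]; push_cast; rw [← pow_mul, pow_succ', mul_comm m]
      have hprodR : (4 * (np m : ℝ) + 1) * (4 * (nm m : ℝ) + 1) = (qq m : ℝ) ^ 2 + 1 := by
        exact_mod_cast hprod
      have hnsum : (4 * (nm m : ℝ) + 1) * (np m : ℝ) + (4 * (np m : ℝ) + 1) * (nm m : ℝ) =
          ((qq m : ℝ) ^ 2 + 1 - ((qq m : ℝ) + 1)) / 2 := by
        have hsumR : (4 * (np m : ℝ) + 1) + (4 * (nm m : ℝ) + 1) = 2 * ((qq m : ℝ) + 1) := by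
          exact_mod_cast hsum
        linear_combination (1 / 2 : ℝ) * hprodR - (1 / 4 : ℝ) * hsumR
      have hM0 : (0 : ℝ) < (qq m : ℝ) ^ 2 + 1 := by positivity
      refine le_of_mul_le_mul_left ?_ hM0
      simp only [Nat.cast_zero, neg_zero, mul_zero, zero_mul, sub_zero, add_zero, ne_eq,
        OfNat.ofNat_ne_zero, not_false_eq_true, zero_pow, Int.cast_one, one_pow, mul_one,
        Int.cast_neg, neg_sq, zero_add] at hn ⊢
      generalize ((χ : Cfsg.Sz F m → ℂ) (yEl h)).im = I at hn ⊢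
      generalize ((2 ^ m : ℕ) : ℝ) = w at hn hq2 ⊢
      generalize (qq m : ℝ) = q at hn hq2 hnsum hprodR ⊢
      subst hq2
      nlinarith [hn, hnsum]
    · right; right
      have hm' : m = 1 := hym rfl
      obtain rfl : b = 1 := by exact_mod_cast eb
      obtain rfl : x = 13 := by exact_mod_cast ex
      subst hm'
      refine ⟨by rw [h1]; norm_num [np], by rw [hz]; norm_num [np], hyval rfl ?_, hwp⟩
      norm_num [qq, np, nm] at hn
      nlinarith [sq_nonneg ((χ : Cfsg.Sz F 1 → ℂ) (yEl h)).im, hn]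
  · -- exceptional at the smaller torus
    have hxN := other_torus_sum h T.hp T.hm T.cover χ hO h1 (Np := (np m : ℤ) * wp)
      (Nm := (nm m : ℤ) * u' - σ') (by rw [T.hp.sum_const hwp, mul_assoc]) hsm
    rw [normSq_const h T.hp hwp, hqm] at hn
    have hy2 : 2 ≤ y := by
      by_contra hlt'
      obtain rfl : y = 1 := by omega
      have : (nm m : ℤ) = 1 := by rw [hmy']; norm_num
      omega
    have hE : normForm (qq m : ℤ) ((qq m : ℤ) ^ 2 + 1) x b +
        (qq m : ℤ) * (4 * (np m : ℤ) + 1) * ((nm m : ℤ) * u' ^ 2 - 2 * σ' * u' + (4 * (nm m : ℤ) + 1) - 4) +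
        (qq m : ℤ) * (4 * (nm m : ℤ) + 1) * ((np m : ℤ) * wp ^ 2) ≤
        (qq m : ℤ) * ((qq m : ℤ) ^ 2 + 1) := by
      rw [← Int.cast_le (R := ℝ)]
      simp only [normForm, Int.cast_add, Int.cast_mul, Int.cast_sub, Int.cast_pow, Int.cast_natCast,
        Int.cast_ofNat, Int.cast_one]
      linarith
    obtain ⟨rfl, ex, eb, heq⟩ := arith_mixed (A := (nm m : ℤ)) (B := (np m : ℤ)) (q := (qq m : ℤ))
      (by rw [hmy']; nlinarith) (by omega) (by rw [hpy, hmy']; nlinarith)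
      (by rw [mul_comm]; exact_mod_cast hprod.symm)
      (by rw [add_comm (4 * (nm m : ℤ) + 1)]; exact_mod_cast hsum.symm)
      hσ' hxz (Int.natCast_nonneg b) hparz (by rw [hxN]; ring) hE
    right; right
    obtain rfl : b = 1 := by exact_mod_cast eb
    obtain rfl : x = 4 * np m + 1 := by exact_mod_cast ex
    refine ⟨h1, by rw [hz]; push_cast; ring, hyval rfl ?_, hwp⟩
    have heq' := congrArg (fun z : ℤ => (z : ℝ)) heq
    simp only [normForm, Int.cast_add, Int.cast_mul, Int.cast_sub, Int.cast_pow, Int.cast_natCast,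
      Int.cast_ofNat, Int.cast_one, Int.cast_zero] at heq'
    push_cast at hn heq'
    have hM0 : (0 : ℝ) < (qq m : ℝ) ^ 2 + 1 := by positivity
    simp only [qq] at hM0
    push_cast at hM0
    generalize ((χ : Cfsg.Sz F m → ℂ) (yEl h)).im = I at hn ⊢
    by_contra hI
    have := mul_pos hM0 (pow_pos (abs_pos.2 hI) 2)
    rw [sq_abs] at this
    linarith
  · -- exceptional at the larger torus
    have hxN := other_torus_sum h T.hp T.hm T.cover χ hO h1 (Np := (np m : ℤ) * u - σ)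
      (Nm := (nm m : ℤ) * wm) hsp (by rw [T.hm.sum_const hwm, mul_assoc])
    rw [normSq_const h T.hm hwm, hqp] at hn
    have hE : normForm (qq m : ℤ) ((qq m : ℤ) ^ 2 + 1) x b +
        (qq m : ℤ) * (4 * (nm m : ℤ) + 1) * ((np m : ℤ) * u ^ 2 - 2 * σ * u + (4 * (np m : ℤ) + 1) - 4) +
        (qq m : ℤ) * (4 * (np m : ℤ) + 1) * ((nm m : ℤ) * wm ^ 2) ≤
        (qq m : ℤ) * ((qq m : ℤ) ^ 2 + 1) := by
      rw [← Int.cast_le (R := ℝ)]
      simp only [normForm, Int.cast_add, Int.cast_mul, Int.cast_sub, Int.cast_pow, Int.cast_natCast,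
        Int.cast_ofNat, Int.cast_one]
      linarith
    obtain ⟨rfl, ex, eb, heq⟩ : wm = 0 ∧ (x : ℤ) = 4 * (nm m : ℤ) + 1 ∧ (b : ℤ) = 1 ∧
        normForm (qq m : ℤ) ((qq m : ℤ) ^ 2 + 1) x b +
        (qq m : ℤ) * (4 * (nm m : ℤ) + 1) * ((np m : ℤ) * u ^ 2 - 2 * σ * u + (4 * (np m : ℤ) + 1) - 4) +
        (qq m : ℤ) * (4 * (np m : ℤ) + 1) * ((nm m : ℤ) * wm ^ 2) =
        (qq m : ℤ) * ((qq m : ℤ) ^ 2 + 1) := by
      rcases (show y = 1 ∨ 2 ≤ y by omega) with rfl | hy2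
      · rw [hqy, hpy, hmy'] at hE ⊢
        rw [hpy, hmy'] at hxN
        norm_num at hE hxN ⊢
        obtain ⟨e1, e2, e3, e4⟩ := arith_mixed_eight hσ hxz (Int.natCast_nonneg b) hparz
          (u := u) (w := wm) (by linarith) (by linarith)
        subst e1
        refine ⟨rfl, e2, by exact_mod_cast e3, ?_⟩
        linarith
      · exact arith_mixed (A := (np m : ℤ)) (B := (nm m : ℤ)) (q := (qq m : ℤ))
          (by rw [hpy]; nlinarith) (by omega) (by omega) (by exact_mod_cast hprod.symm)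
          (by exact_mod_cast hsum.symm) hσ hxz (Int.natCast_nonneg b) hparz hxN hE
    right; left
    obtain rfl : b = 1 := by exact_mod_cast eb
    obtain rfl : x = 4 * nm m + 1 := by exact_mod_cast ex
    refine ⟨h1, by rw [hz]; push_cast; ring, hyval rfl ?_, hwm⟩
    have heq' := congrArg (fun z : ℤ => (z : ℝ)) heq
    simp only [normForm, Int.cast_add, Int.cast_mul, Int.cast_sub, Int.cast_pow, Int.cast_natCast,
      Int.cast_ofNat, Int.cast_one, Int.cast_zero] at heq'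
    push_cast at hn heq'
    have hM0 : (0 : ℝ) < (qq m : ℝ) ^ 2 + 1 := by positivity
    simp only [qq] at hM0
    push_cast at hM0
    generalize ((χ : Cfsg.Sz F m → ℂ) (yEl h)).im = I at hn ⊢
    by_contra hI
    have := mul_pos hM0 (pow_pos (abs_pos.2 hI) 2)
    rw [sq_abs] at this
    linarith
  · exact (dipole_not_both T.dis χ hdp hdm).elim

end Cfsg.Agent.Chars.SzD
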