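import Cfsg.Agent.Chars.CoprimeExt
import Cfsg.Agent.Chars.Monomial
import Cfsg.Agent.Chars2.DegreeInherit
import Cfsg.Agent.S4456

/-! Groups with exactly two character degrees. -/

set_option autoImplicit false
set_option linter.style.haveILetI false
set_option linter.unusedSectionVars false

open Cfsg Cfsg.Agent
open scoped ComplexConjugate commutatorElement

namespace Cfsg.Agent.Chars.TwoDeg

universe u

variable {G : Type u} [Group G] [Fintype G]

/-- All degrees are `1` or `m`. -/
def Cd (G : Type u) [Group G] (m : ℕ) : Prop :=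
  ∀ χ : IrrCharacter G, charDegree (χ : G → ℂ) = 1 ∨ charDegree (χ : G → ℂ) = m

theorem hom_apply_commutator {A : Type*} [CommGroup A] (f : G →* A) {x : G}
    (hx : x ∈ commutator G) : f x = 1 :=
  Abelianization.commutator_subset_ker f hx

theorem linear_apply_commutator {χ : IrrCharacter G} (h : charDegree (χ : G → ℂ) = 1) {x : G}
    (hx : x ∈ commutator G) : (χ : G → ℂ) x = 1 := by
  obtain ⟨φ, hφ⟩ := exists_hom_of_degree_one (irr_isCharacter χ)
    (by rw [(Blocks.charDegree_eq χ.2).1, h, Nat.cast_one])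
  rw [hφ]
  show (φ x : ℂ) = 1
  rw [hom_apply_commutator φ hx, Units.val_one]

/-- A subgroup whose index is the big degree contains the commutator subgroup. -/
theorem commutator_le_of_index {m : ℕ} (hcd : Cd G m) {H : Subgroup G} (hH : H.index = m) :
    commutator G ≤ H := by
  classical
  haveI : Fintype H := Fintype.ofFinite _
  have hF : IsCharacter G (indFun H fun _ => (1 : ℂ)) :=
    isCharacter_indFun H isCharacter_one
  obtain ⟨n, hn, hsum⟩ := exists_eq_sum_nsmul hF
  let t : IrrCharacter G := ⟨fun _ => 1, isIrrCharacter_one⟩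
  have hn1 : n t = 1 := by
    have h1 : classInner (indFun H fun _ => (1 : ℂ)) (t : G → ℂ) = 1 := by
      rw [classInner_indFun H _ (isClassFunction_irr t)]
      exact classInner_self_irr isIrrCharacter_one
    rw [hn t] at h1
    exact_mod_cast h1
  have htdeg : charDegree (t : G → ℂ) = 1 := by simp [t, charDegree]
  have hdeg : ∑ γ, n γ * charDegree (γ : G → ℂ) = m := by
    have h1 := congrFun hsum 1
    rw [indFun_apply_one, mul_one, hH, Finset.sum_apply] at h1
    have h2 : (m : ℂ) = ((∑ γ, n γ * charDegree (γ : G → ℂ) : ℕ) : ℂ) := by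
      rw [h1]
      push_cast
      refine Finset.sum_congr rfl fun γ _ => ?_
      rw [nsmul_eq_mul, Pi.mul_apply, Pi.natCast_apply, (Blocks.charDegree_eq γ.2).1]
    exact_mod_cast h2.symm
  have hlin : ∀ γ : IrrCharacter G, n γ ≠ 0 → charDegree (γ : G → ℂ) = 1 := by
    intro γ hγ
    rcases hcd γ with h | h
    · exact h
    · by_cases he : γ = t
      · rw [he, htdeg]
      exfalso
      have h2 := Finset.sum_le_sum_of_subset (f := fun γ => n γ * charDegree (γ : G → ℂ))
        (Finset.subset_univ {t, γ})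
      rw [Finset.sum_pair (Ne.symm he), hn1, htdeg, h, hdeg] at h2
      have : m ≤ n γ * m := Nat.le_mul_of_pos_left _ (Nat.pos_of_ne_zero hγ)
      omega
  intro x hx
  have hval : indFun H (fun _ => (1 : ℂ)) x = (H.index : ℂ) := by
    have h1 := congrFun hsum x
    have h2 := congrFun hsum 1
    rw [indFun_apply_one, mul_one, Finset.sum_apply] at h2
    rw [h1, h2, Finset.sum_apply]
    refine Finset.sum_congr rfl fun γ _ => ?_
    rw [Pi.smul_apply, Pi.smul_apply]
    by_cases hγ : n γ = 0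
    · simp [hγ]
    · rw [linear_apply_commutator (hlin γ hγ) hx,
        (Blocks.charDegree_eq γ.2).1, hlin γ hγ, Nat.cast_one]
  rw [indFun_apply] at hval
  simp only [extendByZero_eq_ite, dite_eq_ite, Finset.sum_boole] at hval
  have hcard : ((Finset.univ.filter fun y : G => y⁻¹ * x * y ∈ H).card : ℂ) = Nat.card G := by
    rw [← Subgroup.card_mul_index H, Nat.cast_mul, ← hval, ← mul_assoc,
      mul_inv_cancel₀ (subgroup_card_ne_zero H), one_mul]
  have hcard' : (Finset.univ.filter fun y : G => y⁻¹ * x * y ∈ H).card = Nat.card G := by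
    exact_mod_cast hcard
  rw [Nat.card_eq_fintype_card] at hcard'
  simpa using (Finset.ext_iff.1 (Finset.eq_univ_of_card _ hcard') 1).2 (Finset.mem_univ _)

/-- Linear characters separate the elements of an abelian group. -/
theorem eq_one_of_forall_hom {A : Type u} [Group A] [Finite A] (hab : ∀ a b : A, a * b = b * a)
    {x : A} (h : ∀ φ : A →* ℂˣ, φ x = 1) : x = 1 := by
  classical
  haveI := Fintype.ofFinite A
  have h1 := sum_apply_one_mul (G := A) x
  have h2 : ∀ χ : IrrCharacter A, (χ : A → ℂ) 1 * (χ : A → ℂ) x = 1 := by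
    intro χ
    have hd := irr_apply_one_of_comm hab χ.2
    obtain ⟨φ, hφ⟩ := exists_hom_of_degree_one (irr_isCharacter χ) hd
    rw [hd, hφ]
    show 1 * (φ x : ℂ) = 1
    rw [h φ, Units.val_one, mul_one]
  simp only [h2, Finset.sum_const, Finset.card_univ, nsmul_eq_mul, mul_one] at h1
  by_contra hx
  rw [if_neg hx] at h1
  haveI : Nonempty (IrrCharacter A) := ⟨⟨_, isIrrCharacter_one⟩⟩
  exact Nat.cast_ne_zero.2 Fintype.card_ne_zero h1

section stabs

variable (N : Subgroup G) [hN : N.Normal]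

noncomputable local instance (priority := high) fintypeSub (H : Subgroup G) : Fintype H :=
  Fintype.ofFinite _

/-- The inertia group of a linear character. -/
noncomputable def stab (φ : N →* ℂˣ) : Subgroup G := Chars2.inertiaSub fun n : N => (φ n : ℂ)

variable {N}

theorem le_stab (φ : N →* ℂˣ) : N ≤ stab N φ :=
  Chars2.le_inertiaSub (isClassFunction_of_isCharacter (isCharacter_hom φ))

theorem mem_stab {φ : N →* ℂˣ} {g : G} :
    g ∈ stab N φ ↔ ∀ n : N, φ ⟨g * n * g⁻¹, hN.conj_mem n n.2 g⟩ = φ n := by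
  rw [show g ∈ stab N φ ↔ g⁻¹ ∈ stab N φ from ((stab N φ).inv_mem_iff).symm, stab,
    Chars2.mem_inertiaSub, funext_iff]
  refine forall_congr' fun n => ?_
  rw [Chars2.conjFun_apply]
  simp only [inv_inv, Units.val_inj]

/-- Over a non-invariant linear character all degrees are the index of the inertia group. -/
theorem stab_data {m : ℕ} (hcd : Cd G m) (φ : N →* ℂˣ) (hne : stab N φ ≠ ⊤) :
    (stab N φ).index ∣ m ∧ ∀ ψ : stab N φ → ℂ, IsIrrCharacter (stab N φ) ψ →
      classInner (Chars2.resSub N (stab N φ) (le_stab φ) ψ) (fun n : N => (φ n : ℂ)) ≠ 0 →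
      ∃ d : ℕ, ψ 1 = d ∧ (stab N φ).index * d = m := by
  classical
  have h1 : (stab N φ).index ≠ 1 := fun h => hne (Subgroup.index_eq_one.1 h)
  have h0 : (stab N φ).index ≠ 0 := Subgroup.index_ne_zero_of_finite
  have main : ∀ ψ : stab N φ → ℂ, IsIrrCharacter (stab N φ) ψ →
      classInner (Chars2.resSub N (stab N φ) (le_stab φ) ψ) (fun n : N => (φ n : ℂ)) ≠ 0 →
      ∃ d : ℕ, ψ 1 = d ∧ (stab N φ).index * d = m := by
    intro ψ hψ hres
    obtain ⟨d, hd0, hd⟩ := exists_irr_apply_one_eq hψ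
    have hirr := Chars2.isIrr_indFun_of_inertia (le_stab φ) (isIrrCharacter_hom φ) rfl hψ hres
    refine ⟨d, hd, ?_⟩
    have hdeg : charDegree (indFun (stab N φ) ψ) = (stab N φ).index * d := by
      have := (Blocks.charDegree_eq hirr).1
      rw [indFun_apply_one, hd, ← Nat.cast_mul] at this
      exact_mod_cast this.symm
    rcases hcd ⟨_, hirr⟩ with h | h
    · change charDegree (indFun (stab N φ) ψ) = 1 at h
      rw [hdeg, mul_eq_one] at h
      exact absurd h.1 h1
    · change charDegree (indFun (stab N φ) ψ) = m at h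
      rw [← hdeg, h]
  refine ⟨?_, main⟩
  obtain ⟨χ, hχ⟩ : ∃ χ : IrrCharacter G,
      classInner (fun n : N => (χ : G → ℂ) n) (fun n : N => (φ n : ℂ)) ≠ 0 := by
    by_contra hall
    push Not at hall
    have h := eq_sum_classInner (isClassFunction_indFun N fun n : N => (φ n : ℂ))
    have h' := congrFun h 1
    rw [Finset.sum_apply, Finset.sum_eq_zero fun χ _ => ?_, indFun_apply_one] at h'
    · rw [map_one, Units.val_one, mul_one] at h'
      exact Nat.cast_ne_zero.2 Subgroup.index_ne_zero_of_finite h'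
    · rw [classInner_indFun N _ (isClassFunction_irr χ), ← classInner_conj_symm, hall χ,
        map_zero, Pi.smul_apply, zero_smul]
  obtain ⟨ψ, hψ, -, hres⟩ :=
    Chars2.exists_correspondent (le_stab φ) (isIrrCharacter_hom φ) rfl χ.2 hχ
  obtain ⟨d, -, hd⟩ := main ψ hψ (by rw [hres]; exact hχ)
  exact Dvd.intro d hd

/-- A linear character of a coprime normal subgroup extends linearly to its inertia group. -/
theorem exists_ext (φ : N →* ℂˣ) {T : Subgroup G} (hNT : N ≤ T) (hT : T ≤ stab N φ)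
    (hcop : (Nat.card N).Coprime N.index) :
    ∃ η : T →* ℂˣ, ∀ n : N, η ⟨(n : G), hNT n.2⟩ = φ n := by
  classical
  let e := Subgroup.subgroupOfEquivOfLe hNT
  have hθ : IsIrrCharacter (N.subgroupOf T) (fun x : N.subgroupOf T => (φ (e x) : ℂ)) :=
    isIrrCharacter_hom (φ.comp e.toMonoidHom)
  have hinv : Chars2.inertiaSub (fun x : N.subgroupOf T => (φ (e x) : ℂ)) = ⊤ := by
    refine Chars2.inertiaSub_eq_top fun t x => ?_
    rw [Units.val_inj, ← mem_stab.1 (hT t.2) (e x)]
    rfl
  have hc : (Nat.card (N.subgroupOf T)).Coprime (N.subgroupOf T).index := by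
    rw [Nat.card_congr e.toEquiv]
    exact hcop.coprime_dvd_right ⟨T.index, (Subgroup.relIndex_mul_index hNT).symm⟩
  obtain ⟨χ, hχ, hext⟩ := extends_of_coprime (N.subgroupOf T) hc hθ hinv
  obtain ⟨η, hη⟩ := exists_hom_of_degree_one (isCharacter_of_isIrr hχ) (by
    have := hext 1
    rw [Subgroup.coe_one] at this
    rw [this, map_one, map_one, Units.val_one])
  refine ⟨η, fun n => ?_⟩
  have := hext ⟨⟨(n : G), hNT n.2⟩, n.2⟩
  rw [hη] at this
  exact Units.ext this

/-- Fixed linear characters give central elements. -/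
theorem central_of_stab_top (hab : ∀ a ∈ N, ∀ b ∈ N, a * b = b * a) {g : G}
    (h : ∀ φ : N →* ℂˣ, g ∈ stab N φ) {n : G} (hn : n ∈ N) : g * n = n * g := by
  have hx : (⟨g * n * g⁻¹, hN.conj_mem n hn g⟩ : N) * ⟨n, hn⟩⁻¹ = 1 :=
    eq_one_of_forall_hom (fun a b => Subtype.ext (hab _ a.2 _ b.2)) fun φ => by
      rw [map_mul, map_inv, mem_stab.1 (h φ) ⟨n, hn⟩, mul_inv_cancel]
  exact mul_inv_eq_iff_eq_mul.1 (congrArg Subtype.val (mul_inv_eq_one.1 hx))

/-- A supergroup of a coprime normal abelian subgroup is abelian if it fixes all its characters and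
is abelian modulo it. -/
theorem comm_of_fixing (hab : ∀ a ∈ N, ∀ b ∈ N, a * b = b * a)
    (hcop : (Nat.card N).Coprime N.index) {T : Subgroup G} (hNT : N ≤ T)
    (hfix : ∀ φ : N →* ℂˣ, T ≤ stab N φ) (hder : ∀ a ∈ T, ∀ b ∈ T, ⁅a, b⁆ ∈ N) :
    ∀ a ∈ T, ∀ b ∈ T, a * b = b * a := by
  intro a ha b hb
  rw [← commutatorElement_eq_one_iff_mul_comm]
  have := eq_one_of_forall_hom (x := (⟨_, hder a ha b hb⟩ : N))
    (fun a b => Subtype.ext (hab _ a.2 _ b.2)) fun φ => by
      obtain ⟨η, hη⟩ := exists_ext φ hNT (hfix φ) hcop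
      rw [← hη ⟨_, hder a ha b hb⟩]
      exact hom_apply_commutator η (Subgroup.commutator_mem_commutator
        (Subgroup.mem_top (⟨a, ha⟩ : T)) (Subgroup.mem_top (⟨b, hb⟩ : T)))
  exact congrArg Subtype.val this

/-- The case of a non-invariant character. -/
theorem exists_abelian_of_moving {m : ℕ} (hcd : Cd G m)
    (hab : ∀ a ∈ N, ∀ b ∈ N, a * b = b * a) (hcop : (Nat.card N).Coprime N.index)
    {φ : N →* ℂˣ} (hφ : stab N φ ≠ ⊤) :
    ∃ A : Subgroup G, A.Normal ∧ (∀ a ∈ A, ∀ b ∈ A, a * b = b * a) ∧ A.index = m := by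
  classical
  -- every moving character has inertia group of index `m`, abelian modulo `N`
  have hidx : ∀ φ : N →* ℂˣ, stab N φ ≠ ⊤ → (stab N φ).index = m ∧
      ∀ a ∈ stab N φ, ∀ b ∈ stab N φ, ⁅a, b⁆ ∈ N := by
    intro φ hφ
    obtain ⟨-, main⟩ := stab_data hcd φ hφ
    set T := stab N φ with hTdef
    obtain ⟨η, hη⟩ := exists_ext φ (le_stab φ : N ≤ T) le_rfl hcop
    haveI : Fintype (T ⧸ N.subgroupOf T) := Fintype.ofFinite _
    have hθ : ∀ θ : IrrCharacter (T ⧸ N.subgroupOf T), ∃ d : ℕ,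
        (θ : T ⧸ N.subgroupOf T → ℂ) 1 = d ∧ T.index * d = m := by
      intro θ
      have hψ : IsIrrCharacter T
          (fun t : T => (η t : ℂ) * (θ : T ⧸ N.subgroupOf T → ℂ) (t : T ⧸ N.subgroupOf T)) :=
        isIrrCharacter_mul_hom (isIrrCharacter_comp_surjective θ.2 (QuotientGroup.mk' _)
          (QuotientGroup.mk'_surjective _)) η
      obtain ⟨d, hd, hdm⟩ := main _ hψ (by
        have hres : Chars2.resSub N T (le_stab φ)
            (fun t : T => (η t : ℂ) * (θ : T ⧸ N.subgroupOf T → ℂ) (t : T ⧸ N.subgroupOf T)) =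
            (θ : T ⧸ N.subgroupOf T → ℂ) 1 • fun n : N => (φ n : ℂ) := by
          funext n
          show (η _ : ℂ) * _ = _
          rw [show η ⟨(n : G), le_stab φ n.2⟩ = φ n from hη n, (QuotientGroup.eq_one_iff (⟨(n : G), le_stab φ n.2⟩ : T)).2 n.2, mul_comm]
          rfl
        rw [hres, classInner_smul_left, classInner_self_irr (isIrrCharacter_hom φ), mul_one]
        exact irr_apply_one_ne_zero θ.2)
      refine ⟨d, ?_, hdm⟩
      rw [← hd]
      simp
    obtain ⟨d₀, hd₀, hm₀⟩ := hθ ⟨fun _ => 1, isIrrCharacter_one⟩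
    have h1 : d₀ = 1 := by
      have : ((1 : ℕ) : ℂ) = (d₀ : ℂ) := by rw [Nat.cast_one]; exact hd₀
      exact_mod_cast this.symm
    rw [h1, mul_one] at hm₀
    refine ⟨hm₀, fun a ha b hb => ?_⟩
    have hlin : ∀ θ : IrrCharacter (T ⧸ N.subgroupOf T),
        (θ : T ⧸ N.subgroupOf T → ℂ) 1 = 1 := by
      intro θ
      obtain ⟨d, hd, hdm⟩ := hθ θ
      have : d = 1 := Nat.eq_of_mul_eq_mul_left
        (Nat.pos_of_ne_zero (Subgroup.index_ne_zero_of_finite (H := T))) (by rw [hdm, mul_one, hm₀])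
      rw [hd, this, Nat.cast_one]
    have hc := comm_of_forall_linear hlin ((⟨a, ha⟩ : T) : T ⧸ N.subgroupOf T)
      ((⟨b, hb⟩ : T) : T ⧸ N.subgroupOf T)
    have : ((⁅(⟨a, ha⟩ : T), ⟨b, hb⟩⁆ : T) : T ⧸ N.subgroupOf T) = 1 := by
      rw [commutatorElement_def, QuotientGroup.mk_mul, QuotientGroup.mk_mul, QuotientGroup.mk_mul,
        QuotientGroup.mk_inv, QuotientGroup.mk_inv, hc]
      group
    exact Subgroup.mem_subgroupOf.1 ((QuotientGroup.eq_one_iff (⁅(⟨a, ha⟩ : T), ⟨b, hb⟩⁆ : T)).1 this)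
  set T := stab N φ
  have hder : commutator G ≤ T := commutator_le_of_index hcd (hidx φ hφ).1
  have hTn : T.Normal := Subgroup.Normal.of_commutator_le G hder
  refine ⟨T, hTn, comm_of_fixing hab hcop (le_stab φ) (fun ψ => ?_) (hidx φ hφ).2, (hidx φ hφ).1⟩
  by_cases hψ : stab N ψ = ⊤
  · exact hψ ▸ le_top
  -- all moving characters have the same inertia group
  have hnorm : ∀ χ : N →* ℂˣ, stab N χ ≠ ⊤ → (stab N χ).Normal := fun χ h =>
    Subgroup.Normal.of_commutator_le G (commutator_le_of_index hcd (hidx χ h).1)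
  by_contra hle
  have hT2 := hnorm ψ hψ
  haveI := hTn
  haveI := hT2
  have hprodfix : ∀ s : G, s ∈ stab N (φ * ψ) → s ∈ T ∧ s ∈ stab N ψ := by
    intro s hs
    -- the conjugate of `φ` by `s` differs from `φ` by a fixed character
    let cs : (N →* ℂˣ) → N →* ℂˣ := fun χ => χ.comp (MulAut.conjNormal s : MulAut N).toMonoidHom
    have hcs : ∀ χ : N →* ℂˣ, ∀ n : N, cs χ n = χ ⟨s * n * s⁻¹, hN.conj_mem n n.2 s⟩ :=
      fun χ n => congrArg χ (Subtype.ext (MulAut.conjNormal_apply s n))
    have hcomb : ∀ n : N, cs φ n * cs ψ n = φ n * ψ n := fun n => by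
      rw [hcs, hcs]; exact mem_stab.1 hs n
    set δ : N →* ℂˣ := cs φ / φ
    have hδ : ∀ n, δ n = cs φ n / φ n := fun n => rfl
    have hδ' : ∀ n, δ n = ψ n / cs ψ n := fun n => by
      rw [hδ, div_eq_div_iff_mul_eq_mul, hcomb n, mul_comm]
    have hfixδ : stab N δ = ⊤ := by
      by_contra hne
      obtain ⟨hi, -⟩ := hidx δ hne
      have h1 : T ≤ stab N δ := fun t ht => mem_stab.2 fun n => by
        rw [hδ, hδ, mem_stab.1 ht n, hcs, hcs]
        congr 1
        have h5 : s * t * s⁻¹ ∈ T := hTn.conj_mem t ht s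
        rw [← mem_stab.1 h5 ⟨s * n * s⁻¹, hN.conj_mem n n.2 s⟩]
        congr 1
        apply Subtype.ext
        simp [mul_assoc]
      have h2 : stab N ψ ≤ stab N δ := fun t ht => mem_stab.2 fun n => by
        rw [hδ', hδ', mem_stab.1 ht n, hcs, hcs]
        congr 1
        have h5 : s * t * s⁻¹ ∈ stab N ψ := hT2.conj_mem t ht s
        rw [← mem_stab.1 h5 ⟨s * n * s⁻¹, hN.conj_mem n n.2 s⟩]
        congr 1
        apply Subtype.ext
        simp [mul_assoc]
      have hT' : T = stab N δ := Subgroup.eq_of_le_of_card_ge h1 (le_of_eq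
        (Nat.eq_of_mul_eq_mul_right (Nat.pos_of_ne_zero (Subgroup.index_ne_zero_of_finite (H := T)))
          (by rw [Subgroup.card_mul_index, (hidx φ hφ).1, ← hi, Subgroup.card_mul_index])))
      have hT'' : stab N ψ = stab N δ := Subgroup.eq_of_le_of_card_ge h2 (le_of_eq
        (Nat.eq_of_mul_eq_mul_right
          (Nat.pos_of_ne_zero (Subgroup.index_ne_zero_of_finite (H := stab N ψ)))
          (by rw [Subgroup.card_mul_index, (hidx ψ hψ).1, ← hi, Subgroup.card_mul_index])))
      exact hle (le_of_eq (hT'.trans hT''.symm))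
    -- coprimality forces `δ = 1`
    have hiter : ∀ (k : ℕ) (n : N),
        φ ⟨s ^ k * n * (s ^ k)⁻¹, hN.conj_mem n n.2 _⟩ = φ n * δ n ^ k := by
      intro k
      induction k with
      | zero => intro n; simp
      | succ k ih =>
        intro n
        have e : (⟨s ^ (k + 1) * n * (s ^ (k + 1))⁻¹, hN.conj_mem n n.2 _⟩ : N) =
            ⟨s ^ k * (⟨s * n * s⁻¹, hN.conj_mem n n.2 s⟩ : N) * (s ^ k)⁻¹,
              hN.conj_mem _ (hN.conj_mem n n.2 s) _⟩ := by
          apply Subtype.ext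
          simp only [pow_succ, mul_inv_rev, mul_assoc]
        rw [e, ih, mem_stab.1 (show s ∈ stab N δ by rw [hfixδ]; exact Subgroup.mem_top s) n, ← hcs, pow_succ', ← mul_assoc]
        congr 1
        rw [hδ, mul_div_cancel]
    have hδ1 : ∀ n, δ n = 1 := fun n => by
      have h1 : δ n ^ N.index = 1 := by
        have hmem : s ^ N.index ∈ T := le_stab φ (N.pow_index_mem s)
        have := hiter N.index n
        rw [mem_stab.1 hmem n] at this
        exact mul_left_cancel (a := φ n) (this.symm.trans (mul_one _).symm)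
      have h2 : δ n ^ Nat.card N = 1 := by rw [← map_pow, pow_card_eq_one', map_one]
      have := pow_gcd_eq_one.2 ⟨h2, h1⟩
      rwa [hcop.gcd_eq_one, pow_one] at this
    refine ⟨mem_stab.2 fun n => ?_, mem_stab.2 fun n => ?_⟩
    · have := hδ1 n
      rwa [hδ, div_eq_one, hcs] at this
    · have := hδ1 n
      rw [hδ', div_eq_one, hcs] at this
      exact this.symm
  by_cases htop : stab N (φ * ψ) = ⊤
  · exact hφ (eq_top_iff.2 fun g _ => (hprodfix g (htop ▸ Subgroup.mem_top g)).1)
  obtain ⟨hi, -⟩ := hidx _ htop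
  have e1 : stab N (φ * ψ) = T := Subgroup.eq_of_le_of_card_ge (fun g hg => (hprodfix g hg).1)
    (le_of_eq (Nat.eq_of_mul_eq_mul_right
      (Nat.pos_of_ne_zero (Subgroup.index_ne_zero_of_finite (H := T)))
      (by conv_rhs => rw [(hidx φ hφ).1, ← hi, Subgroup.card_mul_index]
          rw [Subgroup.card_mul_index])))
  exact hle (fun g hg => (hprodfix g (e1 ▸ hg)).2)

end stabs

/-- The structure theorem. -/
theorem structure_two_degrees {m : ℕ} (hcd : Cd G m)
    (hm : ∃ χ : IrrCharacter G, charDegree (χ : G → ℂ) = m) (hm1 : m ≠ 1) :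
    (∃ A : Subgroup G, A.Normal ∧ (∀ a ∈ A, ∀ b ∈ A, a * b = b * a) ∧ A.index = m) ∨
      ∃ p e : ℕ, p.Prime ∧ m = p ^ e ∧ ∃ P A : Subgroup G, P.Normal ∧ A.Normal ∧ IsPGroup p P ∧
        A ≤ Subgroup.center G ∧ (∀ a ∈ A, ∀ b ∈ A, a * b = b * a) ∧ P ⊓ A = ⊥ ∧ P ⊔ A = ⊤ := by
  classical
  obtain ⟨χ₀, hχ₀⟩ := hm
  have hm0 : m ≠ 0 := hχ₀ ▸ (Blocks.charDegree_eq χ₀.2).2.ne'
  have hcomp : ∀ r : ℕ, r ∈ m.primeFactors → ∃ N : Subgroup G, N.Normal ∧
      (Nat.card N).Coprime r ∧ ∃ k : ℕ, N.index = r ^ k := by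
    intro r hr
    obtain ⟨hrp, hrm, -⟩ := Nat.mem_primeFactors.1 hr
    exact S4456.result r hrp fun χ hne => ((hcd χ).resolve_left hne) ▸ hrm
  choose! Nr hNn hNc hNk using hcomp
  -- the intersection of the complements
  have hfold : ∀ S : Finset ℕ, S ⊆ m.primeFactors → ∃ N : Subgroup G, N.Normal ∧
      (∀ r ∈ S, N ≤ Nr r) ∧ (∀ x, (∀ r ∈ S, x ∈ Nr r) → x ∈ N) ∧
      ∀ s : ℕ, s.Prime → s ∣ N.index → s ∈ S := by
    intro S
    induction S using Finset.induction_on with
    | empty =>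
      intro _
      refine ⟨⊤, inferInstance, by simp, fun x _ => Subgroup.mem_top x, fun s hs hd => ?_⟩
      rw [Subgroup.index_top, Nat.dvd_one] at hd
      exact absurd hd hs.ne_one
    | insert r S hrS ih =>
      intro hsub
      obtain ⟨N, hNn', hle, hge, hidx⟩ := ih ((Finset.subset_insert r S).trans hsub)
      have hr := hsub (Finset.mem_insert_self r S)
      haveI := hNn'
      haveI := hNn r hr
      refine ⟨N ⊓ Nr r, inferInstance, ?_, fun x hx => ⟨hge x fun t ht =>
        hx t (Finset.mem_insert_of_mem ht), hx r (Finset.mem_insert_self r S)⟩, fun s hs hd => ?_⟩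
      · intro t ht
        rcases Finset.mem_insert.1 ht with rfl | ht
        · exact inf_le_right
        · exact inf_le_left.trans (hle t ht)
      · have h1 : (N ⊓ Nr r).index ∣ (Nr r).index * N.index := by
          rw [← Subgroup.relIndex_mul_index (inf_le_left : N ⊓ Nr r ≤ N), inf_comm,
            Subgroup.inf_relIndex_right]
          exact Nat.mul_dvd_mul_right (Subgroup.relIndex_dvd_index_of_normal _ _) _
        rcases (Nat.Prime.dvd_mul hs).1 (hd.trans h1) with h | h
        · obtain ⟨k, hk⟩ := hNk r hr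
          rw [hk] at h
          rw [(Nat.prime_dvd_prime_iff_eq hs (Nat.mem_primeFactors.1 hr).1).1
            (hs.dvd_of_dvd_pow h)]
          exact Finset.mem_insert_self r S
        · exact Finset.mem_insert_of_mem (hidx s hs h)
  obtain ⟨N, hNnorm, hNle, hNge, hNidx⟩ := hfold m.primeFactors subset_rfl
  haveI := hNnorm
  have hNco : ∀ r ∈ m.primeFactors, (Nat.card N).Coprime r := fun r hr =>
    (hNc r hr).coprime_dvd_left (Subgroup.card_dvd_of_le (hNle r hr))
  have hcop : (Nat.card N).Coprime N.index :=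
    Nat.coprime_of_dvd fun s hs h1 h2 =>
      (hs.coprime_iff_not_dvd.1 (hNco s (hNidx s hs h2)).symm) h1
  have hNab : ∀ a ∈ N, ∀ b ∈ N, a * b = b * a := by
    have h1 : ∀ θ : IrrCharacter N, charDegree (θ : N → ℂ) = 1 := by
      intro θ
      obtain ⟨χ, hχ⟩ := Chars2.exists_degree_dvd_of_normal θ
      obtain ⟨d, -, hd, hdvd⟩ := irr_degree_dvd_card θ.2
      have hd' : charDegree (θ : N → ℂ) = d := by
        rw [(Blocks.charDegree_eq θ.2).1] at hd; exact_mod_cast hd
      rcases hcd χ with h | h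
      · rw [h] at hχ; exact Nat.dvd_one.1 hχ
      · rw [h] at hχ
        by_contra hne
        obtain ⟨s, hs, hsd⟩ := Nat.exists_prime_and_dvd hne
        exact hs.coprime_iff_not_dvd.1
          (hNco s (Nat.mem_primeFactors.2 ⟨hs, hsd.trans hχ, hm0⟩)).symm (hsd.trans (hd' ▸ hdvd))
    exact fun a ha b hb => congrArg Subtype.val (Chars2.comm_of_degree_one h1 ⟨a, ha⟩ ⟨b, hb⟩)
  by_cases hmov : ∃ φ : N →* ℂˣ, stab N φ ≠ ⊤
  · obtain ⟨φ, hφ⟩ := hmov
    exact Or.inl (exists_abelian_of_moving hcd hNab hcop hφ)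
  push Not at hmov
  have hcen : N ≤ Subgroup.center G := fun n hn => Subgroup.mem_center_iff.2 fun g =>
    central_of_stab_top hNab (fun φ => (hmov φ).symm ▸ Subgroup.mem_top g) hn
  by_cases hder : commutator G ≤ N
  · exfalso
    have hc := comm_of_fixing hNab hcop (le_top : N ≤ ⊤) (fun φ => (hmov φ).ge)
      fun a _ b _ => hder (Subgroup.commutator_mem_commutator (Subgroup.mem_top a)
        (Subgroup.mem_top b))
    have h1 := irr_apply_one_of_comm
      (fun a b => hc a (Subgroup.mem_top a) b (Subgroup.mem_top b)) χ₀.2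
    rw [(Blocks.charDegree_eq χ₀.2).1, hχ₀] at h1
    exact hm1 (by exact_mod_cast h1)
  -- some quotient by a complement is non-abelian, so `m` is a prime power
  obtain ⟨r, hr, hrder⟩ : ∃ r ∈ m.primeFactors, ¬ commutator G ≤ Nr r := by
    by_contra hall
    push Not at hall
    exact hder fun x hx => hNge x fun r hr => hall r hr hx
  obtain ⟨hrp, -, -⟩ := Nat.mem_primeFactors.1 hr
  haveI := hNn r hr
  haveI : Fintype (G ⧸ Nr r) := Fintype.ofFinite _
  obtain ⟨k, hk⟩ := hNk r hr
  obtain ⟨θ, hθ⟩ : ∃ θ : IrrCharacter (G ⧸ Nr r), charDegree (θ : G ⧸ Nr r → ℂ) ≠ 1 := by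
    by_contra hall
    push Not at hall
    apply hrder
    haveI : IsMulCommutative (G ⧸ Nr r) := ⟨⟨Chars2.comm_of_degree_one hall⟩⟩
    letI : CommGroup (G ⧸ Nr r) := { (inferInstance : Group (G ⧸ Nr r)) with
      mul_comm := Chars2.comm_of_degree_one hall }
    intro x hx
    exact (QuotientGroup.eq_one_iff x).1 (hom_apply_commutator (QuotientGroup.mk' (Nr r)) hx)
  obtain ⟨χ, hχ⟩ := Chars2.exists_degree_eq_of_surjective _ (QuotientGroup.mk'_surjective (Nr r)) θ
  have hθm : charDegree (θ : G ⧸ Nr r → ℂ) = m := by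
    rcases hcd χ with h | h
    · exact absurd (hχ.symm.trans h) hθ
    · exact hχ.symm.trans h
  obtain ⟨d, -, hd, hdvd⟩ := irr_degree_dvd_card θ.2
  rw [(Blocks.charDegree_eq θ.2).1, hθm] at hd
  rw [← Nat.cast_inj.1 hd, ← Subgroup.index_eq_card, hk] at hdvd
  obtain ⟨e, -, he⟩ := (Nat.dvd_prime_pow hrp).1 hdvd
  refine Or.inr ⟨r, e, hrp, he, ?_⟩
  haveI := Fact.mk hrp
  obtain ⟨P⟩ : Nonempty (Sylow r G) := inferInstance
  have hPcop : (Nat.card (P : Subgroup G)).Coprime (Nat.card N) := by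
    rw [P.card_eq_multiplicity]
    exact ((hNco r hr).pow_right _).symm
  have hinf : (P : Subgroup G) ⊓ N = ⊥ := Subgroup.inf_eq_bot_of_coprime hPcop
  obtain ⟨j, hj⟩ : ∃ j, N.index = r ^ j := by
    have hN0 : N.index ≠ 0 := Subgroup.index_ne_zero_of_finite
    refine ⟨N.index.factorization r, ?_⟩
    refine (Nat.ordProj_dvd N.index r).antisymm' ?_
    refine (Nat.factorization_le_iff_dvd hN0 (pow_ne_zero _ hrp.ne_zero)).1 fun s => ?_
    by_cases hs0 : N.index.factorization s = 0
    · rw [hs0]; exact Nat.zero_le _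
    have hs : s.Prime := Nat.prime_of_mem_primeFactors
      (Nat.support_factorization N.index ▸ Finsupp.mem_support_iff.2 hs0)
    have hsm := hNidx s hs (Nat.dvd_of_factorization_pos hs0)
    have : s = r := by
      have h2 := (Nat.mem_primeFactors.1 hsm).2.1
      rw [he] at h2
      exact (Nat.prime_dvd_prime_iff_eq hs hrp).1 (hs.dvd_of_dvd_pow h2)
    subst this
    rw [Nat.Prime.factorization_pow hrp, Finsupp.single_eq_same]
  have hsup : (P : Subgroup G) ⊔ N = ⊤ := by
    rw [← Subgroup.index_eq_one]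
    have h1 : ((P : Subgroup G) ⊔ N).index ∣ r ^ j := hj ▸ Subgroup.index_dvd_of_le le_sup_right
    obtain ⟨i, -, hi⟩ := (Nat.dvd_prime_pow hrp).1 h1
    have h2 : ((P : Subgroup G) ⊔ N).index ∣ (P : Subgroup G).index :=
      Subgroup.index_dvd_of_le le_sup_left
    rcases Nat.eq_zero_or_pos i with rfl | hi0
    · rw [hi, pow_zero]
    · exact absurd ((dvd_pow_self r hi0.ne').trans (hi ▸ h2)) P.not_dvd_index
  refine ⟨P, N, ?_, hNnorm, P.isPGroup', hcen, hNab, hinf, hsup⟩
  refine ⟨fun x hx g => ?_⟩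
  have hg : g ∈ (P : Subgroup G) ⊔ N := hsup ▸ Subgroup.mem_top g
  obtain ⟨a, ha, b, hb, rfl⟩ := Subgroup.mem_sup_of_normal_right.1 hg
  rw [mul_inv_rev, show a * b * x * (b⁻¹ * a⁻¹) = a * (b * x * b⁻¹) * a⁻¹ by group,
    show b * x * b⁻¹ = x by rw [← Subgroup.mem_center_iff.1 (hcen hb) x, mul_inv_cancel_right]]
  exact (P : Subgroup G).mul_mem ((P : Subgroup G).mul_mem ha hx) ((P : Subgroup G).inv_mem ha)

/-- The commutator subgroup is abelian. -/
theorem commutator_comm {m : ℕ} (hcd : Cd G m)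
    (hm : ∃ χ : IrrCharacter G, charDegree (χ : G → ℂ) = m) (hm1 : m ≠ 1) :
    ∀ a ∈ commutator G, ∀ b ∈ commutator G, a * b = b * a := by
  classical
  rcases structure_two_degrees hcd hm hm1 with ⟨A, hA, hab, hidx⟩ | ⟨p, e, hp, -, P, A, hP, hA,
    hPp, hcen, -, -, hsup⟩
  · have hle := commutator_le_of_index hcd hidx
    exact fun a ha b hb => hab a (hle ha) b (hle hb)
  haveI := hA
  haveI := Fact.mk hp
  haveI : Group.IsNilpotent G := by
    have hQ : IsPGroup p (G ⧸ A) := by
      refine hPp.of_surjective ((QuotientGroup.mk' A).comp P.subtype) fun x => ?_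
      obtain ⟨g, rfl⟩ := QuotientGroup.mk_surjective x
      obtain ⟨a, ha, b, hb, rfl⟩ :=
        Subgroup.mem_sup_of_normal_right.1 (hsup ▸ Subgroup.mem_top g : g ∈ P ⊔ A)
      exact ⟨⟨a, ha⟩, by
        show (a : G ⧸ A) = ((a * b : G) : G ⧸ A)
        rw [QuotientGroup.mk_mul, (QuotientGroup.eq_one_iff b).2 hb, mul_one]⟩
    haveI : Group.IsNilpotent (G ⧸ A) := hQ.isNilpotent
    exact Subgroup.isNilpotent_of_ker_le_center (QuotientGroup.mk' A)
      (by rw [QuotientGroup.ker_mk']; exact hcen)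
  intro a ha b hb
  rw [← commutatorElement_eq_one_iff_mul_comm]
  have key : ∀ χ : IrrCharacter G, (χ : G → ℂ) ⁅a, b⁆ = (χ : G → ℂ) 1 := by
    intro χ
    have hc : ⁅a, b⁆ ∈ commutator G :=
      Subgroup.commutator_mem_commutator (Subgroup.mem_top a) (Subgroup.mem_top b)
    obtain ⟨H, lam, hlam⟩ := monomial_of_nilpotent χ.2
    have hi : H.index = charDegree (χ : G → ℂ) := by
      have h1 := (Blocks.charDegree_eq χ.2).1
      rw [congrFun hlam 1, indFun_apply_one, map_one, Units.val_one, mul_one] at h1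
      exact_mod_cast h1
    rcases hcd χ with h | h
    · rw [linear_apply_commutator h hc, (Blocks.charDegree_eq χ.2).1, h, Nat.cast_one]
    have hle : commutator G ≤ H := commutator_le_of_index hcd (hi.trans h)
    haveI : H.Normal := Subgroup.Normal.of_commutator_le G hle
    have e : ∀ y : G,
        extendByZero H (fun h => (lam h : ℂ)) (y⁻¹ * ⁅a, b⁆ * y) = 1 := by
      intro y
      have hmem : ∀ z ∈ commutator G, y⁻¹ * z * y ∈ commutator G := fun z hz => by
        have := (inferInstance : (commutator G).Normal).conj_mem z hz y⁻¹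
        simpa using this
      have e1 : y⁻¹ * ⁅a, b⁆ * y = ⁅y⁻¹ * a * y, y⁻¹ * b * y⁆ := by
        simp only [commutatorElement_def]; group
      rw [e1]
      have ha' := hle (hmem a ha)
      have hb' := hle (hmem b hb)
      have hz : ⁅y⁻¹ * a * y, y⁻¹ * b * y⁆ ∈ H :=
        hle (Subgroup.commutator_mem_commutator (Subgroup.mem_top _) (Subgroup.mem_top _))
      rw [extendByZero_of_mem H _ hz]
      have : (⟨_, hz⟩ : H) = ⁅(⟨_, ha'⟩ : H), ⟨_, hb'⟩⁆ := Subtype.ext rfl
      rw [this, hom_apply_commutator lam (Subgroup.commutator_mem_commutator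
        (Subgroup.mem_top _) (Subgroup.mem_top _)), Units.val_one]
    rw [hlam, indFun_apply, indFun_apply_one, map_one, Units.val_one, mul_one]
    simp only [e, Finset.sum_const, Finset.card_univ, nsmul_eq_mul, mul_one,
      ← Nat.card_eq_fintype_card]
    rw [← Subgroup.card_mul_index H, Nat.cast_mul, ← mul_assoc,
      inv_mul_cancel₀ (subgroup_card_ne_zero H), one_mul]
  by_contra hne
  have h1 := sum_apply_one_mul (G := G) ⁅a, b⁆
  rw [if_neg hne] at h1
  simp only [key] at h1
  have h2 := sum_sq_apply_one (G := G)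
  simp only [sq] at h2
  rw [h1] at h2
  exact card_ne_zero h2.symm

end Cfsg.Agent.Chars.TwoDeg
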