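import Cfsg.Agent.Chars2.InduceTower
import Cfsg.Agent.Chars.PrimePowerDivisor
import Mathlib.GroupTheory.RegularWreathProduct
import Mathlib.GroupTheory.Solvable

/-!
Products and wreath products with prime cyclic groups of monomial groups are monomial, and every
finite solvable group embeds in a monomial group.
-/

set_option autoImplicit false
set_option linter.style.haveILetI false
set_option linter.unusedSectionVars false

namespace Cfsg.Agent.Chars.WreathMono

open Cfsg Cfsg.Agent Cfsg.Agent.Chars
open scoped ComplexConjugate commutatorElement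

universe u v

/-- A function induced from a linear character of a subgroup. -/
def Mono {G : Type u} [Group G] [Fintype G] (χ : G → ℂ) : Prop :=
  ∃ (H : Subgroup G) (lam : H →* ℂˣ), χ = indFun H (fun h => (lam h : ℂ))

/-- Every irreducible character is monomial. -/
def IsMG (G : Type u) [Group G] [Fintype G] : Prop :=
  ∀ χ : G → ℂ, IsIrrCharacter G χ → Mono χ

theorem mono_indFun {G : Type u} [Group G] [Fintype G] (T : Subgroup G) [Fintype T] {ψ : T → ℂ}
    (h : Mono ψ) : Mono (indFun T ψ) := by
  obtain ⟨H, lam, rfl⟩ := h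
  refine ⟨H.map T.subtype,
    lam.comp (H.equivMapOfInjective T.subtype T.subtype_injective).symm.toMonoidHom, ?_⟩
  rw [← Chars2.indFun_pushFun]
  rfl

theorem isMG_of_equiv {A B : Type u} [Group A] [Fintype A] [Group B] [Fintype B] (e : A ≃* B)
    (h : IsMG A) : IsMG B := by
  classical
  intro χ hχ
  obtain ⟨H, lam, hH⟩ := h _ (isIrrCharacter_comp_equiv hχ e)
  let e' := H.equivMapOfInjective e.toMonoidHom e.injective
  refine ⟨H.map e.toMonoidHom, lam.comp e'.symm.toMonoidHom, funext fun b => ?_⟩
  have h1 := congrFun hH (e.symm b)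
  rw [Function.comp_apply, MulEquiv.apply_symm_apply] at h1
  rw [h1, indFun_apply, indFun_apply, ← Nat.card_congr e'.toEquiv]
  congr 1
  refine Fintype.sum_equiv e.toEquiv _ _ fun x => ?_
  by_cases hx : x⁻¹ * e.symm b * x ∈ H
  · have hx' : e (x⁻¹ * e.symm b * x) ∈ H.map e.toMonoidHom := ⟨_, hx, rfl⟩
    have he : (e.toEquiv x)⁻¹ * b * e.toEquiv x = e (x⁻¹ * e.symm b * x) := by simp
    rw [extendByZero_of_mem _ _ hx, he, extendByZero_of_mem _ _ hx']
    refine congrArg (fun z : H => (lam z : ℂ)) ?_
    rw [eq_comm, MulEquiv.coe_toMonoidHom, MulEquiv.symm_apply_eq]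
    exact Subtype.ext rfl
  · have he : (e.toEquiv x)⁻¹ * b * e.toEquiv x = e (x⁻¹ * e.symm b * x) := by simp
    rw [extendByZero_of_not_mem _ _ hx, he, extendByZero_of_not_mem]
    rintro ⟨y, hy, hye⟩
    exact hx (e.injective hye ▸ hy)

section prod

variable {ι : Type v} [Fintype ι] [DecidableEq ι] {W : Type u} [Group W] [Fintype W]

/-- The product function of a family of functions. -/
def tensor (φ : ι → W → ℂ) : (ι → W) → ℂ := fun f => ∏ i, φ i (f i)

theorem isCharacter_tensor {φ : ι → W → ℂ} (h : ∀ i, IsCharacter W (φ i)) :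
    IsCharacter (ι → W) (tensor φ) := by
  have key : ∀ s : Finset ι, IsCharacter (ι → W) (fun f => ∏ i ∈ s, φ i (f i)) := by
    intro s
    induction s using Finset.induction with
    | empty => simpa using (isCharacter_one : IsCharacter (ι → W) _)
    | insert a s ha ih =>
      have h1 := isCharacter_mul (isCharacter_comp (h a) (Pi.evalMonoidHom (fun _ : ι => W) a)) ih
      convert h1 using 1
      funext f
      rw [Finset.prod_insert ha]
      rfl
  exact key Finset.univ

theorem classInner_tensor (φ ψ : ι → W → ℂ) :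
    classInner (tensor φ) (tensor ψ) = ∏ i, classInner (φ i) (ψ i) := by
  simp only [classInner_def, tensor, Finset.prod_mul_distrib, Fintype.prod_sum, map_prod,
    Nat.card_pi, Nat.cast_prod, Finset.prod_inv_distrib]

theorem isIrr_tensor {φ : ι → W → ℂ} (h : ∀ i, IsIrrCharacter W (φ i)) :
    IsIrrCharacter (ι → W) (tensor φ) := by
  refine isIrrCharacter_of_norm_one (isCharacter_tensor fun i => isCharacter_of_isIrr (h i)) ?_
  rw [classInner_tensor]
  exact Finset.prod_eq_one fun i _ => classInner_self_irr (h i)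

/-- Every irreducible character of a power is a product of irreducible characters. -/
theorem exists_tensor {θ : (ι → W) → ℂ} (hθ : IsIrrCharacter (ι → W) θ) :
    ∃ φ : ι → IrrCharacter W, θ = tensor (fun i => (φ i : W → ℂ)) := by
  classical
  by_contra hno
  simp only [not_exists] at hno
  have h0 : ∀ φ : ι → IrrCharacter W, classInner (tensor (fun i => (φ i : W → ℂ))) θ = 0 :=
    fun φ => classInner_irr_of_ne (isIrr_tensor fun i => (φ i).2) hθ (fun h => hno φ h.symm)
  have hreg : (fun f : ι → W => ∑ φ : ι → IrrCharacter W,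
      (∏ i, (φ i : W → ℂ) 1) * tensor (fun i => (φ i : W → ℂ)) f) =
      fun f => if f = 1 then (Nat.card (ι → W) : ℂ) else 0 := by
    funext f
    simp only [tensor, ← Finset.prod_mul_distrib]
    rw [← Fintype.prod_sum (fun i (c : IrrCharacter W) => (c : W → ℂ) 1 * (c : W → ℂ) (f i))]
    simp only [sum_apply_one_mul]
    by_cases hf : f = 1
    · subst hf
      rw [if_pos rfl, Nat.card_pi, Nat.cast_prod]
      exact Finset.prod_congr rfl fun i _ => by rw [Pi.one_apply, if_pos rfl]
    · obtain ⟨i, hi⟩ := Function.ne_iff.1 hf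
      rw [if_neg hf]
      exact Finset.prod_eq_zero (Finset.mem_univ i) (if_neg hi)
  have h1 : classInner (fun f : ι → W => ∑ φ : ι → IrrCharacter W,
      (∏ i, (φ i : W → ℂ) 1) * tensor (fun i => (φ i : W → ℂ)) f) θ = 0 := by
    have h2 : (fun f : ι → W => ∑ φ : ι → IrrCharacter W,
        (∏ i, (φ i : W → ℂ) 1) * tensor (fun i => (φ i : W → ℂ)) f) =
        ∑ φ : ι → IrrCharacter W, (∏ i, (φ i : W → ℂ) 1) • tensor (fun i => (φ i : W → ℂ)) := by
      funext f; simp [Finset.sum_apply]
    rw [h2, classInner_sum_left]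
    exact Finset.sum_eq_zero fun φ _ => by rw [classInner_smul_left, h0, mul_zero]
  rw [hreg, classInner_def, Finset.sum_eq_single (1 : ι → W)] at h1
  · rw [if_pos rfl, ← mul_assoc, inv_mul_cancel₀ card_ne_zero, one_mul,
      irr_apply_one_conj (isCharacter_of_isIrr hθ)] at h1
    exact irr_apply_one_ne_zero hθ h1
  · intro b _ hb; rw [if_neg hb, zero_mul]
  · simp

/-- The product of linear characters. -/
noncomputable def prodHom (H : ι → Subgroup W) (lam : ∀ i, H i →* ℂˣ) :
    Subgroup.pi Set.univ H →* ℂˣ where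
  toFun k := ∏ i, lam i ⟨(k : ι → W) i, k.2 i (Set.mem_univ i)⟩
  map_one' := Finset.prod_eq_one fun i _ => map_one (lam i)
  map_mul' a b := by
    rw [← Finset.prod_mul_distrib]
    exact Finset.prod_congr rfl fun i _ => map_mul (lam i)
      ⟨(a : ι → W) i, a.2 i (Set.mem_univ i)⟩ ⟨(b : ι → W) i, b.2 i (Set.mem_univ i)⟩

theorem indFun_prodHom (H : ι → Subgroup W) (lam : ∀ i, H i →* ℂˣ) :
    indFun (Subgroup.pi Set.univ H) (fun k => (prodHom H lam k : ℂ)) =
      tensor (fun i => indFun (H i) (fun h => (lam i h : ℂ))) := by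
  classical
  have hcard : Nat.card (Subgroup.pi Set.univ H) = ∏ i, Nat.card (H i) := by
    rw [← Nat.card_pi]
    exact Nat.card_congr
      { toFun := fun k i => ⟨(k : ι → W) i, k.2 i (Set.mem_univ i)⟩
        invFun := fun k => ⟨fun i => k i, fun i _ => (k i).2⟩
        left_inv := fun k => rfl
        right_inv := fun k => rfl }
  have hext : ∀ z : ι → W, extendByZero (Subgroup.pi Set.univ H) (fun k => (prodHom H lam k : ℂ)) z
      = ∏ i, extendByZero (H i) (fun h => (lam i h : ℂ)) (z i) := by
    intro z
    by_cases hz : z ∈ Subgroup.pi Set.univ H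
    · rw [extendByZero_of_mem _ _ hz]
      show ((∏ i, lam i ⟨z i, _⟩ : ℂˣ) : ℂ) = _
      rw [Units.coe_prod]
      exact Finset.prod_congr rfl fun i _ =>
        (extendByZero_of_mem (H i) (fun h => (lam i h : ℂ)) (hz i (Set.mem_univ i))).symm
    · rw [extendByZero_of_not_mem _ _ hz]
      obtain ⟨i, hi⟩ : ∃ i, z i ∉ H i := by
        by_contra hc; push Not at hc; exact hz fun i _ => hc i
      exact (Finset.prod_eq_zero (Finset.mem_univ i)
        (extendByZero_of_not_mem (H i) (fun h => (lam i h : ℂ)) hi)).symm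
  funext f
  simp only [tensor, indFun_apply, Finset.prod_mul_distrib, Finset.prod_inv_distrib,
    ← Nat.cast_prod, ← hcard, Fintype.prod_sum]
  congr 1
  exact Finset.sum_congr rfl fun x _ => by rw [hext]; rfl

theorem isMG_pi (h : IsMG W) : IsMG (ι → W) := by
  intro θ hθ
  obtain ⟨φ, rfl⟩ := exists_tensor hθ
  choose H lam hH using fun i => h _ (φ i).2
  refine ⟨Subgroup.pi Set.univ H, prodHom H lam, ?_⟩
  rw [indFun_prodHom]
  exact congrArg tensor (funext hH)

end prod

section wreath

variable {W Q : Type u} [Group W] [Fintype W] [Group Q] [Fintype Q]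

local notation "WQ" => RegularWreathProduct W Q

noncomputable local instance : Fintype WQ := Fintype.ofFinite _

/-- The base group. -/
def base : Subgroup WQ := (RegularWreathProduct.rightHom (D := W) (Q := Q)).ker

theorem mem_base {w : WQ} : w ∈ base (W := W) (Q := Q) ↔ w.right = 1 := Iff.rfl

instance : (base (W := W) (Q := Q)).Normal := MonoidHom.normal_ker _

/-- The base group is the power. -/
def baseEquiv : (Q → W) ≃* base (W := W) (Q := Q) where
  toFun f := ⟨⟨f, 1⟩, rfl⟩
  invFun b := (b : WQ).left
  left_inv f := rfl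
  right_inv b := Subtype.ext (RegularWreathProduct.ext rfl (mem_base.1 b.2).symm)
  map_mul' f g := Subtype.ext (RegularWreathProduct.ext (by funext x; simp) (by simp))

theorem index_base : (base (W := W) (Q := Q)).index = Nat.card Q := by
  rw [base, Subgroup.index_ker]
  have hs : Function.Surjective (RegularWreathProduct.rightHom (D := W) (Q := Q)) :=
    fun q => ⟨RegularWreathProduct.inl q, rfl⟩
  rw [MonoidHom.range_eq_top.2 hs, Subgroup.card_top]

/-- The subgroup with all coordinates in `H`. -/
def coordSub (H : Subgroup W) : Subgroup WQ where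
  carrier := {w | ∀ x, w.left x ∈ H}
  one_mem' := fun _ => H.one_mem
  mul_mem' := fun {a b} ha hb x => by
    rw [RegularWreathProduct.mul_left]; exact H.mul_mem (ha x) (hb _)
  inv_mem' := fun {a} ha x => by
    rw [RegularWreathProduct.inv_left]; exact H.inv_mem (ha _)

/-- The extension of the product of a linear character. -/
noncomputable def coordHom (H : Subgroup W) (lam : H →* ℂˣ) :
    coordSub (Q := Q) H →* ℂˣ where
  toFun w := ∏ x, lam ⟨(w : WQ).left x, w.2 x⟩
  map_one' := Finset.prod_eq_one fun x _ => map_one lam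
  map_mul' a b := by
    have h1 : ∀ x, lam ⟨((a * b : coordSub (Q := Q) H) : WQ).left x, (a * b).2 x⟩ =
        lam ⟨(a : WQ).left x, a.2 x⟩ *
          lam ⟨(b : WQ).left ((a : WQ).right⁻¹ * x), b.2 _⟩ := by
      intro x
      rw [← map_mul]
      exact congrArg lam (Subtype.ext rfl)
    rw [Finset.prod_congr rfl fun x _ => h1 x, Finset.prod_mul_distrib]
    congr 1
    exact Fintype.prod_equiv (Equiv.mulLeft (a : WQ).right⁻¹) _ _ fun x => rfl

theorem isMG_wreath {p : ℕ} (hp : p.Prime) (hQ : Nat.card Q = p) (h : IsMG W) : IsMG WQ := by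
  classical
  intro χ hχ
  set B := base (W := W) (Q := Q) with hB
  haveI : Fintype B := Fintype.ofFinite B
  have hMB : IsMG B := isMG_of_equiv baseEquiv (isMG_pi h)
  obtain ⟨θ, hθ⟩ : ∃ θ : IrrCharacter B, classInner (fun b : B => χ b) (θ : B → ℂ) ≠ 0 := by
    by_contra hc0
    push Not at hc0
    have h0 : (fun b : B => χ b) = 0 := by
      rw [eq_sum_classInner (isClassFunction_of_isCharacter
        (isCharacter_restrict (isCharacter_of_isIrr hχ) B))]
      simp [hc0]
    exact irr_apply_one_ne_zero hχ (by simpa using congrFun h0 1)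
  have hBT : B ≤ Chars2.inertiaSub (θ : B → ℂ) := Chars2.le_inertiaSub (isClassFunction_irr θ)
  by_cases hT : Chars2.inertiaSub (θ : B → ℂ) = ⊤
  swap
  · have hTB : Chars2.inertiaSub (θ : B → ℂ) = B := by
      have h1 := Subgroup.relIndex_mul_index hBT
      rw [index_base, hQ] at h1
      rcases hp.eq_one_or_self_of_dvd _ (Dvd.intro _ h1) with h2 | h2
      · exact le_antisymm (Subgroup.relIndex_eq_one.1 h2) hBT
      · rw [h2] at h1
        exact absurd (Subgroup.index_eq_one.1
          (mul_left_cancel₀ hp.ne_zero (h1.trans (mul_one p).symm))) hT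
    obtain ⟨ψ, hψ, hind, -⟩ := Chars2.exists_correspondent (T := B) le_rfl θ.2 hTB.symm hχ hθ
    rw [← hind]
    exact mono_indFun B (hMB ψ hψ)
  -- the invariant case
  obtain ⟨φ, hφ⟩ := exists_tensor (isIrrCharacter_comp_equiv θ.2 (baseEquiv (W := W) (Q := Q)))
  have hθb : ∀ b : B, (θ : B → ℂ) b = tensor (fun i => (φ i : W → ℂ)) (b : WQ).left := by
    intro b
    rw [← hφ, Function.comp_apply]
    exact congrArg (θ : B → ℂ) ((baseEquiv (W := W) (Q := Q)).apply_symm_apply b).symm
  have hconst : ∀ q : Q, φ q = φ 1 := by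
    intro q
    have hinv : ∀ f : Q → W, tensor (fun i => (φ i : W → ℂ)) f =
        tensor (fun i => (φ (q * i) : W → ℂ)) f := by
      intro f
      have hg : (RegularWreathProduct.inl q⁻¹ : WQ) ∈ (⊤ : Subgroup WQ) := Subgroup.mem_top _
      rw [← hT, Chars2.mem_inertiaSub] at hg
      have h1 := congrFun hg ((baseEquiv (W := W) (Q := Q)) f)
      rw [Chars2.conjFun_apply, hθb, hθb] at h1
      have h2 : ((baseEquiv (W := W) (Q := Q) f : B) : WQ).left = f := rfl
      rw [h2] at h1
      rw [← h1]
      simp only [tensor]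
      refine (Fintype.prod_equiv (Equiv.mulLeft q) _ _ fun i => ?_).symm
      simp [h2]
    have hne : classInner (tensor fun i => (φ i : W → ℂ))
        (tensor fun i => (φ (q * i) : W → ℂ)) ≠ 0 := by
      rw [← funext hinv, classInner_self_irr (isIrr_tensor fun i => (φ i).2)]
      exact one_ne_zero
    rw [classInner_tensor, Finset.prod_ne_zero_iff] at hne
    have h3 := hne 1 (Finset.mem_univ _)
    rw [mul_one] at h3
    by_contra hneq
    exact h3 (classInner_irr_of_ne (φ 1).2 (φ q).2 fun he => hneq (Subtype.ext he).symm)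
  obtain ⟨H, lam, hH⟩ := h _ (φ 1).2
  set H' : Subgroup WQ := coordSub H with hH'
  haveI : Fintype H' := Fintype.ofFinite H'
  set ν : H' → ℂ := fun w => (coordHom H lam w : ℂ) with hν
  have hνc : IsCharacter H' ν := isCharacter_hom (coordHom H lam)
  have hsup : H' ⊔ B = ⊤ := by
    rw [eq_top_iff]
    intro w _
    have hw : w = (⟨w.left, 1⟩ : WQ) * RegularWreathProduct.inl w.right :=
      RegularWreathProduct.ext (by funext x; simp) (by simp)
    rw [hw]
    exact Subgroup.mul_mem _ (Subgroup.mem_sup_right (mem_base.2 rfl))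
      (Subgroup.mem_sup_left fun x => by simp)
  have hres : ∀ b : B, indFun H' ν (b : WQ) = (θ : B → ℂ) b := by
    intro b
    rw [Chars2.indFun_restrict_of_sup H' B hsup (isClassFunction_of_isCharacter hνc) b, hθb]
    have hten : tensor (fun i => (φ i : W → ℂ)) =
        indFun (Subgroup.pi Set.univ fun _ : Q => H)
          (fun k => (prodHom (fun _ : Q => H) (fun _ => lam) k : ℂ)) := by
      rw [indFun_prodHom]
      exact congrArg tensor (funext fun i => by rw [hconst i, hH])
    rw [hten, indFun_apply, indFun_apply]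
    congr 1
    · rw [Nat.card_congr (α := Subgroup.pi Set.univ fun _ : Q => H) (β := H'.subgroupOf B)
        { toFun := fun k => ⟨baseEquiv (k : Q → W), fun x => k.2 x (Set.mem_univ x)⟩
          invFun := fun k => ⟨((k : B) : WQ).left, fun x _ => k.2 x⟩
          left_inv := fun k => rfl
          right_inv := fun k => Subtype.ext ((baseEquiv (W := W) (Q := Q)).apply_symm_apply _) }]
    · refine (Fintype.sum_equiv (baseEquiv (W := W) (Q := Q)).symm.toEquiv _ _ fun y => ?_)
      set z : Q → W := ((baseEquiv (W := W) (Q := Q)).symm y)⁻¹ * (b : WQ).left *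
        (baseEquiv (W := W) (Q := Q)).symm y with hz
      have he : y⁻¹ * b * y = baseEquiv z := by
        rw [hz, map_mul, map_mul, map_inv, MulEquiv.apply_symm_apply,
          show baseEquiv (b : WQ).left = b from (baseEquiv (W := W) (Q := Q)).apply_symm_apply b]
      rw [he]
      show _ = extendByZero _ _ z
      by_cases hzm : z ∈ Subgroup.pi Set.univ fun _ : Q => H
      · rw [extendByZero_of_mem _ _ hzm,
          extendByZero_of_mem _ _ (show baseEquiv z ∈ H'.subgroupOf B from
            fun x => hzm x (Set.mem_univ x))]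
        rfl
      · rw [extendByZero_of_not_mem _ _ hzm, extendByZero_of_not_mem]
        exact fun hc => hzm fun x _ => hc x
  have h0irr : IsIrrCharacter WQ (indFun H' ν) := by
    refine PrimePower.isIrr_of_restrict (isCharacter_indFun H' hνc) B ?_
    convert θ.2 using 1
    exact funext hres
  have hcomm : ∀ a b : Q, a * b = b * a := by
    haveI := Fact.mk hp
    haveI : IsCyclic Q := isCyclic_of_prime_card hQ
    exact fun a b => (IsCyclic.isMulCommutative (α := Q)).is_comm.comm a b
  choose μ hμ using fun c : IrrCharacter Q =>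
    exists_hom_of_degree_one (irr_isCharacter c) (irr_apply_one_of_comm hcomm c.2)
  set R := RegularWreathProduct.rightHom (D := W) (Q := Q) with hR
  have hsum : ∀ w : WQ, ∑ c : IrrCharacter Q, ((μ c (R w) : ℂ)) * indFun H' ν w =
      if R w = 1 then (p : ℂ) * indFun H' ν w else 0 := by
    intro w
    rw [← Finset.sum_mul]
    have h1 := sum_apply_one_mul (G := Q) (R w)
    simp only [irr_apply_one_of_comm hcomm (Subtype.prop _), one_mul] at h1
    rw [Finset.sum_congr rfl fun c _ => (congrFun (hμ c) (R w)).symm, h1, hQ]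
    split_ifs with h2
    · rfl
    · rw [zero_mul]
  obtain ⟨c, hc⟩ : ∃ c : IrrCharacter Q,
      classInner χ (fun w => indFun H' ν w * ((μ c).comp R w : ℂ)) ≠ 0 := by
    by_contra hno
    push Not at hno
    have h1 : classInner χ (∑ c : IrrCharacter Q,
        fun w => indFun H' ν w * ((μ c).comp R w : ℂ)) = 0 := by
      rw [classInner_sum_right]
      exact Finset.sum_eq_zero fun c _ => hno c
    refine hθ ?_
    rw [classInner_def] at h1
    have h2 : ∑ w : WQ, χ w * conj ((∑ c : IrrCharacter Q,
        fun w => indFun H' ν w * ((μ c).comp R w : ℂ)) w) =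
        (p : ℂ) * ∑ b : B, χ b * conj ((θ : B → ℂ) b) := by
      have h3 : ∀ w : WQ, χ w * conj ((∑ c : IrrCharacter Q,
          fun w => indFun H' ν w * ((μ c).comp R w : ℂ)) w) =
          (p : ℂ) * (extendByZero B (fun b : B => χ b * conj ((θ : B → ℂ) b)) w * 1) := by
        intro w
        rw [Finset.sum_apply]
        simp only [MonoidHom.comp_apply, mul_comm (indFun H' ν w)]
        rw [hsum]
        by_cases hw : R w = 1
        · rw [if_pos hw, extendByZero_of_mem _ _ (show w ∈ B from hw), map_mul, Complex.conj_natCast,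
            ← hres ⟨w, hw⟩]
          ring
        · rw [if_neg hw, extendByZero_of_not_mem _ _ (show w ∉ B from hw)]
          simp
      rw [Finset.sum_congr rfl fun w _ => h3 w, ← Finset.mul_sum,
        sum_extendByZero_mul B _ (fun _ => (1 : ℂ))]
      simp
    rw [h2, ← mul_assoc] at h1
    rw [classInner_def]
    exact mul_eq_zero_of_right _ ((mul_eq_zero.1 h1).resolve_left
      (mul_ne_zero (inv_ne_zero card_ne_zero) (Nat.cast_ne_zero.2 hp.ne_zero)))
  have hχe : χ = fun w => indFun H' ν w * ((μ c).comp R w : ℂ) := by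
    by_contra hne
    refine hc (classInner_irr_of_ne hχ ?_ hne)
    simpa only [mul_comm] using isIrrCharacter_mul_hom h0irr ((μ c).comp R)
  refine ⟨H', coordHom H lam * ((μ c).comp R).comp H'.subtype, ?_⟩
  rw [hχe]
  funext w
  have hconj : ∀ x : WQ, R (x⁻¹ * w * x) = R w := by
    intro x
    rw [map_mul, map_mul, hcomm (R x⁻¹) (R w), mul_assoc, ← map_mul, inv_mul_cancel, map_one,
      mul_one]
  rw [indFun_apply, indFun_apply, mul_assoc, Finset.sum_mul]
  congr 1
  refine Finset.sum_congr rfl fun x _ => ?_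
  by_cases hx : x⁻¹ * w * x ∈ H'
  · rw [extendByZero_of_mem _ _ hx, extendByZero_of_mem _ _ hx]
    simp [hν, hconj]
  · rw [extendByZero_of_not_mem _ _ hx, extendByZero_of_not_mem _ _ hx, zero_mul]

end wreath

/-- A finite solvable group embeds in a monomial group. -/
theorem exists_embedding : ∀ (n : ℕ) (G : Type u) [Group G] [Finite G] [Group.IsSolvable G],
    Nat.card G = n →
      ∃ (M : Type u) (_ : Group M) (_ : Fintype M), IsMG M ∧ ∃ f : G →* M, Function.Injective f := by
  intro n
  induction n using Nat.strong_induction_on with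
  | _ n ih =>
  intro G _ _ _ hn
  classical
  haveI := Fintype.ofFinite G
  rcases subsingleton_or_nontrivial G with hs | hnt
  · refine ⟨G, inferInstance, inferInstance, fun χ hχ => ⟨⊤, 1, ?_⟩, MonoidHom.id G,
      Function.injective_id⟩
    have h1 : χ 1 = 1 := irr_apply_one_of_comm (fun a b => Subsingleton.elim _ _) hχ
    funext g
    rw [indFun_top_apply (fun _ _ => rfl), Subsingleton.elim g 1, h1]
    simp
  obtain ⟨N, hN, hmax⟩ : ∃ N : Subgroup G, N ≠ ⊤ ∧ commutator G ≤ N ∧
      ∀ K : Subgroup G, N < K → K = ⊤ := by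
    obtain ⟨N, hN1, hN2⟩ := (IsCoatomic.eq_top_or_exists_le_coatom (commutator G)).resolve_left
      (Group.IsSolvable.commutator_lt_top_of_nontrivial (G := G)).ne
    exact ⟨N, hN1.1, hN2, hN1.2⟩
  obtain ⟨hcN, hmax⟩ := hmax
  haveI : N.Normal := ⟨fun x hx g => by
    have h1 : ⁅g, x⁆ ∈ N := hcN (Subgroup.commutator_mem_commutator (Subgroup.mem_top g) (Subgroup.mem_top x))
    simpa [commutatorElement_def, mul_assoc] using N.mul_mem h1 hx⟩
  have hcomm : ∀ a b : G ⧸ N, a * b = b * a := by
    intro a b
    obtain ⟨a, rfl⟩ := QuotientGroup.mk'_surjective N a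
    obtain ⟨b, rfl⟩ := QuotientGroup.mk'_surjective N b
    rw [← commutatorElement_eq_one_iff_mul_comm, ← map_commutatorElement,
      QuotientGroup.mk'_apply, QuotientGroup.eq_one_iff]
    exact hcN (Subgroup.commutator_mem_commutator (Subgroup.mem_top a) (Subgroup.mem_top b))
  haveI : Nontrivial (G ⧸ N) := QuotientGroup.nontrivial_iff.2 hN
  letI : CommGroup (G ⧸ N) := { (inferInstance : Group (G ⧸ N)) with mul_comm := hcomm }
  haveI : IsSimpleGroup (G ⧸ N) := ⟨fun K _ => by
    rcases eq_or_lt_of_le (QuotientGroup.le_comap_mk' N K) with h | h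
    · left
      have h1 := congrArg (Subgroup.map (QuotientGroup.mk' N)) h
      rw [QuotientGroup.map_mk'_self,
        Subgroup.map_comap_eq_self_of_surjective (QuotientGroup.mk'_surjective N)] at h1
      exact h1.symm
    · right
      rw [← Subgroup.map_comap_eq_self_of_surjective (QuotientGroup.mk'_surjective N) K, hmax _ h,
        Subgroup.map_top_of_surjective _ (QuotientGroup.mk'_surjective N)]⟩
  have hp : (Nat.card (G ⧸ N)).Prime := IsSimpleGroup.prime_card
  obtain ⟨M, _, _, hM, f, hf⟩ := ih (Nat.card N)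
    (hn ▸ lt_of_le_of_ne (Subgroup.card_le_card_group N)
      fun h => hN (Subgroup.eq_top_of_card_eq N h)) N rfl
  haveI : Fintype (G ⧸ N) := Fintype.ofFinite _
  refine ⟨RegularWreathProduct M (G ⧸ N), inferInstance, Fintype.ofFinite _,
    isMG_wreath hp rfl hM, ?_⟩
  have hmem : ∀ (g : G) (x : G ⧸ N),
      x.out⁻¹ * g * ((QuotientGroup.mk' N g)⁻¹ * x).out ∈ N := by
    intro g x
    rw [← QuotientGroup.eq_one_iff]
    simp [mul_assoc]
  let F : G →* RegularWreathProduct M (G ⧸ N) :=
    { toFun := fun g => ⟨fun x => f ⟨_, hmem g x⟩, QuotientGroup.mk' N g⟩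
      map_one' := by
        refine RegularWreathProduct.ext (funext fun x => ?_) (map_one _)
        rw [RegularWreathProduct.one_left, Pi.one_apply, ← map_one f]
        exact congrArg f (Subtype.ext (by simp))
      map_mul' := fun g h => by
        refine RegularWreathProduct.ext (funext fun x => ?_) (map_mul _ g h)
        rw [RegularWreathProduct.mul_left, Pi.mul_apply, ← map_mul f]
        refine congrArg f (Subtype.ext ?_)
        simp [mul_assoc] }
  refine ⟨F, (injective_iff_map_eq_one F).2 fun g hg => ?_⟩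
  have hr : QuotientGroup.mk' N g = 1 := congrArg RegularWreathProduct.right hg
  have hl := congrFun (congrArg RegularWreathProduct.left hg) 1
  have h1 : f ⟨_, hmem g 1⟩ = f 1 := hl.trans (map_one f).symm
  have h2 := congrArg Subtype.val (hf h1)
  simp only [hr, inv_one, one_mul, Subgroup.coe_one] at h2
  have h3 : g = (1 : G ⧸ N).out * ((1 : G ⧸ N).out⁻¹ * g * (1 : G ⧸ N).out) * (1 : G ⧸ N).out⁻¹ := by
    group
  rw [h2] at h3
  simpa using h3

end Cfsg.Agent.Chars.WreathMono
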